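import Cfsg.Agent.Lib.Helper28.TCSeed
import Cfsg.Prelude.Def_Spor_Suz

set_option autoImplicit false
set_option maxRecDepth 100000
set_option linter.all false

namespace Cfsg.Agent.Helper28.S1680

open Cfsg.Agent.Helper28
open Cfsg.Spor.Suz (Gen)

abbrev rels : Set (FreeGroup Gen) := Cfsg.Spor.coxRelators Cfsg.Spor.Suz.edges ∪ {r | r ∈ Cfsg.Spor.Suz.extra}

abbrev S : Set (FreeGroup Gen) := ({Cfsg.Spor.Suz.a, Cfsg.Spor.Suz.b, Cfsg.Spor.Suz.c, Cfsg.Spor.Suz.d, Cfsg.Spor.Suz.e, Cfsg.Spor.Suz.f} : Set (FreeGroup Cfsg.Spor.Suz.Gen))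

inductive D1
  | c0
  | c1
  | c2
  | c3
  | c4
  | c5
  | c6
  | c7
  | c8
  deriving DecidableEq

inductive D2
  | c0
  | c1
  | c2
  | c3
  | c4
  | c5
  | c6
  | c7
  | c8
  | c9
  | c10
  deriving DecidableEq

inductive D3
  | c0
  | c1
  | c2
  | c3
  | c4
  | c5
  | c6
  | c7
  | c8
  | c9
  | c10
  | c11
  | c12
  | c13
  | c14
  | c15
  | c16
  | c17
  deriving DecidableEq

structure Pt where
  a : D1
  b : D2
  c : D3

noncomputable section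

def idx1 : D1 → Nat := @D1.rec (fun _ => Nat) 0 1 2 3 4 5 6 7 8
def dl1 : List D1 := [D1.c0, D1.c1, D1.c2, D1.c3, D1.c4, D1.c5, D1.c6, D1.c7, D1.c8]
theorem dl1_complete : ∀ a : D1, a ∈ dl1 := by
  intro a; cases a <;> decide
theorem dl1_nodup : dl1.Nodup := by decide
theorem idx1_get : ∀ a : D1, dl1.getD (idx1 a) D1.c0 = a := by
  intro a; cases a <;> rfl
theorem idx1_inj (a b : D1) (h : idx1 a = idx1 b) : a = b := by
  rw [← idx1_get a, ← idx1_get b, h]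
instance : Fintype D1 := ⟨⟨↑dl1, dl1_nodup⟩, dl1_complete⟩

def idx2 : D2 → Nat := @D2.rec (fun _ => Nat) 0 1 2 3 4 5 6 7 8 9 10
def dl2 : List D2 := [D2.c0, D2.c1, D2.c2, D2.c3, D2.c4, D2.c5, D2.c6, D2.c7, D2.c8, D2.c9, D2.c10]
theorem dl2_complete : ∀ a : D2, a ∈ dl2 := by
  intro a; cases a <;> decide
theorem dl2_nodup : dl2.Nodup := by decide
theorem idx2_get : ∀ a : D2, dl2.getD (idx2 a) D2.c0 = a := by
  intro a; cases a <;> rfl
theorem idx2_inj (a b : D2) (h : idx2 a = idx2 b) : a = b := by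
  rw [← idx2_get a, ← idx2_get b, h]
instance : Fintype D2 := ⟨⟨↑dl2, dl2_nodup⟩, dl2_complete⟩

def idx3 : D3 → Nat := @D3.rec (fun _ => Nat) 0 1 2 3 4 5 6 7 8 9 10 11 12 13 14 15 16 17
def dl3 : List D3 := [D3.c0, D3.c1, D3.c2, D3.c3, D3.c4, D3.c5, D3.c6, D3.c7, D3.c8, D3.c9, D3.c10, D3.c11, D3.c12, D3.c13, D3.c14, D3.c15, D3.c16, D3.c17]
theorem dl3_complete : ∀ a : D3, a ∈ dl3 := by
  intro a; cases a <;> decide
theorem dl3_nodup : dl3.Nodup := by decide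
theorem idx3_get : ∀ a : D3, dl3.getD (idx3 a) D3.c0 = a := by
  intro a; cases a <;> rfl
theorem idx3_inj (a b : D3) (h : idx3 a = idx3 b) : a = b := by
  rw [← idx3_get a, ← idx3_get b, h]
instance : Fintype D3 := ⟨⟨↑dl3, dl3_nodup⟩, dl3_complete⟩

def idx (p : Pt) : Nat := Nat.add (Nat.mul (Nat.add (Nat.mul (idx1 p.a) 11) (idx2 p.b)) 18) (idx3 p.c)

def beqPt (p q : Pt) : Bool :=
  andB (Nat.beq (idx1 p.a) (idx1 q.a)) (andB (Nat.beq (idx2 p.b) (idx2 q.b)) (Nat.beq (idx3 p.c) (idx3 q.c)))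

theorem beqPt_sound (p q : Pt) (h : beqPt p q = true) : p = q := by
  obtain ⟨h1, h23⟩ := andB_true h
  obtain ⟨h2, h3⟩ := andB_true h23
  cases p; cases q
  simp only [Pt.mk.injEq]
  exact ⟨idx1_inj _ _ (Nat.eq_of_beq_eq_true h1), idx2_inj _ _ (Nat.eq_of_beq_eq_true h2),
    idx3_inj _ _ (Nat.eq_of_beq_eq_true h3)⟩

def leq (l m : Gen × Bool) : Bool := decide (l = m)

theorem leq_sound (l m : Gen × Bool) (h : leq l m = true) : l = m := of_decide_eq_true h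

def ptEquiv : D1 × D2 × D3 ≃ Pt where
  toFun t := ⟨t.1, t.2.1, t.2.2⟩
  invFun p := (p.a, p.b, p.c)
  left_inv _ := rfl
  right_inv _ := rfl

instance : Fintype Pt := Fintype.ofEquiv _ ptEquiv

theorem card_Pt : Fintype.card Pt = 1782 := by
  rw [Fintype.ofEquiv_card, Fintype.card_prod, Fintype.card_prod]
  rfl

def allPts (f : Pt → Bool) : Bool := all3 dl1 dl2 dl3 Pt.mk f

theorem allPts_sound (f : Pt → Bool) (h : allPts f = true) : ∀ p, f p = true :=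
  all3_sound dl1 dl2 dl3 Pt.mk
    (fun p => ⟨p.a, dl1_complete _, p.b, dl2_complete _, p.c, dl3_complete _, rfl⟩) f h

def countPts (f : Pt → Bool) : Nat := count3 dl1 dl2 dl3 Pt.mk f

theorem countPts_eq (f : Pt → Bool) : ({p | f p = true} : Set Pt).ncard = countPts f :=
  count3_eq dl1 dl2 dl3 Pt.mk ptEquiv (fun _ _ _ => rfl) dl1_nodup dl2_nodup dl3_nodup
    dl1_complete dl2_complete dl3_complete f

def o : Pt := Pt.mk D1.c0 D2.c0 D3.c0


end

end Cfsg.Agent.Helper28.S1680
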