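import Cfsg.Agent.Lib.Helper28.S1680.Defs

set_option autoImplicit false
set_option maxRecDepth 100000
set_option linter.all false

namespace Cfsg.Agent.Helper28.S1680

open Cfsg.Agent.Helper28
open Cfsg.Spor.Suz (Gen)

noncomputable section

abbrev ka := Pt.mk
abbrev xa0 := D1.c0
abbrev xa1 := D1.c1
abbrev xa2 := D1.c2
abbrev xa3 := D1.c3
abbrev xa4 := D1.c4
abbrev xa5 := D1.c5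
abbrev xa6 := D1.c6
abbrev xa7 := D1.c7
abbrev xa8 := D1.c8
abbrev ya0 := D2.c0
abbrev ya1 := D2.c1
abbrev ya2 := D2.c2
abbrev ya3 := D2.c3
abbrev ya4 := D2.c4
abbrev ya5 := D2.c5
abbrev ya6 := D2.c6
abbrev ya7 := D2.c7
abbrev ya8 := D2.c8
abbrev ya9 := D2.c9
abbrev ya10 := D2.c10
abbrev za0 := D3.c0
abbrev za1 := D3.c1
abbrev za2 := D3.c2
abbrev za3 := D3.c3
abbrev za4 := D3.c4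
abbrev za5 := D3.c5
abbrev za6 := D3.c6
abbrev za7 := D3.c7
abbrev za8 := D3.c8
abbrev za9 := D3.c9
abbrev za10 := D3.c10
abbrev za11 := D3.c11
abbrev za12 := D3.c12
abbrev za13 := D3.c13
abbrev za14 := D3.c14
abbrev za15 := D3.c15
abbrev za16 := D3.c16
abbrev za17 := D3.c17
def f_a_0 : D2 → D3 → Pt := @D2.rec (fun _ => D3 → Pt) (@D3.rec (fun _ => Pt) (ka xa0 ya0 za0) (ka xa0 ya0 za1) (ka xa0 ya0 za3) (ka xa0 ya0 za2) (ka xa0 ya0 za7) (ka xa0 ya0 za6) (ka xa0 ya0 za5) (ka xa0 ya0 za4) (ka xa0 ya0 za12) (ka xa0 ya0 za10) (ka xa0 ya0 za9) (ka xa0 ya1 za1) (ka xa0 ya0 za8) (ka xa0 ya1 za5) (ka xa0 ya1 za6) (ka xa0 ya1 za0) (ka xa0 ya0 za16) (ka xa0 ya1 za4)) (@D3.rec (fun _ => Pt) (ka xa0 ya0 za15) (ka xa0 ya0 za11) (ka xa0 ya1 za17) (ka xa0 ya2 za0) (ka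 xa0 ya0 za17) (ka xa0 ya0 za13) (ka xa0 ya0 za14) (ka xa0 ya2 za8) (ka xa0 ya2 za7) (ka xa0 ya1 za15) (ka xa0 ya1 za16) (ka xa0 ya1 za11) (ka xa0 ya1 za12) (ka xa0 ya2 za4) (ka xa0 ya2 za5) (ka xa0 ya1 za9) (ka xa0 ya1 za10) (ka xa0 ya1 za2)) (@D3.rec (fun _ => Pt) (ka xa0 ya1 za3) (ka xa0 ya2 za14) (ka xa0 ya3 za4) (ka xa0 ya3 za5) (ka xa0 ya1 za13) (ka xa0 ya1 za14) (ka xa0 ya3 za15) (ka xa0 ya1 za8) (ka xa0 ya1 za7) (ka xa0 ya4 za2) (ka xa0 ya4 za3) (ka xa0 ya4 za4) (ka xa0 ya4 za1) (ka xa0 ya3 za3) (ka xa0 ya2 za1) (ka xa0 ya2 za15) (ka xa0 ya2 za16) (ka xa0 ya3 za10)) (@D3.rec (fun _ => Pt) (ka xa0 ya3 za12) (ka xa0 ya3 za13) (ka xa0 ya3 za7) (ka xa0 ya2 za13) (ka xa0 ya2 za2) (ka xa0 ya2 za3) (ka xa0 ya5 za5) (ka xa0 ya3 za2) (ka xa0 ya4 za13)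 (ka xa0 ya4 za8) (ka xa0 ya2 za17) (ka xa0 ya5 za4) (ka xa0 ya3 za0) (ka xa0 ya3 za1) (ka xa0 ya3 za14) (ka xa0 ya2 za6) (ka xa0 ya6 za2) (ka xa0 ya6 za3)) (@D3.rec (fun _ => Pt) (ka xa0 ya6 za4) (ka xa0 ya2 za12) (ka xa0 ya2 za9) (ka xa0 ya2 za10) (ka xa0 ya2 za11) (ka xa0 ya6 za11) (ka xa0 ya6 za12) (ka xa0 ya6 za13) (ka xa0 ya3 za9) (ka xa0 ya4 za10) (ka xa0 ya4 za9) (ka xa0 ya6 za10) (ka xa0 ya5 za3) (ka xa0 ya3 za8) (ka xa0 ya4 za14) (ka xa0 ya5 za10) (ka xa0 ya5 za15) (ka xa0 ya5 za17)) (@D3.rec (fun _ => Pt) (ka xa0 ya6 za0) (ka xa0 ya5 za11) (ka xa0 ya5 za12) (ka xa0 ya4 za12) (ka xa0 ya3 za11) (ka xa0 ya3 za6) (ka xa0 ya7 za17) (ka xa0 ya8 za0) (ka xa0 ya8 za1) (ka xa0 ya8 za2) (ka xa0 ya4 za15) (ka xa0 ya5 za1) (ka xa0 ya5 za2) (ka xa0 ya7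 za7) (ka xa0 ya7 za0) (ka xa0 ya4 za16) (ka xa0 ya9 za3) (ka xa0 ya4 za17)) (@D3.rec (fun _ => Pt) (ka xa0 ya5 za0) (ka xa0 ya6 za1) (ka xa0 ya3 za16) (ka xa0 ya3 za17) (ka xa0 ya4 za0) (ka xa0 ya9 za8) (ka xa0 ya9 za9) (ka xa0 ya9 za10) (ka xa0 ya6 za9) (ka xa0 ya6 za8) (ka xa0 ya4 za11) (ka xa0 ya4 za5) (ka xa0 ya4 za6) (ka xa0 ya4 za7) (ka xa0 ya10 za6) (ka xa0 ya10 za2) (ka xa0 ya10 za3) (ka xa0 ya10 za4)) (@D3.rec (fun _ => Pt) (ka xa0 ya5 za14) (ka xa0 ya7 za2) (ka xa0 ya7 za1) (ka xa1 ya0 za0) (ka xa0 ya10 za0) (ka xa1 ya0 za5) (ka xa0 ya7 za16) (ka xa0 ya5 za13) (ka xa0 ya8 za12) (ka xa0 ya7 za15) (ka xa0 ya9 za0) (ka xa0 ya9 za2) (ka xa1 ya0 za16) (ka xa0 ya8 za13) (ka xa0 ya8 za14) (ka xa0 ya7 za9) (ka xa0 ya7 za6) (ka xa0 ya5 za6)) (@D3.rec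 (fun _ => Pt) (ka xa0 ya5 za7) (ka xa0 ya5 za8) (ka xa0 ya5 za9) (ka xa1 ya1 za5) (ka xa1 ya1 za6) (ka xa1 ya1 za7) (ka xa1 ya1 za8) (ka xa1 ya1 za9) (ka xa1 ya1 za10) (ka xa1 ya2 za7) (ka xa0 ya8 za11) (ka xa0 ya8 za10) (ka xa0 ya7 za8) (ka xa0 ya7 za13) (ka xa0 ya7 za14) (ka xa0 ya9 za4) (ka xa1 ya0 za9) (ka xa0 ya10 za13)) (@D3.rec (fun _ => Pt) (ka xa0 ya7 za10) (ka xa1 ya3 za0) (ka xa0 ya7 za11) (ka xa0 ya5 za16) (ka xa0 ya8 za15) (ka xa1 ya3 za5) (ka xa0 ya9 za6) (ka xa0 ya9 za7) (ka xa0 ya6 za5) (ka xa0 ya6 za6) (ka xa0 ya6 za7) (ka xa1 ya3 za13) (ka xa1 ya3 za9) (ka xa1 ya3 za10) (ka xa1 ya3 za11) (ka xa0 ya9 za16) (ka xa0 ya9 za15) (ka xa1 ya4 za6)) (@D3.rec (fun _ => Pt) (ka xa0 ya7 za4) (ka xa1 ya4 za10) (ka xa0 ya6 za15) (ka xa0 ya6 za16)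 (ka xa0 ya6 za17) (ka xa1 ya5 za0) (ka xa0 ya6 za14) (ka xa1 ya5 za4) (ka xa1 ya0 za2) (ka xa1 ya5 za7) (ka xa1 ya4 za14) (ka xa1 ya4 za15) (ka xa1 ya4 za16) (ka xa0 ya8 za17) (ka xa0 ya10 za15) (ka xa0 ya10 za14) (ka xa1 ya6 za3) (ka xa1 ya4 za5))
def f_a_1 : D2 → D3 → Pt := @D2.rec (fun _ => D3 → Pt) (@D3.rec (fun _ => Pt) (ka xa0 ya7 za3) (ka xa1 ya6 za8) (ka xa0 ya10 za8) (ka xa1 ya4 za8) (ka xa1 ya4 za9) (ka xa0 ya7 za5) (ka xa1 ya6 za14) (ka xa1 ya6 za15) (ka xa1 ya7 za1) (ka xa0 ya8 za16) (ka xa1 ya2 za8) (ka xa1 ya1 za2) (ka xa1 ya1 za11) (ka xa1 ya2 za15) (ka xa1 ya2 za17) (ka xa1 ya7 za10) (ka xa0 ya7 za12) (ka xa1 ya2 za12)) (@D3.rec (fun _ => Pt) (ka xa1 ya2 za9) (ka xa1 ya2 za10) (ka xa1 ya0 za11) (ka xa1 ya3 za14) (ka xa1 ya7 za17) (ka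 xa0 ya8 za3) (ka xa0 ya8 za4) (ka xa0 ya8 za5) (ka xa0 ya8 za6) (ka xa0 ya8 za7) (ka xa0 ya8 za8) (ka xa1 ya0 za12) (ka xa1 ya1 za12) (ka xa1 ya8 za2) (ka xa1 ya8 za3) (ka xa1 ya8 za4) (ka xa1 ya3 za4) (ka xa1 ya2 za0)) (@D3.rec (fun _ => Pt) (ka xa1 ya1 za17) (ka xa1 ya8 za6) (ka xa1 ya8 za7) (ka xa1 ya8 za8) (ka xa1 ya9 za6) (ka xa1 ya2 za6) (ka xa1 ya2 za5) (ka xa0 ya8 za9) (ka xa1 ya0 za10) (ka xa1 ya1 za0) (ka xa1 ya1 za1) (ka xa1 ya3 za1) (ka xa1 ya0 za17) (ka xa1 ya9 za13) (ka xa1 ya6 za0) (ka xa1 ya0 za13) (ka xa1 ya10 za1) (ka xa1 ya0 za14)) (@D3.rec (fun _ => Pt) (ka xa0 ya9 za1) (ka xa1 ya2 za11) (ka xa1 ya10 za7) (ka xa1 ya5 za3) (ka xa1 ya1 za16) (ka xa0 ya9 za5) (ka xa1 ya10 za9) (ka xa1 ya3 za7) (ka xa1 ya3 za8) (ka xa0 ya9 za12) (ka xa0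 ya9 za13) (ka xa0 ya9 za14) (ka xa1 ya10 za16) (ka xa0 ya9 za11) (ka xa1 ya1 za3) (ka xa1 ya4 za7) (ka xa2 ya0 za1) (ka xa1 ya10 za12)) (@D3.rec (fun _ => Pt) (ka xa1 ya10 za13) (ka xa1 ya10 za14) (ka xa1 ya4 za3) (ka xa1 ya4 za2) (ka xa2 ya0 za15) (ka xa0 ya10 za17) (ka xa0 ya9 za17) (ka xa1 ya3 za15) (ka xa1 ya0 za3) (ka xa1 ya0 za4) (ka xa0 ya10 za1) (ka xa2 ya1 za4) (ka xa2 ya1 za5) (ka xa2 ya1 za8) (ka xa0 ya10 za10) (ka xa0 ya10 za11) (ka xa0 ya10 za12) (ka xa2 ya1 za17)) (@D3.rec (fun _ => Pt) (ka xa0 ya10 za5) (ka xa2 ya2 za3) (ka xa1 ya6 za5) (ka xa1 ya3 za3) (ka xa0 ya10 za7) (ka xa2 ya2 za5) (ka xa1 ya6 za10) (ka xa0 ya10 za9) (ka xa2 ya2 za9) (ka xa2 ya2 za10) (ka xa2 ya2 za11) (ka xa2 ya1 za12) (ka xa2 ya1 za13) (ka xa2 ya1 za14) (ka xa2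 ya3 za8) (ka xa1 ya5 za17) (ka xa1 ya5 za16) (ka xa1 ya5 za15)) (@D3.rec (fun _ => Pt) (ka xa1 ya2 za14) (ka xa2 ya3 za12) (ka xa2 ya0 za14) (ka xa0 ya10 za16) (ka xa2 ya3 za17) (ka xa1 ya5 za2) (ka xa2 ya0 za17) (ka xa2 ya1 za0) (ka xa1 ya0 za1) (ka xa2 ya4 za2) (ka xa1 ya5 za6) (ka xa2 ya1 za1) (ka xa2 ya1 za2) (ka xa1 ya7 za3) (ka xa1 ya0 za6) (ka xa1 ya0 za7) (ka xa2 ya4 za11) (ka xa1 ya7 za0)) (@D3.rec (fun _ => Pt) (ka xa1 ya6 za17) (ka xa1 ya0 za8) (ka xa2 ya4 za15) (ka xa1 ya6 za13) (ka xa1 ya9 za7) (ka xa1 ya7 za15) (ka xa1 ya8 za9) (ka xa2 ya5 za4) (ka xa1 ya10 za0) (ka xa2 ya5 za8) (ka xa1 ya0 za15) (ka xa1 ya9 za12) (ka xa2 ya5 za11) (ka xa1 ya9 za9) (ka xa1 ya9 za10) (ka xa1 ya7 za5) (ka xa1 ya10 za17) (ka xa1 ya1 za4)) (@D3.rec (fun _ =>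 Pt) (ka xa2 ya6 za3) (ka xa2 ya1 za3) (ka xa1 ya1 za13) (ka xa1 ya1 za14) (ka xa1 ya1 za15) (ka xa1 ya8 za5) (ka xa1 ya2 za1) (ka xa1 ya2 za2) (ka xa1 ya2 za3) (ka xa1 ya7 za6) (ka xa1 ya8 za10) (ka xa2 ya6 za6) (ka xa2 ya6 za7) (ka xa2 ya6 za8) (ka xa1 ya10 za6) (ka xa1 ya8 za16) (ka xa1 ya8 za15) (ka xa2 ya7 za4)) (@D3.rec (fun _ => Pt) (ka xa2 ya0 za5) (ka xa2 ya6 za11) (ka xa2 ya6 za12) (ka xa2 ya7 za15) (ka xa1 ya9 za5) (ka xa1 ya9 za4) (ka xa1 ya2 za4) (ka xa1 ya7 za4) (ka xa2 ya8 za0) (ka xa1 ya7 za13) (ka xa1 ya7 za14) (ka xa1 ya10 za3) (ka xa1 ya7 za11) (ka xa1 ya2 za13) (ka xa2 ya8 za9) (ka xa2 ya8 za10) (ka xa2 ya8 za15) (ka xa2 ya9 za0)) (@D3.rec (fun _ => Pt) (ka xa1 ya7 za8) (ka xa1 ya2 za16) (ka xa2 ya9 za4) (ka xa1 ya9 za11) (ka xa2 ya9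 za8) (ka xa2 ya2 za2) (ka xa1 ya8 za14) (ka xa1 ya3 za2) (ka xa2 ya9 za10) (ka xa1 ya3 za6) (ka xa2 ya9 za11) (ka xa2 ya9 za12) (ka xa1 ya3 za17) (ka xa1 ya4 za0) (ka xa1 ya4 za1) (ka xa2 ya10 za3) (ka xa1 ya3 za12) (ka xa1 ya7 za16))
def f_a_2 : D2 → D3 → Pt := @D2.rec (fun _ => D3 → Pt) (@D3.rec (fun _ => Pt) (ka xa2 ya0 za16) (ka xa1 ya3 za16) (ka xa2 ya10 za8) (ka xa2 ya10 za9) (ka xa2 ya10 za10) (ka xa1 ya9 za0) (ka xa2 ya9 za16) (ka xa2 ya9 za17) (ka xa2 ya10 za0) (ka xa3 ya0 za11) (ka xa2 ya0 za12) (ka xa2 ya0 za11) (ka xa2 ya0 za10) (ka xa3 ya0 za14) (ka xa1 ya6 za2) (ka xa1 ya4 za4) (ka xa2 ya0 za0) (ka xa1 ya6 za6)) (@D3.rec (fun _ => Pt) (ka xa1 ya6 za7) (ka xa1 ya6 za11) (ka xa1 ya6 za12) (ka xa1 ya8 za1) (ka xa1 ya4 za11) (ka xa1 ya4 za12)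 (ka xa2 ya1 za7) (ka xa2 ya1 za6) (ka xa1 ya4 za13) (ka xa3 ya1 za9) (ka xa3 ya1 za10) (ka xa3 ya1 za11) (ka xa1 ya5 za11) (ka xa1 ya5 za12) (ka xa1 ya5 za13) (ka xa3 ya2 za5) (ka xa3 ya2 za8) (ka xa1 ya4 za17)) (@D3.rec (fun _ => Pt) (ka xa3 ya2 za11) (ka xa2 ya3 za14) (ka xa1 ya10 za5) (ka xa1 ya5 za1) (ka xa2 ya4 za0) (ka xa1 ya5 za5) (ka xa2 ya4 za3) (ka xa2 ya2 za7) (ka xa3 ya2 za15) (ka xa1 ya5 za8) (ka xa1 ya5 za9) (ka xa1 ya5 za10) (ka xa3 ya3 za2) (ka xa3 ya3 za3) (ka xa3 ya3 za4) (ka xa3 ya3 za5) (ka xa3 ya3 za15) (ka xa2 ya3 za1)) (@D3.rec (fun _ => Pt) (ka xa2 ya3 za0) (ka xa2 ya2 za17) (ka xa3 ya2 za1) (ka xa3 ya2 za2) (ka xa3 ya4 za5) (ka xa2 ya3 za7) (ka xa2 ya3 za6) (ka xa2 ya3 za5) (ka xa1 ya5 za14) (ka xa3 ya4 za10) (ka xa3 ya4 za11)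 (ka xa3 ya4 za15) (ka xa1 ya6 za1) (ka xa3 ya5 za0) (ka xa2 ya2 za1) (ka xa3 ya0 za17) (ka xa3 ya1 za0) (ka xa1 ya6 za4)) (@D3.rec (fun _ => Pt) (ka xa2 ya2 za4) (ka xa3 ya1 za1) (ka xa1 ya6 za9) (ka xa2 ya2 za6) (ka xa3 ya1 za2) (ka xa3 ya1 za3) (ka xa2 ya4 za6) (ka xa2 ya4 za16) (ka xa2 ya4 za17) (ka xa3 ya5 za9) (ka xa3 ya5 za12) (ka xa1 ya6 za16) (ka xa3 ya5 za16) (ka xa3 ya5 za17) (ka xa3 ya6 za2) (ka xa1 ya7 za2) (ka xa2 ya4 za7) (ka xa2 ya4 za8)) (@D3.rec (fun _ => Pt) (ka xa2 ya5 za6) (ka xa2 ya5 za15) (ka xa2 ya6 za0) (ka xa2 ya6 za13) (ka xa1 ya7 za7) (ka xa3 ya6 za13) (ka xa2 ya5 za0) (ka xa3 ya6 za16) (ka xa1 ya7 za9) (ka xa3 ya7 za1) (ka xa2 ya8 za7) (ka xa1 ya7 za12) (ka xa3 ya7 za5) (ka xa3 ya7 za6) (ka xa3 ya1 za4) (ka xa2 ya5 za1) (ka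 xa2 ya8 za4) (ka xa3 ya7 za16)) (@D3.rec (fun _ => Pt) (ka xa2 ya5 za2) (ka xa2 ya10 za6) (ka xa3 ya8 za2) (ka xa1 ya8 za0) (ka xa2 ya6 za5) (ka xa2 ya6 za4) (ka xa1 ya8 za11) (ka xa1 ya8 za12) (ka xa1 ya8 za13) (ka xa2 ya6 za9) (ka xa3 ya8 za13) (ka xa1 ya9 za1) (ka xa1 ya9 za2) (ka xa2 ya5 za3) (ka xa2 ya6 za14) (ka xa3 ya8 za17) (ka xa3 ya8 za9) (ka xa3 ya8 za10)) (@D3.rec (fun _ => Pt) (ka xa3 ya8 za11) (ka xa2 ya9 za7) (ka xa2 ya7 za3) (ka xa2 ya7 za2) (ka xa1 ya8 za17) (ka xa3 ya7 za7) (ka xa3 ya9 za12) (ka xa3 ya9 za13) (ka xa3 ya0 za2) (ka xa3 ya0 za3) (ka xa3 ya0 za4) (ka xa3 ya10 za3) (ka xa2 ya7 za14) (ka xa2 ya10 za14) (ka xa2 ya7 za12) (ka xa1 ya9 za3) (ka xa3 ya10 za9) (ka xa3 ya10 za11)) (@D3.rec (fun _ => Pt) (ka xa1 ya9 za8) (ka xa3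 ya10 za15) (ka xa3 ya10 za16) (ka xa3 ya10 za17) (ka xa2 ya5 za16) (ka xa4 ya0 za7) (ka xa2 ya9 za6) (ka xa2 ya5 za10) (ka xa4 ya0 za12) (ka xa1 ya9 za14) (ka xa1 ya9 za15) (ka xa4 ya0 za16) (ka xa2 ya8 za14) (ka xa3 ya6 za8) (ka xa2 ya8 za12) (ka xa1 ya9 za16) (ka xa4 ya1 za4) (ka xa4 ya1 za5)) (@D3.rec (fun _ => Pt) (ka xa1 ya9 za17) (ka xa4 ya1 za9) (ka xa4 ya1 za12) (ka xa3 ya2 za10) (ka xa1 ya10 za2) (ka xa4 ya1 za17) (ka xa2 ya8 za6) (ka xa2 ya7 za1) (ka xa1 ya10 za4) (ka xa4 ya2 za5) (ka xa1 ya10 za8) (ka xa1 ya10 za10) (ka xa1 ya10 za11) (ka xa4 ya2 za7) (ka xa4 ya2 za8) (ka xa4 ya2 za9) (ka xa2 ya0 za6) (ka xa2 ya0 za7)) (@D3.rec (fun _ => Pt) (ka xa2 ya0 za8) (ka xa4 ya3 za4) (ka xa4 ya3 za7) (ka xa1 ya10 za15) (ka xa4 ya3 za9) (ka xa3 ya0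 za16) (ka xa2 ya6 za1) (ka xa4 ya3 za13) (ka xa2 ya0 za2) (ka xa2 ya0 za3) (ka xa2 ya0 za4) (ka xa3 ya1 za17) (ka xa4 ya3 za16) (ka xa4 ya3 za17) (ka xa2 ya7 za13) (ka xa4 ya4 za8) (ka xa3 ya0 za0) (ka xa2 ya10 za17))
def f_a_3 : D2 → D3 → Pt := @D2.rec (fun _ => D3 → Pt) (@D3.rec (fun _ => Pt) (ka xa2 ya10 za16) (ka xa4 ya4 za11) (ka xa2 ya7 za8) (ka xa2 ya7 za9) (ka xa2 ya7 za10) (ka xa4 ya3 za0) (ka xa4 ya3 za1) (ka xa4 ya5 za4) (ka xa3 ya0 za10) (ka xa3 ya0 za9) (ka xa3 ya0 za8) (ka xa2 ya0 za9) (ka xa4 ya5 za9) (ka xa4 ya5 za12) (ka xa2 ya0 za13) (ka xa4 ya5 za15) (ka xa2 ya10 za5) (ka xa2 ya3 za15)) (@D3.rec (fun _ => Pt) (ka xa2 ya3 za16) (ka xa2 ya4 za1) (ka xa2 ya4 za4) (ka xa2 ya4 za5) (ka xa2 ya5 za14) (ka xa4 ya6 za2) (ka xa4 ya6 za5) (ka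 xa4 ya6 za7) (ka xa4 ya6 za10) (ka xa2 ya1 za9) (ka xa2 ya1 za10) (ka xa2 ya1 za11) (ka xa4 ya6 za12) (ka xa4 ya6 za13) (ka xa4 ya6 za14) (ka xa4 ya7 za2) (ka xa3 ya2 za0) (ka xa2 ya10 za11)) (@D3.rec (fun _ => Pt) (ka xa3 ya1 za16) (ka xa2 ya3 za2) (ka xa2 ya3 za3) (ka xa4 ya7 za9) (ka xa4 ya7 za12) (ka xa2 ya1 za15) (ka xa4 ya7 za15) (ka xa4 ya7 za16) (ka xa2 ya1 za16) (ka xa4 ya8 za2) (ka xa2 ya9 za3) (ka xa2 ya2 za0) (ka xa3 ya5 za1) (ka xa3 ya2 za13) (ka xa3 ya2 za14) (ka xa2 ya2 za8) (ka xa4 ya0 za2) (ka xa4 ya8 za5)) (@D3.rec (fun _ => Pt) (ka xa4 ya8 za6) (ka xa4 ya0 za0) (ka xa2 ya2 za12) (ka xa2 ya2 za13) (ka xa2 ya2 za14) (ka xa2 ya2 za15) (ka xa4 ya4 za16) (ka xa4 ya8 za14) (ka xa4 ya8 za15) (ka xa4 ya8 za16) (ka xa4 ya8 za17) (ka xa4 ya9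 za9) (ka xa3 ya3 za14) (ka xa3 ya3 za13) (ka xa3 ya3 za12) (ka xa2 ya2 za16) (ka xa4 ya9 za13) (ka xa3 ya4 za14)) (@D3.rec (fun _ => Pt) (ka xa4 ya9 za16) (ka xa4 ya10 za1) (ka xa3 ya4 za4) (ka xa3 ya4 za3) (ka xa3 ya4 za2) (ka xa2 ya3 za4) (ka xa4 ya10 za6) (ka xa4 ya10 za7) (ka xa4 ya10 za9) (ka xa4 ya8 za12) (ka xa2 ya3 za9) (ka xa2 ya3 za10) (ka xa4 ya10 za12) (ka xa4 ya10 za14) (ka xa3 ya3 za17) (ka xa2 ya3 za11) (ka xa5 ya0 za0) (ka xa5 ya0 za1)) (@D3.rec (fun _ => Pt) (ka xa2 ya3 za13) (ka xa3 ya2 za12) (ka xa4 ya6 za0) (ka xa3 ya5 za3) (ka xa3 ya5 za4) (ka xa4 ya6 za1) (ka xa3 ya5 za6) (ka xa3 ya6 za6) (ka xa5 ya0 za7) (ka xa2 ya4 za9) (ka xa5 ya0 za10) (ka xa3 ya6 za1) (ka xa2 ya4 za10) (ka xa5 ya0 za13) (ka xa5 ya0 za14) (ka xa5 ya0 za17) (ka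 xa2 ya4 za12) (ka xa2 ya4 za13)) (@D3.rec (fun _ => Pt) (ka xa5 ya1 za4) (ka xa3 ya5 za11) (ka xa2 ya4 za14) (ka xa5 ya1 za7) (ka xa5 ya0 za16) (ka xa5 ya1 za10) (ka xa3 ya5 za7) (ka xa5 ya1 za14) (ka xa2 ya8 za13) (ka xa3 ya6 za15) (ka xa3 ya7 za14) (ka xa5 ya2 za1) (ka xa3 ya8 za16) (ka xa2 ya5 za5) (ka xa5 ya2 za6) (ka xa3 ya6 za9) (ka xa2 ya5 za7) (ka xa5 ya2 za11)) (@D3.rec (fun _ => Pt) (ka xa5 ya2 za12) (ka xa2 ya5 za9) (ka xa4 ya2 za0) (ka xa4 ya0 za11) (ka xa5 ya3 za1) (ka xa2 ya5 za12) (ka xa2 ya5 za13) (ka xa2 ya7 za5) (ka xa5 ya3 za3) (ka xa4 ya3 za14) (ka xa5 ya3 za8) (ka xa3 ya7 za12) (ka xa3 ya7 za11) (ka xa3 ya10 za13) (ka xa3 ya6 za10) (ka xa5 ya3 za14) (ka xa2 ya5 za17) (ka xa5 ya4 za0)) (@D3.rec (fun _ => Pt) (ka xa5 ya4 za3) (ka xa4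 ya3 za12) (ka xa2 ya6 za2) (ka xa5 ya4 za7) (ka xa5 ya4 za8) (ka xa5 ya1 za2) (ka xa5 ya4 za13) (ka xa5 ya4 za15) (ka xa5 ya5 za0) (ka xa2 ya6 za16) (ka xa2 ya6 za17) (ka xa2 ya7 za0) (ka xa3 ya8 za12) (ka xa2 ya6 za10) (ka xa5 ya5 za6) (ka xa3 ya9 za16) (ka xa3 ya6 za12) (ka xa2 ya6 za15)) (@D3.rec (fun _ => Pt) (ka xa5 ya5 za8) (ka xa5 ya5 za9) (ka xa5 ya5 za10) (ka xa4 ya4 za14) (ka xa5 ya5 za3) (ka xa5 ya5 za4) (ka xa5 ya6 za1) (ka xa3 ya9 za9) (ka xa4 ya4 za4) (ka xa3 ya9 za7) (ka xa4 ya2 za4) (ka xa4 ya2 za13) (ka xa2 ya7 za6) (ka xa2 ya7 za7) (ka xa4 ya5 za8) (ka xa5 ya6 za10) (ka xa3 ya8 za15) (ka xa4 ya4 za15)) (@D3.rec (fun _ => Pt) (ka xa5 ya6 za14) (ka xa3 ya10 za2) (ka xa3 ya10 za1) (ka xa2 ya7 za11) (ka xa5 ya7 za2) (ka xa5 ya7 za3) (ka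 xa5 ya7 za6) (ka xa4 ya4 za7) (ka xa5 ya7 za5) (ka xa2 ya7 za16) (ka xa5 ya7 za8) (ka xa2 ya7 za17) (ka xa5 ya7 za10) (ka xa3 ya7 za13) (ka xa4 ya0 za13) (ka xa2 ya8 za1) (ka xa2 ya8 za2) (ka xa2 ya8 za3))
def f_a_4 : D2 → D3 → Pt := @D2.rec (fun _ => D3 → Pt) (@D3.rec (fun _ => Pt) (ka xa3 ya3 za1) (ka xa5 ya7 za13) (ka xa3 ya2 za16) (ka xa5 ya8 za0) (ka xa4 ya0 za5) (ka xa4 ya0 za4) (ka xa5 ya8 za4) (ka xa2 ya8 za5) (ka xa5 ya8 za8) (ka xa5 ya8 za9) (ka xa4 ya2 za2) (ka xa3 ya7 za3) (ka xa2 ya8 za8) (ka xa3 ya10 za14) (ka xa5 ya8 za15) (ka xa5 ya9 za1) (ka xa2 ya8 za11) (ka xa5 ya9 za4)) (@D3.rec (fun _ => Pt) (ka xa4 ya1 za8) (ka xa4 ya1 za11) (ka xa5 ya9 za6) (ka xa5 ya9 za9) (ka xa2 ya8 za16) (ka xa2 ya8 za17) (ka xa5 ya9 za13) (ka xa5 ya9 za14)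 (ka xa4 ya1 za0) (ka xa2 ya9 za1) (ka xa5 ya10 za4) (ka xa4 ya1 za1) (ka xa2 ya9 za2) (ka xa5 ya10 za9) (ka xa5 ya10 za10) (ka xa4 ya8 za3) (ka xa5 ya10 za15) (ka xa2 ya9 za5)) (@D3.rec (fun _ => Pt) (ka xa3 ya7 za2) (ka xa6 ya0 za1) (ka xa4 ya0 za10) (ka xa6 ya0 za6) (ka xa3 ya9 za10) (ka xa2 ya9 za9) (ka xa4 ya4 za13) (ka xa2 ya9 za13) (ka xa2 ya9 za14) (ka xa2 ya9 za15) (ka xa6 ya0 za9) (ka xa6 ya0 za10) (ka xa6 ya0 za11) (ka xa3 ya9 za11) (ka xa6 ya0 za17) (ka xa4 ya2 za17) (ka xa4 ya4 za1) (ka xa4 ya2 za15)) (@D3.rec (fun _ => Pt) (ka xa3 ya0 za5) (ka xa3 ya0 za6) (ka xa6 ya1 za5) (ka xa6 ya1 za8) (ka xa2 ya10 za1) (ka xa6 ya1 za11) (ka xa6 ya1 za12) (ka xa2 ya10 za2) (ka xa6 ya1 za16) (ka xa2 ya10 za4) (ka xa6 ya2 za0) (ka xa4 ya5 za17) (ka xa3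 ya8 za1) (ka xa2 ya10 za7) (ka xa3 ya7 za9) (ka xa4 ya4 za17) (ka xa2 ya10 za12) (ka xa2 ya10 za13)) (@D3.rec (fun _ => Pt) (ka xa4 ya4 za12) (ka xa4 ya2 za16) (ka xa4 ya7 za5) (ka xa6 ya2 za5) (ka xa3 ya9 za8) (ka xa6 ya2 za9) (ka xa4 ya4 za6) (ka xa3 ya10 za7) (ka xa2 ya10 za15) (ka xa4 ya5 za11) (ka xa5 ya6 za16) (ka xa3 ya0 za1) (ka xa4 ya4 za0) (ka xa4 ya2 za6) (ka xa3 ya9 za3) (ka xa3 ya9 za17) (ka xa3 ya3 za6) (ka xa4 ya3 za15)) (@D3.rec (fun _ => Pt) (ka xa6 ya2 za14) (ka xa4 ya5 za3) (ka xa4 ya5 za2) (ka xa4 ya5 za1) (ka xa3 ya0 za7) (ka xa6 ya3 za0) (ka xa6 ya3 za1) (ka xa6 ya3 za5) (ka xa3 ya9 za14) (ka xa3 ya0 za12) (ka xa6 ya3 za8) (ka xa4 ya4 za9) (ka xa3 ya0 za13) (ka xa6 ya3 za12) (ka xa6 ya3 za13) (ka xa3 ya0 za15) (ka xa6 ya3 za17)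 (ka xa4 ya3 za11)) (@D3.rec (fun _ => Pt) (ka xa3 ya5 za2) (ka xa3 ya5 za5) (ka xa3 ya1 za5) (ka xa6 ya4 za3) (ka xa4 ya6 za9) (ka xa3 ya1 za6) (ka xa5 ya4 za11) (ka xa3 ya1 za7) (ka xa6 ya4 za6) (ka xa4 ya6 za4) (ka xa3 ya1 za8) (ka xa6 ya4 za8) (ka xa3 ya1 za12) (ka xa3 ya1 za13) (ka xa3 ya1 za14) (ka xa6 ya4 za11) (ka xa4 ya7 za1) (ka xa6 ya4 za12)) (@D3.rec (fun _ => Pt) (ka xa6 ya4 za17) (ka xa4 ya6 za16) (ka xa3 ya1 za15) (ka xa5 ya9 za17) (ka xa4 ya8 za1) (ka xa4 ya4 za2) (ka xa4 ya10 za16) (ka xa6 ya5 za1) (ka xa6 ya5 za4) (ka xa3 ya2 za3) (ka xa4 ya9 za11) (ka xa4 ya9 za10) (ka xa3 ya2 za4) (ka xa4 ya9 za4) (ka xa6 ya5 za7) (ka xa3 ya2 za6) (ka xa3 ya2 za7) (ka xa5 ya10 za1)) (@D3.rec (fun _ => Pt) (ka xa6 ya5 za11) (ka xa4 ya7 za4) (ka xa3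 ya2 za9) (ka xa4 ya1 za15) (ka xa5 ya1 za6) (ka xa3 ya2 za17) (ka xa3 ya3 za0) (ka xa5 ya7 za17) (ka xa6 ya5 za14) (ka xa6 ya5 za15) (ka xa6 ya5 za16) (ka xa5 ya7 za15) (ka xa3 ya4 za9) (ka xa6 ya2 za11) (ka xa3 ya3 za7) (ka xa3 ya3 za8) (ka xa3 ya3 za9) (ka xa3 ya3 za10)) (@D3.rec (fun _ => Pt) (ka xa6 ya2 za13) (ka xa5 ya6 za13) (ka xa6 ya6 za6) (ka xa4 ya10 za8) (ka xa4 ya7 za13) (ka xa6 ya6 za12) (ka xa4 ya9 za8) (ka xa4 ya9 za7) (ka xa4 ya9 za6) (ka xa3 ya3 za11) (ka xa4 ya7 za11) (ka xa4 ya7 za10) (ka xa6 ya6 za17) (ka xa3 ya3 za16) (ka xa4 ya10 za13) (ka xa5 ya6 za12) (ka xa3 ya4 za0) (ka xa6 ya7 za5)) (@D3.rec (fun _ => Pt) (ka xa6 ya5 za9) (ka xa3 ya4 za1) (ka xa6 ya7 za9) (ka xa6 ya7 za10) (ka xa6 ya7 za13) (ka xa6 ya6 za4) (ka xa3 ya4 za6)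 (ka xa3 ya4 za7) (ka xa4 ya9 za3) (ka xa3 ya4 za8) (ka xa6 ya7 za17) (ka xa6 ya8 za0) (ka xa3 ya4 za12) (ka xa4 ya9 za14) (ka xa3 ya4 za13) (ka xa6 ya8 za3) (ka xa4 ya7 za6) (ka xa6 ya7 za4))
def f_a_5 : D2 → D3 → Pt := @D2.rec (fun _ => D3 → Pt) (@D3.rec (fun _ => Pt) (ka xa3 ya4 za16) (ka xa3 ya4 za17) (ka xa6 ya8 za8) (ka xa6 ya8 za9) (ka xa6 ya8 za12) (ka xa5 ya0 za5) (ka xa5 ya2 za4) (ka xa3 ya5 za8) (ka xa6 ya8 za14) (ka xa5 ya4 za17) (ka xa3 ya5 za10) (ka xa6 ya8 za17) (ka xa5 ya0 za12) (ka xa3 ya5 za13) (ka xa3 ya5 za14) (ka xa6 ya9 za1) (ka xa3 ya6 za4) (ka xa3 ya5 za15)) (@D3.rec (fun _ => Pt) (ka xa6 ya9 za4) (ka xa6 ya9 za5) (ka xa3 ya8 za5) (ka xa6 ya9 za10) (ka xa3 ya6 za0) (ka xa6 ya8 za11) (ka xa4 ya8 za4) (ka xa3 ya6 za3) (ka xa5 ya5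 za7) (ka xa6 ya9 za3) (ka xa3 ya6 za5) (ka xa6 ya9 za16) (ka xa5 ya8 za16) (ka xa5 ya2 za14) (ka xa3 ya6 za7) (ka xa6 ya10 za1) (ka xa6 ya4 za2) (ka xa6 ya10 za4)) (@D3.rec (fun _ => Pt) (ka xa6 ya10 za7) (ka xa3 ya6 za11) (ka xa6 ya10 za9) (ka xa6 ya10 za10) (ka xa5 ya0 za6) (ka xa6 ya10 za15) (ka xa3 ya6 za14) (ka xa6 ya10 za17) (ka xa5 ya2 za15) (ka xa7 ya0 za1) (ka xa7 ya0 za2) (ka xa3 ya6 za17) (ka xa3 ya7 za0) (ka xa5 ya9 za8) (ka xa5 ya1 za13) (ka xa5 ya2 za8) (ka xa6 ya0 za2) (ka xa5 ya8 za14)) (@D3.rec (fun _ => Pt) (ka xa7 ya0 za11) (ka xa3 ya7 za4) (ka xa7 ya0 za12) (ka xa3 ya7 za8) (ka xa7 ya0 za10) (ka xa7 ya0 za17) (ka xa5 ya3 za7) (ka xa5 ya3 za6) (ka xa3 ya7 za10) (ka xa5 ya4 za2) (ka xa6 ya10 za14) (ka xa6 ya10 za12) (ka xa5 ya7 za11)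 (ka xa7 ya1 za4) (ka xa3 ya7 za15) (ka xa7 ya1 za5) (ka xa7 ya1 za6) (ka xa7 ya1 za7)) (@D3.rec (fun _ => Pt) (ka xa3 ya7 za17) (ka xa7 ya1 za10) (ka xa5 ya3 za9) (ka xa3 ya8 za0) (ka xa7 ya1 za13) (ka xa5 ya9 za11) (ka xa6 ya2 za4) (ka xa3 ya8 za3) (ka xa3 ya8 za4) (ka xa7 ya1 za16) (ka xa6 ya8 za13) (ka xa4 ya6 za6) (ka xa6 ya9 za9) (ka xa3 ya8 za6) (ka xa7 ya2 za3) (ka xa3 ya8 za7) (ka xa7 ya2 za5) (ka xa5 ya0 za9)) (@D3.rec (fun _ => Pt) (ka xa3 ya8 za8) (ka xa6 ya6 za5) (ka xa7 ya2 za8) (ka xa3 ya9 za4) (ka xa3 ya9 za5) (ka xa5 ya5 za14) (ka xa3 ya8 za14) (ka xa5 ya1 za8) (ka xa3 ya9 za0) (ka xa3 ya9 za1) (ka xa3 ya9 za2) (ka xa7 ya2 za13) (ka xa6 ya7 za8) (ka xa7 ya2 za16) (ka xa5 ya5 za5) (ka xa6 ya2 za12) (ka xa7 ya3 za2) (ka xa5 ya6 za0)) (@D3.rec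 (fun _ => Pt) (ka xa5 ya5 za17) (ka xa3 ya9 za6) (ka xa7 ya3 za8) (ka xa7 ya3 za9) (ka xa7 ya3 za12) (ka xa6 ya2 za8) (ka xa7 ya3 za11) (ka xa6 ya0 za5) (ka xa6 ya0 za16) (ka xa6 ya1 za10) (ka xa3 ya9 za15) (ka xa7 ya3 za15) (ka xa4 ya9 za15) (ka xa4 ya9 za1) (ka xa3 ya10 za0) (ka xa7 ya2 za4) (ka xa4 ya4 za10) (ka xa7 ya4 za3)) (@D3.rec (fun _ => Pt) (ka xa7 ya4 za2) (ka xa6 ya3 za4) (ka xa3 ya10 za4) (ka xa3 ya10 za5) (ka xa7 ya4 za7) (ka xa3 ya10 za8) (ka xa3 ya10 za6) (ka xa7 ya4 za9) (ka xa3 ya10 za10) (ka xa7 ya4 za13) (ka xa3 ya10 za12) (ka xa5 ya3 za12) (ka xa5 ya8 za17) (ka xa4 ya0 za1) (ka xa7 ya5 za0) (ka xa4 ya8 za11) (ka xa5 ya10 za2) (ka xa4 ya8 za7)) (@D3.rec (fun _ => Pt) (ka xa4 ya0 za3) (ka xa7 ya5 za5) (ka xa5 ya8 za12) (ka xa7 ya5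 za7) (ka xa4 ya0 za6) (ka xa7 ya5 za9) (ka xa7 ya5 za10) (ka xa5 ya10 za6) (ka xa4 ya0 za8) (ka xa4 ya0 za9) (ka xa7 ya5 za13) (ka xa7 ya5 za14) (ka xa5 ya8 za2) (ka xa6 ya0 za3) (ka xa5 ya2 za17) (ka xa4 ya0 za14) (ka xa5 ya1 za12) (ka xa5 ya7 za12)) (@D3.rec (fun _ => Pt) (ka xa7 ya6 za5) (ka xa4 ya0 za15) (ka xa7 ya5 za2) (ka xa7 ya5 za1) (ka xa4 ya0 za17) (ka xa7 ya6 za12) (ka xa4 ya1 za2) (ka xa7 ya6 za15) (ka xa5 ya2 za13) (ka xa4 ya1 za3) (ka xa7 ya7 za0) (ka xa5 ya4 za5) (ka xa7 ya5 za6) (ka xa4 ya1 za6) (ka xa4 ya1 za7) (ka xa7 ya7 za6) (ka xa7 ya6 za11) (ka xa4 ya7 za3)) (@D3.rec (fun _ => Pt) (ka xa7 ya7 za9) (ka xa4 ya7 za17) (ka xa5 ya7 za16) (ka xa7 ya7 za11) (ka xa4 ya1 za10) (ka xa7 ya7 za13) (ka xa5 ya8 za7) (ka xa7 ya1 za8) (ka xa7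 ya7 za15) (ka xa4 ya1 za13) (ka xa4 ya1 za14) (ka xa7 ya8 za2) (ka xa7 ya8 za3) (ka xa7 ya4 za17) (ka xa6 ya5 za13) (ka xa4 ya1 za16) (ka xa7 ya8 za6) (ka xa7 ya8 za7))
def f_a_6 : D2 → D3 → Pt := @D2.rec (fun _ => D3 → Pt) (@D3.rec (fun _ => Pt) (ka xa7 ya8 za8) (ka xa4 ya2 za1) (ka xa5 ya2 za16) (ka xa5 ya8 za13) (ka xa7 ya8 za17) (ka xa5 ya6 za7) (ka xa4 ya2 za3) (ka xa7 ya9 za2) (ka xa7 ya9 za5) (ka xa4 ya2 za10) (ka xa4 ya2 za11) (ka xa4 ya2 za12) (ka xa6 ya1 za2) (ka xa7 ya0 za14) (ka xa7 ya9 za6) (ka xa7 ya3 za17) (ka xa5 ya6 za8) (ka xa4 ya2 za14)) (@D3.rec (fun _ => Pt) (ka xa7 ya7 za7) (ka xa6 ya1 za15) (ka xa6 ya0 za12) (ka xa6 ya3 za10) (ka xa7 ya9 za12) (ka xa4 ya3 za2) (ka xa7 ya9 za15) (ka xa7 ya9 za16) (ka xa4 ya3 za3) (ka xa7 ya2 za0)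 (ka xa5 ya6 za9) (ka xa4 ya3 za5) (ka xa4 ya3 za6) (ka xa7 ya10 za2) (ka xa7 ya10 za3) (ka xa6 ya1 za1) (ka xa4 ya3 za8) (ka xa7 ya6 za1)) (@D3.rec (fun _ => Pt) (ka xa4 ya3 za10) (ka xa6 ya4 za0) (ka xa6 ya4 za7) (ka xa7 ya10 za8) (ka xa5 ya4 za6) (ka xa4 ya4 za3) (ka xa7 ya10 za12) (ka xa6 ya2 za7) (ka xa5 ya6 za5) (ka xa4 ya4 za5) (ka xa6 ya8 za7) (ka xa4 ya8 za13) (ka xa5 ya5 za15) (ka xa4 ya9 za0) (ka xa4 ya5 za0) (ka xa7 ya10 za14) (ka xa7 ya10 za15) (ka xa7 ya10 za17)) (@D3.rec (fun _ => Pt) (ka xa4 ya5 za5) (ka xa4 ya5 za6) (ka xa6 ya10 za11) (ka xa7 ya1 za17) (ka xa5 ya7 za1) (ka xa4 ya5 za7) (ka xa8 ya0 za4) (ka xa7 ya4 za8) (ka xa4 ya5 za10) (ka xa8 ya0 za6) (ka xa6 ya1 za3) (ka xa6 ya8 za6) (ka xa4 ya5 za13) (ka xa4 ya5 za14) (ka xa6 ya3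 za15) (ka xa6 ya3 za14) (ka xa6 ya8 za10) (ka xa4 ya5 za16)) (@D3.rec (fun _ => Pt) (ka xa6 ya2 za1) (ka xa8 ya0 za11) (ka xa5 ya1 za16) (ka xa4 ya6 za3) (ka xa7 ya3 za14) (ka xa6 ya4 za5) (ka xa4 ya6 za8) (ka xa6 ya2 za2) (ka xa4 ya6 za11) (ka xa8 ya0 za13) (ka xa7 ya2 za10) (ka xa4 ya6 za15) (ka xa4 ya6 za17) (ka xa6 ya4 za16) (ka xa6 ya6 za10) (ka xa8 ya0 za16) (ka xa6 ya4 za13) (ka xa4 ya7 za0)) (@D3.rec (fun _ => Pt) (ka xa6 ya8 za5) (ka xa4 ya7 za7) (ka xa6 ya6 za14) (ka xa6 ya6 za13) (ka xa4 ya7 za8) (ka xa6 ya6 za9) (ka xa8 ya1 za1) (ka xa4 ya7 za14) (ka xa7 ya8 za5) (ka xa4 ya10 za0) (ka xa7 ya7 za1) (ka xa4 ya8 za0) (ka xa7 ya4 za1) (ka xa5 ya10 za14) (ka xa4 ya8 za8) (ka xa4 ya8 za9) (ka xa4 ya8 za10) (ka xa7 ya10 za13)) (@D3.rec (fun _ =>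 Pt) (ka xa8 ya1 za7) (ka xa8 ya1 za8) (ka xa7 ya5 za3) (ka xa7 ya2 za11) (ka xa4 ya10 za5) (ka xa5 ya5 za1) (ka xa4 ya9 za2) (ka xa7 ya3 za1) (ka xa6 ya7 za12) (ka xa6 ya5 za5) (ka xa6 ya4 za14) (ka xa8 ya1 za14) (ka xa4 ya9 za5) (ka xa6 ya5 za3) (ka xa6 ya5 za2) (ka xa7 ya3 za4) (ka xa7 ya3 za0) (ka xa4 ya9 za12)) (@D3.rec (fun _ => Pt) (ka xa8 ya2 za2) (ka xa8 ya1 za3) (ka xa7 ya1 za0) (ka xa7 ya4 za0) (ka xa4 ya10 za17) (ka xa4 ya9 za17) (ka xa8 ya0 za8) (ka xa8 ya0 za10) (ka xa5 ya5 za12) (ka xa4 ya10 za2) (ka xa4 ya10 za3) (ka xa7 ya2 za17) (ka xa6 ya6 za8) (ka xa4 ya10 za4) (ka xa8 ya2 za6) (ka xa8 ya1 za11) (ka xa8 ya2 za1) (ka xa4 ya10 za10)) (@D3.rec (fun _ => Pt) (ka xa4 ya10 za11) (ka xa7 ya1 za3) (ka xa7 ya0 za13) (ka xa4 ya10 za15) (ka xa8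 ya2 za8) (ka xa6 ya5 za0) (ka xa6 ya3 za11) (ka xa6 ya2 za10) (ka xa5 ya0 za2) (ka xa5 ya0 za3) (ka xa6 ya3 za16) (ka xa5 ya1 za5) (ka xa5 ya0 za4) (ka xa5 ya4 za10) (ka xa5 ya0 za8) (ka xa7 ya2 za7) (ka xa7 ya8 za15) (ka xa5 ya0 za11)) (@D3.rec (fun _ => Pt) (ka xa8 ya3 za0) (ka xa5 ya0 za15) (ka xa8 ya3 za1) (ka xa5 ya1 za9) (ka xa5 ya1 za0) (ka xa5 ya1 za1) (ka xa8 ya3 za6) (ka xa8 ya3 za4) (ka xa8 ya3 za5) (ka xa5 ya4 za12) (ka xa5 ya1 za3) (ka xa7 ya1 za9) (ka xa8 ya3 za15) (ka xa8 ya3 za17) (ka xa7 ya2 za12) (ka xa7 ya10 za16) (ka xa5 ya1 za11) (ka xa6 ya10 za0)) (@D3.rec (fun _ => Pt) (ka xa6 ya9 za17) (ka xa5 ya1 za15) (ka xa8 ya4 za3) (ka xa8 ya0 za12) (ka xa5 ya1 za17) (ka xa8 ya4 za7) (ka xa6 ya10 za13) (ka xa5 ya2 za0) (ka xa7 ya0 za0) (ka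 xa5 ya2 za2) (ka xa5 ya2 za3) (ka xa6 ya3 za2) (ka xa5 ya3 za11) (ka xa6 ya10 za6) (ka xa5 ya3 za10) (ka xa5 ya2 za5) (ka xa7 ya6 za6) (ka xa5 ya2 za7))
def f_a_7 : D2 → D3 → Pt := @D2.rec (fun _ => D3 → Pt) (@D3.rec (fun _ => Pt) (ka xa6 ya10 za8) (ka xa5 ya2 za9) (ka xa5 ya2 za10) (ka xa8 ya4 za13) (ka xa7 ya0 za7) (ka xa7 ya4 za15) (ka xa7 ya6 za17) (ka xa7 ya0 za4) (ka xa8 ya0 za1) (ka xa7 ya6 za2) (ka xa5 ya3 za4) (ka xa5 ya3 za0) (ka xa5 ya3 za2) (ka xa6 ya8 za2) (ka xa6 ya0 za13) (ka xa8 ya5 za0) (ka xa7 ya6 za14) (ka xa5 ya3 za5)) (@D3.rec (fun _ => Pt) (ka xa6 ya7 za2) (ka xa7 ya5 za4) (ka xa7 ya6 za8) (ka xa6 ya8 za1) (ka xa5 ya3 za13) (ka xa5 ya3 za15) (ka xa5 ya3 za16) (ka xa5 ya3 za17) (ka xa5 ya10 za7) (ka xa6 ya9 za11) (ka xa5 ya4 za1)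 (ka xa8 ya5 za4) (ka xa7 ya4 za5) (ka xa5 ya4 za4) (ka xa8 ya5 za7) (ka xa7 ya7 za2) (ka xa5 ya4 za9) (ka xa6 ya3 za3)) (@D3.rec (fun _ => Pt) (ka xa6 ya1 za9) (ka xa8 ya2 za11) (ka xa8 ya3 za12) (ka xa5 ya4 za14) (ka xa5 ya6 za15) (ka xa5 ya4 za16) (ka xa7 ya6 za4) (ka xa6 ya8 za15) (ka xa5 ya5 za2) (ka xa8 ya1 za9) (ka xa6 ya4 za10) (ka xa6 ya6 za3) (ka xa6 ya9 za14) (ka xa5 ya5 za11) (ka xa8 ya2 za4) (ka xa8 ya1 za0) (ka xa5 ya5 za13) (ka xa6 ya7 za11)) (@D3.rec (fun _ => Pt) (ka xa6 ya6 za16) (ka xa6 ya6 za7) (ka xa5 ya5 za16) (ka xa8 ya6 za3) (ka xa6 ya6 za15) (ka xa8 ya1 za13) (ka xa8 ya6 za6) (ka xa7 ya7 za16) (ka xa5 ya6 za2) (ka xa5 ya6 za3) (ka xa8 ya6 za9) (ka xa5 ya6 za6) (ka xa5 ya6 za4) (ka xa7 ya8 za16) (ka xa6 ya4 za4) (ka xa5 ya6 za11)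 (ka xa8 ya5 za6) (ka xa6 ya0 za15)) (@D3.rec (fun _ => Pt) (ka xa6 ya7 za3) (ka xa6 ya5 za12) (ka xa5 ya7 za0) (ka xa5 ya6 za17) (ka xa7 ya10 za7) (ka xa7 ya1 za12) (ka xa8 ya4 za8) (ka xa5 ya7 za4) (ka xa6 ya3 za7) (ka xa5 ya7 za7) (ka xa7 ya9 za8) (ka xa7 ya9 za17) (ka xa8 ya6 za12) (ka xa5 ya7 za9) (ka xa7 ya8 za0) (ka xa7 ya0 za5) (ka xa8 ya4 za11) (ka xa5 ya10 za13)) (@D3.rec (fun _ => Pt) (ka xa5 ya7 za14) (ka xa5 ya9 za3) (ka xa5 ya9 za2) (ka xa6 ya6 za2) (ka xa7 ya1 za1) (ka xa5 ya8 za1) (ka xa5 ya9 za12) (ka xa5 ya8 za3) (ka xa8 ya7 za0) (ka xa5 ya8 za5) (ka xa5 ya8 za6) (ka xa7 ya7 za14) (ka xa7 ya10 za6) (ka xa5 ya8 za10) (ka xa5 ya8 za11) (ka xa8 ya4 za2) (ka xa8 ya5 za5) (ka xa8 ya1 za5)) (@D3.rec (fun _ => Pt) (ka xa8 ya5 za8) (ka xa6 ya1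 za17) (ka xa7 ya0 za9) (ka xa8 ya5 za13) (ka xa7 ya2 za6) (ka xa5 ya9 za0) (ka xa6 ya10 za16) (ka xa7 ya6 za10) (ka xa7 ya1 za2) (ka xa8 ya6 za17) (ka xa7 ya6 za7) (ka xa5 ya9 za16) (ka xa5 ya9 za5) (ka xa8 ya3 za3) (ka xa7 ya0 za16) (ka xa5 ya9 za7) (ka xa8 ya7 za8) (ka xa7 ya0 za6)) (@D3.rec (fun _ => Pt) (ka xa5 ya9 za10) (ka xa6 ya5 za10) (ka xa7 ya1 za15) (ka xa8 ya4 za17) (ka xa7 ya10 za5) (ka xa8 ya7 za11) (ka xa5 ya9 za15) (ka xa6 ya1 za0) (ka xa8 ya5 za1) (ka xa5 ya10 za0) (ka xa7 ya9 za4) (ka xa5 ya10 za3) (ka xa8 ya7 za6) (ka xa5 ya10 za5) (ka xa7 ya5 za11) (ka xa5 ya10 za8) (ka xa7 ya3 za7) (ka xa8 ya4 za9)) (@D3.rec (fun _ => Pt) (ka xa7 ya4 za14) (ka xa8 ya6 za0) (ka xa5 ya10 za11) (ka xa5 ya10 za12) (ka xa8 ya7 za16) (ka xa6 ya5 za8) (ka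 xa5 ya10 za16) (ka xa5 ya10 za17) (ka xa6 ya0 za0) (ka xa8 ya7 za17) (ka xa8 ya2 za15) (ka xa8 ya8 za0) (ka xa8 ya8 za1) (ka xa7 ya8 za14) (ka xa7 ya8 za13) (ka xa6 ya8 za16) (ka xa7 ya3 za13) (ka xa6 ya0 za4)) (@D3.rec (fun _ => Pt) (ka xa8 ya5 za2) (ka xa8 ya6 za11) (ka xa6 ya0 za7) (ka xa8 ya2 za12) (ka xa7 ya7 za10) (ka xa6 ya0 za8) (ka xa6 ya0 za14) (ka xa8 ya6 za1) (ka xa7 ya4 za10) (ka xa8 ya0 za3) (ka xa8 ya7 za4) (ka xa8 ya0 za7) (ka xa6 ya1 za4) (ka xa8 ya4 za14) (ka xa8 ya1 za16) (ka xa6 ya1 za6) (ka xa6 ya1 za7) (ka xa7 ya4 za11)) (@D3.rec (fun _ => Pt) (ka xa8 ya8 za10) (ka xa8 ya7 za1) (ka xa6 ya1 za13) (ka xa6 ya1 za14) (ka xa8 ya8 za13) (ka xa7 ya7 za4) (ka xa7 ya5 za12) (ka xa7 ya4 za4) (ka xa6 ya2 za3) (ka xa8 ya8 za14) (ka xa8 ya8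 za11) (ka xa8 ya8 za15) (ka xa6 ya2 za6) (ka xa6 ya5 za17) (ka xa6 ya2 za15) (ka xa6 ya2 za16) (ka xa6 ya9 za15) (ka xa6 ya2 za17))
def f_a_8 : D2 → D3 → Pt := @D2.rec (fun _ => D3 → Pt) (@D3.rec (fun _ => Pt) (ka xa8 ya9 za0) (ka xa7 ya0 za8) (ka xa8 ya5 za9) (ka xa7 ya9 za9) (ka xa6 ya3 za6) (ka xa8 ya6 za10) (ka xa6 ya3 za9) (ka xa7 ya9 za11) (ka xa6 ya7 za6) (ka xa8 ya0 za17) (ka xa6 ya7 za7) (ka xa6 ya4 za1) (ka xa6 ya10 za3) (ka xa6 ya4 za9) (ka xa8 ya5 za14) (ka xa8 ya1 za12) (ka xa6 ya4 za15) (ka xa8 ya0 za9)) (@D3.rec (fun _ => Pt) (ka xa7 ya2 za15) (ka xa6 ya5 za6) (ka xa8 ya9 za6) (ka xa6 ya7 za1) (ka xa8 ya7 za9) (ka xa7 ya5 za17) (ka xa8 ya1 za6) (ka xa6 ya6 za0) (ka xa6 ya6 za1) (ka xa7 ya2 za9) (ka xa8 ya5 za15) (ka xa6 ya7 za15) (ka xa8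 ya0 za15) (ka xa7 ya3 za5) (ka xa6 ya6 za11) (ka xa8 ya9 za11) (ka xa7 ya9 za14) (ka xa8 ya6 za4)) (@D3.rec (fun _ => Pt) (ka xa8 ya6 za2) (ka xa6 ya7 za16) (ka xa6 ya7 za0) (ka xa8 ya9 za7) (ka xa7 ya2 za14) (ka xa8 ya6 za5) (ka xa6 ya7 za14) (ka xa8 ya9 za12) (ka xa6 ya8 za4) (ka xa8 ya7 za3) (ka xa8 ya9 za15) (ka xa7 ya2 za1) (ka xa7 ya9 za3) (ka xa8 ya3 za16) (ka xa8 ya4 za12) (ka xa7 ya8 za10) (ka xa8 ya3 za8) (ka xa8 ya5 za3)) (@D3.rec (fun _ => Pt) (ka xa6 ya9 za0) (ka xa6 ya9 za2) (ka xa8 ya8 za17) (ka xa7 ya6 za13) (ka xa6 ya9 za7) (ka xa6 ya9 za8) (ka xa6 ya9 za6) (ka xa8 ya8 za3) (ka xa8 ya2 za16) (ka xa8 ya10 za1) (ka xa8 ya10 za2) (ka xa8 ya10 za3) (ka xa7 ya2 za2) (ka xa8 ya8 za2) (ka xa8 ya6 za16) (ka xa6 ya9 za12) (ka xa8 ya2 za13) (ka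 xa6 ya9 za13)) (@D3.rec (fun _ => Pt) (ka xa8 ya10 za8) (ka xa8 ya4 za5) (ka xa7 ya5 za15) (ka xa6 ya10 za2) (ka xa8 ya7 za12) (ka xa8 ya4 za1) (ka xa8 ya9 za3) (ka xa6 ya10 za5) (ka xa7 ya4 za6) (ka xa7 ya7 za17) (ka xa8 ya7 za5) (ka xa7 ya4 za16) (ka xa8 ya2 za14) (ka xa7 ya0 za3) (ka xa7 ya9 za13) (ka xa8 ya4 za16) (ka xa8 ya4 za15) (ka xa7 ya7 za3)) (@D3.rec (fun _ => Pt) (ka xa7 ya0 za15) (ka xa7 ya7 za8) (ka xa7 ya9 za0) (ka xa8 ya2 za17) (ka xa7 ya1 za11) (ka xa7 ya5 za16) (ka xa7 ya3 za16) (ka xa7 ya1 za14) (ka xa7 ya6 za0) (ka xa8 ya0 za2) (ka xa8 ya7 za13) (ka xa8 ya10 za5) (ka xa8 ya10 za6) (ka xa7 ya6 za3) (ka xa8 ya0 za14) (ka xa8 ya1 za10) (ka xa8 ya5 za16) (ka xa8 ya9 za5)) (@D3.rec (fun _ => Pt) (ka xa7 ya8 za1) (ka xa7 ya9 za7) (ka xa8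 ya2 za0) (ka xa7 ya3 za3) (ka xa8 ya1 za17) (ka xa8 ya2 za5) (ka xa7 ya3 za6) (ka xa8 ya9 za10) (ka xa8 ya10 za12) (ka xa7 ya3 za10) (ka xa8 ya0 za5) (ka xa7 ya9 za1) (ka xa7 ya4 za12) (ka xa8 ya7 za15) (ka xa8 ya6 za15) (ka xa8 ya6 za14) (ka xa8 ya3 za14) (ka xa7 ya6 za9)) (@D3.rec (fun _ => Pt) (ka xa7 ya5 za8) (ka xa7 ya10 za1) (ka xa8 ya7 za10) (ka xa8 ya2 za9) (ka xa7 ya9 za10) (ka xa8 ya4 za10) (ka xa7 ya7 za12) (ka xa8 ya8 za7) (ka xa7 ya6 za16) (ka xa8 ya1 za4) (ka xa8 ya7 za2) (ka xa7 ya7 za5) (ka xa8 ya4 za4) (ka xa8 ya5 za10) (ka xa8 ya8 za9) (ka xa8 ya6 za13) (ka xa7 ya8 za4) (ka xa7 ya8 za9)) (@D3.rec (fun _ => Pt) (ka xa7 ya8 za11) (ka xa7 ya8 za12) (ka xa8 ya3 za13) (ka xa8 ya3 za7) (ka xa8 ya10 za0) (ka xa8 ya8 za6) (ka xa8 ya8 za5) (ka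 xa8 ya7 za7) (ka xa8 ya9 za2) (ka xa8 ya7 za14) (ka xa7 ya10 za0) (ka xa7 ya10 za10) (ka xa8 ya8 za16) (ka xa7 ya10 za4) (ka xa7 ya10 za9) (ka xa7 ya10 za11) (ka xa8 ya8 za12) (ka xa8 ya3 za2)) (@D3.rec (fun _ => Pt) (ka xa8 ya0 za0) (ka xa8 ya9 za16) (ka xa8 ya8 za8) (ka xa8 ya4 za6) (ka xa8 ya9 za4) (ka xa8 ya5 za17) (ka xa8 ya1 za2) (ka xa8 ya2 za3) (ka xa8 ya9 za8) (ka xa8 ya9 za9) (ka xa8 ya6 za7) (ka xa8 ya1 za15) (ka xa8 ya2 za7) (ka xa8 ya9 za13) (ka xa8 ya10 za13) (ka xa8 ya2 za10) (ka xa8 ya9 za1) (ka xa8 ya10 za4)) (@D3.rec (fun _ => Pt) (ka xa8 ya8 za4) (ka xa8 ya3 za9) (ka xa8 ya3 za10) (ka xa8 ya3 za11) (ka xa8 ya9 za17) (ka xa8 ya5 za11) (ka xa8 ya5 za12) (ka xa8 ya10 za14) (ka xa8 ya4 za0) (ka xa8 ya10 za9) (ka xa8 ya10 za10) (ka xa8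 ya10 za11) (ka xa8 ya6 za8) (ka xa8 ya9 za14) (ka xa8 ya10 za7) (ka xa8 ya10 za15) (ka xa8 ya10 za16) (ka xa8 ya10 za17))
def f_a : Pt → Pt := @Pt.rec (fun _ => Pt) (@D1.rec (fun _ => D2 → D3 → Pt) f_a_0 f_a_1 f_a_2 f_a_3 f_a_4 f_a_5 f_a_6 f_a_7 f_a_8)
def fi_a : Pt → Pt := f_a

theorem inv_chk_a : chkInv allPts beqPt f_a fi_a = true := by decide +kernel

end

end Cfsg.Agent.Helper28.S1680
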