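import Cfsg.Agent.Lib.Helper28.S1680.Defs

set_option autoImplicit false
set_option maxRecDepth 100000
set_option linter.all false

namespace Cfsg.Agent.Helper28.S1680

open Cfsg.Agent.Helper28
open Cfsg.Spor.Suz (Gen)

noncomputable section

abbrev kg := Pt.mk
abbrev xg0 := D1.c0
abbrev xg1 := D1.c1
abbrev xg2 := D1.c2
abbrev xg3 := D1.c3
abbrev xg4 := D1.c4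
abbrev xg5 := D1.c5
abbrev xg6 := D1.c6
abbrev xg7 := D1.c7
abbrev xg8 := D1.c8
abbrev yg0 := D2.c0
abbrev yg1 := D2.c1
abbrev yg2 := D2.c2
abbrev yg3 := D2.c3
abbrev yg4 := D2.c4
abbrev yg5 := D2.c5
abbrev yg6 := D2.c6
abbrev yg7 := D2.c7
abbrev yg8 := D2.c8
abbrev yg9 := D2.c9
abbrev yg10 := D2.c10
abbrev zg0 := D3.c0
abbrev zg1 := D3.c1
abbrev zg2 := D3.c2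
abbrev zg3 := D3.c3
abbrev zg4 := D3.c4
abbrev zg5 := D3.c5
abbrev zg6 := D3.c6
abbrev zg7 := D3.c7
abbrev zg8 := D3.c8
abbrev zg9 := D3.c9
abbrev zg10 := D3.c10
abbrev zg11 := D3.c11
abbrev zg12 := D3.c12
abbrev zg13 := D3.c13
abbrev zg14 := D3.c14
abbrev zg15 := D3.c15
abbrev zg16 := D3.c16
abbrev zg17 := D3.c17
def f_g_0 : D2 → D3 → Pt := @D2.rec (fun _ => D3 → Pt) (@D3.rec (fun _ => Pt) (kg xg0 yg0 zg1) (kg xg0 yg0 zg0) (kg xg0 yg0 zg2) (kg xg0 yg0 zg3) (kg xg0 yg0 zg4) (kg xg0 yg0 zg6) (kg xg0 yg0 zg5) (kg xg0 yg0 zg7) (kg xg0 yg0 zg8) (kg xg0 yg0 zg10) (kg xg0 yg0 zg9) (kg xg0 yg1 zg4) (kg xg0 yg0 zg12) (kg xg0 yg0 zg13) (kg xg0 yg0 zg14) (kg xg0 yg1 zg0) (kg xg0 yg1 zg12) (kg xg0 yg1 zg1)) (@D3.rec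 (fun _ => Pt) (kg xg0 yg0 zg15) (kg xg0 yg0 zg17) (kg xg0 yg2 zg4) (kg xg0 yg1 zg14) (kg xg0 yg0 zg11) (kg xg0 yg1 zg5) (kg xg0 yg1 zg6) (kg xg0 yg2 zg11) (kg xg0 yg1 zg8) (kg xg0 yg1 zg15) (kg xg0 yg1 zg16) (kg xg0 yg2 zg16) (kg xg0 yg0 zg16) (kg xg0 yg1 zg17) (kg xg0 yg1 zg3) (kg xg0 yg1 zg9) (kg xg0 yg1 zg10) (kg xg0 yg1 zg13)) (@D3.rec (fun _ => Pt) (kg xg0 yg2 zg5) (kg xg0 yg3 zg10) (kg xg0 yg3 zg12) (kg xg0 yg3 zg1) (kg xg0 yg1 zg2) (kg xg0 yg2 zg0) (kg xg0 yg4 zg0) (kg xg0 yg2 zg7) (kg xg0 yg4 zg4) (kg xg0 yg4 zg7) (kg xg0 yg4 zg9) (kg xg0 yg1 zg7) (kg xg0 yg2 zg12) (kg xg0 yg3 zg3) (kg xg0 yg2 zg17) (kg xg0 yg4 zg14) (kg xg0 yg1 zg11) (kg xg0 yg2 zg14)) (@D3.rec (fun _ => Pt) (kg xg0 yg3 zg4) (kg xg0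 yg2 zg3) (kg xg0 yg4 zg15) (kg xg0 yg2 zg13) (kg xg0 yg3 zg0) (kg xg0 yg3 zg13) (kg xg0 yg5 zg9) (kg xg0 yg5 zg10) (kg xg0 yg5 zg15) (kg xg0 yg4 zg17) (kg xg0 yg2 zg1) (kg xg0 yg5 zg0) (kg xg0 yg2 zg2) (kg xg0 yg3 zg5) (kg xg0 yg3 zg14) (kg xg0 yg6 zg4) (kg xg0 yg6 zg7) (kg xg0 yg6 zg8)) (@D3.rec (fun _ => Pt) (kg xg0 yg2 zg6) (kg xg0 yg4 zg1) (kg xg0 yg6 zg13) (kg xg0 yg4 zg10) (kg xg0 yg2 zg8) (kg xg0 yg6 zg17) (kg xg0 yg7 zg1) (kg xg0 yg2 zg9) (kg xg0 yg5 zg17) (kg xg0 yg2 zg10) (kg xg0 yg4 zg3) (kg xg0 yg4 zg11) (kg xg0 yg5 zg3) (kg xg0 yg4 zg16) (kg xg0 yg2 zg15) (kg xg0 yg3 zg2) (kg xg0 yg4 zg13) (kg xg0 yg3 zg9)) (@D3.rec (fun _ => Pt) (kg xg0 yg3 zg11) (kg xg0 yg7 zg8) (kg xg0 yg7 zg15) (kg xg0 yg4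 zg12) (kg xg0 yg6 zg0) (kg xg0 yg8 zg2) (kg xg0 yg8 zg5) (kg xg0 yg8 zg8) (kg xg0 yg8 zg10) (kg xg0 yg3 zg6) (kg xg0 yg3 zg7) (kg xg0 yg8 zg12) (kg xg0 yg7 zg9) (kg xg0 yg9 zg0) (kg xg0 yg7 zg11) (kg xg0 yg3 zg8) (kg xg0 yg9 zg4) (kg xg0 yg4 zg8)) (@D3.rec (fun _ => Pt) (kg xg0 yg5 zg4) (kg xg0 yg6 zg1) (kg xg0 yg9 zg10) (kg xg0 yg6 zg9) (kg xg0 yg3 zg15) (kg xg0 yg9 zg14) (kg xg0 yg9 zg15) (kg xg0 yg3 zg16) (kg xg0 yg3 zg17) (kg xg0 yg6 zg3) (kg xg0 yg6 zg10) (kg xg0 yg10 zg4) (kg xg0 yg7 zg2) (kg xg0 yg4 zg2) (kg xg0 yg10 zg8) (kg xg0 yg10 zg12) (kg xg0 yg10 zg14) (kg xg0 yg4 zg5)) (@D3.rec (fun _ => Pt) (kg xg0 yg9 zg2) (kg xg0 yg4 zg6) (kg xg0 yg6 zg12) (kg xg0 yg9 zg5) (kg xg1 yg0 zg4) (kg xg1 yg0 zg7)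 (kg xg0 yg7 zg16) (kg xg0 yg7 zg10) (kg xg0 yg5 zg1) (kg xg0 yg5 zg12) (kg xg0 yg7 zg7) (kg xg0 yg5 zg14) (kg xg1 yg0 zg17) (kg xg1 yg0 zg10) (kg xg1 yg1 zg2) (kg xg0 yg5 zg2) (kg xg0 yg7 zg6) (kg xg1 yg1 zg7)) (@D3.rec (fun _ => Pt) (kg xg1 yg1 zg10) (kg xg0 yg8 zg11) (kg xg0 yg5 zg5) (kg xg1 yg1 zg15) (kg xg1 yg1 zg17) (kg xg0 yg5 zg6) (kg xg1 yg2 zg3) (kg xg1 yg2 zg5) (kg xg0 yg5 zg7) (kg xg1 yg1 zg16) (kg xg0 yg5 zg8) (kg xg0 yg8 zg1) (kg xg0 yg5 zg11) (kg xg1 yg2 zg8) (kg xg1 yg0 zg11) (kg xg0 yg9 zg3) (kg xg1 yg2 zg15) (kg xg1 yg0 zg14)) (@D3.rec (fun _ => Pt) (kg xg0 yg5 zg13) (kg xg1 yg3 zg1) (kg xg0 yg7 zg0) (kg xg0 yg8 zg15) (kg xg0 yg5 zg16) (kg xg0 yg7 zg3) (kg xg0 yg9 zg6) (kg xg0 yg9 zg7) (kg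 xg1 yg3 zg11) (kg xg0 yg9 zg16) (kg xg0 yg6 zg2) (kg xg1 yg3 zg15) (kg xg1 yg4 zg1) (kg xg1 yg4 zg2) (kg xg0 yg6 zg5) (kg xg0 yg6 zg6) (kg xg0 yg9 zg9) (kg xg1 yg1 zg3)) (@D3.rec (fun _ => Pt) (kg xg1 yg4 zg9) (kg xg1 yg4 zg12) (kg xg1 yg4 zg16) (kg xg0 yg10 zg15) (kg xg0 yg6 zg11) (kg xg1 yg5 zg2) (kg xg1 yg0 zg2) (kg xg1 yg5 zg6) (kg xg0 yg6 zg14) (kg xg1 yg5 zg10) (kg xg1 yg5 zg13) (kg xg1 yg5 zg15) (kg xg0 yg6 zg15) (kg xg1 yg2 zg17) (kg xg0 yg6 zg16) (kg xg0 yg10 zg3) (kg xg1 yg3 zg2) (kg xg1 yg6 zg7))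
def f_g_1 : D2 → D3 → Pt := @D2.rec (fun _ => D3 → Pt) (@D3.rec (fun _ => Pt) (kg xg1 yg3 zg5) (kg xg1 yg3 zg6) (kg xg0 yg10 zg6) (kg xg1 yg6 zg12) (kg xg0 yg7 zg4) (kg xg1 yg6 zg15) (kg xg1 yg6 zg17) (kg xg0 yg7 zg5) (kg xg1 yg7 zg3) (kg xg1 yg0 zg13) (kg xg0 yg7 zg13) (kg xg0 yg8 zg14) (kg xg1 yg3 zg3) (kg xg1 yg0 zg9) (kg xg0 yg8 zg17) (kg xg1 yg7 zg11) (kg xg1 yg2 zg12) (kg xg0 yg7 zg12)) (@D3.rec (fun _ => Pt) (kg xg1 yg7 zg4) (kg xg1 yg7 zg15) (kg xg0 yg7 zg14) (kg xg0 yg9 zg17) (kg xg1 yg8 zg1) (kg xg1 yg8 zg4) (kg xg1 yg2 zg0) (kg xg0 yg7 zg17) (kg xg1 yg8 zg8) (kg xg1 yg2 zg6) (kg xg0 yg8 zg0) (kg xg1 yg5 zg3) (kg xg1 yg8 zg5) (kg xg1 yg8 zg13) (kg xg1 yg8 zg15) (kg xg0 yg8 zg3) (kg xg0 yg8 zg9) (kg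 xg0 yg8 zg4)) (@D3.rec (fun _ => Pt) (kg xg1 yg1 zg6) (kg xg1 yg9 zg2) (kg xg1 yg9 zg4) (kg xg0 yg8 zg6) (kg xg1 yg8 zg14) (kg xg0 yg8 zg7) (kg xg1 yg1 zg9) (kg xg1 yg3 zg4) (kg xg0 yg8 zg13) (kg xg1 yg9 zg7) (kg xg1 yg7 zg5) (kg xg1 yg3 zg0) (kg xg1 yg0 zg16) (kg xg1 yg9 zg15) (kg xg1 yg7 zg8) (kg xg0 yg8 zg16) (kg xg1 yg10 zg3) (kg xg0 yg10 zg13)) (@D3.rec (fun _ => Pt) (kg xg1 yg2 zg11) (kg xg0 yg9 zg1) (kg xg0 yg10 zg16) (kg xg1 yg0 zg12) (kg xg1 yg2 zg7) (kg xg1 yg0 zg0) (kg xg1 yg0 zg1) (kg xg1 yg3 zg7) (kg xg1 yg3 zg8) (kg xg1 yg10 zg14) (kg xg1 yg4 zg3) (kg xg0 yg9 zg8) (kg xg2 yg0 zg0) (kg xg1 yg4 zg7) (kg xg1 yg4 zg6) (kg xg0 yg9 zg11) (kg xg2 yg0 zg4) (kg xg2 yg0 zg8)) (@D3.rec (fun _ => Pt) (kg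 xg2 yg0 zg10) (kg xg0 yg9 zg12) (kg xg0 yg9 zg13) (kg xg1 yg3 zg10) (kg xg1 yg7 zg16) (kg xg2 yg1 zg0) (kg xg1 yg3 zg14) (kg xg1 yg3 zg13) (kg xg2 yg1 zg2) (kg xg0 yg10 zg0) (kg xg2 yg1 zg5) (kg xg2 yg1 zg6) (kg xg0 yg10 zg1) (kg xg2 yg1 zg11) (kg xg2 yg1 zg14) (kg xg1 yg5 zg17) (kg xg0 yg10 zg2) (kg xg2 yg2 zg1)) (@D3.rec (fun _ => Pt) (kg xg1 yg6 zg5) (kg xg2 yg2 zg4) (kg xg0 yg10 zg5) (kg xg1 yg1 zg11) (kg xg1 yg6 zg10) (kg xg2 yg2 zg6) (kg xg0 yg10 zg7) (kg xg2 yg2 zg11) (kg xg2 yg2 zg15) (kg xg2 yg2 zg17) (kg xg0 yg10 zg9) (kg xg2 yg3 zg3) (kg xg2 yg3 zg5) (kg xg0 yg10 zg10) (kg xg2 yg3 zg10) (kg xg0 yg10 zg11) (kg xg2 yg3 zg0) (kg xg1 yg4 zg15)) (@D3.rec (fun _ => Pt) (kg xg1 yg10 zg0) (kg xg1 yg10 zg4)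 (kg xg2 yg3 zg16) (kg xg1 yg10 zg7) (kg xg1 yg10 zg8) (kg xg1 yg5 zg0) (kg xg2 yg4 zg1) (kg xg0 yg10 zg17) (kg xg1 yg10 zg9) (kg xg1 yg10 zg10) (kg xg1 yg5 zg4) (kg xg2 yg4 zg5) (kg xg1 yg0 zg3) (kg xg1 yg7 zg1) (kg xg1 yg7 zg0) (kg xg1 yg0 zg5) (kg xg2 yg4 zg8) (kg xg1 yg0 zg6)) (@D3.rec (fun _ => Pt) (kg xg1 yg6 zg14) (kg xg1 yg6 zg13) (kg xg2 yg4 zg16) (kg xg1 yg0 zg8) (kg xg1 yg1 zg0) (kg xg1 yg2 zg10) (kg xg1 yg10 zg5) (kg xg2 yg5 zg6) (kg xg1 yg2 zg14) (kg xg2 yg5 zg10) (kg xg1 yg9 zg12) (kg xg1 yg0 zg15) (kg xg2 yg5 zg14) (kg xg2 yg5 zg1) (kg xg2 yg6 zg0) (kg xg1 yg1 zg1) (kg xg1 yg4 zg4) (kg xg2 yg1 zg3)) (@D3.rec (fun _ => Pt) (kg xg2 yg6 zg4) (kg xg1 yg1 zg4) (kg xg2 yg6 zg8) (kg xg1 yg8 zg16) (kg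 xg1 yg1 zg5) (kg xg1 yg1 zg12) (kg xg2 yg6 zg12) (kg xg1 yg9 zg5) (kg xg1 yg1 zg8) (kg xg2 yg2 zg2) (kg xg2 yg6 zg9) (kg xg2 yg7 zg0) (kg xg2 yg7 zg2) (kg xg1 yg1 zg13) (kg xg1 yg2 zg4) (kg xg1 yg1 zg14) (kg xg1 yg8 zg3) (kg xg2 yg7 zg7)) (@D3.rec (fun _ => Pt) (kg xg2 yg7 zg10) (kg xg2 yg7 zg12) (kg xg1 yg2 zg1) (kg xg2 yg7 zg1) (kg xg1 yg2 zg2) (kg xg1 yg8 zg7) (kg xg1 yg10 zg6) (kg xg1 yg2 zg9) (kg xg2 yg8 zg3) (kg xg2 yg5 zg15) (kg xg2 yg5 zg2) (kg xg1 yg10 zg1) (kg xg1 yg7 zg10) (kg xg2 yg8 zg10) (kg xg2 yg8 zg12) (kg xg1 yg2 zg13) (kg xg2 yg8 zg17) (kg xg2 yg8 zg13)) (@D3.rec (fun _ => Pt) (kg xg1 yg6 zg0) (kg xg1 yg9 zg11) (kg xg2 yg9 zg6) (kg xg1 yg2 zg16) (kg xg1 yg6 zg1) (kg xg1 yg7 zg6) (kg xg1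 yg9 zg6) (kg xg1 yg6 zg3) (kg xg1 yg6 zg4) (kg xg1 yg6 zg8) (kg xg1 yg6 zg9) (kg xg2 yg9 zg15) (kg xg2 yg10 zg0) (kg xg2 yg0 zg12) (kg xg1 yg3 zg9) (kg xg2 yg10 zg5) (kg xg2 yg0 zg16) (kg xg2 yg0 zg15))
def f_g_2 : D2 → D3 → Pt := @D2.rec (fun _ => D3 → Pt) (@D3.rec (fun _ => Pt) (kg xg1 yg3 zg12) (kg xg2 yg10 zg10) (kg xg2 yg10 zg14) (kg xg2 yg10 zg16) (kg xg1 yg3 zg16) (kg xg3 yg0 zg4) (kg xg3 yg0 zg6) (kg xg3 yg0 zg8) (kg xg1 yg3 zg17) (kg xg3 yg0 zg12) (kg xg1 yg4 zg0) (kg xg2 yg10 zg17) (kg xg1 yg10 zg13) (kg xg2 yg6 zg1) (kg xg3 yg1 zg0) (kg xg1 yg10 zg17) (kg xg1 yg10 zg16) (kg xg3 yg1 zg1)) (@D3.rec (fun _ => Pt) (kg xg1 yg4 zg5) (kg xg3 yg1 zg3) (kg xg1 yg4 zg8) (kg xg1 yg7 zg17) (kg xg2 yg1 zg7)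 (kg xg1 yg4 zg10) (kg xg1 yg4 zg11) (kg xg2 yg1 zg4) (kg xg3 yg1 zg11) (kg xg3 yg1 zg12) (kg xg3 yg1 zg16) (kg xg1 yg4 zg13) (kg xg3 yg2 zg2) (kg xg2 yg3 zg7) (kg xg1 yg4 zg14) (kg xg3 yg2 zg7) (kg xg3 yg1 zg17) (kg xg2 yg3 zg14)) (@D3.rec (fun _ => Pt) (kg xg3 yg2 zg12) (kg xg1 yg4 zg17) (kg xg1 yg8 zg9) (kg xg2 yg4 zg0) (kg xg1 yg5 zg1) (kg xg2 yg4 zg3) (kg xg1 yg5 zg5) (kg xg2 yg2 zg7) (kg xg3 yg3 zg1) (kg xg3 yg3 zg5) (kg xg2 yg3 zg1) (kg xg1 yg5 zg7) (kg xg3 yg2 zg4) (kg xg3 yg3 zg10) (kg xg3 yg3 zg12) (kg xg1 yg5 zg8) (kg xg3 yg3 zg17) (kg xg1 yg5 zg9)) (@D3.rec (fun _ => Pt) (kg xg1 yg5 zg16) (kg xg2 yg2 zg10) (kg xg3 yg4 zg2) (kg xg1 yg5 zg11) (kg xg3 yg4 zg7) (kg xg1 yg5 zg12) (kg xg3 yg3 zg13) (kg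 xg2 yg1 zg13) (kg xg3 yg4 zg11) (kg xg3 yg4 zg12) (kg xg1 yg5 zg14) (kg xg3 yg4 zg13) (kg xg2 yg9 zg8) (kg xg2 yg9 zg9) (kg xg2 yg1 zg17) (kg xg3 yg5 zg2) (kg xg1 yg6 zg2) (kg xg2 yg9 zg10)) (@D3.rec (fun _ => Pt) (kg xg2 yg2 zg3) (kg xg1 yg6 zg6) (kg xg2 yg9 zg11) (kg xg2 yg2 zg5) (kg xg3 yg5 zg5) (kg xg1 yg6 zg11) (kg xg2 yg4 zg6) (kg xg2 yg4 zg15) (kg xg1 yg6 zg16) (kg xg3 yg5 zg11) (kg xg2 yg4 zg14) (kg xg2 yg4 zg17) (kg xg3 yg5 zg7) (kg xg3 yg5 zg8) (kg xg2 yg4 zg10) (kg xg2 yg4 zg7) (kg xg1 yg7 zg2) (kg xg2 yg4 zg11)) (@D3.rec (fun _ => Pt) (kg xg2 yg5 zg4) (kg xg1 yg7 zg13) (kg xg1 yg9 zg10) (kg xg2 yg9 zg3) (kg xg2 yg5 zg0) (kg xg3 yg6 zg9) (kg xg1 yg7 zg7) (kg xg3 yg7 zg0) (kg xg2 yg8 zg7) (kg xg3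 yg7 zg3) (kg xg1 yg7 zg9) (kg xg3 yg1 zg4) (kg xg3 yg7 zg9) (kg xg3 yg7 zg11) (kg xg1 yg7 zg12) (kg xg1 yg9 zg9) (kg xg3 yg7 zg14) (kg xg3 yg7 zg17)) (@D3.rec (fun _ => Pt) (kg xg1 yg7 zg14) (kg xg2 yg0 zg13) (kg xg3 yg1 zg6) (kg xg2 yg6 zg5) (kg xg1 yg8 zg0) (kg xg2 yg6 zg3) (kg xg3 yg8 zg11) (kg xg2 yg7 zg3) (kg xg1 yg8 zg2) (kg xg1 yg8 zg10) (kg xg2 yg6 zg10) (kg xg2 yg7 zg14) (kg xg1 yg8 zg6) (kg xg3 yg2 zg10) (kg xg3 yg8 zg12) (kg xg3 yg9 zg2) (kg xg3 yg9 zg5) (kg xg3 yg9 zg7)) (@D3.rec (fun _ => Pt) (kg xg1 yg8 zg11) (kg xg1 yg9 zg3) (kg xg1 yg8 zg12) (kg xg2 yg6 zg7) (kg xg3 yg9 zg13) (kg xg2 yg10 zg7) (kg xg3 yg8 zg15) (kg xg1 yg8 zg17) (kg xg3 yg3 zg6) (kg xg3 yg10 zg1) (kg xg1 yg9 zg0) (kg xg3 yg10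 zg5) (kg xg1 yg9 zg1) (kg xg2 yg10 zg8) (kg xg2 yg6 zg11) (kg xg2 yg9 zg7) (kg xg3 yg9 zg10) (kg xg3 yg10 zg13)) (@D3.rec (fun _ => Pt) (kg xg3 yg10 zg17) (kg xg4 yg0 zg2) (kg xg4 yg0 zg4) (kg xg1 yg9 zg8) (kg xg3 yg6 zg10) (kg xg4 yg0 zg9) (kg xg2 yg9 zg4) (kg xg2 yg5 zg8) (kg xg3 yg10 zg14) (kg xg2 yg8 zg14) (kg xg1 yg9 zg13) (kg xg4 yg1 zg0) (kg xg1 yg9 zg14) (kg xg1 yg9 zg17) (kg xg2 yg8 zg9) (kg xg4 yg1 zg5) (kg xg4 yg1 zg7) (kg xg1 yg9 zg16)) (@D3.rec (fun _ => Pt) (kg xg3 yg6 zg8) (kg xg4 yg1 zg11) (kg xg4 yg1 zg14) (kg xg2 yg5 zg3) (kg xg2 yg8 zg6) (kg xg4 yg2 zg2) (kg xg1 yg10 zg2) (kg xg2 yg7 zg15) (kg xg2 yg3 zg12) (kg xg2 yg3 zg13) (kg xg2 yg3 zg17) (kg xg2 yg4 zg2) (kg xg4 yg2 zg9) (kg xg4 yg2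 zg13) (kg xg4 yg2 zg15) (kg xg1 yg10 zg11) (kg xg4 yg3 zg1) (kg xg3 yg0 zg10)) (@D3.rec (fun _ => Pt) (kg xg1 yg10 zg12) (kg xg4 yg3 zg6) (kg xg4 yg2 zg16) (kg xg3 yg0 zg16) (kg xg4 yg3 zg11) (kg xg1 yg10 zg15) (kg xg3 yg0 zg14) (kg xg2 yg7 zg5) (kg xg2 yg7 zg13) (kg xg3 yg0 zg0) (kg xg2 yg0 zg1) (kg xg3 yg2 zg8) (kg xg4 yg4 zg4) (kg xg3 yg10 zg7) (kg xg2 yg0 zg2) (kg xg4 yg4 zg9) (kg xg2 yg0 zg3) (kg xg2 yg0 zg11))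
def f_g_3 : D2 → D3 → Pt := @D2.rec (fun _ => D3 → Pt) (@D3.rec (fun _ => Pt) (kg xg2 yg10 zg9) (kg xg3 yg0 zg1) (kg xg4 yg4 zg16) (kg xg3 yg10 zg2) (kg xg2 yg0 zg5) (kg xg4 yg5 zg1) (kg xg2 yg0 zg6) (kg xg4 yg5 zg6) (kg xg2 yg0 zg7) (kg xg4 yg4 zg6) (kg xg2 yg9 zg17) (kg xg4 yg5 zg9) (kg xg2 yg0 zg9) (kg xg4 yg5 zg10) (kg xg2 yg10 zg6) (kg xg3 yg8 zg1) (kg xg2 yg10 zg3) (kg xg4 yg6 zg0)) (@D3.rec (fun _ => Pt) (kg xg2 yg0 zg14) (kg xg2 yg0 zg17) (kg xg4 yg6 zg1) (kg xg2 yg1 zg1) (kg xg2 yg5 zg11) (kg xg4 yg6 zg4) (kg xg2 yg6 zg2) (kg xg3 yg8 zg6) (kg xg4 yg6 zg10) (kg xg4 yg6 zg12) (kg xg3 yg2 zg0) (kg xg2 yg1 zg8) (kg xg2 yg1 zg9) (kg xg4 yg6 zg15) (kg xg4 yg7 zg1) (kg xg4 yg7 zg4) (kg xg2 yg1 zg10) (kg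 xg2 yg1 zg16)) (@D3.rec (fun _ => Pt) (kg xg3 yg1 zg10) (kg xg3 yg4 zg4) (kg xg2 yg1 zg12) (kg xg4 yg7 zg11) (kg xg2 yg2 zg12) (kg xg4 yg7 zg16) (kg xg4 yg8 zg0) (kg xg2 yg1 zg15) (kg xg2 yg10 zg11) (kg xg4 yg4 zg2) (kg xg2 yg6 zg13) (kg xg3 yg5 zg1) (kg xg2 yg2 zg0) (kg xg3 yg2 zg13) (kg xg3 yg2 zg14) (kg xg4 yg0 zg0) (kg xg3 yg10 zg15) (kg xg4 yg8 zg11)) (@D3.rec (fun _ => Pt) (kg xg3 yg4 zg9) (kg xg2 yg2 zg8) (kg xg4 yg7 zg12) (kg xg4 yg8 zg17) (kg xg3 yg3 zg14) (kg xg2 yg2 zg9) (kg xg2 yg7 zg8) (kg xg4 yg7 zg8) (kg xg4 yg9 zg4) (kg xg4 yg9 zg6) (kg xg2 yg2 zg13) (kg xg4 yg9 zg11) (kg xg2 yg2 zg14) (kg xg2 yg3 zg6) (kg xg3 yg3 zg4) (kg xg3 yg4 zg14) (kg xg4 yg9 zg14) (kg xg2 yg2 zg16)) (@D3.rec (fun _ =>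 Pt) (kg xg4 yg9 zg15) (kg xg4 yg10 zg3) (kg xg2 yg3 zg2) (kg xg4 yg9 zg7) (kg xg3 yg2 zg1) (kg xg4 yg10 zg7) (kg xg4 yg7 zg0) (kg xg2 yg3 zg4) (kg xg4 yg10 zg8) (kg xg3 yg3 zg0) (kg xg4 yg10 zg12) (kg xg2 yg3 zg8) (kg xg2 yg3 zg9) (kg xg2 yg3 zg11) (kg xg3 yg3 zg15) (kg xg4 yg10 zg14) (kg xg4 yg10 zg15) (kg xg4 yg7 zg6)) (@D3.rec (fun _ => Pt) (kg xg4 yg2 zg5) (kg xg3 yg2 zg11) (kg xg2 yg3 zg15) (kg xg3 yg5 zg3) (kg xg3 yg5 zg4) (kg xg2 yg4 zg4) (kg xg3 yg5 zg6) (kg xg2 yg4 zg12) (kg xg2 yg4 zg13) (kg xg3 yg6 zg1) (kg xg4 yg8 zg4) (kg xg2 yg4 zg9) (kg xg3 yg6 zg2) (kg xg3 yg6 zg3) (kg xg5 yg0 zg16) (kg xg5 yg1 zg2) (kg xg3 yg6 zg6) (kg xg5 yg0 zg7)) (@D3.rec (fun _ => Pt) (kg xg5 yg0 zg8) (kg xg3 yg5 zg9)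 (kg xg3 yg5 zg12) (kg xg3 yg5 zg13) (kg xg5 yg0 zg14) (kg xg5 yg1 zg12) (kg xg3 yg5 zg16) (kg xg5 yg1 zg16) (kg xg2 yg9 zg0) (kg xg2 yg5 zg5) (kg xg2 yg8 zg4) (kg xg5 yg2 zg3) (kg xg4 yg1 zg15) (kg xg3 yg6 zg15) (kg xg5 yg2 zg8) (kg xg3 yg6 zg13) (kg xg5 yg2 zg12) (kg xg5 yg2 zg14)) (@D3.rec (fun _ => Pt) (kg xg2 yg5 zg7) (kg xg4 yg0 zg11) (kg xg5 yg2 zg17) (kg xg2 yg5 zg9) (kg xg4 yg2 zg10) (kg xg4 yg3 zg14) (kg xg3 yg7 zg12) (kg xg4 yg3 zg13) (kg xg5 yg3 zg6) (kg xg2 yg5 zg12) (kg xg5 yg3 zg9) (kg xg2 yg5 zg13) (kg xg3 yg7 zg6) (kg xg3 yg10 zg11) (kg xg2 yg5 zg16) (kg xg5 yg3 zg16) (kg xg5 yg4 zg0) (kg xg2 yg5 zg17)) (@D3.rec (fun _ => Pt) (kg xg5 yg4 zg1) (kg xg3 yg0 zg15) (kg xg4 yg6 zg5) (kg xg4 yg3 zg3)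 (kg xg5 yg4 zg11) (kg xg5 yg0 zg17) (kg xg3 yg1 zg7) (kg xg5 yg4 zg17) (kg xg3 yg8 zg8) (kg xg5 yg5 zg4) (kg xg3 yg9 zg9) (kg xg2 yg6 zg6) (kg xg2 yg6 zg14) (kg xg3 yg8 zg13) (kg xg5 yg5 zg6) (kg xg2 yg7 zg6) (kg xg4 yg8 zg3) (kg xg5 yg5 zg10)) (@D3.rec (fun _ => Pt) (kg xg4 yg8 zg9) (kg xg5 yg5 zg5) (kg xg2 yg6 zg15) (kg xg4 yg9 zg0) (kg xg5 yg5 zg17) (kg xg2 yg6 zg16) (kg xg5 yg6 zg3) (kg xg2 yg6 zg17) (kg xg4 yg3 zg16) (kg xg3 yg8 zg10) (kg xg2 yg7 zg16) (kg xg4 yg2 zg7) (kg xg3 yg9 zg16) (kg xg2 yg7 zg4) (kg xg4 yg4 zg17) (kg xg3 yg10 zg8) (kg xg3 yg9 zg12) (kg xg5 yg6 zg13)) (@D3.rec (fun _ => Pt) (kg xg5 yg6 zg16) (kg xg2 yg7 zg9) (kg xg3 yg0 zg3) (kg xg5 yg7 zg3) (kg xg5 yg1 zg5) (kg xg2 yg7 zg11) (kg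 xg5 yg7 zg4) (kg xg2 yg10 zg13) (kg xg3 yg9 zg15) (kg xg4 yg2 zg4) (kg xg5 yg6 zg7) (kg xg3 yg7 zg13) (kg xg5 yg3 zg12) (kg xg2 yg7 zg17) (kg xg2 yg8 zg8) (kg xg3 yg2 zg16) (kg xg4 yg0 zg5) (kg xg2 yg8 zg0))
def f_g_4 : D2 → D3 → Pt := @D2.rec (fun _ => D3 → Pt) (@D3.rec (fun _ => Pt) (kg xg3 yg2 zg15) (kg xg4 yg8 zg7) (kg xg2 yg8 zg1) (kg xg5 yg8 zg2) (kg xg2 yg8 zg2) (kg xg3 yg10 zg16) (kg xg5 yg8 zg6) (kg xg5 yg8 zg9) (kg xg5 yg8 zg11) (kg xg2 yg8 zg5) (kg xg4 yg1 zg17) (kg xg3 yg7 zg1) (kg xg4 yg0 zg13) (kg xg4 yg0 zg12) (kg xg5 yg8 zg17) (kg xg5 yg9 zg3) (kg xg4 yg1 zg8) (kg xg4 yg7 zg17)) (@D3.rec (fun _ => Pt) (kg xg2 yg8 zg11) (kg xg4 yg1 zg9) (kg xg5 yg9 zg8) (kg xg5 yg9 zg11) (kg xg5 yg9 zg14) (kg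 xg2 yg8 zg15) (kg xg5 yg9 zg17) (kg xg2 yg8 zg16) (kg xg4 yg0 zg16) (kg xg4 yg1 zg1) (kg xg5 yg10 zg6) (kg xg2 yg9 zg1) (kg xg5 yg10 zg10) (kg xg5 yg10 zg12) (kg xg2 yg9 zg2) (kg xg3 yg6 zg12) (kg xg6 yg0 zg0) (kg xg4 yg0 zg10)) (@D3.rec (fun _ => Pt) (kg xg5 yg8 zg14) (kg xg6 yg0 zg3) (kg xg2 yg9 zg5) (kg xg5 yg10 zg0) (kg xg3 yg10 zg9) (kg xg3 yg5 zg0) (kg xg4 yg4 zg13) (kg xg3 yg9 zg11) (kg xg4 yg2 zg17) (kg xg2 yg9 zg12) (kg xg3 yg7 zg4) (kg xg5 yg1 zg8) (kg xg5 yg6 zg8) (kg xg2 yg9 zg13) (kg xg6 yg1 zg1) (kg xg2 yg9 zg14) (kg xg2 yg10 zg2) (kg xg4 yg2 zg8)) (@D3.rec (fun _ => Pt) (kg xg4 yg5 zg3) (kg xg2 yg9 zg16) (kg xg6 yg1 zg7) (kg xg3 yg8 zg3) (kg xg6 yg1 zg12) (kg xg6 yg1 zg14) (kg xg2 yg10 zg1)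 (kg xg4 yg4 zg1) (kg xg6 yg0 zg12) (kg xg4 yg5 zg17) (kg xg6 yg2 zg1) (kg xg2 yg10 zg4) (kg xg4 yg5 zg15) (kg xg3 yg7 zg7) (kg xg3 yg7 zg5) (kg xg4 yg5 zg8) (kg xg3 yg9 zg8) (kg xg4 yg4 zg7)) (@D3.rec (fun _ => Pt) (kg xg4 yg4 zg0) (kg xg4 yg3 zg7) (kg xg3 yg2 zg9) (kg xg5 yg6 zg5) (kg xg2 yg10 zg12) (kg xg5 yg7 zg1) (kg xg3 yg0 zg9) (kg xg4 yg3 zg17) (kg xg4 yg5 zg11) (kg xg2 yg10 zg15) (kg xg5 yg6 zg14) (kg xg4 yg4 zg11) (kg xg4 yg4 zg12) (kg xg4 yg2 zg6) (kg xg6 yg2 zg13) (kg xg4 yg9 zg1) (kg xg3 yg0 zg2) (kg xg3 yg9 zg14)) (@D3.rec (fun _ => Pt) (kg xg6 yg2 zg16) (kg xg3 yg0 zg5) (kg xg6 yg2 zg7) (kg xg4 yg3 zg0) (kg xg6 yg3 zg1) (kg xg6 yg3 zg2) (kg xg3 yg0 zg7) (kg xg6 yg3 zg3) (kg xg4 yg3 zg15) (kg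 xg3 yg0 zg11) (kg xg3 yg0 zg13) (kg xg4 yg4 zg8) (kg xg6 yg3 zg8) (kg xg6 yg3 zg9) (kg xg6 yg1 zg3) (kg xg4 yg3 zg12) (kg xg5 yg4 zg6) (kg xg4 yg3 zg9)) (@D3.rec (fun _ => Pt) (kg xg3 yg0 zg17) (kg xg3 yg1 zg2) (kg xg4 yg6 zg9) (kg xg6 yg2 zg2) (kg xg3 yg1 zg5) (kg xg3 yg8 zg2) (kg xg5 yg4 zg8) (kg xg5 yg4 zg13) (kg xg5 yg4 zg14) (kg xg4 yg6 zg2) (kg xg3 yg1 zg8) (kg xg6 yg4 zg8) (kg xg3 yg1 zg9) (kg xg6 yg4 zg11) (kg xg4 yg6 zg16) (kg xg3 yg1 zg13) (kg xg4 yg6 zg14) (kg xg6 yg4 zg16)) (@D3.rec (fun _ => Pt) (kg xg3 yg4 zg6) (kg xg3 yg1 zg14) (kg xg4 yg8 zg1) (kg xg5 yg9 zg13) (kg xg3 yg1 zg15) (kg xg4 yg8 zg2) (kg xg3 yg4 zg17) (kg xg6 yg5 zg3) (kg xg3 yg3 zg7) (kg xg4 yg9 zg10) (kg xg4 yg9 zg9) (kg xg3 yg2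 zg3) (kg xg3 yg3 zg2) (kg xg4 yg8 zg15) (kg xg6 yg5 zg9) (kg xg6 yg5 zg11) (kg xg3 yg2 zg5) (kg xg4 yg0 zg17)) (@D3.rec (fun _ => Pt) (kg xg3 yg2 zg6) (kg xg4 yg7 zg2) (kg xg4 yg7 zg5) (kg xg3 yg8 zg16) (kg xg3 yg5 zg10) (kg xg5 yg7 zg15) (kg xg4 yg8 zg12) (kg xg4 yg0 zg1) (kg xg6 yg6 zg2) (kg xg3 yg9 zg0) (kg xg4 yg10 zg5) (kg xg3 yg2 zg17) (kg xg4 yg8 zg6) (kg xg4 yg8 zg13) (kg xg6 yg5 zg4) (kg xg4 yg7 zg13) (kg xg4 yg9 zg8) (kg xg3 yg3 zg3)) (@D3.rec (fun _ => Pt) (kg xg3 yg9 zg3) (kg xg4 yg4 zg15) (kg xg6 yg6 zg9) (kg xg4 yg10 zg9) (kg xg3 yg3 zg8) (kg xg6 yg6 zg14) (kg xg3 yg3 zg9) (kg xg3 yg4 zg3) (kg xg4 yg8 zg16) (kg xg4 yg7 zg10) (kg xg4 yg7 zg9) (kg xg3 yg3 zg11) (kg xg6 yg6 zg16) (kg xg4 yg10 zg13)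 (kg xg3 yg3 zg16) (kg xg3 yg4 zg0) (kg xg5 yg6 zg12) (kg xg6 yg7 zg3)) (@D3.rec (fun _ => Pt) (kg xg6 yg5 zg7) (kg xg6 yg7 zg10) (kg xg6 yg4 zg15) (kg xg3 yg4 zg1) (kg xg6 yg7 zg12) (kg xg4 yg8 zg10) (kg xg6 yg4 zg17) (kg xg3 yg4 zg5) (kg xg3 yg4 zg8) (kg xg4 yg9 zg3) (kg xg6 yg4 zg14) (kg xg6 yg8 zg1) (kg xg3 yg4 zg10) (kg xg4 yg9 zg13) (kg xg3 yg4 zg15) (kg xg3 yg4 zg16) (kg xg5 yg0 zg1) (kg xg6 yg5 zg12))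
def f_g_5 : D2 → D3 → Pt := @D2.rec (fun _ => D3 → Pt) (@D3.rec (fun _ => Pt) (kg xg6 yg8 zg3) (kg xg4 yg10 zg16) (kg xg6 yg8 zg4) (kg xg6 yg5 zg0) (kg xg5 yg0 zg11) (kg xg5 yg0 zg5) (kg xg6 yg5 zg13) (kg xg3 yg5 zg17) (kg xg3 yg6 zg0) (kg xg5 yg4 zg15) (kg xg5 yg1 zg6) (kg xg5 yg0 zg4) (kg xg6 yg4 zg5) (kg xg5 yg1 zg7) (kg xg3 yg6 zg4) (kg xg6 yg9 zg3) (kg xg3 yg5 zg14) (kg xg3 yg8 zg5)) (@D3.rec (fun _ => Pt) (kg xg6 yg9 zg9) (kg xg5 yg4 zg10) (kg xg3 yg5 zg15) (kg xg6 yg9 zg12) (kg xg6 yg8 zg14) (kg xg3 yg10 zg4) (kg xg5 yg0 zg10) (kg xg5 yg0 zg13) (kg xg4 yg2 zg11) (kg xg6 yg9 zg1) (kg xg5 yg8 zg16) (kg xg6 yg9 zg17) (kg xg3 yg6 zg5) (kg xg5 yg2 zg11) (kg xg6 yg4 zg2) (kg xg6 yg10 zg3) (kg xg3 yg6 zg7)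 (kg xg6 yg10 zg6)) (@D3.rec (fun _ => Pt) (kg xg5 yg3 zg15) (kg xg6 yg10 zg10) (kg xg6 yg10 zg12) (kg xg3 yg6 zg11) (kg xg5 yg10 zg14) (kg xg6 yg10 zg5) (kg xg5 yg2 zg15) (kg xg5 yg2 zg9) (kg xg3 yg6 zg14) (kg xg5 yg2 zg7) (kg xg7 yg0 zg5) (kg xg5 yg1 zg13) (kg xg3 yg6 zg16) (kg xg5 yg9 zg6) (kg xg3 yg6 zg17) (kg xg5 yg2 zg6) (kg xg7 yg0 zg9) (kg xg3 yg7 zg2)) (@D3.rec (fun _ => Pt) (kg xg7 yg0 zg8) (kg xg6 yg0 zg9) (kg xg7 yg0 zg14) (kg xg5 yg3 zg7) (kg xg7 yg0 zg16) (kg xg7 yg1 zg0) (kg xg3 yg7 zg8) (kg xg5 yg3 zg3) (kg xg5 yg4 zg2) (kg xg3 yg7 zg10) (kg xg7 yg1 zg2) (kg xg6 yg10 zg9) (kg xg3 yg10 zg12) (kg xg5 yg8 zg5) (kg xg7 yg1 zg6) (kg xg5 yg2 zg0) (kg xg3 yg7 zg15) (kg xg7 yg1 zg8)) (@D3.rec (fun _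 => Pt) (kg xg3 yg7 zg16) (kg xg3 yg8 zg0) (kg xg5 yg3 zg8) (kg xg7 yg1 zg10) (kg xg7 yg1 zg11) (kg xg5 yg9 zg9) (kg xg4 yg5 zg16) (kg xg6 yg1 zg8) (kg xg4 yg6 zg6) (kg xg7 yg2 zg0) (kg xg5 yg1 zg1) (kg xg3 yg8 zg4) (kg xg6 yg9 zg4) (kg xg4 yg6 zg7) (kg xg4 yg6 zg8) (kg xg5 yg0 zg9) (kg xg7 yg2 zg7) (kg xg3 yg8 zg7)) (@D3.rec (fun _ => Pt) (kg xg5 yg5 zg0) (kg xg5 yg5 zg1) (kg xg7 yg2 zg8) (kg xg5 yg6 zg0) (kg xg3 yg8 zg9) (kg xg3 yg9 zg1) (kg xg3 yg8 zg14) (kg xg6 yg0 zg10) (kg xg6 yg5 zg15) (kg xg5 yg5 zg14) (kg xg3 yg8 zg17) (kg xg6 yg6 zg0) (kg xg7 yg2 zg11) (kg xg5 yg6 zg6) (kg xg5 yg5 zg9) (kg xg7 yg3 zg1) (kg xg7 yg3 zg4) (kg xg3 yg9 zg4)) (@D3.rec (fun _ => Pt) (kg xg5 yg5 zg3) (kg xg7 yg3 zg9) (kg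 xg6 yg7 zg6) (kg xg3 yg9 zg6) (kg xg7 yg3 zg10) (kg xg4 yg4 zg3) (kg xg5 yg5 zg13) (kg xg3 yg10 zg10) (kg xg4 yg2 zg12) (kg xg5 yg7 zg0) (kg xg5 yg7 zg5) (kg xg7 yg3 zg17) (kg xg4 yg9 zg16) (kg xg3 yg9 zg17) (kg xg4 yg4 zg10) (kg xg6 yg8 zg7) (kg xg3 yg10 zg0) (kg xg6 yg8 zg6)) (@D3.rec (fun _ => Pt) (kg xg5 yg6 zg9) (kg xg4 yg4 zg5) (kg xg6 yg8 zg11) (kg xg3 yg10 zg3) (kg xg3 yg10 zg6) (kg xg5 yg6 zg10) (kg xg7 yg4 zg7) (kg xg7 yg4 zg12) (kg xg6 yg0 zg5) (kg xg7 yg3 zg13) (kg xg5 yg7 zg11) (kg xg5 yg7 zg10) (kg xg5 yg8 zg15) (kg xg5 yg7 zg17) (kg xg7 yg5 zg2) (kg xg4 yg8 zg5) (kg xg7 yg5 zg4) (kg xg5 yg7 zg13)) (@D3.rec (fun _ => Pt) (kg xg5 yg8 zg12) (kg xg6 yg1 zg17) (kg xg4 yg0 zg3) (kg xg7 yg0 zg4) (kg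 xg7 yg5 zg10) (kg xg5 yg3 zg13) (kg xg4 yg0 zg6) (kg xg5 yg10 zg4) (kg xg7 yg5 zg14) (kg xg4 yg0 zg7) (kg xg7 yg6 zg0) (kg xg4 yg0 zg8) (kg xg5 yg8 zg0) (kg xg6 yg0 zg1) (kg xg4 yg2 zg0) (kg xg5 yg7 zg12) (kg xg5 yg1 zg10) (kg xg4 yg0 zg14)) (@D3.rec (fun _ => Pt) (kg xg7 yg6 zg7) (kg xg7 yg5 zg1) (kg xg7 yg5 zg0) (kg xg4 yg0 zg15) (kg xg5 yg10 zg1) (kg xg7 yg0 zg0) (kg xg5 yg2 zg13) (kg xg7 yg6 zg17) (kg xg4 yg1 zg2) (kg xg5 yg4 zg5) (kg xg7 yg7 zg2) (kg xg4 yg1 zg3) (kg xg7 yg7 zg4) (kg xg4 yg7 zg3) (kg xg4 yg1 zg4) (kg xg7 yg7 zg3) (kg xg7 yg7 zg7) (kg xg4 yg1 zg6)) (@D3.rec (fun _ => Pt) (kg xg4 yg2 zg3) (kg xg5 yg9 zg4) (kg xg7 yg1 zg1) (kg xg7 yg4 zg5) (kg xg5 yg8 zg7) (kg xg7 yg7 zg14) (kg xg4 yg1 zg10)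 (kg xg7 yg1 zg7) (kg xg7 yg8 zg0) (kg xg7 yg8 zg3) (kg xg4 yg1 zg12) (kg xg7 yg8 zg4) (kg xg4 yg1 zg13) (kg xg7 yg6 zg9) (kg xg5 yg2 zg4) (kg xg7 yg8 zg8) (kg xg7 yg8 zg12) (kg xg7 yg8 zg13))
def f_g_6 : D2 → D3 → Pt := @D2.rec (fun _ => D3 → Pt) (@D3.rec (fun _ => Pt) (kg xg4 yg1 zg16) (kg xg5 yg8 zg13) (kg xg7 yg6 zg2) (kg xg4 yg2 zg1) (kg xg7 yg7 zg8) (kg xg5 yg7 zg8) (kg xg7 yg7 zg9) (kg xg7 yg9 zg4) (kg xg7 yg6 zg16) (kg xg5 yg3 zg1) (kg xg5 yg5 zg7) (kg xg6 yg0 zg16) (kg xg4 yg3 zg8) (kg xg7 yg0 zg12) (kg xg7 yg2 zg12) (kg xg7 yg3 zg15) (kg xg6 yg0 zg11) (kg xg6 yg1 zg15)) (@D3.rec (fun _ => Pt) (kg xg7 yg6 zg11) (kg xg4 yg2 zg14) (kg xg6 yg1 zg16) (kg xg4 yg5 zg14) (kg xg7 yg9 zg14) (kg xg7 yg9 zg16)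 (kg xg7 yg10 zg0) (kg xg4 yg3 zg2) (kg xg5 yg4 zg7) (kg xg7 yg1 zg16) (kg xg7 yg4 zg2) (kg xg7 yg10 zg3) (kg xg4 yg3 zg4) (kg xg7 yg10 zg6) (kg xg4 yg3 zg5) (kg xg6 yg0 zg17) (kg xg6 yg1 zg2) (kg xg5 yg8 zg1)) (@D3.rec (fun _ => Pt) (kg xg6 yg4 zg0) (kg xg4 yg3 zg10) (kg xg4 yg6 zg3) (kg xg7 yg10 zg11) (kg xg6 yg3 zg17) (kg xg6 yg2 zg8) (kg xg7 yg3 zg7) (kg xg4 yg5 zg2) (kg xg6 yg2 zg5) (kg xg6 yg3 zg4) (kg xg7 yg2 zg4) (kg xg6 yg2 zg11) (kg xg6 yg6 zg7) (kg xg4 yg4 zg14) (kg xg7 yg10 zg15) (kg xg7 yg7 zg17) (kg xg4 yg5 zg0) (kg xg7 yg10 zg16)) (@D3.rec (fun _ => Pt) (kg xg6 yg10 zg11) (kg xg4 yg5 zg4) (kg xg4 yg5 zg5) (kg xg4 yg5 zg7) (kg xg6 yg2 zg9) (kg xg7 yg1 zg17) (kg xg8 yg0 zg2) (kg xg7 yg9 zg9) (kg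 xg4 yg5 zg12) (kg xg4 yg5 zg13) (kg xg6 yg3 zg13) (kg xg7 yg4 zg3) (kg xg8 yg0 zg6) (kg xg6 yg3 zg10) (kg xg8 yg0 zg7) (kg xg7 yg9 zg11) (kg xg8 yg0 zg9) (kg xg6 yg2 zg4)) (@D3.rec (fun _ => Pt) (kg xg6 yg2 zg0) (kg xg6 yg9 zg0) (kg xg5 yg1 zg14) (kg xg6 yg4 zg7) (kg xg7 yg10 zg7) (kg xg5 yg0 zg12) (kg xg7 yg2 zg3) (kg xg6 yg4 zg3) (kg xg4 yg6 zg11) (kg xg8 yg0 zg13) (kg xg7 yg2 zg10) (kg xg4 yg6 zg13) (kg xg6 yg4 zg13) (kg xg6 yg4 zg12) (kg xg4 yg10 zg10) (kg xg4 yg10 zg2) (kg xg4 yg6 zg17) (kg xg4 yg10 zg6)) (@D3.rec (fun _ => Pt) (kg xg5 yg0 zg3) (kg xg6 yg6 zg13) (kg xg6 yg6 zg12) (kg xg4 yg7 zg7) (kg xg4 yg8 zg14) (kg xg6 yg6 zg6) (kg xg8 yg1 zg3) (kg xg4 yg10 zg0) (kg xg8 yg0 zg10) (kg xg4 yg7 zg14)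 (kg xg8 yg1 zg4) (kg xg4 yg7 zg15) (kg xg4 yg10 zg17) (kg xg5 yg0 zg6) (kg xg7 yg5 zg3) (kg xg5 yg5 zg8) (kg xg6 yg6 zg4) (kg xg6 yg5 zg17)) (@D3.rec (fun _ => Pt) (kg xg5 yg5 zg11) (kg xg6 yg7 zg15) (kg xg4 yg8 zg8) (kg xg6 yg7 zg8) (kg xg6 yg5 zg16) (kg xg6 yg6 zg5) (kg xg6 yg5 zg5) (kg xg6 yg2 zg12) (kg xg6 yg7 zg13) (kg xg4 yg9 zg2) (kg xg6 yg7 zg17) (kg xg6 yg7 zg16) (kg xg6 yg5 zg2) (kg xg6 yg5 zg1) (kg xg4 yg9 zg5) (kg xg7 yg3 zg2) (kg xg4 yg9 zg12) (kg xg7 yg3 zg0)) (@D3.rec (fun _ => Pt) (kg xg8 yg2 zg0) (kg xg8 yg1 zg1) (kg xg7 yg0 zg17) (kg xg4 yg9 zg17) (kg xg7 yg4 zg1) (kg xg7 yg4 zg0) (kg xg5 yg6 zg2) (kg xg7 yg8 zg5) (kg xg6 yg6 zg3) (kg xg8 yg0 zg16) (kg xg4 yg10 zg1) (kg xg7 yg9 zg7) (kg xg4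 yg10 zg4) (kg xg6 yg6 zg8) (kg xg8 yg0 zg15) (kg xg6 yg6 zg1) (kg xg6 yg6 zg11) (kg xg6 yg6 zg10)) (@D3.rec (fun _ => Pt) (kg xg7 yg1 zg3) (kg xg4 yg10 zg11) (kg xg7 yg9 zg0) (kg xg5 yg0 zg0) (kg xg5 yg0 zg2) (kg xg6 yg8 zg9) (kg xg5 yg6 zg17) (kg xg5 yg6 zg15) (kg xg8 yg2 zg8) (kg xg6 yg8 zg5) (kg xg8 yg0 zg17) (kg xg5 yg7 zg2) (kg xg6 yg8 zg17) (kg xg6 yg9 zg5) (kg xg5 yg1 zg4) (kg xg7 yg2 zg5) (kg xg8 yg2 zg17) (kg xg6 yg8 zg12)) (@D3.rec (fun _ => Pt) (kg xg6 yg4 zg1) (kg xg5 yg1 zg9) (kg xg8 yg3 zg2) (kg xg5 yg0 zg15) (kg xg5 yg4 zg12) (kg xg6 yg8 zg13) (kg xg8 yg3 zg8) (kg xg8 yg3 zg12) (kg xg7 yg2 zg1) (kg xg5 yg1 zg0) (kg xg8 yg3 zg15) (kg xg8 yg2 zg13) (kg xg5 yg1 zg3) (kg xg8 yg4 zg0) (kg xg7 yg9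 zg6) (kg xg7 yg10 zg17) (kg xg6 yg10 zg0) (kg xg5 yg1 zg11)) (@D3.rec (fun _ => Pt) (kg xg6 yg9 zg16) (kg xg8 yg0 zg12) (kg xg8 yg4 zg6) (kg xg5 yg1 zg15) (kg xg6 yg10 zg13) (kg xg5 yg2 zg5) (kg xg5 yg1 zg17) (kg xg7 yg1 zg5) (kg xg7 yg6 zg12) (kg xg5 yg3 zg11) (kg xg5 yg2 zg1) (kg xg6 yg3 zg0) (kg xg5 yg2 zg2) (kg xg6 yg10 zg4) (kg xg7 yg6 zg8) (kg xg8 yg4 zg7) (kg xg8 yg4 zg11) (kg xg7 yg0 zg1))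
def f_g_7 : D2 → D3 → Pt := @D2.rec (fun _ => D3 → Pt) (@D3.rec (fun _ => Pt) (kg xg5 yg9 zg5) (kg xg6 yg10 zg17) (kg xg7 yg4 zg15) (kg xg8 yg3 zg14) (kg xg5 yg8 zg3) (kg xg5 yg2 zg10) (kg xg7 yg6 zg15) (kg xg7 yg5 zg7) (kg xg5 yg3 zg0) (kg xg5 yg2 zg16) (kg xg7 yg6 zg14) (kg xg8 yg0 zg1) (kg xg6 yg0 zg13) (kg xg8 yg5 zg2) (kg xg5 yg3 zg2) (kg xg7 yg9 zg1) (kg xg5 yg3 zg4) (kg xg6 yg7 zg2)) (@D3.rec (fun _ => Pt) (kg xg5 yg3 zg5) (kg xg5 yg10 zg2) (kg xg5 yg3 zg10) (kg xg6 yg8 zg0) (kg xg7 yg5 zg9) (kg xg6 yg10 zg7) (kg xg5 yg3 zg14) (kg xg5 yg10 zg7) (kg xg5 yg3 zg17) (kg xg8 yg3 zg16) (kg xg5 yg4 zg3) (kg xg5 yg4 zg4) (kg xg7 yg7 zg11) (kg xg8 yg5 zg4) (kg xg8 yg5 zg5) (kg xg7 yg7 zg0) (kg xg6 yg1 zg9) (kg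 xg6 yg3 zg5)) (@D3.rec (fun _ => Pt) (kg xg5 yg4 zg9) (kg xg6 yg9 zg8) (kg xg8 yg3 zg4) (kg xg6 yg4 zg6) (kg xg6 yg2 zg10) (kg xg6 yg8 zg15) (kg xg8 yg4 zg12) (kg xg5 yg4 zg16) (kg xg5 yg5 zg2) (kg xg7 yg2 zg9) (kg xg6 yg4 zg10) (kg xg5 yg5 zg12) (kg xg6 yg0 zg14) (kg xg8 yg1 zg7) (kg xg8 yg5 zg15) (kg xg7 yg3 zg6) (kg xg7 yg3 zg11) (kg xg8 yg6 zg1)) (@D3.rec (fun _ => Pt) (kg xg6 yg6 zg17) (kg xg5 yg5 zg15) (kg xg6 yg6 zg15) (kg xg8 yg6 zg4) (kg xg5 yg5 zg16) (kg xg8 yg6 zg5) (kg xg7 yg2 zg15) (kg xg6 yg2 zg6) (kg xg8 yg0 zg8) (kg xg5 yg6 zg1) (kg xg5 yg6 zg4) (kg xg7 yg2 zg16) (kg xg8 yg6 zg9) (kg xg5 yg7 zg9) (kg xg7 yg4 zg4) (kg xg6 yg0 zg15) (kg xg7 yg4 zg10) (kg xg5 yg6 zg11)) (@D3.rec (fun _ => Pt)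 (kg xg6 yg7 zg5) (kg xg6 yg7 zg4) (kg xg6 yg1 zg10) (kg xg6 yg3 zg11) (kg xg7 yg3 zg14) (kg xg5 yg10 zg3) (kg xg7 yg6 zg13) (kg xg5 yg7 zg6) (kg xg8 yg0 zg3) (kg xg8 yg6 zg12) (kg xg7 yg3 zg16) (kg xg8 yg6 zg14) (kg xg5 yg7 zg7) (kg xg7 yg8 zg16) (kg xg7 yg7 zg15) (kg xg7 yg0 zg2) (kg xg7 yg6 zg6) (kg xg8 yg6 zg17)) (@D3.rec (fun _ => Pt) (kg xg5 yg9 zg2) (kg xg5 yg9 zg1) (kg xg5 yg7 zg14) (kg xg6 yg5 zg14) (kg xg5 yg7 zg16) (kg xg7 yg6 zg1) (kg xg7 yg10 zg5) (kg xg7 yg0 zg7) (kg xg8 yg4 zg15) (kg xg7 yg1 zg4) (kg xg5 yg8 zg4) (kg xg7 yg7 zg13) (kg xg7 yg10 zg2) (kg xg8 yg5 zg8) (kg xg5 yg8 zg8) (kg xg7 yg7 zg12) (kg xg8 yg5 zg7) (kg xg8 yg7 zg4)) (@D3.rec (fun _ => Pt) (kg xg5 yg8 zg10) (kg xg7 yg5 zg5) (kg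 xg6 yg0 zg2) (kg xg8 yg7 zg5) (kg xg8 yg2 zg14) (kg xg7 yg6 zg10) (kg xg7 yg4 zg16) (kg xg5 yg9 zg0) (kg xg6 yg10 zg14) (kg xg5 yg10 zg13) (kg xg7 yg6 zg5) (kg xg6 yg1 zg0) (kg xg6 yg10 zg8) (kg xg7 yg4 zg6) (kg xg7 yg0 zg10) (kg xg7 yg0 zg6) (kg xg6 yg0 zg8) (kg xg5 yg9 zg7)) (@D3.rec (fun _ => Pt) (kg xg7 yg1 zg15) (kg xg8 yg7 zg9) (kg xg5 yg9 zg10) (kg xg5 yg9 zg15) (kg xg5 yg9 zg12) (kg xg8 yg7 zg10) (kg xg8 yg4 zg17) (kg xg5 yg9 zg16) (kg xg6 yg0 zg4) (kg xg6 yg0 zg6) (kg xg7 yg9 zg2) (kg xg7 yg1 zg12) (kg xg7 yg5 zg15) (kg xg7 yg5 zg11) (kg xg5 yg10 zg5) (kg xg7 yg4 zg14) (kg xg7 yg10 zg12) (kg xg6 yg2 zg15)) (@D3.rec (fun _ => Pt) (kg xg5 yg10 zg8) (kg xg8 yg7 zg15) (kg xg8 yg7 zg16) (kg xg5 yg10 zg9)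 (kg xg5 yg10 zg11) (kg xg6 yg7 zg7) (kg xg8 yg8 zg1) (kg xg7 yg8 zg14) (kg xg5 yg10 zg15) (kg xg8 yg8 zg3) (kg xg8 yg8 zg4) (kg xg8 yg8 zg5) (kg xg5 yg10 zg16) (kg xg5 yg10 zg17) (kg xg7 yg8 zg7) (kg xg8 yg5 zg3) (kg xg7 yg4 zg13) (kg xg8 yg5 zg1)) (@D3.rec (fun _ => Pt) (kg xg6 yg8 zg2) (kg xg7 yg0 zg15) (kg xg7 yg7 zg10) (kg xg8 yg8 zg7) (kg xg6 yg0 zg7) (kg xg8 yg7 zg8) (kg xg6 yg9 zg14) (kg xg6 yg7 zg11) (kg xg8 yg5 zg6) (kg xg6 yg3 zg7) (kg xg8 yg1 zg5) (kg xg6 yg3 zg15) (kg xg8 yg1 zg16) (kg xg8 yg8 zg9) (kg xg6 yg1 zg4) (kg xg8 yg8 zg10) (kg xg6 yg1 zg5) (kg xg8 yg6 zg15)) (@D3.rec (fun _ => Pt) (kg xg6 yg1 zg6) (kg xg7 yg10 zg4) (kg xg7 yg5 zg12) (kg xg6 yg1 zg11) (kg xg7 yg10 zg1) (kg xg7 yg5 zg6)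 (kg xg6 yg1 zg13) (kg xg6 yg4 zg4) (kg xg8 yg8 zg15) (kg xg8 yg2 zg9) (kg xg8 yg8 zg12) (kg xg6 yg2 zg3) (kg xg7 yg7 zg16) (kg xg7 yg10 zg13) (kg xg8 yg4 zg9) (kg xg6 yg2 zg14) (kg xg6 yg2 zg17) (kg xg6 yg9 zg15))
def f_g_8 : D2 → D3 → Pt := @D2.rec (fun _ => D3 → Pt) (@D3.rec (fun _ => Pt) (kg xg8 yg8 zg2) (kg xg7 yg0 zg11) (kg xg6 yg3 zg6) (kg xg7 yg4 zg8) (kg xg8 yg5 zg9) (kg xg8 yg8 zg8) (kg xg6 yg3 zg12) (kg xg6 yg3 zg14) (kg xg7 yg3 zg8) (kg xg6 yg3 zg16) (kg xg6 yg5 zg8) (kg xg8 yg3 zg0) (kg xg6 yg10 zg1) (kg xg6 yg4 zg9) (kg xg8 yg5 zg14) (kg xg6 yg7 zg14) (kg xg6 yg7 zg9) (kg xg6 yg8 zg10)) (@D3.rec (fun _ => Pt) (kg xg8 yg6 zg6) (kg xg6 yg7 zg1) (kg xg8 yg9 zg7) (kg xg6 yg5 zg6) (kg xg6 yg5 zg10)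 (kg xg7 yg9 zg10) (kg xg8 yg9 zg4) (kg xg7 yg2 zg13) (kg xg8 yg1 zg11) (kg xg8 yg1 zg9) (kg xg8 yg2 zg4) (kg xg8 yg1 zg8) (kg xg8 yg2 zg6) (kg xg8 yg2 zg5) (kg xg8 yg2 zg1) (kg xg8 yg2 zg7) (kg xg7 yg9 zg12) (kg xg8 yg6 zg3)) (@D3.rec (fun _ => Pt) (kg xg6 yg7 zg0) (kg xg8 yg1 zg14) (kg xg8 yg6 zg2) (kg xg8 yg9 zg6) (kg xg8 yg1 zg10) (kg xg8 yg1 zg13) (kg xg8 yg1 zg12) (kg xg8 yg1 zg15) (kg xg6 yg8 zg8) (kg xg7 yg10 zg9) (kg xg8 yg9 zg17) (kg xg8 yg3 zg5) (kg xg8 yg7 zg7) (kg xg6 yg9 zg11) (kg xg7 yg6 zg4) (kg xg8 yg10 zg0) (kg xg8 yg3 zg6) (kg xg6 yg8 zg16)) (@D3.rec (fun _ => Pt) (kg xg8 yg0 zg11) (kg xg8 yg8 zg17) (kg xg6 yg9 zg2) (kg xg8 yg4 zg8) (kg xg7 yg2 zg2) (kg xg8 yg2 zg11) (kg xg8 yg2 zg16) (kg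 xg8 yg7 zg17) (kg xg6 yg9 zg6) (kg xg8 yg10 zg5) (kg xg8 yg10 zg6) (kg xg8 yg5 zg10) (kg xg6 yg9 zg7) (kg xg8 yg9 zg0) (kg xg7 yg0 zg3) (kg xg6 yg9 zg10) (kg xg7 yg1 zg9) (kg xg8 yg10 zg8)) (@D3.rec (fun _ => Pt) (kg xg6 yg9 zg13) (kg xg8 yg4 zg4) (kg xg8 yg7 zg6) (kg xg8 yg9 zg3) (kg xg8 yg4 zg1) (kg xg8 yg7 zg12) (kg xg6 yg10 zg2) (kg xg6 yg10 zg15) (kg xg8 yg3 zg3) (kg xg7 yg10 zg14) (kg xg8 yg5 zg13) (kg xg6 yg10 zg16) (kg xg7 yg2 zg6) (kg xg8 yg6 zg16) (kg xg8 yg7 zg14) (kg xg7 yg5 zg8) (kg xg8 yg7 zg0) (kg xg7 yg7 zg6)) (@D3.rec (fun _ => Pt) (kg xg8 yg6 zg11) (kg xg7 yg8 zg17) (kg xg7 yg0 zg13) (kg xg7 yg8 zg15) (kg xg7 yg1 zg13) (kg xg7 yg1 zg14) (kg xg7 yg9 zg8) (kg xg7 yg5 zg16) (kg xg7 yg5 zg13)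 (kg xg8 yg0 zg4) (kg xg8 yg3 zg11) (kg xg8 yg10 zg1) (kg xg8 yg10 zg2) (kg xg8 yg4 zg10) (kg xg8 yg0 zg14) (kg xg7 yg2 zg14) (kg xg8 yg5 zg16) (kg xg8 yg6 zg8)) (@D3.rec (fun _ => Pt) (kg xg8 yg6 zg13) (kg xg7 yg2 zg17) (kg xg8 yg2 zg2) (kg xg8 yg1 zg17) (kg xg7 yg3 zg3) (kg xg7 yg3 zg5) (kg xg8 yg1 zg0) (kg xg8 yg10 zg13) (kg xg8 yg5 zg17) (kg xg7 yg3 zg12) (kg xg8 yg9 zg2) (kg xg8 yg5 zg0) (kg xg7 yg4 zg9) (kg xg8 yg6 zg0) (kg xg7 yg4 zg11) (kg xg7 yg9 zg17) (kg xg8 yg4 zg13) (kg xg7 yg4 zg17)) (@D3.rec (fun _ => Pt) (kg xg8 yg4 zg16) (kg xg8 yg8 zg13) (kg xg8 yg7 zg11) (kg xg8 yg8 zg14) (kg xg7 yg5 zg17) (kg xg7 yg6 zg3) (kg xg8 yg4 zg2) (kg xg8 yg2 zg12) (kg xg7 yg9 zg5) (kg xg7 yg7 zg1) (kg xg7 yg7 zg5)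 (kg xg8 yg7 zg2) (kg xg8 yg4 zg5) (kg xg8 yg10 zg3) (kg xg8 yg4 zg14) (kg xg7 yg8 zg1) (kg xg7 yg8 zg2) (kg xg8 yg3 zg7)) (@D3.rec (fun _ => Pt) (kg xg8 yg8 zg6) (kg xg7 yg8 zg6) (kg xg8 yg0 zg0) (kg xg7 yg8 zg9) (kg xg7 yg8 zg10) (kg xg7 yg8 zg11) (kg xg8 yg8 zg0) (kg xg7 yg9 zg3) (kg xg8 yg0 zg5) (kg xg7 yg9 zg13) (kg xg7 yg9 zg15) (kg xg8 yg8 zg16) (kg xg7 yg10 zg10) (kg xg8 yg7 zg1) (kg xg8 yg7 zg3) (kg xg7 yg10 zg8) (kg xg8 yg8 zg11) (kg xg8 yg3 zg1)) (@D3.rec (fun _ => Pt) (kg xg8 yg3 zg13) (kg xg8 yg10 zg14) (kg xg8 yg6 zg10) (kg xg8 yg4 zg3) (kg xg8 yg1 zg6) (kg xg8 yg10 zg12) (kg xg8 yg2 zg3) (kg xg8 yg1 zg2) (kg xg8 yg10 zg9) (kg xg8 yg9 zg9) (kg xg8 yg9 zg14) (kg xg8 yg9 zg12) (kg xg8 yg9 zg11)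 (kg xg8 yg9 zg13) (kg xg8 yg9 zg10) (kg xg8 yg10 zg4) (kg xg8 yg10 zg7) (kg xg8 yg2 zg10)) (@D3.rec (fun _ => Pt) (kg xg8 yg2 zg15) (kg xg8 yg5 zg11) (kg xg8 yg5 zg12) (kg xg8 yg7 zg13) (kg xg8 yg9 zg15) (kg xg8 yg3 zg9) (kg xg8 yg3 zg10) (kg xg8 yg9 zg16) (kg xg8 yg3 zg17) (kg xg8 yg9 zg8) (kg xg8 yg10 zg10) (kg xg8 yg10 zg11) (kg xg8 yg9 zg5) (kg xg8 yg6 zg7) (kg xg8 yg9 zg1) (kg xg8 yg10 zg15) (kg xg8 yg10 zg16) (kg xg8 yg10 zg17))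
def f_g : Pt → Pt := @Pt.rec (fun _ => Pt) (@D1.rec (fun _ => D2 → D3 → Pt) f_g_0 f_g_1 f_g_2 f_g_3 f_g_4 f_g_5 f_g_6 f_g_7 f_g_8)
def fi_g : Pt → Pt := f_g

theorem inv_chk_g : chkInv allPts beqPt f_g fi_g = true := by decide +kernel

end

end Cfsg.Agent.Helper28.S1680
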