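import Cfsg.Agent.Lib.Helper28.S1680.Certs

set_option autoImplicit false
set_option maxRecDepth 100000
set_option linter.all false

namespace Cfsg.Agent.Helper28.S1680

open Cfsg.Agent.Helper28
open Cfsg.Spor.Suz (Gen)

noncomputable section

def hw_0 : HWord rels S := ⟨subW_0, subH_0⟩
def hwi_0 : HWord rels S := ⟨[(Gen.a, false)], hword_inv rels S subW_0 subH_0⟩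
def hw_1 : HWord rels S := ⟨subW_1, subH_1⟩
def hwi_1 : HWord rels S := ⟨[(Gen.b, false)], hword_inv rels S subW_1 subH_1⟩
def hw_2 : HWord rels S := ⟨subW_2, subH_2⟩
def hwi_2 : HWord rels S := ⟨[(Gen.c, false)], hword_inv rels S subW_2 subH_2⟩
def hw_3 : HWord rels S := ⟨subW_3, subH_3⟩
def hwi_3 : HWord rels S := ⟨[(Gen.d, false)], hword_inv rels S subW_3 subH_3⟩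
def hw_4 : HWord rels S := ⟨subW_4, subH_4⟩
def hwi_4 : HWord rels S := ⟨[(Gen.e, false)], hword_inv rels S subW_4 subH_4⟩
def hw_5 : HWord rels S := ⟨subW_5, subH_5⟩
def hwi_5 : HWord rels S := ⟨[(Gen.f, false)], hword_inv rels S subW_5 subH_5⟩
def lab_0 : D2 → D3 → Nat := @D2.rec (fun _ => D3 → Nat) (@D3.rec (fun _ => Nat) 0 1 1 1 1 1 1 1 1 1 1 1 1 1 1 1 1 1) (@D3.rec (fun _ => Nat) 1 1 1 1 1 1 1 1 1 1 1 1 1 1 1 1 1 1) (@D3.rec (fun _ => Nat) 1 1 1 1 1 1 1 1 1 1 1 2 1 1 1 1 1 1) (@D3.rec (fun _ => Nat) 1 1 1 1 1 1 1 1 1 1 1 1 1 1 1 1 1 1) (@D3.rec (fun _ => Nat) 2 1 1 1 2 1 1 2 1 2 2 1 1 1 1 1 1 1) (@D3.rec (fun _ => Nat) 1 1 1 1 1 1 1 1 1 2 1 1 1 1 1 1 1 1) (@D3.rec (fun _ => Nat) 1 1 1 1 2 1 1 2 2 2 1 1 1 2 1 1 1 2)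 (@D3.rec (fun _ => Nat) 1 2 2 2 2 1 1 1 1 1 1 1 1 1 1 1 1 1) (@D3.rec (fun _ => Nat) 1 1 2 1 1 2 1 1 2 1 2 2 1 1 1 1 1 1) (@D3.rec (fun _ => Nat) 1 1 1 1 1 1 1 1 1 1 2 1 1 1 2 2 2 2) (@D3.rec (fun _ => Nat) 2 1 1 1 2 1 1 1 2 1 1 1 2 1 2 2 2 2)
def lab_1 : D2 → D3 → Nat := @D2.rec (fun _ => D3 → Nat) (@D3.rec (fun _ => Nat) 2 2 2 2 2 1 1 2 1 1 1 1 1 1 1 1 1 1) (@D3.rec (fun _ => Nat) 1 1 1 1 1 1 1 2 1 1 2 1 2 1 1 2 1 2) (@D3.rec (fun _ => Nat) 2 1 1 2 1 2 2 1 1 1 1 1 1 1 1 1 1 1) (@D3.rec (fun _ => Nat) 1 1 1 1 1 1 1 1 1 1 1 2 1 1 1 2 1 1) (@D3.rec (fun _ => Nat) 1 2 2 2 2 2 2 2 2 2 1 1 2 1 1 1 2 1) (@D3.rec (fun _ => Nat) 1 1 2 1 1 1 2 1 1 1 2 1 1 2 1 2 2 2) (@D3.rec (fun _ => Nat) 1 2 2 2 2 2 2 2 2 2 2 2 2 1 1 2 1 2) (@D3.rec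 (fun _ => Nat) 2 1 1 1 1 1 1 1 1 1 1 1 1 1 1 1 1 1) (@D3.rec (fun _ => Nat) 1 1 1 1 2 2 1 1 2 1 2 1 1 2 1 2 2 1) (@D3.rec (fun _ => Nat) 1 1 2 1 2 2 1 1 1 1 1 1 1 1 1 1 1 1) (@D3.rec (fun _ => Nat) 1 1 1 1 1 1 1 1 1 1 1 1 1 1 2 1 1 1)
def lab_2 : D2 → D3 → Nat := @D2.rec (fun _ => D3 → Nat) (@D3.rec (fun _ => Nat) 2 1 1 1 2 1 1 1 2 1 2 2 2 2 2 2 2 2) (@D3.rec (fun _ => Nat) 2 2 2 1 1 2 2 2 1 1 1 1 1 1 2 1 2 1) (@D3.rec (fun _ => Nat) 1 2 1 1 2 1 2 2 1 1 1 2 1 1 1 2 1 2) (@D3.rec (fun _ => Nat) 2 2 1 2 1 2 2 2 1 1 1 2 2 2 2 2 2 2) (@D3.rec (fun _ => Nat) 2 2 2 2 2 2 2 1 1 1 2 1 1 2 1 1 1 1) (@D3.rec (fun _ => Nat) 1 1 1 1 1 1 1 1 1 1 1 1 1 1 1 1 1 1) (@D3.rec (fun _ => Nat) 1 1 1 1 1 1 1 1 2 2 1 1 2 1 2 1 1 1) (@D3.rec (fun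 _ => Nat) 2 1 2 2 1 1 1 1 1 1 2 1 2 2 2 1 1 1) (@D3.rec (fun _ => Nat) 1 1 1 1 1 1 1 1 1 1 1 1 1 1 1 1 1 1) (@D3.rec (fun _ => Nat) 1 1 1 1 1 1 1 1 1 1 1 1 1 1 1 1 1 1) (@D3.rec (fun _ => Nat) 2 1 2 1 1 2 1 1 1 1 2 1 1 1 2 1 2 2)
def lab_3 : D2 → D3 → Nat := @D2.rec (fun _ => D3 → Nat) (@D3.rec (fun _ => Nat) 2 1 1 1 2 1 2 1 2 2 2 1 1 2 2 2 2 2) (@D3.rec (fun _ => Nat) 2 2 2 2 1 1 2 2 1 1 1 1 1 1 1 1 1 1) (@D3.rec (fun _ => Nat) 1 1 2 1 2 1 1 1 2 2 1 1 2 2 2 1 1 1) (@D3.rec (fun _ => Nat) 1 1 1 1 1 2 2 1 1 1 2 1 2 2 2 1 1 1) (@D3.rec (fun _ => Nat) 2 1 2 2 2 1 1 1 2 1 1 1 1 1 1 2 2 2) (@D3.rec (fun _ => Nat) 2 2 2 2 2 2 2 1 1 1 1 2 2 2 2 1 1 2) (@D3.rec (fun _ => Nat) 2 2 1 1 1 1 1 1 1 1 1 1 1 1 1 1 1 1) (@D3.rec (fun _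 => Nat) 1 1 1 1 1 1 1 1 1 1 1 1 1 1 1 1 1 1) (@D3.rec (fun _ => Nat) 1 1 1 1 1 1 1 1 1 1 1 2 2 1 1 1 1 1) (@D3.rec (fun _ => Nat) 1 1 1 1 1 2 1 2 2 2 1 1 1 1 1 1 1 1) (@D3.rec (fun _ => Nat) 1 2 2 1 1 2 2 2 2 1 1 1 1 1 1 1 1 1)
def lab_4 : D2 → D3 → Nat := @D2.rec (fun _ => D3 → Nat) (@D3.rec (fun _ => Nat) 1 1 1 1 1 1 1 1 1 1 1 1 1 1 1 1 1 1) (@D3.rec (fun _ => Nat) 1 1 1 1 1 1 1 1 1 1 1 1 1 1 1 1 1 1) (@D3.rec (fun _ => Nat) 1 1 1 1 1 1 1 1 1 1 1 1 1 1 1 1 1 1) (@D3.rec (fun _ => Nat) 1 2 1 2 1 1 1 2 2 1 1 2 1 1 1 1 1 1) (@D3.rec (fun _ => Nat) 1 1 1 1 2 1 2 2 1 1 2 1 1 1 1 1 2 1) (@D3.rec (fun _ => Nat) 1 2 2 2 1 1 1 2 1 1 1 1 2 2 2 2 2 2) (@D3.rec (fun _ => Nat) 2 2 1 1 2 2 2 2 2 2 1 1 1 1 1 1 1 1) (@D3.rec (fun _ =>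 Nat) 1 1 1 1 1 1 1 1 2 1 1 1 2 2 1 1 1 1) (@D3.rec (fun _ => Nat) 1 1 2 1 2 1 1 1 1 1 1 1 1 1 1 1 1 2) (@D3.rec (fun _ => Nat) 2 2 1 1 2 1 2 2 2 1 1 1 2 1 1 1 2 2) (@D3.rec (fun _ => Nat) 2 1 1 1 2 1 1 1 1 2 2 1 1 1 1 1 1 2)
def lab_5 : D2 → D3 → Nat := @D2.rec (fun _ => D3 → Nat) (@D3.rec (fun _ => Nat) 2 2 2 2 2 2 1 1 1 1 1 1 2 2 2 2 1 1) (@D3.rec (fun _ => Nat) 1 1 1 1 2 2 2 1 1 1 1 1 1 1 1 1 1 1) (@D3.rec (fun _ => Nat) 1 1 1 1 1 1 1 1 1 1 1 1 1 1 1 1 1 1) (@D3.rec (fun _ => Nat) 1 1 1 1 1 1 1 1 1 1 1 1 1 1 1 1 1 1) (@D3.rec (fun _ => Nat) 1 1 1 1 1 1 1 1 1 1 1 2 1 1 1 1 1 1) (@D3.rec (fun _ => Nat) 1 1 1 1 2 1 1 1 1 1 1 1 1 1 1 1 1 2) (@D3.rec (fun _ => Nat) 2 1 1 2 2 2 2 1 1 1 1 1 1 2 1 1 2 2) (@D3.rec (fun _ => Nat)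 2 1 1 2 2 2 2 1 1 1 1 1 1 1 1 1 1 1) (@D3.rec (fun _ => Nat) 1 1 1 1 1 1 1 1 1 1 1 1 1 1 1 1 1 1) (@D3.rec (fun _ => Nat) 1 1 1 1 1 1 1 1 1 1 1 1 1 1 1 1 1 1) (@D3.rec (fun _ => Nat) 1 1 1 1 1 1 1 1 1 1 1 1 1 1 1 1 1 1)
def lab_6 : D2 → D3 → Nat := @D2.rec (fun _ => D3 → Nat) (@D3.rec (fun _ => Nat) 1 1 1 1 1 1 1 1 1 1 1 1 1 1 1 1 1 1) (@D3.rec (fun _ => Nat) 1 1 1 1 1 1 1 1 2 2 1 1 1 1 1 1 2 1) (@D3.rec (fun _ => Nat) 1 2 2 1 1 1 1 2 2 1 2 1 1 2 1 1 1 2) (@D3.rec (fun _ => Nat) 1 1 1 1 1 2 2 2 1 1 1 2 2 2 2 2 2 2) (@D3.rec (fun _ => Nat) 2 2 1 1 1 2 2 2 1 1 1 1 1 1 1 1 1 1) (@D3.rec (fun _ => Nat) 1 1 1 1 2 2 1 1 1 2 1 1 2 1 1 1 1 1) (@D3.rec (fun _ => Nat) 1 1 1 1 1 1 1 2 1 2 1 2 1 1 1 2 1 2) (@D3.rec (fun _ => Nat) 2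 2 1 1 2 2 2 2 1 1 1 1 1 2 2 1 2 2) (@D3.rec (fun _ => Nat) 1 1 1 1 1 1 2 2 2 2 2 2 2 1 1 1 1 1) (@D3.rec (fun _ => Nat) 1 2 2 1 1 1 1 1 1 1 1 1 1 2 1 1 1 1) (@D3.rec (fun _ => Nat) 1 1 1 1 1 1 1 1 1 1 1 1 1 1 1 1 1 1)
def lab_7 : D2 → D3 → Nat := @D2.rec (fun _ => D3 → Nat) (@D3.rec (fun _ => Nat) 1 1 1 1 1 1 1 1 1 1 1 1 1 1 1 1 1 1) (@D3.rec (fun _ => Nat) 1 1 1 1 1 1 1 1 1 1 1 1 1 1 1 1 1 1) (@D3.rec (fun _ => Nat) 2 1 1 1 1 1 1 1 1 1 1 1 1 1 1 1 1 1) (@D3.rec (fun _ => Nat) 1 2 1 1 2 2 2 1 1 2 2 2 2 1 1 1 1 1) (@D3.rec (fun _ => Nat) 1 2 2 2 2 1 1 2 2 1 1 1 1 1 1 1 1 1) (@D3.rec (fun _ => Nat) 1 1 1 1 1 1 1 1 1 1 1 1 1 1 1 1 1 1) (@D3.rec (fun _ => Nat) 1 1 1 1 1 1 1 1 1 1 1 1 1 1 1 1 1 1) (@D3.rec (fun _ => Nat) 1 1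 1 1 1 1 1 1 1 1 1 1 1 1 1 1 1 1) (@D3.rec (fun _ => Nat) 1 1 1 1 1 1 1 1 1 1 1 1 1 1 1 1 1 1) (@D3.rec (fun _ => Nat) 1 1 1 1 1 1 1 1 1 1 1 1 1 1 1 1 1 1) (@D3.rec (fun _ => Nat) 1 1 1 1 1 1 1 2 1 1 1 1 1 1 1 1 1 2)
def lab_8 : D2 → D3 → Nat := @D2.rec (fun _ => D3 → Nat) (@D3.rec (fun _ => Nat) 2 1 1 1 2 2 1 1 2 1 2 2 1 1 1 1 1 1) (@D3.rec (fun _ => Nat) 1 1 1 2 1 1 1 1 1 1 1 1 1 2 2 2 1 2) (@D3.rec (fun _ => Nat) 1 2 2 2 1 2 2 2 1 1 2 1 1 1 1 1 1 1) (@D3.rec (fun _ => Nat) 1 2 1 1 1 1 1 1 1 1 1 1 1 1 1 1 1 2) (@D3.rec (fun _ => Nat) 1 1 1 1 1 1 1 1 1 1 1 1 1 1 1 1 1 1) (@D3.rec (fun _ => Nat) 1 1 1 1 1 1 1 1 1 1 1 1 1 1 1 1 1 1) (@D3.rec (fun _ => Nat) 1 1 1 1 2 2 2 2 2 2 2 1 1 1 1 1 1 1) (@D3.rec (fun _ => Nat) 1 1 1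 1 1 1 1 1 1 1 1 1 1 1 1 1 1 1) (@D3.rec (fun _ => Nat) 1 1 1 1 1 1 1 1 1 1 1 1 1 1 1 1 1 1) (@D3.rec (fun _ => Nat) 2 2 1 1 1 1 1 2 1 1 2 2 2 2 2 2 2 1) (@D3.rec (fun _ => Nat) 1 1 1 1 1 1 1 1 1 1 1 2 2 2 1 1 2 2)
def lab : Pt → Nat := @Pt.rec (fun _ => Nat) (@D1.rec (fun _ => D2 → D3 → Nat) lab_0 lab_1 lab_2 lab_3 lab_4 lab_5 lab_6 lab_7 lab_8)
def odep_0 : D2 → D3 → Nat := @D2.rec (fun _ => D3 → Nat) (@D3.rec (fun _ => Nat) 0 0 1 2 2 2 3 3 3 3 4 4 4 4 4 4 4 5) (@D3.rec (fun _ => Nat) 5 5 5 5 6 5 5 5 5 5 5 5 6 6 6 6 6 6) (@D3.rec (fun _ => Nat) 6 6 6 6 7 7 6 6 6 6 6 0 6 6 6 6 6 7) (@D3.rec (fun _ => Nat) 7 7 7 7 7 7 7 7 7 7 7 7 8 8 8 7 7 7) (@D3.rec (fun _ => Nat) 1 7 7 7 1 7 7 1 7 2 1 7 7 7 7 8 8 8) (@D3.rec (fun _ =>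 Nat) 8 8 8 8 8 8 8 8 8 2 8 8 8 8 8 8 8 8) (@D3.rec (fun _ => Nat) 9 9 8 8 2 8 8 2 3 2 8 8 8 2 8 8 8 2) (@D3.rec (fun _ => Nat) 8 3 2 3 2 8 8 8 9 9 9 9 9 9 9 9 9 9) (@D3.rec (fun _ => Nat) 9 9 3 9 9 3 9 9 3 9 4 3 9 9 9 9 9 9) (@D3.rec (fun _ => Nat) 9 9 9 9 10 9 10 10 9 9 3 9 9 9 3 4 3 4) (@D3.rec (fun _ => Nat) 3 9 9 9 3 9 9 9 5 9 9 9 3 9 4 3 4 3)
def odep_1 : D2 → D3 → Nat := @D2.rec (fun _ => D3 → Nat) (@D3.rec (fun _ => Nat) 4 4 4 3 6 9 9 7 9 9 10 10 10 10 10 10 10 11) (@D3.rec (fun _ => Nat) 10 10 10 10 10 10 10 4 10 10 4 10 4 10 10 4 10 5) (@D3.rec (fun _ => Nat) 4 10 10 4 10 5 4 10 10 10 10 10 10 10 10 10 10 10) (@D3.rec (fun _ => Nat) 10 11 10 10 11 10 10 11 11 10 10 4 10 10 10 6 10 10) (@D3.rec (fun _ => Nat) 10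 4 5 4 5 4 5 5 4 7 10 10 8 10 10 10 4 10) (@D3.rec (fun _ => Nat) 10 10 6 10 10 10 6 10 10 10 6 10 10 4 10 5 4 4) (@D3.rec (fun _ => Nat) 10 5 4 5 5 5 4 7 5 5 5 4 7 10 10 8 10 7) (@D3.rec (fun _ => Nat) 6 10 10 11 11 11 11 11 11 11 11 12 11 11 11 11 11 11) (@D3.rec (fun _ => Nat) 11 12 11 11 5 5 11 11 5 11 5 11 11 5 11 6 5 11) (@D3.rec (fun _ => Nat) 11 11 5 11 6 5 11 11 11 11 11 11 11 11 11 13 11 11) (@D3.rec (fun _ => Nat) 11 11 11 12 11 11 12 11 11 11 11 11 11 11 5 11 11 11)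
def odep_2 : D2 → D3 → Nat := @D2.rec (fun _ => D3 → Nat) (@D3.rec (fun _ => Nat) 7 11 11 11 7 11 11 11 5 11 6 5 5 6 5 6 6 5) (@D3.rec (fun _ => Nat) 8 5 6 11 11 8 8 7 11 11 11 13 11 11 5 11 5 11) (@D3.rec (fun _ => Nat) 11 7 11 11 7 11 6 7 11 11 11 7 11 11 11 7 11 6) (@D3.rec (fun _ => Nat) 5 5 11 5 11 6 5 5 11 11 15 6 6 6 6 5 8 6) (@D3.rec (fun _ => Nat) 6 8 6 6 5 8 8 11 11 11 9 11 11 8 11 11 12 12) (@D3.rec (fun _ => Nat) 12 12 12 12 12 12 13 12 12 12 13 12 12 12 13 12 12 12) (@D3.rec (fun _ => Nat) 12 12 12 12 12 13 12 12 6 6 12 12 6 12 6 12 12 12) (@D3.rec (fun _ => Nat) 6 12 7 6 12 12 12 13 12 12 6 12 7 6 6 12 12 12) (@D3.rec (fun _ => Nat) 12 12 12 14 12 12 12 12 12 12 12 12 13 14 14 12 12 16) (@D3.rec (fun _ =>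 Nat) 12 12 12 12 12 12 13 13 12 12 12 12 12 12 12 14 12 12) (@D3.rec (fun _ => Nat) 6 12 6 12 12 8 12 12 12 12 7 12 12 12 7 12 7 6)
def odep_3 : D2 → D3 → Nat := @D2.rec (fun _ => D3 → Nat) (@D3.rec (fun _ => Nat) 6 12 12 12 6 12 6 12 7 6 6 12 16 7 7 7 7 6) (@D3.rec (fun _ => Nat) 9 7 6 7 12 12 8 9 12 12 12 14 12 12 12 12 13 12) (@D3.rec (fun _ => Nat) 14 12 6 12 6 12 12 12 6 6 12 12 8 8 7 12 12 12) (@D3.rec (fun _ => Nat) 12 13 12 12 12 8 7 12 12 12 8 12 7 6 6 12 12 15) (@D3.rec (fun _ => Nat) 7 12 7 6 6 12 12 14 7 12 12 14 16 15 14 7 7 7) (@D3.rec (fun _ => Nat) 7 7 9 9 6 8 8 12 12 12 12 10 10 8 10 12 12 9) (@D3.rec (fun _ => Nat) 9 9 12 12 12 12 13 13 13 13 13 13 13 13 13 14 13 13) (@D3.rec (fun _ => Nat) 16 13 13 14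 13 13 13 13 13 13 13 13 14 13 13 13 13 15) (@D3.rec (fun _ => Nat) 13 13 13 13 13 13 13 14 13 13 13 7 7 13 13 13 13 13) (@D3.rec (fun _ => Nat) 13 13 14 13 13 7 13 8 7 7 13 13 13 13 13 13 14 13) (@D3.rec (fun _ => Nat) 13 7 7 13 13 9 8 7 7 13 13 13 13 14 13 13 13 13)
def odep_4 : D2 → D3 → Nat := @D2.rec (fun _ => D3 → Nat) (@D3.rec (fun _ => Nat) 13 13 13 13 14 15 13 13 13 16 13 13 13 13 13 13 13 13) (@D3.rec (fun _ => Nat) 14 15 15 13 13 15 13 15 15 13 13 14 13 13 15 13 13 13) (@D3.rec (fun _ => Nat) 13 13 14 14 14 13 13 13 13 14 13 13 13 14 13 14 13 15) (@D3.rec (fun _ => Nat) 13 7 13 7 13 13 13 7 7 13 13 9 13 13 13 13 13 13) (@D3.rec (fun _ => Nat) 13 13 13 13 8 13 7 7 13 15 8 13 13 13 13 13 7 13) (@D3.rec (fun _ =>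 Nat) 13 8 7 7 13 13 16 8 13 15 16 15 8 8 8 8 8 8) (@D3.rec (fun _ => Nat) 10 7 13 13 11 9 9 10 10 10 13 13 13 13 13 13 13 13) (@D3.rec (fun _ => Nat) 13 14 13 13 13 13 15 13 7 13 13 13 7 7 13 13 13 13) (@D3.rec (fun _ => Nat) 13 13 7 13 9 13 13 13 13 13 13 14 13 13 13 13 13 8) (@D3.rec (fun _ => Nat) 8 8 13 13 8 13 8 7 7 13 13 14 8 13 15 14 8 8) (@D3.rec (fun _ => Nat) 8 13 13 15 8 13 13 15 14 8 8 13 15 15 14 16 14 8)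
def odep_5 : D2 → D3 → Nat := @D2.rec (fun _ => D3 → Nat) (@D3.rec (fun _ => Nat) 8 8 8 8 8 7 13 13 13 13 13 13 11 9 11 9 13 13) (@D3.rec (fun _ => Nat) 13 13 14 13 10 10 10 13 13 13 13 13 14 14 14 14 14 14) (@D3.rec (fun _ => Nat) 14 14 14 15 14 14 14 14 16 15 14 14 15 14 15 15 14 14) (@D3.rec (fun _ => Nat) 15 14 14 14 14 14 14 14 14 15 14 14 14 14 14 14 15 14) (@D3.rec (fun _ => Nat) 16 14 14 14 14 14 14 14 14 14 14 10 14 14 14 14 15 14) (@D3.rec (fun _ => Nat) 14 14 14 14 8 14 14 14 14 14 14 14 14 14 15 14 14 9) (@D3.rec (fun _ => Nat) 8 14 14 10 9 8 8 14 14 14 14 15 14 8 14 14 9 8) (@D3.rec (fun _ => Nat) 8 14 14 8 10 8 9 14 14 14 14 15 14 14 14 14 14 14) (@D3.rec (fun _ => Nat) 14 14 14 15 14 14 15 14 14 15 14 16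 15 14 14 14 14 14) (@D3.rec (fun _ => Nat) 14 14 14 16 14 16 16 16 15 14 14 15 14 14 14 16 14 14) (@D3.rec (fun _ => Nat) 16 14 15 14 14 14 15 15 14 14 16 14 16 14 14 14 14 14)
def odep_6 : D2 → D3 → Nat := @D2.rec (fun _ => D3 → Nat) (@D3.rec (fun _ => Nat) 16 14 14 15 15 15 15 15 15 14 14 14 14 14 14 14 15 14) (@D3.rec (fun _ => Nat) 14 14 14 16 14 14 14 14 8 8 14 14 14 14 14 14 8 14) (@D3.rec (fun _ => Nat) 14 9 10 14 14 14 14 8 8 14 9 14 14 8 14 14 16 9) (@D3.rec (fun _ => Nat) 14 15 16 16 15 9 9 9 15 16 15 9 9 9 9 9 9 9) (@D3.rec (fun _ => Nat) 9 9 14 14 14 10 10 10 14 14 14 14 14 14 14 14 15 14) (@D3.rec (fun _ => Nat) 16 14 14 14 8 8 14 14 14 9 14 14 8 14 14 14 14 14) (@D3.rec (fun _ => Nat) 14 14 15 14 14 14 14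 9 14 9 14 9 14 14 15 9 15 9) (@D3.rec (fun _ => Nat) 9 9 14 15 9 9 9 9 14 14 16 14 15 9 9 14 9 9) (@D3.rec (fun _ => Nat) 14 16 16 15 17 15 9 9 9 9 9 9 9 14 14 14 14 14) (@D3.rec (fun _ => Nat) 14 10 10 14 14 14 14 14 14 15 14 14 15 11 14 14 14 15) (@D3.rec (fun _ => Nat) 15 15 15 15 15 15 15 15 15 15 15 15 15 15 15 15 15 15)
def odep_7 : D2 → D3 → Nat := @D2.rec (fun _ => D3 → Nat) (@D3.rec (fun _ => Nat) 15 16 15 15 15 16 15 15 16 15 15 15 15 15 15 15 16 15) (@D3.rec (fun _ => Nat) 15 15 15 15 15 15 16 15 16 15 15 15 15 15 15 15 15 15) (@D3.rec (fun _ => Nat) 9 15 15 15 15 15 16 15 15 15 15 15 15 15 15 15 15 15) (@D3.rec (fun _ => Nat) 15 9 15 15 10 10 9 15 15 9 11 9 10 15 15 15 16 15) (@D3.rec (fun _ => Nat) 15 9 9 9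 9 15 15 10 9 15 15 15 17 15 15 16 15 15) (@D3.rec (fun _ => Nat) 15 15 15 15 15 15 15 16 16 15 16 15 15 15 15 15 15 15) (@D3.rec (fun _ => Nat) 17 15 15 15 15 15 15 16 15 15 16 15 16 16 17 16 17 16) (@D3.rec (fun _ => Nat) 15 15 16 16 16 15 15 15 15 17 17 15 15 15 16 15 15 15) (@D3.rec (fun _ => Nat) 16 15 15 17 17 15 15 15 17 15 15 15 17 16 17 15 16 15) (@D3.rec (fun _ => Nat) 16 16 16 16 16 16 15 15 15 16 15 17 15 15 15 15 15 15) (@D3.rec (fun _ => Nat) 15 15 15 15 15 15 15 10 15 15 15 17 15 15 15 16 15 10)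
def odep_8 : D2 → D3 → Nat := @D2.rec (fun _ => D3 → Nat) (@D3.rec (fun _ => Nat) 10 17 17 16 10 10 16 16 10 16 10 10 15 15 15 15 15 17) (@D3.rec (fun _ => Nat) 15 15 15 10 16 15 15 15 15 15 15 15 15 10 10 10 15 10) (@D3.rec (fun _ => Nat) 16 10 10 10 15 10 10 10 16 16 10 15 15 15 15 15 15 15) (@D3.rec (fun _ => Nat) 15 10 15 15 15 15 15 15 16 15 15 15 16 15 16 16 16 11) (@D3.rec (fun _ => Nat) 16 15 16 16 16 16 16 16 16 16 16 16 16 16 16 16 16 17) (@D3.rec (fun _ => Nat) 16 16 16 16 16 16 16 16 16 16 16 16 16 16 16 16 16 16) (@D3.rec (fun _ => Nat) 16 16 16 16 11 11 10 11 10 11 10 16 17 16 17 16 17 16) (@D3.rec (fun _ => Nat) 16 16 16 16 16 16 16 17 17 17 17 16 16 16 16 16 18 16) (@D3.rec (fun _ => Nat) 16 16 16 16 17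 16 17 16 17 16 16 16 16 16 16 17 17 16) (@D3.rec (fun _ => Nat) 11 11 17 16 16 16 16 11 16 16 11 11 11 11 11 11 11 17) (@D3.rec (fun _ => Nat) 16 16 16 16 16 16 17 16 17 17 17 12 11 12 17 17 12 13)
def odep : Pt → Nat := @Pt.rec (fun _ => Nat) (@D1.rec (fun _ => D2 → D3 → Nat) odep_0 odep_1 odep_2 odep_3 odep_4 odep_5 odep_6 odep_7 odep_8)
def ow_0 : D2 → D3 → (HWord rels S) := @D2.rec (fun _ => D3 → (HWord rels S)) (@D3.rec (fun _ => (HWord rels S)) hw_0 hw_0 hwi_1 hwi_0 hwi_2 hwi_5 hwi_1 hwi_2 hwi_3 hwi_5 hwi_2 hwi_1 hwi_3 hwi_2 hwi_4 hwi_5 hwi_1 hwi_1) (@D3.rec (fun _ => (HWord rels S)) hwi_3 hwi_0 hwi_3 hwi_5 hwi_0 hwi_2 hwi_4 hwi_1 hwi_4 hwi_5 hwi_5 hwi_1 hwi_1 hwi_3 hwi_5 hwi_2 hwi_4 hwi_3) (@D3.rec (fun _ => (HWord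 rels S)) hwi_5 hwi_2 hwi_4 hwi_5 hwi_3 hwi_5 hwi_1 hwi_4 hwi_0 hwi_4 hwi_5 hw_0 hwi_3 hwi_5 hwi_1 hwi_1 hwi_2 hwi_2) (@D3.rec (fun _ => (HWord rels S)) hwi_4 hwi_5 hwi_1 hwi_4 hwi_4 hwi_5 hwi_1 hwi_3 hwi_4 hwi_5 hwi_1 hwi_5 hwi_4 hwi_5 hwi_1 hwi_0 hwi_4 hwi_5) (@D3.rec (fun _ => (HWord rels S)) hwi_3 hwi_3 hwi_4 hwi_5 hwi_0 hwi_3 hwi_5 hwi_4 hwi_1 hwi_5 hwi_5 hwi_2 hwi_5 hwi_1 hwi_2 hwi_1 hwi_4 hwi_5) (@D3.rec (fun _ => (HWord rels S)) hwi_5 hwi_4 hwi_5 hwi_3 hwi_5 hwi_0 hwi_3 hwi_4 hwi_5 hwi_1 hwi_2 hwi_4 hwi_5 hwi_3 hwi_5 hwi_4 hwi_1 hwi_5) (@D3.rec (fun _ => (HWord rels S)) hwi_5 hwi_1 hwi_4 hwi_5 hwi_3 hwi_3 hwi_5 hwi_4 hwi_5 hwi_5 hwi_2 hwi_3 hwi_5 hwi_4 hwi_1 hwi_2 hwi_5 hwi_3) (@D3.rec (fun _ => (HWord rels S)) hwi_1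 hwi_5 hwi_5 hwi_1 hwi_1 hwi_1 hwi_5 hwi_1 hwi_4 hwi_5 hwi_3 hwi_5 hwi_1 hwi_3 hwi_5 hwi_5 hwi_2 hwi_1) (@D3.rec (fun _ => (HWord rels S)) hwi_4 hwi_5 hwi_0 hwi_4 hwi_5 hwi_3 hwi_3 hwi_5 hwi_4 hwi_1 hwi_5 hwi_5 hwi_4 hwi_3 hwi_5 hwi_1 hwi_2 hwi_5) (@D3.rec (fun _ => (HWord rels S)) hwi_3 hwi_1 hwi_5 hwi_0 hwi_0 hwi_1 hwi_1 hwi_2 hwi_3 hwi_5 hwi_4 hwi_1 hwi_2 hwi_5 hwi_3 hwi_5 hwi_5 hwi_1) (@D3.rec (fun _ => (HWord rels S)) hwi_1 hwi_1 hwi_2 hwi_5 hwi_3 hwi_1 hwi_0 hwi_2 hwi_0 hwi_1 hwi_3 hwi_5 hwi_2 hwi_1 hwi_5 hwi_5 hwi_1 hwi_1)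
def ow_1 : D2 → D3 → (HWord rels S) := @D2.rec (fun _ => D3 → (HWord rels S)) (@D3.rec (fun _ => (HWord rels S)) hwi_0 hwi_2 hwi_1 hwi_2 hwi_1 hwi_0 hwi_5 hwi_2 hwi_1 hwi_2 hwi_3 hwi_5 hwi_1 hwi_2 hwi_5 hwi_1 hwi_0 hwi_1) (@D3.rec (fun _ => (HWord rels S)) hwi_2 hwi_5 hwi_5 hwi_1 hwi_1 hwi_4 hwi_5 hwi_3 hwi_3 hwi_5 hwi_4 hwi_1 hwi_1 hwi_3 hwi_5 hwi_4 hwi_1 hwi_5) (@D3.rec (fun _ => (HWord rels S)) hwi_5 hwi_2 hwi_5 hwi_3 hwi_1 hwi_5 hwi_5 hwi_0 hwi_3 hwi_2 hwi_5 hwi_1 hwi_2 hwi_1 hwi_5 hwi_2 hwi_1 hwi_5) (@D3.rec (fun _ => (HWord rels S)) hwi_0 hwi_0 hwi_1 hwi_1 hwi_0 hwi_0 hwi_2 hwi_2 hwi_3 hwi_2 hwi_5 hwi_3 hwi_1 hwi_0 hwi_2 hwi_0 hwi_1 hwi_3) (@D3.rec (fun _ => (HWord rels S)) hwi_5 hwi_2 hwi_5 hwi_5 hwi_1 hwi_1 hwi_0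 hwi_1 hwi_2 hwi_1 hwi_0 hwi_5 hwi_2 hwi_1 hwi_3 hwi_5 hwi_2 hwi_1) (@D3.rec (fun _ => (HWord rels S)) hwi_0 hwi_2 hwi_0 hwi_1 hwi_2 hwi_3 hwi_2 hwi_0 hwi_3 hwi_5 hwi_1 hwi_4 hwi_5 hwi_3 hwi_1 hwi_5 hwi_1 hwi_5) (@D3.rec (fun _ => (HWord rels S)) hwi_2 hwi_1 hwi_1 hwi_0 hwi_2 hwi_1 hwi_2 hwi_1 hwi_2 hwi_3 hwi_2 hwi_3 hwi_2 hwi_1 hwi_5 hwi_2 hwi_1 hwi_2) (@D3.rec (fun _ => (HWord rels S)) hwi_2 hwi_0 hwi_2 hwi_0 hwi_2 hwi_5 hwi_1 hwi_1 hwi_5 hwi_1 hwi_0 hwi_1 hwi_1 hwi_3 hwi_5 hwi_5 hwi_1 hwi_0) (@D3.rec (fun _ => (HWord rels S)) hwi_5 hwi_0 hwi_3 hwi_5 hwi_4 hwi_2 hwi_2 hwi_5 hwi_3 hwi_1 hwi_4 hwi_2 hwi_5 hwi_3 hwi_1 hwi_5 hwi_5 hwi_1) (@D3.rec (fun _ => (HWord rels S)) hwi_3 hwi_5 hwi_2 hwi_1 hwi_5 hwi_5 hwi_0 hwi_2 hwi_1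 hwi_3 hwi_5 hwi_1 hwi_2 hwi_0 hwi_5 hwi_3 hwi_1 hwi_1) (@D3.rec (fun _ => (HWord rels S)) hwi_5 hwi_0 hwi_2 hwi_0 hwi_1 hwi_1 hwi_0 hwi_0 hwi_2 hwi_2 hwi_3 hwi_1 hwi_3 hwi_5 hwi_2 hwi_1 hwi_0 hwi_2)
def ow_2 : D2 → D3 → (HWord rels S) := @D2.rec (fun _ => D3 → (HWord rels S)) (@D3.rec (fun _ => (HWord rels S)) hwi_0 hwi_0 hwi_3 hwi_5 hwi_1 hwi_2 hwi_4 hwi_5 hwi_3 hwi_1 hwi_5 hwi_1 hwi_5 hwi_1 hwi_1 hwi_0 hwi_1 hwi_2) (@D3.rec (fun _ => (HWord rels S)) hwi_1 hwi_3 hwi_1 hwi_1 hwi_5 hwi_2 hwi_2 hwi_2 hwi_0 hwi_3 hwi_5 hwi_3 hwi_4 hwi_5 hwi_3 hwi_1 hwi_1 hwi_0) (@D3.rec (fun _ => (HWord rels S)) hwi_2 hwi_0 hwi_1 hwi_2 hwi_2 hwi_3 hwi_2 hwi_1 hwi_1 hwi_3 hwi_5 hwi_0 hwi_2 hwi_4 hwi_5 hwi_2 hwi_1 hwi_0) (@D3.rec (fun _ => (HWord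 rels S)) hwi_5 hwi_1 hwi_5 hwi_4 hwi_1 hwi_5 hwi_3 hwi_5 hwi_0 hwi_2 hwi_3 hwi_1 hwi_0 hwi_2 hwi_1 hwi_2 hwi_1 hwi_2) (@D3.rec (fun _ => (HWord rels S)) hwi_2 hwi_2 hwi_3 hwi_3 hwi_2 hwi_3 hwi_1 hwi_2 hwi_5 hwi_1 hwi_3 hwi_0 hwi_2 hwi_1 hwi_1 hwi_2 hwi_2 hwi_5) (@D3.rec (fun _ => (HWord rels S)) hwi_1 hwi_3 hwi_5 hwi_1 hwi_0 hwi_5 hwi_0 hwi_1 hwi_0 hwi_2 hwi_1 hwi_0 hwi_3 hwi_5 hwi_1 hwi_2 hwi_5 hwi_1) (@D3.rec (fun _ => (HWord rels S)) hwi_5 hwi_1 hwi_1 hwi_5 hwi_5 hwi_5 hwi_2 hwi_5 hwi_3 hwi_4 hwi_1 hwi_5 hwi_2 hwi_1 hwi_3 hwi_1 hwi_3 hwi_5) (@D3.rec (fun _ => (HWord rels S)) hwi_2 hwi_1 hwi_5 hwi_5 hwi_0 hwi_3 hwi_5 hwi_3 hwi_4 hwi_5 hwi_3 hwi_1 hwi_5 hwi_1 hwi_5 hwi_0 hwi_2 hwi_1) (@D3.rec (fun _ => (HWord rels S))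 hwi_0 hwi_3 hwi_5 hwi_3 hwi_5 hwi_1 hwi_2 hwi_3 hwi_1 hwi_5 hwi_3 hwi_1 hwi_5 hwi_3 hwi_5 hwi_0 hwi_2 hwi_2) (@D3.rec (fun _ => (HWord rels S)) hwi_0 hwi_5 hwi_1 hwi_1 hwi_2 hwi_3 hwi_2 hwi_0 hwi_0 hwi_2 hwi_2 hwi_3 hwi_0 hwi_3 hwi_5 hwi_4 hwi_4 hwi_5) (@D3.rec (fun _ => (HWord rels S)) hwi_3 hwi_1 hwi_1 hwi_0 hwi_2 hwi_0 hwi_3 hwi_1 hwi_3 hwi_5 hwi_3 hwi_2 hwi_4 hwi_5 hwi_0 hwi_1 hwi_0 hwi_5)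
def ow_3 : D2 → D3 → (HWord rels S) := @D2.rec (fun _ => D3 → (HWord rels S)) (@D3.rec (fun _ => (HWord rels S)) hwi_1 hwi_1 hwi_4 hwi_5 hwi_2 hwi_5 hwi_4 hwi_1 hwi_5 hwi_3 hwi_5 hwi_0 hwi_5 hwi_1 hwi_0 hwi_2 hwi_1 hwi_2) (@D3.rec (fun _ => (HWord rels S)) hwi_1 hwi_1 hwi_2 hwi_3 hwi_2 hwi_1 hwi_2 hwi_1 hwi_1 hwi_3 hwi_5 hwi_2 hwi_2 hwi_4 hwi_5 hwi_1 hwi_1 hwi_3) (@D3.rec (fun _ => (HWord rels S)) hwi_5 hwi_5 hwi_4 hwi_1 hwi_3 hwi_0 hwi_2 hwi_1 hwi_0 hwi_5 hwi_1 hwi_2 hwi_2 hwi_1 hwi_1 hwi_0 hwi_2 hwi_3) (@D3.rec (fun _ => (HWord rels S)) hwi_5 hwi_4 hwi_2 hwi_4 hwi_5 hwi_2 hwi_4 hwi_4 hwi_5 hwi_5 hwi_4 hwi_1 hwi_0 hwi_2 hwi_1 hwi_0 hwi_2 hwi_5) (@D3.rec (fun _ => (HWord rels S)) hwi_1 hwi_1 hwi_5 hwi_4 hwi_5 hwi_0 hwi_2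 hwi_2 hwi_1 hwi_1 hwi_2 hwi_1 hwi_5 hwi_5 hwi_3 hwi_0 hwi_2 hwi_1) (@D3.rec (fun _ => (HWord rels S)) hwi_2 hwi_2 hwi_2 hwi_1 hwi_1 hwi_0 hwi_5 hwi_5 hwi_1 hwi_0 hwi_2 hwi_2 hwi_3 hwi_4 hwi_5 hwi_1 hwi_2 hwi_0) (@D3.rec (fun _ => (HWord rels S)) hwi_1 hwi_5 hwi_0 hwi_2 hwi_5 hwi_1 hwi_5 hwi_1 hwi_3 hwi_5 hwi_5 hwi_1 hwi_2 hwi_5 hwi_1 hwi_5 hwi_0 hwi_2) (@D3.rec (fun _ => (HWord rels S)) hwi_4 hwi_2 hwi_3 hwi_2 hwi_1 hwi_3 hwi_5 hwi_2 hwi_5 hwi_1 hwi_1 hwi_5 hwi_5 hwi_1 hwi_5 hwi_1 hwi_0 hwi_5) (@D3.rec (fun _ => (HWord rels S)) hwi_1 hwi_2 hwi_0 hwi_2 hwi_5 hwi_1 hwi_1 hwi_1 hwi_1 hwi_3 hwi_5 hwi_2 hwi_3 hwi_0 hwi_5 hwi_1 hwi_2 hwi_0) (@D3.rec (fun _ => (HWord rels S)) hwi_3 hwi_5 hwi_4 hwi_4 hwi_5 hwi_3 hwi_1 hwi_5 hwi_1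 hwi_5 hwi_2 hwi_1 hwi_5 hwi_2 hwi_5 hwi_1 hwi_0 hwi_5) (@D3.rec (fun _ => (HWord rels S)) hwi_1 hwi_5 hwi_5 hwi_0 hwi_2 hwi_0 hwi_1 hwi_5 hwi_1 hwi_2 hwi_3 hwi_0 hwi_5 hwi_0 hwi_1 hwi_3 hwi_5 hwi_3)
def ow_4 : D2 → D3 → (HWord rels S) := @D2.rec (fun _ => D3 → (HWord rels S)) (@D3.rec (fun _ => (HWord rels S)) hwi_2 hwi_5 hwi_2 hwi_1 hwi_1 hwi_0 hwi_1 hwi_0 hwi_2 hwi_3 hwi_3 hwi_2 hwi_0 hwi_2 hwi_5 hwi_1 hwi_0 hwi_2) (@D3.rec (fun _ => (HWord rels S)) hwi_2 hwi_5 hwi_1 hwi_1 hwi_2 hwi_2 hwi_3 hwi_3 hwi_2 hwi_5 hwi_1 hwi_5 hwi_0 hwi_2 hwi_5 hwi_2 hwi_1 hwi_3) (@D3.rec (fun _ => (HWord rels S)) hwi_2 hwi_4 hwi_3 hwi_1 hwi_2 hwi_2 hwi_1 hwi_3 hwi_5 hwi_1 hwi_2 hwi_4 hwi_5 hwi_2 hwi_1 hwi_1 hwi_4 hwi_0) (@D3.rec (fun _ => (HWord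 rels S)) hwi_5 hwi_4 hwi_1 hwi_3 hwi_0 hwi_2 hwi_1 hwi_0 hwi_5 hwi_2 hwi_3 hwi_2 hwi_2 hwi_0 hwi_2 hwi_5 hwi_4 hwi_5) (@D3.rec (fun _ => (HWord rels S)) hwi_1 hwi_4 hwi_5 hwi_5 hwi_0 hwi_1 hwi_5 hwi_1 hwi_0 hwi_1 hwi_1 hwi_0 hwi_4 hwi_5 hwi_3 hwi_5 hwi_4 hwi_1) (@D3.rec (fun _ => (HWord rels S)) hwi_1 hwi_5 hwi_4 hwi_5 hwi_0 hwi_2 hwi_5 hwi_1 hwi_1 hwi_1 hwi_5 hwi_2 hwi_0 hwi_2 hwi_1 hwi_2 hwi_3 hwi_2) (@D3.rec (fun _ => (HWord rels S)) hwi_2 hwi_1 hwi_0 hwi_2 hwi_1 hwi_2 hwi_5 hwi_0 hwi_1 hwi_1 hwi_0 hwi_3 hwi_2 hwi_4 hwi_5 hwi_4 hwi_5 hwi_5) (@D3.rec (fun _ => (HWord rels S)) hwi_1 hwi_5 hwi_0 hwi_2 hwi_3 hwi_5 hwi_1 hwi_1 hwi_4 hwi_0 hwi_2 hwi_1 hwi_3 hwi_5 hwi_1 hwi_2 hwi_0 hwi_3) (@D3.rec (fun _ => (HWord rels S))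 hwi_2 hwi_1 hwi_5 hwi_2 hwi_3 hwi_3 hwi_5 hwi_5 hwi_2 hwi_4 hwi_5 hwi_4 hwi_0 hwi_1 hwi_4 hwi_5 hwi_5 hwi_3) (@D3.rec (fun _ => (HWord rels S)) hwi_4 hwi_5 hwi_5 hwi_1 hwi_5 hwi_1 hwi_0 hwi_4 hwi_1 hwi_0 hwi_2 hwi_2 hwi_1 hwi_2 hwi_3 hwi_5 hwi_0 hwi_2) (@D3.rec (fun _ => (HWord rels S)) hwi_5 hwi_0 hwi_2 hwi_2 hwi_1 hwi_1 hwi_2 hwi_1 hwi_0 hwi_0 hwi_1 hwi_1 hwi_2 hwi_1 hwi_1 hwi_5 hwi_1 hwi_1)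
def ow_5 : D2 → D3 → (HWord rels S) := @D2.rec (fun _ => D3 → (HWord rels S)) (@D3.rec (fun _ => (HWord rels S)) hwi_2 hwi_0 hwi_3 hwi_2 hwi_2 hwi_5 hwi_1 hwi_0 hwi_2 hwi_1 hwi_2 hwi_3 hwi_3 hwi_4 hwi_5 hwi_5 hwi_5 hwi_0) (@D3.rec (fun _ => (HWord rels S)) hwi_2 hwi_5 hwi_0 hwi_1 hwi_3 hwi_2 hwi_3 hwi_2 hwi_1 hwi_5 hwi_0 hwi_5 hwi_3 hwi_1 hwi_0 hwi_2 hwi_5 hwi_1) (@D3.rec (fun _ => (HWord rels S)) hwi_1 hwi_0 hwi_2 hwi_3 hwi_3 hwi_1 hwi_0 hwi_2 hwi_2 hwi_1 hwi_1 hwi_2 hwi_2 hwi_3 hwi_0 hwi_1 hwi_4 hwi_2) (@D3.rec (fun _ => (HWord rels S)) hwi_1 hwi_0 hwi_5 hwi_5 hwi_1 hwi_1 hwi_5 hwi_2 hwi_0 hwi_0 hwi_1 hwi_3 hwi_5 hwi_1 hwi_0 hwi_2 hwi_2 hwi_1) (@D3.rec (fun _ => (HWord rels S)) hwi_5 hwi_5 hwi_1 hwi_0 hwi_2 hwi_1 hwi_3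 hwi_2 hwi_5 hwi_5 hwi_1 hwi_5 hwi_2 hwi_0 hwi_2 hwi_1 hwi_2 hwi_0) (@D3.rec (fun _ => (HWord rels S)) hwi_0 hwi_3 hwi_5 hwi_5 hwi_3 hwi_1 hwi_5 hwi_1 hwi_3 hwi_5 hwi_2 hwi_2 hwi_5 hwi_1 hwi_0 hwi_5 hwi_1 hwi_5) (@D3.rec (fun _ => (HWord rels S)) hwi_5 hwi_0 hwi_2 hwi_0 hwi_1 hwi_5 hwi_1 hwi_3 hwi_5 hwi_1 hwi_0 hwi_1 hwi_1 hwi_5 hwi_0 hwi_2 hwi_0 hwi_1) (@D3.rec (fun _ => (HWord rels S)) hwi_1 hwi_1 hwi_2 hwi_1 hwi_1 hwi_0 hwi_0 hwi_1 hwi_3 hwi_4 hwi_5 hwi_5 hwi_5 hwi_5 hwi_1 hwi_3 hwi_1 hwi_5) (@D3.rec (fun _ => (HWord rels S)) hwi_0 hwi_2 hwi_1 hwi_3 hwi_0 hwi_2 hwi_2 hwi_1 hwi_2 hwi_5 hwi_3 hwi_5 hwi_0 hwi_4 hwi_3 hwi_5 hwi_3 hwi_5) (@D3.rec (fun _ => (HWord rels S)) hwi_1 hwi_0 hwi_2 hwi_3 hwi_2 hwi_1 hwi_0 hwi_2 hwi_3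 hwi_0 hwi_2 hwi_0 hwi_1 hwi_3 hwi_3 hwi_5 hwi_4 hwi_2) (@D3.rec (fun _ => (HWord rels S)) hwi_3 hwi_3 hwi_0 hwi_2 hwi_0 hwi_2 hwi_0 hwi_1 hwi_1 hwi_2 hwi_5 hwi_3 hwi_5 hwi_1 hwi_3 hwi_0 hwi_3 hwi_5)
def ow_6 : D2 → D3 → (HWord rels S) := @D2.rec (fun _ => D3 → (HWord rels S)) (@D3.rec (fun _ => (HWord rels S)) hwi_2 hwi_4 hwi_4 hwi_4 hwi_3 hwi_3 hwi_0 hwi_5 hwi_1 hwi_2 hwi_4 hwi_5 hwi_1 hwi_5 hwi_5 hwi_1 hwi_5 hwi_0) (@D3.rec (fun _ => (HWord rels S)) hwi_2 hwi_4 hwi_5 hwi_0 hwi_1 hwi_0 hwi_2 hwi_1 hwi_3 hwi_5 hwi_1 hwi_2 hwi_0 hwi_3 hwi_2 hwi_1 hwi_5 hwi_1) (@D3.rec (fun _ => (HWord rels S)) hwi_3 hwi_2 hwi_1 hwi_1 hwi_3 hwi_5 hwi_1 hwi_5 hwi_1 hwi_0 hwi_2 hwi_3 hwi_5 hwi_3 hwi_0 hwi_2 hwi_5 hwi_1) (@D3.rec (fun _ => (HWord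 rels S)) hwi_2 hwi_5 hwi_3 hwi_0 hwi_0 hwi_0 hwi_2 hwi_1 hwi_1 hwi_1 hwi_1 hwi_1 hwi_2 hwi_0 hwi_3 hwi_2 hwi_1 hwi_3) (@D3.rec (fun _ => (HWord rels S)) hwi_3 hwi_2 hwi_1 hwi_2 hwi_3 hwi_1 hwi_3 hwi_3 hwi_3 hwi_2 hwi_4 hwi_4 hwi_5 hwi_5 hwi_1 hwi_1 hwi_5 hwi_0) (@D3.rec (fun _ => (HWord rels S)) hwi_2 hwi_0 hwi_2 hwi_1 hwi_4 hwi_5 hwi_1 hwi_0 hwi_2 hwi_1 hwi_1 hwi_2 hwi_1 hwi_3 hwi_2 hwi_4 hwi_5 hwi_1) (@D3.rec (fun _ => (HWord rels S)) hwi_3 hwi_5 hwi_3 hwi_5 hwi_0 hwi_4 hwi_5 hwi_5 hwi_1 hwi_5 hwi_2 hwi_1 hwi_0 hwi_2 hwi_2 hwi_1 hwi_5 hwi_0) (@D3.rec (fun _ => (HWord rels S)) hwi_2 hwi_5 hwi_1 hwi_3 hwi_0 hwi_2 hwi_3 hwi_5 hwi_1 hwi_2 hwi_1 hwi_3 hwi_0 hwi_0 hwi_1 hwi_2 hwi_1 hwi_0) (@D3.rec (fun _ => (HWord rels S))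 hwi_0 hwi_0 hwi_0 hwi_2 hwi_2 hwi_2 hwi_2 hwi_1 hwi_3 hwi_2 hwi_3 hwi_2 hwi_2 hwi_1 hwi_2 hwi_2 hwi_1 hwi_3) (@D3.rec (fun _ => (HWord rels S)) hwi_4 hwi_5 hwi_1 hwi_5 hwi_2 hwi_5 hwi_1 hwi_3 hwi_5 hwi_2 hwi_0 hwi_5 hwi_1 hwi_3 hwi_5 hwi_1 hwi_5 hwi_5) (@D3.rec (fun _ => (HWord rels S)) hwi_5 hwi_2 hwi_3 hwi_5 hwi_0 hwi_2 hwi_2 hwi_0 hwi_1 hwi_2 hwi_2 hwi_3 hwi_3 hwi_1 hwi_4 hwi_0 hwi_1 hwi_2)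
def ow_7 : D2 → D3 → (HWord rels S) := @D2.rec (fun _ => D3 → (HWord rels S)) (@D3.rec (fun _ => (HWord rels S)) hwi_3 hwi_0 hwi_0 hwi_2 hwi_5 hwi_1 hwi_2 hwi_4 hwi_4 hwi_4 hwi_0 hwi_1 hwi_5 hwi_1 hwi_5 hwi_2 hwi_1 hwi_0) (@D3.rec (fun _ => (HWord rels S)) hwi_0 hwi_1 hwi_4 hwi_1 hwi_0 hwi_2 hwi_2 hwi_0 hwi_0 hwi_5 hwi_5 hwi_5 hwi_1 hwi_2 hwi_3 hwi_2 hwi_5 hwi_1) (@D3.rec (fun _ => (HWord rels S)) hwi_5 hwi_2 hwi_3 hwi_3 hwi_2 hwi_2 hwi_1 hwi_2 hwi_5 hwi_2 hwi_5 hwi_1 hwi_5 hwi_2 hwi_5 hwi_1 hwi_0 hwi_3) (@D3.rec (fun _ => (HWord rels S)) hwi_1 hwi_5 hwi_0 hwi_2 hwi_0 hwi_1 hwi_1 hwi_1 hwi_2 hwi_1 hwi_1 hwi_0 hwi_0 hwi_4 hwi_2 hwi_4 hwi_2 hwi_0) (@D3.rec (fun _ => (HWord rels S)) hwi_2 hwi_0 hwi_0 hwi_1 hwi_2 hwi_2 hwi_1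 hwi_1 hwi_1 hwi_0 hwi_3 hwi_5 hwi_3 hwi_4 hwi_1 hwi_1 hwi_1 hwi_1) (@D3.rec (fun _ => (HWord rels S)) hwi_0 hwi_2 hwi_2 hwi_2 hwi_3 hwi_2 hwi_3 hwi_3 hwi_2 hwi_2 hwi_2 hwi_2 hwi_1 hwi_3 hwi_5 hwi_5 hwi_2 hwi_4) (@D3.rec (fun _ => (HWord rels S)) hwi_2 hwi_0 hwi_4 hwi_1 hwi_1 hwi_0 hwi_2 hwi_2 hwi_1 hwi_3 hwi_1 hwi_1 hwi_1 hwi_0 hwi_0 hwi_1 hwi_3 hwi_2) (@D3.rec (fun _ => (HWord rels S)) hwi_2 hwi_1 hwi_2 hwi_1 hwi_4 hwi_3 hwi_1 hwi_2 hwi_1 hwi_3 hwi_3 hwi_2 hwi_1 hwi_2 hwi_2 hwi_0 hwi_2 hwi_5) (@D3.rec (fun _ => (HWord rels S)) hwi_0 hwi_1 hwi_3 hwi_5 hwi_5 hwi_1 hwi_3 hwi_5 hwi_2 hwi_2 hwi_4 hwi_5 hwi_3 hwi_2 hwi_2 hwi_0 hwi_4 hwi_1) (@D3.rec (fun _ => (HWord rels S)) hwi_2 hwi_5 hwi_5 hwi_5 hwi_3 hwi_3 hwi_5 hwi_1 hwi_2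 hwi_1 hwi_3 hwi_2 hwi_0 hwi_2 hwi_1 hwi_2 hwi_0 hwi_3) (@D3.rec (fun _ => (HWord rels S)) hwi_2 hwi_1 hwi_3 hwi_2 hwi_2 hwi_4 hwi_3 hwi_2 hwi_0 hwi_3 hwi_5 hwi_3 hwi_0 hwi_2 hwi_2 hwi_5 hwi_0 hwi_0)
def ow_8 : D2 → D3 → (HWord rels S) := @D2.rec (fun _ => D3 → (HWord rels S)) (@D3.rec (fun _ => (HWord rels S)) hwi_2 hwi_3 hwi_2 hwi_1 hwi_2 hwi_2 hwi_2 hwi_2 hwi_2 hwi_3 hwi_3 hwi_2 hwi_2 hwi_2 hwi_3 hwi_1 hwi_0 hwi_3) (@D3.rec (fun _ => (HWord rels S)) hwi_1 hwi_0 hwi_2 hwi_1 hwi_3 hwi_1 hwi_1 hwi_3 hwi_5 hwi_3 hwi_5 hwi_2 hwi_2 hwi_1 hwi_0 hwi_2 hwi_3 hwi_2) (@D3.rec (fun _ => (HWord rels S)) hwi_1 hwi_0 hwi_2 hwi_5 hwi_2 hwi_1 hwi_0 hwi_2 hwi_3 hwi_1 hwi_1 hwi_2 hwi_1 hwi_1 hwi_3 hwi_3 hwi_5 hwi_5) (@D3.rec (fun _ => (HWord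 rels S)) hwi_4 hwi_1 hwi_1 hwi_1 hwi_3 hwi_5 hwi_0 hwi_3 hwi_1 hwi_2 hwi_4 hwi_5 hwi_3 hwi_1 hwi_1 hwi_0 hwi_5 hwi_2) (@D3.rec (fun _ => (HWord rels S)) hwi_1 hwi_1 hwi_1 hwi_1 hwi_2 hwi_1 hwi_5 hwi_2 hwi_2 hwi_4 hwi_1 hwi_0 hwi_3 hwi_2 hwi_3 hwi_5 hwi_4 hwi_0) (@D3.rec (fun _ => (HWord rels S)) hwi_2 hwi_2 hwi_1 hwi_1 hwi_3 hwi_2 hwi_1 hwi_3 hwi_2 hwi_2 hwi_3 hwi_2 hwi_4 hwi_1 hwi_5 hwi_2 hwi_1 hwi_2) (@D3.rec (fun _ => (HWord rels S)) hwi_0 hwi_0 hwi_2 hwi_2 hwi_2 hwi_0 hwi_0 hwi_2 hwi_2 hwi_1 hwi_2 hwi_1 hwi_3 hwi_4 hwi_2 hwi_3 hwi_2 hwi_3) (@D3.rec (fun _ => (HWord rels S)) hwi_3 hwi_1 hwi_3 hwi_4 hwi_3 hwi_2 hwi_3 hwi_2 hwi_3 hwi_3 hwi_3 hwi_3 hwi_1 hwi_1 hwi_5 hwi_1 hwi_5 hwi_2) (@D3.rec (fun _ => (HWord rels S))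 hwi_5 hwi_2 hwi_0 hwi_3 hwi_3 hwi_4 hwi_4 hwi_3 hwi_2 hwi_2 hwi_2 hwi_2 hwi_3 hwi_2 hwi_3 hwi_3 hwi_3 hwi_3) (@D3.rec (fun _ => (HWord rels S)) hwi_2 hwi_1 hwi_3 hwi_3 hwi_1 hwi_2 hwi_2 hwi_2 hwi_3 hwi_1 hwi_2 hwi_2 hwi_2 hwi_1 hwi_2 hwi_0 hwi_1 hwi_1) (@D3.rec (fun _ => (HWord rels S)) hwi_5 hwi_2 hwi_4 hwi_5 hwi_1 hwi_3 hwi_2 hwi_1 hwi_2 hwi_1 hwi_2 hwi_1 hwi_2 hwi_2 hwi_1 hwi_1 hwi_1 hwi_1)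
def ow : Pt → (HWord rels S) := @Pt.rec (fun _ => (HWord rels S)) (@D1.rec (fun _ => D2 → D3 → (HWord rels S)) ow_0 ow_1 ow_2 ow_3 ow_4 ow_5 ow_6 ow_7 ow_8)
theorem lab_chk_0 : chkLabF allPts lab subF_0 = true := by decide +kernel
theorem lab_chk_1 : chkLabF allPts lab subF_1 = true := by decide +kernel
theorem lab_chk_2 : chkLabF allPts lab subF_2 = true := by decide +kernel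
theorem lab_chk_3 : chkLabF allPts lab subF_3 = true := by decide +kernel
theorem lab_chk_4 : chkLabF allPts lab subF_4 = true := by decide +kernel
theorem lab_chk_5 : chkLabF allPts lab subF_5 = true := by decide +kernel
def root_0 : Pt := (Pt.mk D1.c0 D2.c0 D3.c0)
theorem conn_chk_0 : chkConn rels S fwd inv allPts beqPt lab odep ow root_0 0 = true := by decide +kernel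
theorem count_chk_0 : countPts (fun b => Nat.beq (lab b) 0) = 1 := by decide +kernel
def root_1 : Pt := (Pt.mk D1.c0 D2.c0 D3.c1)
theorem conn_chk_1 : chkConn rels S fwd inv allPts beqPt lab odep ow root_1 1 = true := by decide +kernel
theorem count_chk_1 : countPts (fun b => Nat.beq (lab b) 1) = 1365 := by decide +kernel
def root_2 : Pt := (Pt.mk D1.c0 D2.c2 D3.c11)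
theorem conn_chk_2 : chkConn rels S fwd inv allPts beqPt lab odep ow root_2 2 = true := by decide +kernel
theorem count_chk_2 : countPts (fun b => Nat.beq (lab b) 2) = 416 := by decide +kernel

end

end Cfsg.Agent.Helper28.S1680
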