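import Cfsg.Agent.Lib.Helper28.S1680.Tree

set_option autoImplicit false
set_option maxRecDepth 100000
set_option linter.all false

namespace Cfsg.Agent.Helper28.S1680

open Cfsg.Agent.Helper28
open Cfsg.Spor.Suz (Gen)

noncomputable section

def lv_b_0 : D2 → D3 → Nat := @D2.rec (fun _ => D3 → Nat) (@D3.rec (fun _ => Nat) 1 0 1 0 3 3 1 0 4 0 0 1 2 0 5 0 1 1) (@D3.rec (fun _ => Nat) 2 36 2 19 5 0 3 1 2 0 0 1 35 2 20 0 3 53) (@D3.rec (fun _ => Nat) 34 0 3 21 6 0 1 2 49 2 0 6 3 0 1 1 54 0) (@D3.rec (fun _ => Nat) 3 20 1 2 55 36 1 2 2 0 50 21 7 0 1 49 2 21) (@D3.rec (fun _ => Nat) 7 3 51 0 51 3 0 7 1 0 0 0 0 1 54 1 2 0) (@D3.rec (fun _ => Nat) 22 2 22 3 36 0 2 2 0 50 48 3 0 3 0 50 1 0) (@D3.rec (fun _ => Nat) 0 1 49 0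 49 3 23 8 0 0 0 51 0 51 1 0 0 8) (@D3.rec (fun _ => Nat) 1 0 0 1 1 1 0 1 2 0 3 0 1 3 22 0 0 1) (@D3.rec (fun _ => Nat) 2 0 0 3 0 50 3 0 52 1 57 52 50 4 0 1 0 0) (@D3.rec (fun _ => Nat) 52 1 0 0 36 1 1 4 51 0 51 1 0 23 9 0 0 1) (@D3.rec (fun _ => Nat) 1 1 0 0 53 1 0 8 3 1 2 0 0 1 0 0 1 1)
def lv_b_1 : D2 → D3 → Nat := @D2.rec (fun _ => D3 → Nat) (@D3.rec (fun _ => Nat) 60 8 51 9 5 0 0 9 1 3 3 0 1 0 0 1 53 35) (@D3.rec (fun _ => Nat) 0 24 0 1 1 2 52 0 3 0 0 1 1 4 0 50 1 56) (@D3.rec (fun _ => Nat) 58 0 0 52 1 59 52 61 50 0 0 1 60 1 0 0 1 0) (@D3.rec (fun _ => Nat) 0 36 1 1 58 59 4 5 5 0 0 51 1 61 60 3 1 2) (@D3.rec (fun _ => Nat) 0 0 0 0 1 1 61 57 52 5 0 23 10 1 2 0 0 1) (@D3.rec (fun _ => Nat) 0 10 5 1 53 9 0 0 2 0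 0 3 0 0 1 0 1 112) (@D3.rec (fun _ => Nat) 3 1 1 62 9 53 11 5 59 9 53 10 0 1 0 0 1 0) (@D3.rec (fun _ => Nat) 111 0 3 24 0 0 1 1 0 1 55 37 1 2 0 0 1 0) (@D3.rec (fun _ => Nat) 24 25 3 52 0 1 0 0 0 1 1 0 0 52 1 58 60 1) (@D3.rec (fun _ => Nat) 2 0 0 1 58 54 62 0 1 2 0 1 62 0 0 0 1 1) (@D3.rec (fun _ => Nat) 0 0 3 38 1 1 60 59 5 52 5 1 2 0 0 1 63 62)
def lv_b_2 : D2 → D3 → Nat := @D2.rec (fun _ => D3 → Nat) (@D3.rec (fun _ => Nat) 5 0 2 0 0 0 3 0 0 1 0 1 115 1 1 62 59 54) (@D3.rec (fun _ => Nat) 5 54 59 1 0 0 0 109 0 2 0 0 3 0 0 1 1 0) (@D3.rec (fun _ => Nat) 3 6 1 53 0 53 0 1 1 2 116 0 8 3 0 0 1 0) (@D3.rec (fun _ => Nat) 1 118 0 0 1 0 1 107 0 3 0 1 62 4 53 117 6 60) (@D3.rec (fun _ => Nat) 53 0 60 53 0 0 1 6 0 1 1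 0 6 1 1 0 58 0) (@D3.rec (fun _ => Nat) 1 2 0 1 81 0 57 1 53 3 37 0 2 0 78 0 0 1) (@D3.rec (fun _ => Nat) 0 1 1 0 0 0 0 56 0 1 1 0 92 1 1 1 2 0) (@D3.rec (fun _ => Nat) 0 1 58 52 0 2 0 82 89 0 84 1 0 1 0 62 3 1) (@D3.rec (fun _ => Nat) 0 2 0 38 0 1 3 61 1 0 79 1 120 1 0 0 3 40) (@D3.rec (fun _ => Nat) 81 0 1 1 0 4 0 60 61 4 54 54 0 2 0 0 3 0) (@D3.rec (fun _ => Nat) 0 1 1 63 3 6 62 1 82 119 84 0 3 0 0 1 0 1)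
def lv_b_3 : D2 → D3 → Nat := @D2.rec (fun _ => D3 → Nat) (@D3.rec (fun _ => Nat) 116 1 2 0 90 0 0 1 0 1 122 0 0 1 61 4 53 120) (@D3.rec (fun _ => Nat) 6 61 0 61 6 1 1 1 1 2 108 79 8 3 0 1 110 1) (@D3.rec (fun _ => Nat) 0 0 0 1 1 0 3 115 87 7 1 101 0 1 1 8 6 2) (@D3.rec (fun _ => Nat) 116 90 0 3 116 0 1 9 0 0 0 1 0 1 108 109 6 0) (@D3.rec (fun _ => Nat) 1 1 0 1 109 0 9 0 1 1 0 74 58 1 112 0 4 7) (@D3.rec (fun _ => Nat) 101 0 108 1 1 65 1 0 1 0 116 116 0 87 4 1 0 99) (@D3.rec (fun _ => Nat) 7 3 23 0 4 1 0 1 2 0 0 1 3 0 1 0 0 3) (@D3.rec (fun _ => Nat) 39 112 4 0 1 60 0 83 0 80 1 0 0 1 0 1 0 0) (@D3.rec (fun _ => Nat) 1 4 22 81 0 1 1 1 1 2 0 92 1 86 119 1 110 0) (@D3.rec (fun _ => Nat) 2 0 83 88 0 85 1 0 1 0 3 1 113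 119 0 1 0 0) (@D3.rec (fun _ => Nat) 1 0 0 0 3 0 1 116 1 0 114 83 59 40 1 82 0 82)
def lv_b_4 : D2 → D3 → Nat := @D2.rec (fun _ => D3 → Nat) (@D3.rec (fun _ => Nat) 80 0 80 1 119 0 1 0 3 57 4 112 60 84 0 1 73 120) (@D3.rec (fun _ => Nat) 113 0 1 1 0 0 4 0 0 0 1 0 0 4 59 0 1 2) (@D3.rec (fun _ => Nat) 125 5 0 1 0 102 1 119 0 80 61 3 0 81 1 110 1 0) (@D3.rec (fun _ => Nat) 0 87 1 1 0 3 118 88 7 0 4 0 0 120 6 119 83 119) (@D3.rec (fun _ => Nat) 1 58 109 0 0 1 1 118 111 114 1 57 2 120 3 112 89 1) (@D3.rec (fun _ => Nat) 1 0 1 123 114 114 0 1 1 72 1 120 0 4 7 0 5 0) (@D3.rec (fun _ => Nat) 110 1 0 119 119 0 4 100 7 3 8 2 62 3 110 9 0 0) (@D3.rec (fun _ => Nat) 1 110 73 55 113 107 1 1 1 0 9 117 87 106 1 0 107 103) (@D3.rec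 (fun _ => Nat) 117 117 0 114 1 9 113 126 0 3 117 89 113 1 2 109 118 85) (@D3.rec (fun _ => Nat) 1 4 0 1 0 1 0 1 108 111 3 0 1 0 116 1 0 7) (@D3.rec (fun _ => Nat) 3 0 10 0 1 1 116 74 1 0 107 1 0 76 108 60 108 1)
def lv_b_5 : D2 → D3 → Nat := @D2.rec (fun _ => D3 → Nat) (@D3.rec (fun _ => Nat) 0 106 101 0 1 11 1 0 116 1 0 121 1 90 92 0 95 99) (@D3.rec (fun _ => Nat) 0 4 5 1 111 8 0 85 1 0 59 5 85 1 99 117 4 1) (@D3.rec (fun _ => Nat) 1 0 3 58 4 1 0 6 78 1 1 120 122 4 0 78 5 0) (@D3.rec (fun _ => Nat) 1 86 0 113 1 1 122 115 0 0 1 1 0 1 79 115 114 1) (@D3.rec (fun _ => Nat) 0 1 74 0 4 58 5 86 100 0 1 93 7 98 115 96 115 99) (@D3.rec (fun _ => Nat) 85 2 125 0 90 1 116 1 61 113 119 12 0 1 0 0 1 0) (@D3.rec (fun _ => Nat)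 0 0 3 0 1 122 1 115 115 1 113 1 1 0 113 7 110 1) (@D3.rec (fun _ => Nat) 1 1 0 115 1 0 116 1 2 117 0 0 0 0 1 64 1 113) (@D3.rec (fun _ => Nat) 75 120 111 1 79 115 114 1 0 0 4 59 76 5 117 0 87 0) (@D3.rec (fun _ => Nat) 1 0 117 3 0 1 0 7 5 60 0 0 1 121 0 1 5 0) (@D3.rec (fun _ => Nat) 1 120 1 1 0 54 81 1 1 0 118 102 59 1 121 0 2 7)
def lv_b_6 : D2 → D3 → Nat := @D2.rec (fun _ => D3 → Nat) (@D3.rec (fun _ => Nat) 59 3 123 0 1 119 123 0 1 85 114 113 1 90 0 1 0 73) (@D3.rec (fun _ => Nat) 59 121 109 1 1 112 9 120 91 8 1 0 109 4 120 120 118 1) (@D3.rec (fun _ => Nat) 101 0 1 1 2 121 1 1 124 114 7 3 112 89 114 114 0 1) (@D3.rec (fun _ => Nat) 112 114 0 1 122 94 8 8 108 27 108 1 107 86 5 0 1 105) (@D3.rec (fun _ => Nat)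 0 1 1 124 121 1 114 108 9 65 3 60 110 0 1 1 112 75) (@D3.rec (fun _ => Nat) 57 0 10 117 86 108 1 112 116 107 1 0 1 117 0 121 113 1) (@D3.rec (fun _ => Nat) 2 115 90 120 113 2 111 6 1 0 3 1 111 4 114 1 1 0) (@D3.rec (fun _ => Nat) 4 6 1 116 1 106 8 88 1 121 76 109 1 0 107 114 1 108) (@D3.rec (fun _ => Nat) 61 118 1 111 60 0 111 1 112 106 113 1 0 1 0 0 1 2) (@D3.rec (fun _ => Nat) 121 117 1 114 0 99 1 2 0 0 118 5 113 1 125 1 0 114) (@D3.rec (fun _ => Nat) 0 121 123 115 78 6 76 114 1 121 114 4 118 80 5 0 1 111)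
def lv_b_7 : D2 → D3 → Nat := @D2.rec (fun _ => D3 → Nat) (@D3.rec (fun _ => Nat) 120 0 40 114 80 116 24 5 1 119 1 112 122 1 116 7 111 77) (@D3.rec (fun _ => Nat) 118 1 1 1 116 119 82 78 84 1 124 26 1 0 5 60 114 1) (@D3.rec (fun _ => Nat) 117 3 123 113 116 113 127 117 126 54 126 1 115 66 0 1 113 1) (@D3.rec (fun _ => Nat) 1 108 113 13 0 1 1 1 87 123 1 90 118 117 124 123 7 115) (@D3.rec (fun _ => Nat) 10 1 85 119 8 119 1 96 1 0 2 7 121 3 1 1 1 1) (@D3.rec (fun _ => Nat) 120 115 81 63 118 119 117 83 8 128 79 0 1 119 121 1 65 5) (@D3.rec (fun _ => Nat) 60 118 117 1 1 80 82 120 1 117 83 1 118 56 1 124 127 120) (@D3.rec (fun _ => Nat) 121 1 127 1 0 1 89 124 1 122 122 0 1 0 121 39 108 82) (@D3.rec (fun _ => Nat) 116 1 121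 119 61 1 118 119 0 27 3 122 60 124 122 1 121 125) (@D3.rec (fun _ => Nat) 119 118 120 1 124 108 113 1 119 1 120 57 112 8 120 123 114 115) (@D3.rec (fun _ => Nat) 112 1 2 118 61 100 120 1 125 2 120 62 114 11 112 114 1 94)
def lv_b_8 : D2 → D3 → Nat := @D2.rec (fun _ => D3 → Nat) (@D3.rec (fun _ => Nat) 88 1 123 113 95 107 113 27 1 65 1 70 119 0 64 1 75 57) (@D3.rec (fun _ => Nat) 1 112 116 107 125 1 1 2 114 2 122 0 4 1 109 4 119 5) (@D3.rec (fun _ => Nat) 115 1 0 89 123 1 107 108 120 1 1 123 1 1 117 2 107 96) (@D3.rec (fun _ => Nat) 117 91 122 1 125 117 120 2 121 0 126 0 126 1 1 84 82 111) (@D3.rec (fun _ => Nat) 93 1 1 117 129 119 117 113 116 5 1 80 1 88 121 122 120 124) (@D3.rec (fun _ => Nat) 64 80 118 123 121 28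 1 116 60 3 123 127 125 120 0 55 1 3) (@D3.rec (fun _ => Nat) 8 115 12 113 0 1 108 11 11 96 119 1 117 3 126 119 58 81) (@D3.rec (fun _ => Nat) 128 1 105 119 61 85 127 58 126 126 1 126 1 1 126 118 129 120) (@D3.rec (fun _ => Nat) 121 0 1 118 61 128 122 124 80 112 127 116 2 118 125 117 107 126) (@D3.rec (fun _ => Nat) 96 69 122 128 1 113 0 109 2 1 5 110 0 1 117 117 118 112) (@D3.rec (fun _ => Nat) 111 128 125 117 1 124 131 1 126 1 3 1 125 3 1 1 1 3)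
def lv_b : Pt → Nat := @Pt.rec (fun _ => Nat) (@D1.rec (fun _ => D2 → D3 → Nat) lv_b_0 lv_b_1 lv_b_2 lv_b_3 lv_b_4 lv_b_5 lv_b_6 lv_b_7 lv_b_8)
abbrev lc_b_Cert_tree : Cert rels S Gen.b := Cert.tree
abbrev lc_b_rc_10_0 : Cert rels S Gen.b := rc_10_0
abbrev lc_b_rc_10_2 : Cert rels S Gen.b := rc_10_2
abbrev lc_b_rc_11_0 : Cert rels S Gen.b := rc_11_0
abbrev lc_b_rc_11_2 : Cert rels S Gen.b := rc_11_2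
abbrev lc_b_rc_11_4 : Cert rels S Gen.b := rc_11_4
abbrev lc_b_rc_12_0 : Cert rels S Gen.b := rc_12_0
abbrev lc_b_rc_12_2 : Cert rels S Gen.b := rc_12_2
abbrev lc_b_rc_12_4 : Cert rels S Gen.b := rc_12_4
abbrev lc_b_rc_1_1 : Cert rels S Gen.b := rc_1_1
abbrev lc_b_rc_1_3 : Cert rels S Gen.b := rc_1_3
abbrev lc_b_rc_1_5 : Cert rels S Gen.b := rc_1_5
abbrev lc_b_rc_1_7 : Cert rels S Gen.b := rc_1_7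
abbrev lc_b_rc_1_9 : Cert rels S Gen.b := rc_1_9
abbrev lc_b_rc_30_1 : Cert rels S Gen.b := rc_30_1
abbrev lc_b_rc_30_13 : Cert rels S Gen.b := rc_30_13
abbrev lc_b_rc_30_17 : Cert rels S Gen.b := rc_30_17
abbrev lc_b_rc_30_5 : Cert rels S Gen.b := rc_30_5
abbrev lc_b_rc_30_9 : Cert rels S Gen.b := rc_30_9
abbrev lc_b_rc_31_12 : Cert rels S Gen.b := rc_31_12
abbrev lc_b_rc_31_3 : Cert rels S Gen.b := rc_31_3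
abbrev lc_b_rc_31_6 : Cert rels S Gen.b := rc_31_6
abbrev lc_b_rc_31_9 : Cert rels S Gen.b := rc_31_9
abbrev lc_b_rc_32_15 : Cert rels S Gen.b := rc_32_15
abbrev lc_b_rc_32_26 : Cert rels S Gen.b := rc_32_26
abbrev lc_b_rc_32_36 : Cert rels S Gen.b := rc_32_36
abbrev lc_b_rc_32_41 : Cert rels S Gen.b := rc_32_41
abbrev lc_b_rc_32_46 : Cert rels S Gen.b := rc_32_46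
abbrev lc_b_rc_32_52 : Cert rels S Gen.b := rc_32_52
abbrev lc_b_rc_32_57 : Cert rels S Gen.b := rc_32_57
abbrev lc_b_rc_32_62 : Cert rels S Gen.b := rc_32_62
abbrev lc_b_rc_32_72 : Cert rels S Gen.b := rc_32_72
abbrev lc_b_rc_7_0 : Cert rels S Gen.b := rc_7_0
abbrev lc_b_rc_7_1 : Cert rels S Gen.b := rc_7_1
abbrev lc_b_rc_8_0 : Cert rels S Gen.b := rc_8_0
abbrev lc_b_rc_8_2 : Cert rels S Gen.b := rc_8_2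
abbrev lc_b_rc_8_4 : Cert rels S Gen.b := rc_8_4
abbrev lc_b_rc_9_0 : Cert rels S Gen.b := rc_9_0
abbrev lc_b_rc_9_2 : Cert rels S Gen.b := rc_9_2
abbrev lc_b_sc_1_0 : Cert rels S Gen.b := sc_1_0
def ce_b_0 : D2 → D3 → (Cert rels S Gen.b) := @D2.rec (fun _ => D3 → (Cert rels S Gen.b)) (@D3.rec (fun _ => (Cert rels S Gen.b)) lc_b_sc_1_0 lc_b_Cert_tree lc_b_rc_7_0 lc_b_Cert_tree lc_b_rc_8_2 lc_b_rc_11_2 lc_b_rc_7_0 lc_b_Cert_tree lc_b_rc_9_2 lc_b_Cert_tree lc_b_Cert_tree lc_b_rc_7_0 lc_b_rc_9_2 lc_b_Cert_tree lc_b_rc_10_2 lc_b_Cert_tree lc_b_rc_7_0 lc_b_rc_7_0) (@D3.rec (fun _ => (Cert rels S Gen.b)) lc_b_rc_9_2 lc_b_rc_1_5 lc_b_rc_9_2 lc_b_rc_11_2 lc_b_rc_12_2 lc_b_Cert_tree lc_b_rc_10_2 lc_b_rc_7_0 lc_b_rc_10_2 lc_b_Cert_tree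 lc_b_Cert_tree lc_b_rc_7_0 lc_b_rc_31_9 lc_b_rc_9_2 lc_b_rc_11_2 lc_b_Cert_tree lc_b_rc_10_2 lc_b_rc_8_2) (@D3.rec (fun _ => (Cert rels S Gen.b)) lc_b_rc_31_9 lc_b_Cert_tree lc_b_rc_10_2 lc_b_rc_11_2 lc_b_rc_12_2 lc_b_Cert_tree lc_b_rc_7_0 lc_b_rc_10_2 lc_b_rc_9_0 lc_b_rc_10_2 lc_b_Cert_tree lc_b_rc_12_2 lc_b_rc_9_2 lc_b_Cert_tree lc_b_rc_7_0 lc_b_rc_7_0 lc_b_rc_8_2 lc_b_Cert_tree) (@D3.rec (fun _ => (Cert rels S Gen.b)) lc_b_rc_10_2 lc_b_rc_11_2 lc_b_rc_7_0 lc_b_rc_10_2 lc_b_rc_8_2 lc_b_rc_31_9 lc_b_rc_7_0 lc_b_rc_9_2 lc_b_rc_10_2 lc_b_Cert_tree lc_b_rc_9_0 lc_b_rc_11_2 lc_b_rc_12_2 lc_b_Cert_tree lc_b_rc_7_0 lc_b_rc_8_4 lc_b_rc_10_2 lc_b_rc_11_2) (@D3.rec (fun _ => (Cert rels S Gen.b)) lc_b_rc_12_2 lc_b_rc_9_2 lc_b_rc_10_2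 lc_b_Cert_tree lc_b_rc_12_2 lc_b_rc_9_2 lc_b_Cert_tree lc_b_rc_12_2 lc_b_rc_7_0 lc_b_Cert_tree lc_b_Cert_tree lc_b_Cert_tree lc_b_Cert_tree lc_b_rc_7_0 lc_b_rc_8_2 lc_b_rc_7_0 lc_b_rc_10_2 lc_b_Cert_tree) (@D3.rec (fun _ => (Cert rels S Gen.b)) lc_b_rc_11_2 lc_b_rc_10_2 lc_b_rc_11_2 lc_b_rc_9_2 lc_b_rc_31_9 lc_b_Cert_tree lc_b_rc_9_2 lc_b_rc_10_2 lc_b_Cert_tree lc_b_rc_12_4 lc_b_rc_8_4 lc_b_rc_10_2 lc_b_Cert_tree lc_b_rc_9_2 lc_b_Cert_tree lc_b_rc_10_2 lc_b_rc_7_0 lc_b_Cert_tree) (@D3.rec (fun _ => (Cert rels S Gen.b)) lc_b_Cert_tree lc_b_rc_7_0 lc_b_rc_10_2 lc_b_Cert_tree lc_b_rc_12_2 lc_b_rc_9_2 lc_b_rc_11_2 lc_b_rc_12_2 lc_b_Cert_tree lc_b_Cert_tree lc_b_Cert_tree lc_b_rc_9_2 lc_b_Cert_tree lc_b_rc_12_2 lc_b_rc_7_0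 lc_b_Cert_tree lc_b_Cert_tree lc_b_rc_12_2) (@D3.rec (fun _ => (Cert rels S Gen.b)) lc_b_rc_7_0 lc_b_Cert_tree lc_b_Cert_tree lc_b_rc_7_0 lc_b_rc_7_0 lc_b_rc_7_0 lc_b_Cert_tree lc_b_rc_7_0 lc_b_rc_10_2 lc_b_Cert_tree lc_b_rc_9_2 lc_b_Cert_tree lc_b_rc_7_0 lc_b_rc_9_2 lc_b_rc_11_2 lc_b_Cert_tree lc_b_Cert_tree lc_b_rc_7_0) (@D3.rec (fun _ => (Cert rels S Gen.b)) lc_b_rc_10_2 lc_b_Cert_tree lc_b_Cert_tree lc_b_rc_10_2 lc_b_Cert_tree lc_b_rc_12_4 lc_b_rc_9_2 lc_b_Cert_tree lc_b_rc_12_4 lc_b_rc_7_0 lc_b_rc_7_1 lc_b_rc_11_2 lc_b_rc_10_2 lc_b_rc_9_2 lc_b_Cert_tree lc_b_rc_7_0 lc_b_Cert_tree lc_b_Cert_tree) (@D3.rec (fun _ => (Cert rels S Gen.b)) lc_b_rc_9_2 lc_b_rc_7_0 lc_b_Cert_tree lc_b_Cert_tree lc_b_rc_12_2 lc_b_rc_7_0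 lc_b_rc_7_0 lc_b_rc_8_2 lc_b_rc_9_2 lc_b_Cert_tree lc_b_rc_12_2 lc_b_rc_7_0 lc_b_Cert_tree lc_b_rc_11_2 lc_b_rc_12_2 lc_b_Cert_tree lc_b_Cert_tree lc_b_rc_7_0) (@D3.rec (fun _ => (Cert rels S Gen.b)) lc_b_rc_7_0 lc_b_rc_7_0 lc_b_Cert_tree lc_b_Cert_tree lc_b_rc_9_2 lc_b_rc_7_0 lc_b_Cert_tree lc_b_rc_8_2 lc_b_rc_12_2 lc_b_rc_7_0 lc_b_rc_9_2 lc_b_Cert_tree lc_b_Cert_tree lc_b_rc_7_0 lc_b_Cert_tree lc_b_Cert_tree lc_b_rc_7_0 lc_b_rc_7_0)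
def ce_b_1 : D2 → D3 → (Cert rels S Gen.b) := @D2.rec (fun _ => D3 → (Cert rels S Gen.b)) (@D3.rec (fun _ => (Cert rels S Gen.b)) lc_b_rc_30_9 lc_b_rc_8_2 lc_b_rc_11_2 lc_b_rc_8_2 lc_b_rc_12_2 lc_b_Cert_tree lc_b_Cert_tree lc_b_rc_12_2 lc_b_rc_7_0 lc_b_rc_8_2 lc_b_rc_9_2 lc_b_Cert_tree lc_b_rc_7_0 lc_b_Cert_tree lc_b_Cert_tree lc_b_rc_7_0 lc_b_rc_30_13 lc_b_rc_12_2) (@D3.rec (fun _ => (Cert rels S Gen.b)) lc_b_Cert_tree lc_b_rc_11_2 lc_b_Cert_tree lc_b_rc_7_0 lc_b_rc_7_0 lc_b_rc_10_2 lc_b_rc_30_9 lc_b_Cert_tree lc_b_rc_9_2 lc_b_Cert_tree lc_b_Cert_tree lc_b_rc_7_0 lc_b_rc_7_0 lc_b_rc_9_2 lc_b_Cert_tree lc_b_rc_12_4 lc_b_rc_7_0 lc_b_rc_31_3) (@D3.rec (fun _ => (Cert rels S Gen.b)) lc_b_rc_8_2 lc_b_Cert_tree lc_b_Cert_tree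 lc_b_rc_9_2 lc_b_rc_7_0 lc_b_rc_7_1 lc_b_rc_11_2 lc_b_rc_31_9 lc_b_rc_9_2 lc_b_Cert_tree lc_b_Cert_tree lc_b_rc_7_0 lc_b_rc_31_6 lc_b_rc_7_0 lc_b_Cert_tree lc_b_Cert_tree lc_b_rc_7_0 lc_b_Cert_tree) (@D3.rec (fun _ => (Cert rels S Gen.b)) lc_b_Cert_tree lc_b_rc_12_2 lc_b_rc_7_0 lc_b_rc_7_0 lc_b_rc_31_9 lc_b_rc_11_4 lc_b_rc_8_2 lc_b_rc_8_2 lc_b_rc_9_2 lc_b_Cert_tree lc_b_Cert_tree lc_b_rc_9_2 lc_b_rc_7_0 lc_b_rc_31_6 lc_b_rc_31_9 lc_b_rc_12_2 lc_b_rc_7_0 lc_b_rc_9_2) (@D3.rec (fun _ => (Cert rels S Gen.b)) lc_b_Cert_tree lc_b_Cert_tree lc_b_Cert_tree lc_b_Cert_tree lc_b_rc_7_0 lc_b_rc_7_0 lc_b_rc_30_9 lc_b_rc_8_2 lc_b_rc_8_2 lc_b_rc_12_2 lc_b_Cert_tree lc_b_rc_11_2 lc_b_rc_12_2 lc_b_rc_7_0 lc_b_rc_9_2 lc_b_Cert_tree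 lc_b_Cert_tree lc_b_rc_7_0) (@D3.rec (fun _ => (Cert rels S Gen.b)) lc_b_Cert_tree lc_b_rc_8_2 lc_b_rc_12_2 lc_b_rc_7_0 lc_b_rc_30_9 lc_b_rc_9_2 lc_b_Cert_tree lc_b_Cert_tree lc_b_rc_9_2 lc_b_Cert_tree lc_b_Cert_tree lc_b_rc_10_2 lc_b_Cert_tree lc_b_Cert_tree lc_b_rc_7_0 lc_b_Cert_tree lc_b_rc_7_0 lc_b_rc_8_4) (@D3.rec (fun _ => (Cert rels S Gen.b)) lc_b_rc_8_2 lc_b_rc_7_0 lc_b_rc_7_0 lc_b_rc_30_9 lc_b_rc_8_2 lc_b_rc_11_2 lc_b_rc_8_2 lc_b_rc_12_2 lc_b_rc_12_2 lc_b_rc_9_2 lc_b_rc_8_2 lc_b_rc_9_2 lc_b_Cert_tree lc_b_rc_7_0 lc_b_Cert_tree lc_b_Cert_tree lc_b_rc_7_0 lc_b_Cert_tree) (@D3.rec (fun _ => (Cert rels S Gen.b)) lc_b_rc_31_12 lc_b_Cert_tree lc_b_rc_8_2 lc_b_rc_12_2 lc_b_Cert_tree lc_b_Cert_tree lc_b_rc_7_0 lc_b_rc_7_0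 lc_b_Cert_tree lc_b_rc_7_0 lc_b_rc_30_13 lc_b_rc_12_2 lc_b_rc_7_0 lc_b_rc_9_2 lc_b_Cert_tree lc_b_Cert_tree lc_b_rc_7_0 lc_b_Cert_tree) (@D3.rec (fun _ => (Cert rels S Gen.b)) lc_b_rc_11_2 lc_b_rc_7_0 lc_b_rc_9_2 lc_b_rc_30_9 lc_b_Cert_tree lc_b_rc_7_0 lc_b_Cert_tree lc_b_Cert_tree lc_b_Cert_tree lc_b_rc_7_0 lc_b_rc_7_0 lc_b_Cert_tree lc_b_Cert_tree lc_b_rc_9_2 lc_b_rc_7_0 lc_b_rc_31_3 lc_b_rc_8_2 lc_b_rc_7_0) (@D3.rec (fun _ => (Cert rels S Gen.b)) lc_b_rc_9_2 lc_b_Cert_tree lc_b_Cert_tree lc_b_rc_7_0 lc_b_rc_31_3 lc_b_rc_11_2 lc_b_rc_31_9 lc_b_Cert_tree lc_b_rc_7_0 lc_b_rc_9_2 lc_b_Cert_tree lc_b_rc_7_0 lc_b_rc_31_6 lc_b_Cert_tree lc_b_Cert_tree lc_b_Cert_tree lc_b_rc_7_0 lc_b_rc_7_0) (@D3.rec (fun _ => (Cert rels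 S Gen.b)) lc_b_Cert_tree lc_b_Cert_tree lc_b_rc_8_2 lc_b_rc_12_2 lc_b_rc_7_0 lc_b_rc_7_0 lc_b_rc_31_9 lc_b_rc_11_4 lc_b_rc_8_2 lc_b_rc_30_9 lc_b_rc_9_2 lc_b_rc_7_0 lc_b_rc_9_2 lc_b_Cert_tree lc_b_Cert_tree lc_b_rc_7_0 lc_b_rc_31_6 lc_b_rc_31_9)
def ce_b_2 : D2 → D3 → (Cert rels S Gen.b) := @D2.rec (fun _ => D3 → (Cert rels S Gen.b)) (@D3.rec (fun _ => (Cert rels S Gen.b)) lc_b_rc_12_2 lc_b_Cert_tree lc_b_rc_9_2 lc_b_Cert_tree lc_b_Cert_tree lc_b_Cert_tree lc_b_rc_10_2 lc_b_Cert_tree lc_b_Cert_tree lc_b_rc_7_0 lc_b_Cert_tree lc_b_rc_7_0 lc_b_rc_31_12 lc_b_rc_7_0 lc_b_rc_7_0 lc_b_rc_30_9 lc_b_rc_8_2 lc_b_rc_8_2) (@D3.rec (fun _ => (Cert rels S Gen.b)) lc_b_rc_12_2 lc_b_rc_9_2 lc_b_rc_12_4 lc_b_rc_7_0 lc_b_Cert_tree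 lc_b_Cert_tree lc_b_Cert_tree lc_b_rc_31_9 lc_b_Cert_tree lc_b_rc_9_2 lc_b_Cert_tree lc_b_Cert_tree lc_b_rc_10_2 lc_b_Cert_tree lc_b_Cert_tree lc_b_rc_7_0 lc_b_rc_7_0 lc_b_Cert_tree) (@D3.rec (fun _ => (Cert rels S Gen.b)) lc_b_rc_8_2 lc_b_rc_12_2 lc_b_rc_7_0 lc_b_rc_30_9 lc_b_Cert_tree lc_b_rc_9_2 lc_b_Cert_tree lc_b_rc_7_0 lc_b_rc_7_0 lc_b_rc_9_2 lc_b_rc_7_1 lc_b_Cert_tree lc_b_rc_8_2 lc_b_rc_10_2 lc_b_Cert_tree lc_b_Cert_tree lc_b_rc_7_0 lc_b_Cert_tree) (@D3.rec (fun _ => (Cert rels S Gen.b)) lc_b_rc_7_0 lc_b_rc_8_0 lc_b_Cert_tree lc_b_Cert_tree lc_b_rc_7_0 lc_b_Cert_tree lc_b_rc_7_0 lc_b_rc_8_4 lc_b_Cert_tree lc_b_rc_8_2 lc_b_Cert_tree lc_b_rc_7_0 lc_b_rc_11_4 lc_b_rc_8_2 lc_b_rc_11_2 lc_b_rc_31_3 lc_b_rc_12_2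 lc_b_rc_12_2) (@D3.rec (fun _ => (Cert rels S Gen.b)) lc_b_rc_8_2 lc_b_Cert_tree lc_b_rc_12_2 lc_b_rc_9_2 lc_b_Cert_tree lc_b_Cert_tree lc_b_rc_7_0 lc_b_rc_8_2 lc_b_Cert_tree lc_b_rc_7_0 lc_b_rc_7_0 lc_b_Cert_tree lc_b_rc_11_2 lc_b_rc_7_0 lc_b_rc_7_0 lc_b_Cert_tree lc_b_rc_12_2 lc_b_Cert_tree) (@D3.rec (fun _ => (Cert rels S Gen.b)) lc_b_rc_7_0 lc_b_rc_9_2 lc_b_Cert_tree lc_b_rc_7_0 lc_b_rc_8_2 lc_b_Cert_tree lc_b_rc_12_2 lc_b_rc_7_0 lc_b_rc_9_2 lc_b_rc_8_2 lc_b_rc_12_2 lc_b_Cert_tree lc_b_rc_9_2 lc_b_Cert_tree lc_b_rc_8_4 lc_b_Cert_tree lc_b_Cert_tree lc_b_rc_7_0) (@D3.rec (fun _ => (Cert rels S Gen.b)) lc_b_Cert_tree lc_b_rc_7_0 lc_b_rc_7_0 lc_b_Cert_tree lc_b_Cert_tree lc_b_Cert_tree lc_b_Cert_tree lc_b_rc_9_2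 lc_b_Cert_tree lc_b_rc_7_0 lc_b_rc_7_0 lc_b_Cert_tree lc_b_rc_32_52 lc_b_rc_7_0 lc_b_rc_7_0 lc_b_rc_7_0 lc_b_rc_9_2 lc_b_Cert_tree) (@D3.rec (fun _ => (Cert rels S Gen.b)) lc_b_Cert_tree lc_b_rc_7_0 lc_b_rc_31_3 lc_b_rc_11_2 lc_b_Cert_tree lc_b_rc_9_2 lc_b_Cert_tree lc_b_rc_8_4 lc_b_rc_32_36 lc_b_Cert_tree lc_b_rc_9_2 lc_b_rc_7_0 lc_b_Cert_tree lc_b_rc_7_0 lc_b_Cert_tree lc_b_rc_31_9 lc_b_rc_8_2 lc_b_rc_7_0) (@D3.rec (fun _ => (Cert rels S Gen.b)) lc_b_Cert_tree lc_b_rc_9_2 lc_b_Cert_tree lc_b_rc_12_2 lc_b_Cert_tree lc_b_rc_7_0 lc_b_rc_8_2 lc_b_rc_31_6 lc_b_rc_7_0 lc_b_Cert_tree lc_b_rc_1_5 lc_b_rc_7_0 lc_b_rc_30_5 lc_b_rc_7_0 lc_b_Cert_tree lc_b_Cert_tree lc_b_rc_8_2 lc_b_rc_12_2) (@D3.rec (fun _ => (Cert rels S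 Gen.b)) lc_b_rc_7_1 lc_b_Cert_tree lc_b_rc_7_0 lc_b_rc_7_0 lc_b_Cert_tree lc_b_rc_9_2 lc_b_Cert_tree lc_b_rc_31_9 lc_b_rc_11_4 lc_b_rc_8_2 lc_b_rc_30_9 lc_b_rc_9_2 lc_b_Cert_tree lc_b_rc_9_2 lc_b_Cert_tree lc_b_Cert_tree lc_b_rc_10_2 lc_b_Cert_tree) (@D3.rec (fun _ => (Cert rels S Gen.b)) lc_b_Cert_tree lc_b_rc_7_0 lc_b_rc_7_0 lc_b_rc_31_6 lc_b_rc_8_2 lc_b_rc_12_2 lc_b_rc_31_9 lc_b_rc_7_0 lc_b_rc_8_0 lc_b_rc_7_1 lc_b_rc_9_0 lc_b_Cert_tree lc_b_rc_10_2 lc_b_Cert_tree lc_b_Cert_tree lc_b_rc_7_0 lc_b_Cert_tree lc_b_rc_7_0)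
def ce_b_3 : D2 → D3 → (Cert rels S Gen.b) := @D2.rec (fun _ => D3 → (Cert rels S Gen.b)) (@D3.rec (fun _ => (Cert rels S Gen.b)) lc_b_rc_7_0 lc_b_rc_7_0 lc_b_rc_10_2 lc_b_Cert_tree lc_b_rc_10_0 lc_b_Cert_tree lc_b_Cert_tree lc_b_rc_7_0 lc_b_Cert_tree lc_b_rc_7_0 lc_b_rc_8_4 lc_b_Cert_tree lc_b_Cert_tree lc_b_rc_7_0 lc_b_rc_31_9 lc_b_rc_8_2 lc_b_rc_11_2 lc_b_rc_31_3) (@D3.rec (fun _ => (Cert rels S Gen.b)) lc_b_rc_12_2 lc_b_rc_12_4 lc_b_Cert_tree lc_b_rc_12_4 lc_b_rc_8_2 lc_b_rc_7_0 lc_b_rc_7_0 lc_b_rc_7_0 lc_b_rc_7_0 lc_b_rc_9_2 lc_b_rc_1_9 lc_b_rc_8_2 lc_b_rc_8_2 lc_b_rc_10_2 lc_b_Cert_tree lc_b_rc_7_0 lc_b_rc_7_1 lc_b_rc_7_0) (@D3.rec (fun _ => (Cert rels S Gen.b)) lc_b_Cert_tree lc_b_Cert_tree lc_b_Cert_tree lc_b_rc_7_0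 lc_b_rc_7_0 lc_b_Cert_tree lc_b_rc_8_2 lc_b_rc_31_6 lc_b_rc_1_3 lc_b_rc_11_2 lc_b_rc_7_0 lc_b_rc_9_2 lc_b_Cert_tree lc_b_rc_7_0 lc_b_rc_7_0 lc_b_rc_1_5 lc_b_rc_8_2 lc_b_rc_9_2) (@D3.rec (fun _ => (Cert rels S Gen.b)) lc_b_rc_11_4 lc_b_rc_32_46 lc_b_Cert_tree lc_b_rc_10_2 lc_b_rc_9_2 lc_b_Cert_tree lc_b_rc_7_0 lc_b_rc_10_2 lc_b_Cert_tree lc_b_Cert_tree lc_b_Cert_tree lc_b_rc_7_0 lc_b_Cert_tree lc_b_rc_7_0 lc_b_rc_8_0 lc_b_rc_31_3 lc_b_rc_11_2 lc_b_Cert_tree) (@D3.rec (fun _ => (Cert rels S Gen.b)) lc_b_rc_7_0 lc_b_rc_7_0 lc_b_Cert_tree lc_b_rc_7_0 lc_b_rc_8_4 lc_b_Cert_tree lc_b_rc_8_2 lc_b_Cert_tree lc_b_rc_7_0 lc_b_rc_7_0 lc_b_Cert_tree lc_b_rc_10_2 lc_b_rc_12_2 lc_b_rc_7_0 lc_b_rc_31_9 lc_b_Cert_tree lc_b_rc_8_2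 lc_b_rc_11_2) (@D3.rec (fun _ => (Cert rels S Gen.b)) lc_b_rc_9_2 lc_b_Cert_tree lc_b_rc_30_17 lc_b_rc_7_0 lc_b_rc_7_0 lc_b_rc_30_9 lc_b_rc_7_0 lc_b_Cert_tree lc_b_rc_7_0 lc_b_Cert_tree lc_b_rc_8_2 lc_b_rc_30_5 lc_b_Cert_tree lc_b_rc_8_2 lc_b_rc_7_1 lc_b_rc_7_0 lc_b_Cert_tree lc_b_rc_12_0) (@D3.rec (fun _ => (Cert rels S Gen.b)) lc_b_rc_8_2 lc_b_rc_11_2 lc_b_rc_1_5 lc_b_Cert_tree lc_b_rc_11_2 lc_b_rc_7_0 lc_b_Cert_tree lc_b_rc_7_0 lc_b_rc_9_2 lc_b_Cert_tree lc_b_Cert_tree lc_b_rc_7_0 lc_b_rc_8_2 lc_b_Cert_tree lc_b_rc_7_0 lc_b_Cert_tree lc_b_Cert_tree lc_b_rc_8_2) (@D3.rec (fun _ => (Cert rels S Gen.b)) lc_b_rc_12_2 lc_b_rc_30_13 lc_b_rc_9_2 lc_b_Cert_tree lc_b_rc_7_0 lc_b_rc_8_2 lc_b_Cert_tree lc_b_rc_8_4 lc_b_Cert_tree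 lc_b_rc_12_2 lc_b_rc_7_0 lc_b_Cert_tree lc_b_Cert_tree lc_b_rc_7_0 lc_b_Cert_tree lc_b_rc_7_0 lc_b_Cert_tree lc_b_Cert_tree) (@D3.rec (fun _ => (Cert rels S Gen.b)) lc_b_rc_7_0 lc_b_rc_8_2 lc_b_rc_1_5 lc_b_rc_8_2 lc_b_Cert_tree lc_b_rc_7_0 lc_b_rc_7_0 lc_b_rc_7_0 lc_b_rc_7_0 lc_b_rc_9_2 lc_b_Cert_tree lc_b_rc_32_72 lc_b_rc_7_0 lc_b_rc_8_2 lc_b_rc_31_12 lc_b_rc_7_0 lc_b_rc_30_13 lc_b_Cert_tree) (@D3.rec (fun _ => (Cert rels S Gen.b)) lc_b_rc_9_2 lc_b_Cert_tree lc_b_rc_8_4 lc_b_rc_32_52 lc_b_Cert_tree lc_b_rc_9_2 lc_b_rc_7_0 lc_b_Cert_tree lc_b_rc_7_0 lc_b_Cert_tree lc_b_rc_8_2 lc_b_rc_7_0 lc_b_rc_9_0 lc_b_rc_31_12 lc_b_Cert_tree lc_b_rc_7_0 lc_b_Cert_tree lc_b_Cert_tree) (@D3.rec (fun _ => (Cert rels S Gen.b)) lc_b_rc_7_0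 lc_b_Cert_tree lc_b_Cert_tree lc_b_Cert_tree lc_b_rc_8_2 lc_b_Cert_tree lc_b_rc_7_0 lc_b_rc_8_4 lc_b_rc_7_0 lc_b_Cert_tree lc_b_rc_9_2 lc_b_rc_9_2 lc_b_rc_11_2 lc_b_rc_12_2 lc_b_rc_7_0 lc_b_rc_9_2 lc_b_Cert_tree lc_b_rc_1_1)
def ce_b_4 : D2 → D3 → (Cert rels S Gen.b) := @D2.rec (fun _ => D3 → (Cert rels S Gen.b)) (@D3.rec (fun _ => (Cert rels S Gen.b)) lc_b_rc_8_2 lc_b_Cert_tree lc_b_rc_9_2 lc_b_rc_7_0 lc_b_rc_30_5 lc_b_Cert_tree lc_b_rc_7_0 lc_b_Cert_tree lc_b_rc_8_2 lc_b_rc_12_2 lc_b_rc_9_2 lc_b_rc_7_1 lc_b_rc_1_5 lc_b_rc_8_2 lc_b_Cert_tree lc_b_rc_7_0 lc_b_rc_30_13 lc_b_rc_31_12) (@D3.rec (fun _ => (Cert rels S Gen.b)) lc_b_rc_31_6 lc_b_Cert_tree lc_b_rc_7_0 lc_b_rc_7_0 lc_b_Cert_tree lc_b_Cert_tree lc_b_rc_9_2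 lc_b_Cert_tree lc_b_Cert_tree lc_b_Cert_tree lc_b_rc_7_0 lc_b_Cert_tree lc_b_Cert_tree lc_b_rc_8_2 lc_b_rc_12_2 lc_b_Cert_tree lc_b_rc_7_0 lc_b_rc_9_2) (@D3.rec (fun _ => (Cert rels S Gen.b)) lc_b_rc_32_72 lc_b_rc_10_2 lc_b_Cert_tree lc_b_rc_7_0 lc_b_Cert_tree lc_b_rc_9_2 lc_b_rc_7_0 lc_b_rc_31_3 lc_b_Cert_tree lc_b_rc_8_2 lc_b_rc_8_2 lc_b_rc_10_2 lc_b_Cert_tree lc_b_rc_8_2 lc_b_rc_7_0 lc_b_rc_10_2 lc_b_rc_7_0 lc_b_Cert_tree) (@D3.rec (fun _ => (Cert rels S Gen.b)) lc_b_Cert_tree lc_b_rc_8_2 lc_b_rc_7_0 lc_b_rc_7_0 lc_b_Cert_tree lc_b_rc_8_2 lc_b_rc_31_6 lc_b_rc_10_2 lc_b_rc_11_2 lc_b_Cert_tree lc_b_rc_9_2 lc_b_Cert_tree lc_b_Cert_tree lc_b_rc_31_12 lc_b_rc_8_2 lc_b_rc_11_4 lc_b_rc_8_0 lc_b_rc_9_2) (@D3.rec (fun _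 => (Cert rels S Gen.b)) lc_b_rc_7_0 lc_b_rc_8_4 lc_b_rc_7_0 lc_b_Cert_tree lc_b_Cert_tree lc_b_rc_7_0 lc_b_rc_7_0 lc_b_rc_8_0 lc_b_rc_10_2 lc_b_rc_10_2 lc_b_rc_7_0 lc_b_rc_8_2 lc_b_rc_10_2 lc_b_rc_31_12 lc_b_rc_9_2 lc_b_rc_31_3 lc_b_rc_1_3 lc_b_rc_7_0) (@D3.rec (fun _ => (Cert rels S Gen.b)) lc_b_rc_7_0 lc_b_Cert_tree lc_b_rc_7_0 lc_b_rc_1_9 lc_b_rc_9_2 lc_b_rc_10_0 lc_b_Cert_tree lc_b_rc_7_0 lc_b_rc_7_0 lc_b_Cert_tree lc_b_rc_7_0 lc_b_rc_31_9 lc_b_Cert_tree lc_b_rc_8_2 lc_b_rc_11_2 lc_b_Cert_tree lc_b_rc_9_2 lc_b_Cert_tree) (@D3.rec (fun _ => (Cert rels S Gen.b)) lc_b_rc_30_17 lc_b_rc_7_0 lc_b_Cert_tree lc_b_rc_8_2 lc_b_rc_30_5 lc_b_Cert_tree lc_b_rc_7_1 lc_b_rc_12_0 lc_b_rc_8_2 lc_b_rc_11_2 lc_b_rc_1_5 lc_b_rc_9_2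 lc_b_rc_10_0 lc_b_rc_10_2 lc_b_rc_9_2 lc_b_rc_10_2 lc_b_Cert_tree lc_b_Cert_tree) (@D3.rec (fun _ => (Cert rels S Gen.b)) lc_b_rc_7_0 lc_b_rc_9_2 lc_b_rc_10_0 lc_b_rc_11_2 lc_b_rc_7_0 lc_b_rc_31_9 lc_b_rc_7_0 lc_b_rc_7_0 lc_b_rc_7_0 lc_b_Cert_tree lc_b_rc_8_2 lc_b_rc_9_2 lc_b_rc_1_3 lc_b_rc_9_2 lc_b_rc_7_0 lc_b_Cert_tree lc_b_rc_12_4 lc_b_rc_9_2) (@D3.rec (fun _ => (Cert rels S Gen.b)) lc_b_rc_8_2 lc_b_rc_11_2 lc_b_Cert_tree lc_b_rc_7_0 lc_b_rc_7_0 lc_b_rc_1_5 lc_b_rc_7_0 lc_b_rc_7_0 lc_b_Cert_tree lc_b_rc_10_2 lc_b_rc_30_5 lc_b_rc_32_52 lc_b_rc_10_2 lc_b_rc_7_0 lc_b_rc_10_2 lc_b_rc_9_2 lc_b_rc_10_2 lc_b_rc_9_0) (@D3.rec (fun _ => (Cert rels S Gen.b)) lc_b_rc_7_0 lc_b_rc_7_1 lc_b_Cert_tree lc_b_rc_7_0 lc_b_Cert_tree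 lc_b_rc_7_0 lc_b_Cert_tree lc_b_rc_7_0 lc_b_rc_8_0 lc_b_rc_9_2 lc_b_rc_8_2 lc_b_Cert_tree lc_b_rc_7_0 lc_b_Cert_tree lc_b_rc_8_4 lc_b_rc_7_0 lc_b_Cert_tree lc_b_rc_8_2) (@D3.rec (fun _ => (Cert rels S Gen.b)) lc_b_rc_11_2 lc_b_Cert_tree lc_b_rc_10_2 lc_b_Cert_tree lc_b_rc_7_0 lc_b_rc_7_0 lc_b_rc_30_13 lc_b_rc_9_2 lc_b_rc_7_0 lc_b_Cert_tree lc_b_rc_9_2 lc_b_rc_7_0 lc_b_Cert_tree lc_b_rc_7_1 lc_b_rc_7_0 lc_b_rc_12_2 lc_b_rc_12_2 lc_b_rc_7_0)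
def ce_b_5 : D2 → D3 → (Cert rels S Gen.b) := @D2.rec (fun _ => D3 → (Cert rels S Gen.b)) (@D3.rec (fun _ => (Cert rels S Gen.b)) lc_b_Cert_tree lc_b_rc_8_2 lc_b_rc_9_2 lc_b_Cert_tree lc_b_rc_7_0 lc_b_rc_11_2 lc_b_rc_7_0 lc_b_Cert_tree lc_b_rc_9_2 lc_b_rc_7_0 lc_b_Cert_tree lc_b_rc_7_0 lc_b_rc_7_0 lc_b_rc_32_41 lc_b_rc_31_3 lc_b_Cert_tree lc_b_rc_31_12 lc_b_rc_31_6) (@D3.rec (fun _ => (Cert rels S Gen.b)) lc_b_Cert_tree lc_b_rc_11_2 lc_b_rc_7_1 lc_b_rc_7_0 lc_b_rc_9_0 lc_b_rc_9_2 lc_b_Cert_tree lc_b_rc_1_3 lc_b_rc_7_0 lc_b_Cert_tree lc_b_rc_1_5 lc_b_rc_11_2 lc_b_rc_9_2 lc_b_rc_7_0 lc_b_rc_1_7 lc_b_rc_1_1 lc_b_rc_12_2 lc_b_rc_7_0) (@D3.rec (fun _ => (Cert rels S Gen.b)) lc_b_rc_7_0 lc_b_Cert_tree lc_b_rc_8_2 lc_b_rc_12_2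 lc_b_rc_9_2 lc_b_rc_7_0 lc_b_Cert_tree lc_b_rc_11_2 lc_b_rc_12_2 lc_b_rc_7_0 lc_b_rc_7_0 lc_b_rc_1_7 lc_b_rc_1_7 lc_b_rc_9_2 lc_b_Cert_tree lc_b_rc_9_0 lc_b_rc_10_2 lc_b_Cert_tree) (@D3.rec (fun _ => (Cert rels S Gen.b)) lc_b_rc_7_0 lc_b_rc_8_2 lc_b_Cert_tree lc_b_rc_7_1 lc_b_rc_7_0 lc_b_rc_7_0 lc_b_rc_8_4 lc_b_rc_10_0 lc_b_Cert_tree lc_b_Cert_tree lc_b_rc_7_0 lc_b_rc_7_0 lc_b_Cert_tree lc_b_rc_7_0 lc_b_rc_10_2 lc_b_rc_31_6 lc_b_rc_31_6 lc_b_rc_7_0) (@D3.rec (fun _ => (Cert rels S Gen.b)) lc_b_Cert_tree lc_b_rc_7_0 lc_b_rc_7_0 lc_b_Cert_tree lc_b_rc_8_2 lc_b_rc_11_2 lc_b_rc_9_2 lc_b_rc_8_4 lc_b_rc_1_3 lc_b_Cert_tree lc_b_rc_7_0 lc_b_rc_7_0 lc_b_rc_8_2 lc_b_rc_31_9 lc_b_rc_10_2 lc_b_rc_7_0 lc_b_rc_1_1 lc_b_rc_1_5)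 (@D3.rec (fun _ => (Cert rels S Gen.b)) lc_b_rc_1_7 lc_b_rc_9_2 lc_b_rc_31_12 lc_b_Cert_tree lc_b_rc_10_0 lc_b_rc_7_0 lc_b_rc_31_12 lc_b_rc_7_0 lc_b_rc_1_7 lc_b_rc_9_0 lc_b_rc_31_12 lc_b_rc_8_2 lc_b_Cert_tree lc_b_rc_7_0 lc_b_Cert_tree lc_b_Cert_tree lc_b_rc_7_0 lc_b_Cert_tree) (@D3.rec (fun _ => (Cert rels S Gen.b)) lc_b_Cert_tree lc_b_Cert_tree lc_b_rc_8_2 lc_b_Cert_tree lc_b_rc_7_0 lc_b_rc_32_26 lc_b_rc_7_0 lc_b_rc_9_2 lc_b_rc_11_4 lc_b_rc_7_0 lc_b_rc_9_0 lc_b_rc_7_0 lc_b_rc_7_0 lc_b_Cert_tree lc_b_rc_10_0 lc_b_rc_8_2 lc_b_rc_8_2 lc_b_rc_7_0) (@D3.rec (fun _ => (Cert rels S Gen.b)) lc_b_rc_7_0 lc_b_rc_7_0 lc_b_Cert_tree lc_b_rc_8_2 lc_b_rc_7_0 lc_b_Cert_tree lc_b_rc_1_7 lc_b_rc_7_0 lc_b_rc_9_2 lc_b_rc_10_2 lc_b_Cert_tree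 lc_b_Cert_tree lc_b_Cert_tree lc_b_Cert_tree lc_b_rc_7_0 lc_b_rc_10_0 lc_b_rc_7_0 lc_b_rc_8_2) (@D3.rec (fun _ => (Cert rels S Gen.b)) lc_b_rc_30_13 lc_b_rc_31_12 lc_b_rc_31_6 lc_b_rc_7_0 lc_b_rc_9_2 lc_b_rc_7_0 lc_b_rc_31_6 lc_b_rc_7_0 lc_b_Cert_tree lc_b_Cert_tree lc_b_rc_9_2 lc_b_rc_12_2 lc_b_rc_9_0 lc_b_rc_10_2 lc_b_rc_30_5 lc_b_Cert_tree lc_b_rc_9_2 lc_b_Cert_tree) (@D3.rec (fun _ => (Cert rels S Gen.b)) lc_b_rc_7_0 lc_b_Cert_tree lc_b_rc_30_9 lc_b_rc_12_2 lc_b_Cert_tree lc_b_rc_7_0 lc_b_Cert_tree lc_b_rc_8_2 lc_b_rc_12_2 lc_b_rc_1_5 lc_b_Cert_tree lc_b_Cert_tree lc_b_rc_7_0 lc_b_rc_1_7 lc_b_Cert_tree lc_b_rc_7_0 lc_b_rc_10_2 lc_b_Cert_tree) (@D3.rec (fun _ => (Cert rels S Gen.b)) lc_b_rc_7_0 lc_b_rc_31_12 lc_b_rc_7_0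 lc_b_rc_7_0 lc_b_Cert_tree lc_b_rc_11_2 lc_b_rc_1_5 lc_b_rc_7_0 lc_b_rc_7_0 lc_b_Cert_tree lc_b_rc_9_2 lc_b_rc_9_2 lc_b_rc_12_2 lc_b_rc_7_0 lc_b_rc_8_2 lc_b_Cert_tree lc_b_rc_9_2 lc_b_rc_11_2)
def ce_b_6 : D2 → D3 → (Cert rels S Gen.b) := @D2.rec (fun _ => D3 → (Cert rels S Gen.b)) (@D3.rec (fun _ => (Cert rels S Gen.b)) lc_b_rc_12_2 lc_b_rc_10_2 lc_b_rc_8_4 lc_b_Cert_tree lc_b_rc_7_0 lc_b_rc_31_6 lc_b_rc_1_7 lc_b_Cert_tree lc_b_rc_7_0 lc_b_rc_9_2 lc_b_rc_32_57 lc_b_rc_30_5 lc_b_rc_7_0 lc_b_rc_10_2 lc_b_Cert_tree lc_b_rc_7_0 lc_b_Cert_tree lc_b_rc_7_0) (@D3.rec (fun _ => (Cert rels S Gen.b)) lc_b_rc_8_2 lc_b_rc_7_0 lc_b_rc_10_2 lc_b_rc_7_0 lc_b_rc_7_0 lc_b_rc_9_2 lc_b_rc_8_2 lc_b_rc_9_2 lc_b_rc_32_46 lc_b_rc_11_2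 lc_b_rc_7_0 lc_b_Cert_tree lc_b_rc_10_2 lc_b_rc_9_2 lc_b_rc_8_2 lc_b_rc_11_2 lc_b_rc_1_3 lc_b_rc_7_0) (@D3.rec (fun _ => (Cert rels S Gen.b)) lc_b_rc_10_2 lc_b_Cert_tree lc_b_rc_7_0 lc_b_rc_7_0 lc_b_rc_9_2 lc_b_rc_10_2 lc_b_rc_7_0 lc_b_rc_7_0 lc_b_rc_7_0 lc_b_rc_11_2 lc_b_rc_8_2 lc_b_rc_9_2 lc_b_rc_31_3 lc_b_rc_1_3 lc_b_rc_9_2 lc_b_rc_8_2 lc_b_Cert_tree lc_b_rc_7_0) (@D3.rec (fun _ => (Cert rels S Gen.b)) lc_b_rc_30_13 lc_b_rc_12_2 lc_b_Cert_tree lc_b_rc_7_0 lc_b_rc_31_9 lc_b_rc_11_2 lc_b_rc_8_2 lc_b_rc_11_2 lc_b_rc_10_2 lc_b_rc_12_2 lc_b_rc_10_2 lc_b_rc_7_0 lc_b_rc_9_2 lc_b_rc_7_1 lc_b_rc_9_2 lc_b_Cert_tree lc_b_rc_7_0 lc_b_rc_9_2) (@D3.rec (fun _ => (Cert rels S Gen.b)) lc_b_Cert_tree lc_b_rc_7_0 lc_b_rc_7_0 lc_b_rc_9_2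 lc_b_rc_9_2 lc_b_rc_7_0 lc_b_rc_10_2 lc_b_rc_8_4 lc_b_rc_1_5 lc_b_rc_8_4 lc_b_rc_10_2 lc_b_rc_1_7 lc_b_rc_10_2 lc_b_Cert_tree lc_b_rc_7_0 lc_b_rc_7_0 lc_b_rc_10_2 lc_b_rc_9_2) (@D3.rec (fun _ => (Cert rels S Gen.b)) lc_b_rc_8_2 lc_b_Cert_tree lc_b_rc_10_2 lc_b_rc_10_2 lc_b_rc_8_2 lc_b_rc_10_2 lc_b_rc_7_0 lc_b_rc_10_0 lc_b_rc_11_2 lc_b_rc_8_0 lc_b_rc_7_0 lc_b_Cert_tree lc_b_rc_7_0 lc_b_rc_8_0 lc_b_Cert_tree lc_b_rc_31_3 lc_b_rc_7_0 lc_b_rc_7_0) (@D3.rec (fun _ => (Cert rels S Gen.b)) lc_b_rc_9_2 lc_b_rc_30_17 lc_b_rc_32_52 lc_b_rc_31_12 lc_b_rc_10_2 lc_b_rc_10_2 lc_b_rc_10_2 lc_b_rc_11_2 lc_b_rc_7_0 lc_b_Cert_tree lc_b_rc_8_2 lc_b_rc_7_0 lc_b_rc_10_2 lc_b_rc_8_2 lc_b_rc_10_2 lc_b_rc_7_0 lc_b_rc_7_0 lc_b_Cert_tree)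 (@D3.rec (fun _ => (Cert rels S Gen.b)) lc_b_rc_8_2 lc_b_rc_11_2 lc_b_rc_7_0 lc_b_rc_9_2 lc_b_rc_7_0 lc_b_rc_9_0 lc_b_rc_9_2 lc_b_rc_8_2 lc_b_rc_7_0 lc_b_rc_31_9 lc_b_rc_10_2 lc_b_rc_9_2 lc_b_rc_7_0 lc_b_Cert_tree lc_b_rc_10_2 lc_b_rc_30_5 lc_b_rc_7_0 lc_b_rc_9_2) (@D3.rec (fun _ => (Cert rels S Gen.b)) lc_b_rc_1_5 lc_b_rc_8_2 lc_b_rc_7_0 lc_b_rc_12_4 lc_b_rc_9_2 lc_b_Cert_tree lc_b_rc_8_4 lc_b_rc_7_0 lc_b_rc_10_0 lc_b_rc_9_2 lc_b_rc_9_2 lc_b_rc_7_0 lc_b_Cert_tree lc_b_rc_7_0 lc_b_Cert_tree lc_b_Cert_tree lc_b_rc_7_0 lc_b_rc_9_2) (@D3.rec (fun _ => (Cert rels S Gen.b)) lc_b_rc_7_0 lc_b_rc_8_4 lc_b_rc_7_0 lc_b_rc_30_9 lc_b_Cert_tree lc_b_rc_7_0 lc_b_rc_7_0 lc_b_rc_9_2 lc_b_Cert_tree lc_b_Cert_tree lc_b_rc_1_5 lc_b_rc_11_2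 lc_b_rc_1_1 lc_b_rc_7_0 lc_b_rc_31_6 lc_b_rc_7_0 lc_b_Cert_tree lc_b_rc_30_5) (@D3.rec (fun _ => (Cert rels S Gen.b)) lc_b_Cert_tree lc_b_rc_30_5 lc_b_rc_9_2 lc_b_rc_31_9 lc_b_rc_11_4 lc_b_rc_11_2 lc_b_rc_12_2 lc_b_rc_30_9 lc_b_rc_7_0 lc_b_rc_1_5 lc_b_rc_1_7 lc_b_rc_9_2 lc_b_rc_9_2 lc_b_rc_10_2 lc_b_rc_10_2 lc_b_Cert_tree lc_b_rc_7_0 lc_b_rc_30_13)
def ce_b_7 : D2 → D3 → (Cert rels S Gen.b) := @D2.rec (fun _ => D3 → (Cert rels S Gen.b)) (@D3.rec (fun _ => (Cert rels S Gen.b)) lc_b_rc_9_2 lc_b_Cert_tree lc_b_rc_1_5 lc_b_rc_8_4 lc_b_rc_12_2 lc_b_rc_7_0 lc_b_rc_8_2 lc_b_rc_10_2 lc_b_rc_7_0 lc_b_rc_7_0 lc_b_rc_7_0 lc_b_rc_1_7 lc_b_rc_9_2 lc_b_rc_7_0 lc_b_rc_30_5 lc_b_rc_8_2 lc_b_rc_1_5 lc_b_rc_9_2) (@D3.rec (fun _ =>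 (Cert rels S Gen.b)) lc_b_rc_7_1 lc_b_rc_7_0 lc_b_rc_7_0 lc_b_rc_7_0 lc_b_rc_30_9 lc_b_rc_9_2 lc_b_rc_31_9 lc_b_rc_1_5 lc_b_rc_9_2 lc_b_rc_7_0 lc_b_rc_10_2 lc_b_rc_12_2 lc_b_rc_7_0 lc_b_Cert_tree lc_b_rc_9_2 lc_b_rc_8_2 lc_b_rc_30_9 lc_b_rc_7_0) (@D3.rec (fun _ => (Cert rels S Gen.b)) lc_b_rc_1_3 lc_b_rc_8_2 lc_b_rc_31_3 lc_b_rc_9_2 lc_b_rc_10_2 lc_b_rc_30_5 lc_b_rc_9_2 lc_b_rc_31_6 lc_b_rc_32_52 lc_b_rc_8_2 lc_b_rc_31_3 lc_b_rc_7_0 lc_b_rc_11_4 lc_b_rc_9_2 lc_b_Cert_tree lc_b_rc_7_0 lc_b_rc_9_0 lc_b_rc_7_0) (@D3.rec (fun _ => (Cert rels S Gen.b)) lc_b_rc_7_0 lc_b_rc_30_13 lc_b_rc_10_0 lc_b_rc_10_0 lc_b_Cert_tree lc_b_rc_7_0 lc_b_rc_7_0 lc_b_rc_7_0 lc_b_rc_30_13 lc_b_rc_7_0 lc_b_rc_7_0 lc_b_rc_31_9 lc_b_rc_8_2 lc_b_rc_10_2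 lc_b_rc_1_3 lc_b_rc_31_6 lc_b_rc_8_2 lc_b_rc_12_2) (@D3.rec (fun _ => (Cert rels S Gen.b)) lc_b_rc_10_2 lc_b_rc_7_0 lc_b_rc_31_6 lc_b_rc_1_7 lc_b_rc_8_2 lc_b_rc_9_2 lc_b_rc_7_0 lc_b_rc_11_4 lc_b_rc_7_0 lc_b_Cert_tree lc_b_rc_9_2 lc_b_rc_11_2 lc_b_rc_11_0 lc_b_rc_10_2 lc_b_rc_7_0 lc_b_rc_7_0 lc_b_rc_7_0 lc_b_rc_7_0) (@D3.rec (fun _ => (Cert rels S Gen.b)) lc_b_rc_8_4 lc_b_rc_30_9 lc_b_rc_7_0 lc_b_rc_8_2 lc_b_rc_7_0 lc_b_rc_30_9 lc_b_rc_11_2 lc_b_rc_31_12 lc_b_rc_8_2 lc_b_rc_10_2 lc_b_rc_12_2 lc_b_Cert_tree lc_b_rc_7_0 lc_b_rc_8_2 lc_b_rc_7_1 lc_b_rc_7_0 lc_b_rc_8_2 lc_b_rc_10_2) (@D3.rec (fun _ => (Cert rels S Gen.b)) lc_b_rc_12_2 lc_b_rc_31_9 lc_b_rc_30_9 lc_b_rc_7_0 lc_b_rc_7_0 lc_b_rc_12_2 lc_b_rc_12_2 lc_b_rc_9_2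 lc_b_rc_7_0 lc_b_rc_9_2 lc_b_rc_31_6 lc_b_rc_7_0 lc_b_rc_7_0 lc_b_rc_8_2 lc_b_rc_7_0 lc_b_rc_1_3 lc_b_rc_9_2 lc_b_rc_7_0) (@D3.rec (fun _ => (Cert rels S Gen.b)) lc_b_rc_7_0 lc_b_rc_7_0 lc_b_rc_30_13 lc_b_rc_7_0 lc_b_Cert_tree lc_b_rc_7_0 lc_b_rc_10_0 lc_b_rc_7_1 lc_b_rc_7_0 lc_b_rc_9_0 lc_b_rc_11_4 lc_b_Cert_tree lc_b_rc_7_0 lc_b_Cert_tree lc_b_rc_1_3 lc_b_rc_1_5 lc_b_rc_9_2 lc_b_rc_9_2) (@D3.rec (fun _ => (Cert rels S Gen.b)) lc_b_rc_9_2 lc_b_rc_7_0 lc_b_rc_32_62 lc_b_rc_11_2 lc_b_rc_9_2 lc_b_rc_7_0 lc_b_rc_7_1 lc_b_rc_7_1 lc_b_Cert_tree lc_b_rc_8_2 lc_b_rc_10_2 lc_b_rc_1_1 lc_b_rc_12_2 lc_b_rc_10_2 lc_b_rc_11_4 lc_b_rc_7_0 lc_b_rc_31_6 lc_b_rc_9_2) (@D3.rec (fun _ => (Cert rels S Gen.b)) lc_b_rc_8_2 lc_b_rc_9_2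 lc_b_rc_7_1 lc_b_rc_7_0 lc_b_rc_7_0 lc_b_rc_11_2 lc_b_rc_30_5 lc_b_rc_7_0 lc_b_rc_30_9 lc_b_rc_7_0 lc_b_rc_11_2 lc_b_rc_10_2 lc_b_rc_9_2 lc_b_rc_10_2 lc_b_rc_10_2 lc_b_rc_7_0 lc_b_rc_12_2 lc_b_rc_9_2) (@D3.rec (fun _ => (Cert rels S Gen.b)) lc_b_rc_12_4 lc_b_rc_7_0 lc_b_rc_9_2 lc_b_rc_8_4 lc_b_rc_8_2 lc_b_rc_10_2 lc_b_rc_9_2 lc_b_rc_7_0 lc_b_rc_1_7 lc_b_rc_9_2 lc_b_rc_31_6 lc_b_rc_12_2 lc_b_rc_11_2 lc_b_rc_8_2 lc_b_rc_30_13 lc_b_rc_12_2 lc_b_rc_7_0 lc_b_rc_11_2)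
def ce_b_8 : D2 → D3 → (Cert rels S Gen.b) := @D2.rec (fun _ => D3 → (Cert rels S Gen.b)) (@D3.rec (fun _ => (Cert rels S Gen.b)) lc_b_rc_8_2 lc_b_rc_7_0 lc_b_rc_9_0 lc_b_rc_12_2 lc_b_rc_30_13 lc_b_rc_8_2 lc_b_rc_12_4 lc_b_rc_12_2 lc_b_rc_7_0 lc_b_rc_12_2 lc_b_rc_7_0 lc_b_rc_7_1 lc_b_rc_11_2 lc_b_Cert_tree lc_b_rc_9_2 lc_b_rc_7_0 lc_b_rc_10_2 lc_b_rc_9_2) (@D3.rec (fun _ => (Cert rels S Gen.b)) lc_b_rc_7_0 lc_b_rc_10_0 lc_b_rc_30_13 lc_b_rc_9_2 lc_b_rc_12_4 lc_b_rc_7_0 lc_b_rc_7_0 lc_b_rc_9_2 lc_b_rc_8_2 lc_b_rc_9_2 lc_b_rc_31_12 lc_b_Cert_tree lc_b_rc_8_2 lc_b_rc_7_0 lc_b_rc_30_5 lc_b_rc_8_2 lc_b_rc_31_9 lc_b_rc_8_2) (@D3.rec (fun _ => (Cert rels S Gen.b)) lc_b_rc_30_9 lc_b_rc_7_0 lc_b_Cert_tree lc_b_rc_8_2 lc_b_rc_1_5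 lc_b_rc_7_0 lc_b_rc_9_2 lc_b_rc_8_4 lc_b_rc_7_1 lc_b_rc_7_0 lc_b_rc_7_0 lc_b_rc_30_9 lc_b_rc_7_0 lc_b_rc_7_0 lc_b_rc_11_0 lc_b_rc_9_2 lc_b_rc_11_2 lc_b_rc_12_2) (@D3.rec (fun _ => (Cert rels S Gen.b)) lc_b_rc_30_13 lc_b_rc_7_0 lc_b_rc_1_5 lc_b_rc_7_0 lc_b_rc_12_2 lc_b_rc_7_1 lc_b_rc_8_2 lc_b_rc_9_2 lc_b_rc_8_2 lc_b_Cert_tree lc_b_rc_30_9 lc_b_Cert_tree lc_b_rc_11_2 lc_b_rc_7_0 lc_b_rc_7_0 lc_b_rc_7_0 lc_b_rc_9_0 lc_b_rc_1_5) (@D3.rec (fun _ => (Cert rels S Gen.b)) lc_b_rc_12_2 lc_b_rc_7_0 lc_b_rc_7_0 lc_b_rc_9_2 lc_b_rc_30_13 lc_b_rc_10_2 lc_b_rc_9_2 lc_b_rc_30_13 lc_b_rc_9_0 lc_b_rc_10_2 lc_b_rc_7_0 lc_b_rc_12_2 lc_b_rc_7_0 lc_b_rc_7_0 lc_b_rc_7_1 lc_b_rc_7_0 lc_b_rc_31_9 lc_b_rc_30_9) (@D3.rec (fun _ => (Cert rels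 S Gen.b)) lc_b_rc_8_2 lc_b_rc_8_2 lc_b_rc_11_2 lc_b_rc_30_9 lc_b_rc_11_2 lc_b_rc_12_2 lc_b_rc_7_0 lc_b_rc_31_6 lc_b_rc_8_2 lc_b_rc_8_2 lc_b_rc_7_1 lc_b_rc_30_9 lc_b_rc_10_2 lc_b_rc_10_2 lc_b_Cert_tree lc_b_rc_8_2 lc_b_rc_7_0 lc_b_rc_8_2) (@D3.rec (fun _ => (Cert rels S Gen.b)) lc_b_rc_8_2 lc_b_rc_12_2 lc_b_rc_8_2 lc_b_rc_30_5 lc_b_Cert_tree lc_b_rc_7_0 lc_b_rc_9_2 lc_b_rc_8_2 lc_b_rc_8_2 lc_b_rc_11_4 lc_b_rc_1_5 lc_b_rc_7_0 lc_b_rc_7_0 lc_b_rc_10_2 lc_b_rc_12_4 lc_b_rc_31_9 lc_b_rc_10_2 lc_b_rc_9_2) (@D3.rec (fun _ => (Cert rels S Gen.b)) lc_b_rc_1_3 lc_b_rc_7_0 lc_b_rc_11_4 lc_b_rc_8_2 lc_b_rc_12_2 lc_b_rc_12_2 lc_b_rc_30_9 lc_b_rc_9_2 lc_b_rc_9_2 lc_b_rc_32_36 lc_b_rc_7_0 lc_b_rc_30_9 lc_b_rc_7_0 lc_b_rc_7_0 lc_b_rc_31_9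 lc_b_rc_30_9 lc_b_rc_12_4 lc_b_rc_1_5) (@D3.rec (fun _ => (Cert rels S Gen.b)) lc_b_rc_7_0 lc_b_Cert_tree lc_b_rc_7_0 lc_b_rc_8_4 lc_b_rc_12_2 lc_b_rc_30_9 lc_b_rc_12_2 lc_b_rc_12_4 lc_b_rc_8_2 lc_b_rc_12_2 lc_b_rc_30_13 lc_b_rc_30_9 lc_b_rc_9_2 lc_b_rc_9_2 lc_b_rc_9_2 lc_b_rc_8_2 lc_b_rc_11_2 lc_b_rc_1_3) (@D3.rec (fun _ => (Cert rels S Gen.b)) lc_b_rc_7_0 lc_b_Cert_tree lc_b_rc_32_57 lc_b_rc_30_13 lc_b_rc_7_0 lc_b_rc_30_13 lc_b_Cert_tree lc_b_rc_8_2 lc_b_rc_9_2 lc_b_rc_7_0 lc_b_rc_8_2 lc_b_rc_8_2 lc_b_Cert_tree lc_b_rc_7_0 lc_b_rc_30_9 lc_b_rc_1_5 lc_b_rc_1_5 lc_b_rc_9_2) (@D3.rec (fun _ => (Cert rels S Gen.b)) lc_b_rc_9_2 lc_b_rc_30_1 lc_b_rc_12_2 lc_b_rc_9_2 lc_b_rc_7_0 lc_b_rc_10_2 lc_b_rc_32_15 lc_b_rc_7_0 lc_b_rc_30_13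 lc_b_rc_7_0 lc_b_rc_8_2 lc_b_rc_7_0 lc_b_rc_30_9 lc_b_rc_8_2 lc_b_rc_7_0 lc_b_rc_7_0 lc_b_rc_7_0 lc_b_rc_8_2)
def ce_b : Pt → (Cert rels S Gen.b) := @Pt.rec (fun _ => (Cert rels S Gen.b)) (@D1.rec (fun _ => D2 → D3 → (Cert rels S Gen.b)) ce_b_0 ce_b_1 ce_b_2 ce_b_3 ce_b_4 ce_b_5 ce_b_6 ce_b_7 ce_b_8)
def isSeed_b (p : Pt) : Bool := orB (beqPt p (Pt.mk D1.c8 D2.c9 D3.c1)) (orB (beqPt p (Pt.mk D1.c4 D2.c5 D3.c9)) (false))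

end

end Cfsg.Agent.Helper28.S1680
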