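import Cfsg.Agent.Lib.Helper28.S1680.Tree

set_option autoImplicit false
set_option maxRecDepth 100000
set_option linter.all false

namespace Cfsg.Agent.Helper28.S1680

open Cfsg.Agent.Helper28
open Cfsg.Spor.Suz (Gen)

noncomputable section

def lv_c_0 : D2 → D3 → Nat := @D2.rec (fun _ => D3 → Nat) (@D3.rec (fun _ => Nat) 1 2 0 0 1 2 0 1 0 2 1 2 0 1 2 2 4 2) (@D3.rec (fun _ => Nat) 0 34 0 3 35 1 2 5 2 2 3 0 5 0 3 1 2 53) (@D3.rec (fun _ => Nat) 36 1 2 2 2 34 3 2 6 6 6 6 0 3 52 0 1 1) (@D3.rec (fun _ => Nat) 2 2 3 2 53 53 3 0 2 2 2 3 3 3 37 4 4 4) (@D3.rec (fun _ => Nat) 4 0 8 7 7 0 7 7 54 7 8 1 2 54 1 3 2 2) (@D3.rec (fun _ => Nat) 3 4 4 0 55 4 48 4 4 4 1 2 57 0 3 3 21 3) (@D3.rec (fun _ => Nat) 4 0 6 5 5 0 5 5 5 6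 1 0 9 9 0 1 2 2) (@D3.rec (fun _ => Nat) 54 8 10 0 0 4 2 0 4 4 0 3 22 0 5 56 1 47) (@D3.rec (fun _ => Nat) 6 5 5 48 48 46 0 5 5 23 5 6 2 0 56 0 1 2) (@D3.rec (fun _ => Nat) 2 23 4 23 23 0 0 1 0 7 7 0 1 2 2 6 8 0) (@D3.rec (fun _ => Nat) 0 4 1 2 2 0 0 1 2 4 7 2 2 0 3 4 0 0)
def lv_c_1 : D2 → D3 → Nat := @D2.rec (fun _ => D3 → Nat) (@D3.rec (fun _ => Nat) 0 1 2 1 2 5 5 5 0 1 0 5 22 1 2 22 22 22) (@D3.rec (fun _ => Nat) 1 2 57 56 4 49 49 47 0 7 7 54 51 0 50 48 54 8) (@D3.rec (fun _ => Nat) 8 1 2 2 23 6 8 55 0 1 2 0 1 4 2 2 0 3) (@D3.rec (fun _ => Nat) 25 23 0 53 58 0 1 1 38 1 2 2 0 58 1 58 4 0) (@D3.rec (fun _ => Nat) 2 2 3 4 0 0 61 1 1 2 5 5 5 53 7 2 2 0) (@D3.rec (fun _ => Nat) 0 1 2 59 1 58 2 5 0 5 5 8 8 8 0 3 9 4)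 (@D3.rec (fun _ => Nat) 1 0 0 0 1 2 1 2 1 59 2 0 2 0 6 6 0 6) (@D3.rec (fun _ => Nat) 7 0 1 2 1 2 24 4 2 0 24 24 4 0 2 3 58 5) (@D3.rec (fun _ => Nat) 5 5 0 49 47 50 1 2 2 54 51 1 2 2 56 9 9 4) (@D3.rec (fun _ => Nat) 7 2 2 0 3 4 57 1 5 54 2 0 1 5 5 5 0 52) (@D3.rec (fun _ => Nat) 3 0 1 2 0 53 60 0 1 1 59 51 5 2 2 0 59 1)
def lv_c_2 : D2 → D3 → Nat := @D2.rec (fun _ => D3 → Nat) (@D3.rec (fun _ => Nat) 60 5 0 5 5 1 2 2 2 25 3 10 4 0 0 63 1 1) (@D3.rec (fun _ => Nat) 2 0 2 0 6 6 6 7 53 0 53 53 8 8 8 0 53 0) (@D3.rec (fun _ => Nat) 1 2 59 1 2 58 62 6 0 0 6 6 1 2 2 84 0 6) (@D3.rec (fun _ => Nat) 10 7 9 9 0 9 85 9 0 1 2 0 0 1 2 1 2 1) (@D3.rec (fun _ => Nat) 2 2 59 60 1 2 4 1 2 0 0 0 1 0 0 1 2 3) (@D3.rec (fun _ => Nat)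 4 53 2 0 77 5 80 0 0 1 2 5 0 5 5 1 2 24) (@D3.rec (fun _ => Nat) 3 0 0 6 6 7 1 2 2 52 4 2 2 0 91 5 11 2) (@D3.rec (fun _ => Nat) 2 0 3 4 5 59 5 5 6 8 8 0 3 54 4 0 1 52) (@D3.rec (fun _ => Nat) 7 0 6 6 54 0 1 0 0 6 6 0 119 54 6 0 1 2) (@D3.rec (fun _ => Nat) 54 54 0 0 1 0 2 3 0 1 1 57 53 0 53 53 8 6) (@D3.rec (fun _ => Nat) 6 0 53 0 1 2 0 0 81 6 6 1 2 2 85 25 6 11)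
def lv_c_3 : D2 → D3 → Nat := @D2.rec (fun _ => D3 → Nat) (@D3.rec (fun _ => Nat) 7 3 2 2 2 3 3 0 7 91 7 25 25 0 0 1 2 1) (@D3.rec (fun _ => Nat) 2 2 1 61 1 0 85 0 110 0 55 79 1 2 2 0 55 81) (@D3.rec (fun _ => Nat) 55 9 9 0 82 0 1 2 85 55 0 1 2 6 63 85 1 0) (@D3.rec (fun _ => Nat) 2 89 1 2 2 84 86 2 2 3 83 0 3 83 84 0 1 2) (@D3.rec (fun _ => Nat) 0 0 10 84 10 0 1 120 0 114 1 2 2 0 6 0 1 2) (@D3.rec (fun _ => Nat) 1 2 2 6 11 2 64 2 0 0 1 113 0 1 2 0 1 0) (@D3.rec (fun _ => Nat) 1 2 0 1 2 2 3 0 78 5 55 0 1 79 0 80 0 1) (@D3.rec (fun _ => Nat) 2 1 26 2 80 60 6 1 113 87 24 6 7 79 2 0 26 26) (@D3.rec (fun _ => Nat) 0 1 0 1 2 0 0 0 4 53 2 2 92 5 5 119 1 6) (@D3.rec (fun _ => Nat) 0 6 6 10 12 11 0 3 52 4 1 85 6 6 61 118 6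 7) (@D3.rec (fun _ => Nat) 0 7 7 0 1 112 59 54 54 1 117 52 52 52 86 89 7 7)
def lv_c_4 : D2 → D3 → Nat := @D2.rec (fun _ => D3 → Nat) (@D3.rec (fun _ => Nat) 1 113 85 0 120 7 0 0 1 2 63 1 86 1 2 0 0 1) (@D3.rec (fun _ => Nat) 121 56 0 0 1 2 118 2 3 54 0 54 0 1 2 1 2 23) (@D3.rec (fun _ => Nat) 1 2 65 38 3 1 86 0 53 82 1 87 2 80 0 80 82 57) (@D3.rec (fun _ => Nat) 9 86 0 85 0 1 2 86 53 1 59 2 1 88 1 85 82 82) (@D3.rec (fun _ => Nat) 3 2 2 111 85 109 88 83 25 25 0 57 56 111 10 3 3 114) (@D3.rec (fun _ => Nat) 0 87 90 8 0 1 2 0 112 27 0 27 0 1 2 1 61 2) (@D3.rec (fun _ => Nat) 2 62 0 1 116 89 86 0 1 2 86 0 1 2 79 2 2 3) (@D3.rec (fun _ => Nat) 121 79 119 1 119 82 0 0 85 117 1 121 84 84 0 1 2 122) (@D3.rec (fun _ => Nat)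 2 119 83 1 115 0 86 2 1 59 2 2 90 3 2 2 3 85) (@D3.rec (fun _ => Nat) 87 87 3 0 3 0 4 86 85 120 1 122 0 1 2 0 0 1) (@D3.rec (fun _ => Nat) 2 0 1 113 0 0 1 120 111 0 1 114 2 5 0 1 2 0)
def lv_c_5 : D2 → D3 → Nat := @D2.rec (fun _ => D3 → Nat) (@D3.rec (fun _ => Nat) 1 2 102 2 55 12 115 0 1 0 1 118 91 1 2 2 3 0) (@D3.rec (fun _ => Nat) 1 2 2 2 1 114 2 1 2 2 85 3 87 123 0 1 2 0) (@D3.rec (fun _ => Nat) 112 0 1 2 24 113 0 1 121 113 0 1 119 0 2 123 24 64) (@D3.rec (fun _ => Nat) 39 83 79 60 0 113 85 115 26 26 118 119 78 112 0 1 111 114) (@D3.rec (fun _ => Nat) 26 0 26 0 1 2 60 1 2 2 0 3 1 0 1 0 1 2) (@D3.rec (fun _ => Nat) 5 0 5 54 54 118 6 85 0 7 7 1 2 119 7 11 0 10) (@D3.rec (fun _ => Nat) 10 0 1 115 59 54 54 60 84 0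 116 0 0 8 114 1 110 117) (@D3.rec (fun _ => Nat) 0 0 1 115 60 117 60 63 25 116 54 56 87 90 0 0 115 86) (@D3.rec (fun _ => Nat) 0 1 120 0 0 1 113 0 1 2 0 2 3 61 66 87 83 2) (@D3.rec (fun _ => Nat) 0 81 1 83 1 0 0 1 2 0 1 2 2 120 2 123 121 120) (@D3.rec (fun _ => Nat) 40 3 113 110 0 1 2 110 0 1 2 104 2 2 61 119 0 122)
def lv_c_6 : D2 → D3 → Nat := @D2.rec (fun _ => D3 → Nat) (@D3.rec (fun _ => Nat) 120 27 2 67 0 56 40 122 104 1 83 80 110 2 83 0 79 122) (@D3.rec (fun _ => Nat) 1 121 83 0 0 0 1 2 89 86 120 1 2 0 2 122 84 121) (@D3.rec (fun _ => Nat) 4 64 114 63 4 83 111 89 84 116 1 0 11 11 0 1 116 0) (@D3.rec (fun _ => Nat) 1 113 2 0 120 0 1 106 0 1 108 107 1 108 107 2 102 61) (@D3.rec (fun _ => Nat) 62 53 0 1 121 92 1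 2 0 1 68 2 80 3 112 127 80 121) (@D3.rec (fun _ => Nat) 1 125 1 112 85 84 0 118 1 92 122 2 121 57 1 61 2 3) (@D3.rec (fun _ => Nat) 61 2 2 61 3 60 3 88 0 4 1 0 111 1 126 0 0 0) (@D3.rec (fun _ => Nat) 1 2 111 1 108 1 117 2 0 1 127 109 113 0 1 1 0 1) (@D3.rec (fun _ => Nat) 112 116 121 1 103 2 1 109 105 2 104 114 115 0 1 1 2 118) (@D3.rec (fun _ => Nat) 119 2 4 3 1 2 2 0 2 2 3 123 3 5 3 5 87 81) (@D3.rec (fun _ => Nat) 84 1 0 2 0 1 112 114 0 1 115 112 2 114 26 115 58 1)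
def lv_c_7 : D2 → D3 → Nat := @D2.rec (fun _ => D3 → Nat) (@D3.rec (fun _ => Nat) 122 122 0 1 2 116 1 2 41 61 0 39 87 0 80 1 123 111) (@D3.rec (fun _ => Nat) 115 111 118 112 114 1 113 112 114 0 0 1 120 1 0 2 2 0) (@D3.rec (fun _ => Nat) 3 1 0 1 116 1 125 2 6 1 2 0 88 1 2 0 115 0) (@D3.rec (fun _ => Nat) 0 12 0 1 2 0 0 89 1 118 60 116 60 117 1 123 1 124) (@D3.rec (fun _ => Nat) 1 94 108 93 1 1 121 61 0 64 116 64 64 25 110 0 80 115) (@D3.rec (fun _ => Nat) 81 1 83 1 115 1 117 0 1 1 115 1 2 117 2 121 1 2) (@D3.rec (fun _ => Nat) 113 3 64 122 86 56 1 84 122 119 59 122 118 1 126 1 122 2) (@D3.rec (fun _ => Nat) 1 2 2 123 3 123 121 123 122 117 42 113 123 1 2 88 1 115) (@D3.rec (fun _ => Nat) 112 110 105 2 121 119 0 119 116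 1 127 110 2 122 120 119 123 127) (@D3.rec (fun _ => Nat) 1 120 120 122 124 105 81 114 1 0 125 1 110 1 2 1 2 0) (@D3.rec (fun _ => Nat) 2 123 0 2 1 123 124 109 64 124 64 64 113 1 1 127 125 0)
def lv_c_8 : D2 → D3 → Nat := @D2.rec (fun _ => D3 → Nat) (@D3.rec (fun _ => Nat) 1 116 1 2 1 107 1 109 124 103 91 114 1 1 66 112 128 120) (@D3.rec (fun _ => Nat) 0 0 1 2 119 109 10 60 2 58 60 3 1 0 0 1 111 1) (@D3.rec (fun _ => Nat) 1 0 1 2 1 0 1 1 113 108 0 1 125 2 119 111 126 126) (@D3.rec (fun _ => Nat) 117 6 6 119 0 2 3 123 3 1 131 125 98 5 117 126 118 5) (@D3.rec (fun _ => Nat) 5 120 120 119 1 121 123 1 1 128 120 57 122 1 108 2 2 41) (@D3.rec (fun _ => Nat) 1 1 126 1 1 118 125 114 1 1 130 1 126 127 2 1 0 1) (@D3.rec (fun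 _ => Nat) 1 129 1 1 2 0 3 1 1 61 1 125 65 128 122 65 1 120) (@D3.rec (fun _ => Nat) 1 2 121 2 115 83 121 120 128 3 123 126 124 128 110 115 127 1) (@D3.rec (fun _ => Nat) 121 124 124 2 123 112 125 124 1 2 2 1 123 1 114 65 65 90) (@D3.rec (fun _ => Nat) 1 113 2 126 10 1 1 2 127 115 1 1 1 2 1 111 1 122) (@D3.rec (fun _ => Nat) 111 1 129 125 126 97 124 121 91 122 1 0 3 1 127 114 2 1)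
def lv_c : Pt → Nat := @Pt.rec (fun _ => Nat) (@D1.rec (fun _ => D2 → D3 → Nat) lv_c_0 lv_c_1 lv_c_2 lv_c_3 lv_c_4 lv_c_5 lv_c_6 lv_c_7 lv_c_8)
abbrev lc_c_Cert_tree : Cert rels S Gen.c := Cert.tree
abbrev lc_c_rc_13_0 : Cert rels S Gen.c := rc_13_0
abbrev lc_c_rc_13_1 : Cert rels S Gen.c := rc_13_1
abbrev lc_c_rc_14_10 : Cert rels S Gen.c := rc_14_10
abbrev lc_c_rc_14_4 : Cert rels S Gen.c := rc_14_4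
abbrev lc_c_rc_14_6 : Cert rels S Gen.c := rc_14_6
abbrev lc_c_rc_15_0 : Cert rels S Gen.c := rc_15_0
abbrev lc_c_rc_15_2 : Cert rels S Gen.c := rc_15_2
abbrev lc_c_rc_16_0 : Cert rels S Gen.c := rc_16_0
abbrev lc_c_rc_16_2 : Cert rels S Gen.c := rc_16_2
abbrev lc_c_rc_17_0 : Cert rels S Gen.c := rc_17_0
abbrev lc_c_rc_17_2 : Cert rels S Gen.c := rc_17_2
abbrev lc_c_rc_28_2 : Cert rels S Gen.c := rc_28_2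
abbrev lc_c_rc_28_4 : Cert rels S Gen.c := rc_28_4
abbrev lc_c_rc_28_6 : Cert rels S Gen.c := rc_28_6
abbrev lc_c_rc_28_8 : Cert rels S Gen.c := rc_28_8
abbrev lc_c_rc_2_1 : Cert rels S Gen.c := rc_2_1
abbrev lc_c_rc_2_3 : Cert rels S Gen.c := rc_2_3
abbrev lc_c_rc_30_10 : Cert rels S Gen.c := rc_30_10
abbrev lc_c_rc_30_14 : Cert rels S Gen.c := rc_30_14
abbrev lc_c_rc_30_18 : Cert rels S Gen.c := rc_30_18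
abbrev lc_c_rc_30_2 : Cert rels S Gen.c := rc_30_2
abbrev lc_c_rc_30_6 : Cert rels S Gen.c := rc_30_6
abbrev lc_c_rc_32_34 : Cert rels S Gen.c := rc_32_34
abbrev lc_c_rc_32_37 : Cert rels S Gen.c := rc_32_37
abbrev lc_c_rc_32_39 : Cert rels S Gen.c := rc_32_39
abbrev lc_c_rc_32_42 : Cert rels S Gen.c := rc_32_42
abbrev lc_c_rc_32_44 : Cert rels S Gen.c := rc_32_44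
abbrev lc_c_rc_32_47 : Cert rels S Gen.c := rc_32_47
abbrev lc_c_rc_32_49 : Cert rels S Gen.c := rc_32_49
abbrev lc_c_rc_32_55 : Cert rels S Gen.c := rc_32_55
abbrev lc_c_rc_8_1 : Cert rels S Gen.c := rc_8_1
abbrev lc_c_rc_8_3 : Cert rels S Gen.c := rc_8_3
abbrev lc_c_rc_8_5 : Cert rels S Gen.c := rc_8_5
abbrev lc_c_sc_2_0 : Cert rels S Gen.c := sc_2_0
def ce_c_0 : D2 → D3 → (Cert rels S Gen.c) := @D2.rec (fun _ => D3 → (Cert rels S Gen.c)) (@D3.rec (fun _ => (Cert rels S Gen.c)) lc_c_sc_2_0 lc_c_rc_17_2 lc_c_Cert_tree lc_c_Cert_tree lc_c_rc_13_0 lc_c_rc_16_2 lc_c_Cert_tree lc_c_rc_13_0 lc_c_Cert_tree lc_c_rc_16_2 lc_c_rc_13_0 lc_c_rc_8_3 lc_c_Cert_tree lc_c_rc_13_0 lc_c_rc_15_2 lc_c_rc_16_2 lc_c_rc_8_3 lc_c_rc_8_3)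 (@D3.rec (fun _ => (Cert rels S Gen.c)) lc_c_Cert_tree lc_c_rc_2_1 lc_c_Cert_tree lc_c_rc_16_2 lc_c_rc_2_1 lc_c_rc_13_0 lc_c_rc_15_2 lc_c_rc_8_3 lc_c_rc_15_2 lc_c_rc_16_2 lc_c_rc_16_2 lc_c_Cert_tree lc_c_rc_17_2 lc_c_Cert_tree lc_c_rc_16_2 lc_c_rc_13_0 lc_c_rc_15_2 lc_c_rc_14_6) (@D3.rec (fun _ => (Cert rels S Gen.c)) lc_c_rc_2_1 lc_c_rc_13_0 lc_c_rc_15_2 lc_c_rc_16_2 lc_c_rc_17_2 lc_c_rc_2_1 lc_c_rc_8_3 lc_c_rc_15_2 lc_c_rc_2_1 lc_c_rc_8_3 lc_c_rc_16_2 lc_c_rc_17_2 lc_c_Cert_tree lc_c_rc_16_2 lc_c_rc_14_10 lc_c_Cert_tree lc_c_rc_13_0 lc_c_rc_13_0) (@D3.rec (fun _ => (Cert rels S Gen.c)) lc_c_rc_15_2 lc_c_rc_16_2 lc_c_rc_8_3 lc_c_rc_15_2 lc_c_rc_15_2 lc_c_rc_16_2 lc_c_rc_8_3 lc_c_Cert_tree lc_c_rc_15_2 lc_c_rc_16_2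 lc_c_rc_17_2 lc_c_rc_16_2 lc_c_rc_17_2 lc_c_rc_16_2 lc_c_rc_8_3 lc_c_rc_2_1 lc_c_rc_8_3 lc_c_rc_16_2) (@D3.rec (fun _ => (Cert rels S Gen.c)) lc_c_rc_17_2 lc_c_Cert_tree lc_c_rc_28_2 lc_c_rc_2_1 lc_c_rc_2_1 lc_c_Cert_tree lc_c_rc_16_2 lc_c_rc_17_2 lc_c_rc_16_2 lc_c_rc_17_2 lc_c_rc_2_1 lc_c_rc_13_0 lc_c_rc_16_2 lc_c_rc_15_2 lc_c_rc_13_0 lc_c_rc_8_3 lc_c_rc_15_2 lc_c_rc_16_2) (@D3.rec (fun _ => (Cert rels S Gen.c)) lc_c_rc_16_2 lc_c_rc_8_3 lc_c_rc_16_2 lc_c_Cert_tree lc_c_rc_16_2 lc_c_rc_2_1 lc_c_rc_28_4 lc_c_rc_8_3 lc_c_rc_16_2 lc_c_rc_17_2 lc_c_rc_13_0 lc_c_rc_15_2 lc_c_rc_28_4 lc_c_Cert_tree lc_c_rc_16_2 lc_c_rc_17_2 lc_c_rc_8_3 lc_c_rc_16_2) (@D3.rec (fun _ => (Cert rels S Gen.c)) lc_c_rc_16_2 lc_c_Cert_tree lc_c_rc_28_2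 lc_c_rc_2_1 lc_c_rc_2_1 lc_c_Cert_tree lc_c_rc_16_2 lc_c_rc_17_2 lc_c_rc_17_2 lc_c_rc_2_3 lc_c_rc_13_0 lc_c_Cert_tree lc_c_rc_28_2 lc_c_rc_28_2 lc_c_Cert_tree lc_c_rc_13_0 lc_c_rc_16_2 lc_c_rc_17_2) (@D3.rec (fun _ => (Cert rels S Gen.c)) lc_c_rc_16_2 lc_c_rc_17_2 lc_c_rc_28_2 lc_c_Cert_tree lc_c_Cert_tree lc_c_rc_8_3 lc_c_rc_16_2 lc_c_Cert_tree lc_c_rc_8_3 lc_c_rc_16_2 lc_c_Cert_tree lc_c_rc_16_2 lc_c_rc_8_3 lc_c_Cert_tree lc_c_rc_16_2 lc_c_rc_28_4 lc_c_rc_13_0 lc_c_rc_28_4) (@D3.rec (fun _ => (Cert rels S Gen.c)) lc_c_rc_28_2 lc_c_rc_2_1 lc_c_rc_2_1 lc_c_rc_15_2 lc_c_rc_16_2 lc_c_rc_28_4 lc_c_Cert_tree lc_c_rc_16_2 lc_c_rc_17_2 lc_c_rc_16_2 lc_c_rc_17_2 lc_c_rc_2_1 lc_c_rc_15_2 lc_c_Cert_tree lc_c_rc_2_3 lc_c_Cert_tree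 lc_c_rc_13_0 lc_c_rc_16_2) (@D3.rec (fun _ => (Cert rels S Gen.c)) lc_c_rc_17_2 lc_c_rc_8_3 lc_c_rc_16_2 lc_c_rc_2_1 lc_c_rc_17_2 lc_c_Cert_tree lc_c_Cert_tree lc_c_rc_13_0 lc_c_Cert_tree lc_c_rc_28_2 lc_c_rc_28_2 lc_c_Cert_tree lc_c_rc_13_0 lc_c_rc_16_2 lc_c_rc_17_2 lc_c_rc_17_2 lc_c_rc_28_2 lc_c_Cert_tree) (@D3.rec (fun _ => (Cert rels S Gen.c)) lc_c_Cert_tree lc_c_rc_8_3 lc_c_rc_13_0 lc_c_rc_16_2 lc_c_rc_17_2 lc_c_Cert_tree lc_c_Cert_tree lc_c_rc_13_0 lc_c_rc_17_2 lc_c_rc_8_3 lc_c_rc_28_6 lc_c_rc_16_2 lc_c_rc_17_2 lc_c_Cert_tree lc_c_rc_17_2 lc_c_rc_2_3 lc_c_Cert_tree lc_c_Cert_tree)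
def ce_c_1 : D2 → D3 → (Cert rels S Gen.c) := @D2.rec (fun _ => D3 → (Cert rels S Gen.c)) (@D3.rec (fun _ => (Cert rels S Gen.c)) lc_c_Cert_tree lc_c_rc_13_0 lc_c_rc_16_2 lc_c_rc_13_0 lc_c_rc_17_2 lc_c_rc_2_1 lc_c_rc_16_2 lc_c_rc_17_2 lc_c_Cert_tree lc_c_rc_13_0 lc_c_Cert_tree lc_c_rc_16_2 lc_c_rc_16_2 lc_c_rc_13_0 lc_c_rc_16_2 lc_c_rc_8_3 lc_c_rc_2_1 lc_c_rc_17_2) (@D3.rec (fun _ => (Cert rels S Gen.c)) lc_c_rc_13_0 lc_c_rc_16_2 lc_c_rc_2_1 lc_c_rc_16_2 lc_c_rc_8_3 lc_c_rc_15_2 lc_c_rc_16_2 lc_c_rc_28_4 lc_c_Cert_tree lc_c_rc_28_2 lc_c_rc_28_2 lc_c_rc_16_2 lc_c_rc_8_3 lc_c_Cert_tree lc_c_rc_16_2 lc_c_rc_15_2 lc_c_rc_8_1 lc_c_rc_28_6) (@D3.rec (fun _ => (Cert rels S Gen.c)) lc_c_rc_28_2 lc_c_rc_13_0 lc_c_rc_16_2 lc_c_rc_17_2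 lc_c_rc_16_2 lc_c_rc_17_2 lc_c_rc_28_2 lc_c_rc_16_2 lc_c_Cert_tree lc_c_rc_13_0 lc_c_rc_16_2 lc_c_Cert_tree lc_c_rc_13_0 lc_c_rc_8_3 lc_c_rc_16_2 lc_c_rc_17_2 lc_c_Cert_tree lc_c_rc_16_2) (@D3.rec (fun _ => (Cert rels S Gen.c)) lc_c_rc_28_2 lc_c_rc_17_2 lc_c_Cert_tree lc_c_rc_8_1 lc_c_rc_17_2 lc_c_Cert_tree lc_c_rc_13_0 lc_c_rc_13_0 lc_c_rc_28_4 lc_c_rc_13_0 lc_c_rc_16_2 lc_c_rc_17_2 lc_c_Cert_tree lc_c_rc_28_8 lc_c_rc_13_0 lc_c_rc_17_2 lc_c_rc_8_3 lc_c_Cert_tree) (@D3.rec (fun _ => (Cert rels S Gen.c)) lc_c_rc_16_2 lc_c_rc_17_2 lc_c_rc_17_2 lc_c_rc_2_3 lc_c_Cert_tree lc_c_Cert_tree lc_c_rc_28_6 lc_c_rc_13_0 lc_c_rc_13_0 lc_c_rc_17_2 lc_c_rc_2_1 lc_c_rc_16_2 lc_c_rc_17_2 lc_c_rc_8_3 lc_c_rc_28_4 lc_c_rc_16_2 lc_c_rc_17_2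 lc_c_Cert_tree) (@D3.rec (fun _ => (Cert rels S Gen.c)) lc_c_Cert_tree lc_c_rc_13_0 lc_c_rc_17_2 lc_c_rc_16_2 lc_c_rc_13_0 lc_c_rc_28_4 lc_c_rc_17_2 lc_c_rc_2_1 lc_c_Cert_tree lc_c_rc_16_2 lc_c_rc_17_2 lc_c_rc_15_2 lc_c_rc_28_6 lc_c_rc_28_6 lc_c_Cert_tree lc_c_rc_17_2 lc_c_rc_8_3 lc_c_rc_2_1) (@D3.rec (fun _ => (Cert rels S Gen.c)) lc_c_rc_13_0 lc_c_Cert_tree lc_c_Cert_tree lc_c_Cert_tree lc_c_rc_13_0 lc_c_rc_16_2 lc_c_rc_13_0 lc_c_rc_17_2 lc_c_rc_13_0 lc_c_rc_28_6 lc_c_rc_16_2 lc_c_Cert_tree lc_c_rc_17_2 lc_c_Cert_tree lc_c_rc_2_1 lc_c_rc_2_1 lc_c_Cert_tree lc_c_rc_17_2) (@D3.rec (fun _ => (Cert rels S Gen.c)) lc_c_rc_2_3 lc_c_Cert_tree lc_c_rc_13_0 lc_c_rc_17_2 lc_c_rc_13_0 lc_c_rc_16_2 lc_c_rc_16_2 lc_c_rc_8_3 lc_c_rc_16_2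 lc_c_Cert_tree lc_c_rc_28_2 lc_c_rc_17_2 lc_c_rc_8_3 lc_c_Cert_tree lc_c_rc_16_2 lc_c_rc_17_2 lc_c_rc_16_2 lc_c_rc_2_1) (@D3.rec (fun _ => (Cert rels S Gen.c)) lc_c_rc_16_2 lc_c_rc_17_2 lc_c_Cert_tree lc_c_rc_16_2 lc_c_rc_15_2 lc_c_rc_8_1 lc_c_rc_13_0 lc_c_rc_16_2 lc_c_rc_17_2 lc_c_rc_16_2 lc_c_rc_8_3 lc_c_rc_13_0 lc_c_rc_16_2 lc_c_rc_17_2 lc_c_rc_8_1 lc_c_rc_15_2 lc_c_rc_15_2 lc_c_rc_8_3) (@D3.rec (fun _ => (Cert rels S Gen.c)) lc_c_rc_28_4 lc_c_rc_16_2 lc_c_rc_17_2 lc_c_Cert_tree lc_c_rc_17_2 lc_c_rc_2_3 lc_c_rc_16_2 lc_c_rc_13_0 lc_c_rc_8_3 lc_c_rc_28_4 lc_c_rc_16_2 lc_c_Cert_tree lc_c_rc_13_0 lc_c_rc_2_1 lc_c_rc_16_2 lc_c_rc_17_2 lc_c_Cert_tree lc_c_rc_8_3) (@D3.rec (fun _ => (Cert rels S Gen.c)) lc_c_rc_16_2 lc_c_Cert_tree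 lc_c_rc_13_0 lc_c_rc_17_2 lc_c_Cert_tree lc_c_rc_8_1 lc_c_rc_17_2 lc_c_Cert_tree lc_c_rc_13_0 lc_c_rc_13_0 lc_c_rc_28_8 lc_c_rc_8_3 lc_c_rc_28_4 lc_c_rc_16_2 lc_c_rc_17_2 lc_c_Cert_tree lc_c_rc_28_8 lc_c_rc_13_0)
def ce_c_2 : D2 → D3 → (Cert rels S Gen.c) := @D2.rec (fun _ => D3 → (Cert rels S Gen.c)) (@D3.rec (fun _ => (Cert rels S Gen.c)) lc_c_rc_17_2 lc_c_rc_2_1 lc_c_Cert_tree lc_c_rc_16_2 lc_c_rc_17_2 lc_c_rc_13_0 lc_c_rc_15_2 lc_c_rc_16_2 lc_c_rc_17_2 lc_c_rc_8_3 lc_c_rc_17_2 lc_c_rc_8_3 lc_c_rc_2_1 lc_c_Cert_tree lc_c_Cert_tree lc_c_rc_28_6 lc_c_rc_13_0 lc_c_rc_13_0) (@D3.rec (fun _ => (Cert rels S Gen.c)) lc_c_rc_17_2 lc_c_Cert_tree lc_c_rc_17_2 lc_c_Cert_tree lc_c_rc_2_1 lc_c_rc_2_1 lc_c_rc_17_2 lc_c_rc_2_3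 lc_c_rc_2_1 lc_c_Cert_tree lc_c_rc_16_2 lc_c_rc_17_2 lc_c_rc_15_2 lc_c_rc_28_4 lc_c_rc_28_4 lc_c_Cert_tree lc_c_rc_8_3 lc_c_Cert_tree) (@D3.rec (fun _ => (Cert rels S Gen.c)) lc_c_rc_13_0 lc_c_rc_17_2 lc_c_rc_16_2 lc_c_rc_13_0 lc_c_rc_17_2 lc_c_rc_28_6 lc_c_rc_28_8 lc_c_rc_8_3 lc_c_Cert_tree lc_c_Cert_tree lc_c_rc_2_1 lc_c_rc_2_1 lc_c_rc_13_0 lc_c_rc_15_2 lc_c_rc_16_2 lc_c_rc_28_4 lc_c_Cert_tree lc_c_rc_17_2) (@D3.rec (fun _ => (Cert rels S Gen.c)) lc_c_rc_17_2 lc_c_rc_2_1 lc_c_rc_15_2 lc_c_rc_15_2 lc_c_Cert_tree lc_c_rc_28_6 lc_c_rc_8_3 lc_c_rc_28_4 lc_c_Cert_tree lc_c_rc_13_0 lc_c_rc_17_2 lc_c_Cert_tree lc_c_Cert_tree lc_c_rc_13_0 lc_c_rc_16_2 lc_c_rc_13_0 lc_c_rc_17_2 lc_c_rc_13_0) (@D3.rec (fun _ => (Cert rels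 S Gen.c)) lc_c_rc_16_2 lc_c_rc_17_2 lc_c_rc_28_4 lc_c_rc_28_6 lc_c_rc_13_0 lc_c_rc_17_2 lc_c_rc_8_3 lc_c_rc_13_0 lc_c_rc_16_2 lc_c_Cert_tree lc_c_Cert_tree lc_c_Cert_tree lc_c_rc_13_0 lc_c_Cert_tree lc_c_Cert_tree lc_c_rc_13_0 lc_c_rc_17_2 lc_c_rc_16_2) (@D3.rec (fun _ => (Cert rels S Gen.c)) lc_c_rc_8_3 lc_c_rc_28_4 lc_c_rc_16_2 lc_c_Cert_tree lc_c_rc_2_1 lc_c_rc_16_2 lc_c_rc_28_4 lc_c_Cert_tree lc_c_Cert_tree lc_c_rc_13_0 lc_c_rc_17_2 lc_c_rc_2_1 lc_c_Cert_tree lc_c_rc_16_2 lc_c_rc_17_2 lc_c_rc_13_0 lc_c_rc_16_2 lc_c_rc_8_3) (@D3.rec (fun _ => (Cert rels S Gen.c)) lc_c_rc_17_2 lc_c_Cert_tree lc_c_Cert_tree lc_c_rc_2_1 lc_c_rc_17_2 lc_c_rc_2_3 lc_c_rc_13_0 lc_c_rc_16_2 lc_c_rc_17_2 lc_c_rc_8_1 lc_c_rc_8_3 lc_c_rc_16_2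 lc_c_rc_17_2 lc_c_Cert_tree lc_c_rc_32_39 lc_c_rc_8_3 lc_c_rc_15_0 lc_c_rc_16_2) (@D3.rec (fun _ => (Cert rels S Gen.c)) lc_c_rc_17_2 lc_c_Cert_tree lc_c_rc_17_2 lc_c_rc_2_3 lc_c_rc_2_1 lc_c_rc_28_6 lc_c_rc_16_2 lc_c_rc_17_2 lc_c_rc_15_2 lc_c_rc_28_4 lc_c_rc_28_4 lc_c_Cert_tree lc_c_rc_17_2 lc_c_rc_8_3 lc_c_rc_2_1 lc_c_Cert_tree lc_c_rc_13_0 lc_c_rc_8_3) (@D3.rec (fun _ => (Cert rels S Gen.c)) lc_c_rc_28_2 lc_c_Cert_tree lc_c_rc_16_2 lc_c_rc_17_2 lc_c_rc_28_4 lc_c_Cert_tree lc_c_rc_13_0 lc_c_Cert_tree lc_c_Cert_tree lc_c_rc_2_1 lc_c_rc_2_1 lc_c_Cert_tree lc_c_rc_17_2 lc_c_rc_17_2 lc_c_rc_16_2 lc_c_Cert_tree lc_c_rc_13_0 lc_c_rc_17_2) (@D3.rec (fun _ => (Cert rels S Gen.c)) lc_c_rc_2_1 lc_c_rc_16_2 lc_c_Cert_tree lc_c_Cert_tree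 lc_c_rc_13_0 lc_c_Cert_tree lc_c_rc_17_2 lc_c_rc_16_2 lc_c_Cert_tree lc_c_rc_13_0 lc_c_rc_13_0 lc_c_rc_28_6 lc_c_rc_2_1 lc_c_Cert_tree lc_c_rc_16_2 lc_c_rc_17_2 lc_c_rc_15_2 lc_c_rc_28_4) (@D3.rec (fun _ => (Cert rels S Gen.c)) lc_c_rc_28_4 lc_c_Cert_tree lc_c_rc_8_3 lc_c_Cert_tree lc_c_rc_13_0 lc_c_rc_17_2 lc_c_Cert_tree lc_c_Cert_tree lc_c_rc_14_4 lc_c_rc_2_1 lc_c_rc_2_1 lc_c_rc_13_0 lc_c_rc_15_2 lc_c_rc_16_2 lc_c_rc_28_2 lc_c_rc_8_3 lc_c_rc_17_2 lc_c_rc_17_2)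
def ce_c_3 : D2 → D3 → (Cert rels S Gen.c) := @D2.rec (fun _ => D3 → (Cert rels S Gen.c)) (@D3.rec (fun _ => (Cert rels S Gen.c)) lc_c_rc_2_1 lc_c_rc_8_3 lc_c_rc_15_2 lc_c_rc_16_2 lc_c_rc_17_2 lc_c_rc_16_2 lc_c_rc_17_2 lc_c_Cert_tree lc_c_rc_28_6 lc_c_rc_15_0 lc_c_rc_28_4 lc_c_rc_2_1 lc_c_rc_17_2 lc_c_Cert_tree lc_c_Cert_tree lc_c_rc_13_0 lc_c_rc_16_2 lc_c_rc_13_0) (@D3.rec (fun _ => (Cert rels S Gen.c)) lc_c_rc_17_2 lc_c_rc_17_2 lc_c_rc_13_0 lc_c_rc_8_3 lc_c_rc_13_0 lc_c_Cert_tree lc_c_rc_8_1 lc_c_Cert_tree lc_c_rc_16_2 lc_c_Cert_tree lc_c_rc_2_1 lc_c_rc_2_1 lc_c_rc_13_0 lc_c_rc_15_2 lc_c_rc_16_2 lc_c_Cert_tree lc_c_rc_17_2 lc_c_rc_14_10) (@D3.rec (fun _ => (Cert rels S Gen.c)) lc_c_rc_2_3 lc_c_rc_15_2 lc_c_rc_15_2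 lc_c_Cert_tree lc_c_rc_17_2 lc_c_Cert_tree lc_c_rc_13_0 lc_c_rc_17_2 lc_c_rc_28_2 lc_c_rc_16_2 lc_c_Cert_tree lc_c_rc_13_0 lc_c_rc_17_2 lc_c_rc_8_3 lc_c_rc_8_3 lc_c_rc_28_2 lc_c_rc_13_0 lc_c_Cert_tree) (@D3.rec (fun _ => (Cert rels S Gen.c)) lc_c_rc_16_2 lc_c_rc_28_6 lc_c_rc_13_0 lc_c_rc_15_2 lc_c_rc_16_2 lc_c_rc_28_8 lc_c_rc_15_2 lc_c_rc_15_2 lc_c_rc_16_2 lc_c_rc_16_2 lc_c_rc_15_2 lc_c_Cert_tree lc_c_rc_17_2 lc_c_rc_8_1 lc_c_rc_2_3 lc_c_Cert_tree lc_c_rc_13_0 lc_c_rc_17_2) (@D3.rec (fun _ => (Cert rels S Gen.c)) lc_c_Cert_tree lc_c_Cert_tree lc_c_rc_15_2 lc_c_rc_15_2 lc_c_rc_15_2 lc_c_Cert_tree lc_c_rc_13_0 lc_c_rc_28_8 lc_c_Cert_tree lc_c_rc_15_0 lc_c_rc_13_0 lc_c_rc_17_2 lc_c_rc_17_2 lc_c_Cert_tree lc_c_rc_2_3 lc_c_Cert_tree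 lc_c_rc_13_0 lc_c_rc_16_2) (@D3.rec (fun _ => (Cert rels S Gen.c)) lc_c_rc_13_0 lc_c_rc_16_2 lc_c_rc_17_2 lc_c_rc_8_3 lc_c_rc_8_3 lc_c_rc_17_2 lc_c_rc_16_2 lc_c_rc_16_2 lc_c_Cert_tree lc_c_Cert_tree lc_c_rc_13_0 lc_c_rc_16_2 lc_c_Cert_tree lc_c_rc_13_0 lc_c_rc_16_2 lc_c_Cert_tree lc_c_rc_13_0 lc_c_Cert_tree) (@D3.rec (fun _ => (Cert rels S Gen.c)) lc_c_rc_13_0 lc_c_rc_16_2 lc_c_Cert_tree lc_c_rc_13_0 lc_c_rc_16_2 lc_c_rc_8_3 lc_c_rc_16_2 lc_c_Cert_tree lc_c_rc_16_0 lc_c_rc_16_2 lc_c_rc_28_6 lc_c_Cert_tree lc_c_rc_13_0 lc_c_rc_2_1 lc_c_Cert_tree lc_c_rc_28_2 lc_c_Cert_tree lc_c_rc_13_0) (@D3.rec (fun _ => (Cert rels S Gen.c)) lc_c_rc_17_2 lc_c_rc_13_0 lc_c_rc_28_4 lc_c_rc_17_2 lc_c_rc_16_0 lc_c_rc_28_4 lc_c_rc_2_1 lc_c_rc_13_0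 lc_c_rc_2_3 lc_c_rc_28_6 lc_c_rc_8_3 lc_c_rc_17_2 lc_c_rc_2_1 lc_c_rc_2_1 lc_c_rc_16_2 lc_c_Cert_tree lc_c_rc_2_1 lc_c_rc_17_2) (@D3.rec (fun _ => (Cert rels S Gen.c)) lc_c_Cert_tree lc_c_rc_13_0 lc_c_Cert_tree lc_c_rc_13_0 lc_c_rc_16_2 lc_c_Cert_tree lc_c_Cert_tree lc_c_Cert_tree lc_c_rc_8_3 lc_c_rc_15_0 lc_c_rc_16_2 lc_c_rc_17_2 lc_c_rc_32_44 lc_c_rc_2_1 lc_c_rc_16_2 lc_c_rc_17_2 lc_c_rc_13_0 lc_c_rc_2_1) (@D3.rec (fun _ => (Cert rels S Gen.c)) lc_c_Cert_tree lc_c_rc_16_2 lc_c_rc_17_2 lc_c_rc_28_4 lc_c_rc_15_0 lc_c_rc_16_0 lc_c_Cert_tree lc_c_rc_17_2 lc_c_rc_8_3 lc_c_rc_2_1 lc_c_rc_13_0 lc_c_rc_28_2 lc_c_rc_2_1 lc_c_rc_2_1 lc_c_rc_28_6 lc_c_rc_17_2 lc_c_rc_16_2 lc_c_rc_15_2) (@D3.rec (fun _ => (Cert rels S Gen.c))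 lc_c_Cert_tree lc_c_rc_28_6 lc_c_rc_28_4 lc_c_Cert_tree lc_c_rc_13_0 lc_c_rc_28_6 lc_c_rc_8_3 lc_c_rc_16_2 lc_c_rc_8_3 lc_c_rc_13_0 lc_c_rc_8_1 lc_c_rc_2_1 lc_c_rc_16_2 lc_c_rc_17_2 lc_c_rc_8_3 lc_c_rc_28_2 lc_c_rc_2_1 lc_c_rc_2_1)
def ce_c_4 : D2 → D3 → (Cert rels S Gen.c) := @D2.rec (fun _ => D3 → (Cert rels S Gen.c)) (@D3.rec (fun _ => (Cert rels S Gen.c)) lc_c_rc_13_0 lc_c_rc_15_0 lc_c_rc_28_8 lc_c_Cert_tree lc_c_rc_17_2 lc_c_rc_16_2 lc_c_Cert_tree lc_c_Cert_tree lc_c_rc_13_0 lc_c_rc_17_2 lc_c_rc_16_0 lc_c_rc_13_0 lc_c_rc_8_1 lc_c_rc_13_0 lc_c_rc_16_2 lc_c_Cert_tree lc_c_Cert_tree lc_c_rc_13_0) (@D3.rec (fun _ => (Cert rels S Gen.c)) lc_c_rc_2_3 lc_c_rc_2_1 lc_c_Cert_tree lc_c_Cert_tree lc_c_rc_13_0 lc_c_rc_17_2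 lc_c_rc_16_2 lc_c_rc_17_2 lc_c_rc_16_2 lc_c_rc_2_1 lc_c_Cert_tree lc_c_rc_17_2 lc_c_Cert_tree lc_c_rc_13_0 lc_c_rc_17_2 lc_c_rc_13_0 lc_c_rc_8_3 lc_c_rc_28_4) (@D3.rec (fun _ => (Cert rels S Gen.c)) lc_c_rc_13_0 lc_c_rc_15_2 lc_c_rc_16_0 lc_c_rc_8_3 lc_c_rc_16_2 lc_c_rc_13_0 lc_c_rc_8_1 lc_c_Cert_tree lc_c_rc_2_1 lc_c_rc_2_1 lc_c_rc_13_0 lc_c_rc_14_10 lc_c_rc_16_2 lc_c_rc_16_0 lc_c_Cert_tree lc_c_rc_17_2 lc_c_rc_15_2 lc_c_rc_15_2) (@D3.rec (fun _ => (Cert rels S Gen.c)) lc_c_rc_15_2 lc_c_rc_15_2 lc_c_Cert_tree lc_c_rc_8_1 lc_c_Cert_tree lc_c_rc_13_0 lc_c_rc_17_2 lc_c_rc_2_1 lc_c_rc_16_2 lc_c_rc_13_0 lc_c_rc_28_4 lc_c_rc_17_2 lc_c_rc_13_0 lc_c_rc_28_2 lc_c_rc_13_0 lc_c_rc_28_6 lc_c_rc_15_2 lc_c_rc_16_2) (@D3.rec (fun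 _ => (Cert rels S Gen.c)) lc_c_rc_8_3 lc_c_rc_15_2 lc_c_rc_16_2 lc_c_rc_15_2 lc_c_rc_2_1 lc_c_rc_8_1 lc_c_rc_8_1 lc_c_rc_17_2 lc_c_rc_2_1 lc_c_rc_17_2 lc_c_Cert_tree lc_c_rc_28_2 lc_c_rc_28_8 lc_c_rc_16_2 lc_c_rc_28_6 lc_c_rc_16_2 lc_c_rc_17_2 lc_c_rc_15_2) (@D3.rec (fun _ => (Cert rels S Gen.c)) lc_c_Cert_tree lc_c_rc_16_2 lc_c_rc_8_1 lc_c_rc_15_2 lc_c_Cert_tree lc_c_rc_13_0 lc_c_rc_17_2 lc_c_Cert_tree lc_c_rc_2_3 lc_c_rc_2_1 lc_c_Cert_tree lc_c_rc_2_3 lc_c_Cert_tree lc_c_rc_13_0 lc_c_rc_16_2 lc_c_rc_13_0 lc_c_rc_28_4 lc_c_rc_16_2) (@D3.rec (fun _ => (Cert rels S Gen.c)) lc_c_rc_17_2 lc_c_rc_8_3 lc_c_Cert_tree lc_c_rc_13_0 lc_c_rc_16_2 lc_c_rc_28_2 lc_c_rc_16_2 lc_c_Cert_tree lc_c_rc_13_0 lc_c_rc_16_2 lc_c_rc_8_1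 lc_c_Cert_tree lc_c_rc_13_0 lc_c_rc_15_2 lc_c_rc_28_2 lc_c_rc_15_2 lc_c_rc_16_2 lc_c_rc_16_2) (@D3.rec (fun _ => (Cert rels S Gen.c)) lc_c_rc_28_2 lc_c_rc_28_6 lc_c_rc_17_2 lc_c_rc_13_0 lc_c_rc_2_1 lc_c_rc_16_2 lc_c_Cert_tree lc_c_Cert_tree lc_c_rc_15_2 lc_c_rc_30_14 lc_c_rc_13_0 lc_c_rc_28_2 lc_c_rc_28_2 lc_c_rc_28_8 lc_c_Cert_tree lc_c_rc_13_0 lc_c_rc_17_2 lc_c_rc_2_1) (@D3.rec (fun _ => (Cert rels S Gen.c)) lc_c_rc_17_2 lc_c_rc_16_2 lc_c_rc_17_0 lc_c_rc_13_0 lc_c_rc_16_0 lc_c_Cert_tree lc_c_rc_28_2 lc_c_rc_16_2 lc_c_rc_13_0 lc_c_rc_15_2 lc_c_rc_16_2 lc_c_rc_17_2 lc_c_rc_16_2 lc_c_rc_8_3 lc_c_rc_15_2 lc_c_rc_16_2 lc_c_rc_16_2 lc_c_rc_15_2) (@D3.rec (fun _ => (Cert rels S Gen.c)) lc_c_rc_15_2 lc_c_rc_16_2 lc_c_rc_16_2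 lc_c_Cert_tree lc_c_rc_17_2 lc_c_Cert_tree lc_c_rc_17_2 lc_c_rc_15_2 lc_c_rc_2_3 lc_c_rc_28_2 lc_c_rc_13_0 lc_c_rc_30_10 lc_c_Cert_tree lc_c_rc_13_0 lc_c_rc_17_2 lc_c_Cert_tree lc_c_Cert_tree lc_c_rc_13_0) (@D3.rec (fun _ => (Cert rels S Gen.c)) lc_c_rc_16_2 lc_c_Cert_tree lc_c_rc_13_0 lc_c_rc_8_1 lc_c_Cert_tree lc_c_Cert_tree lc_c_rc_13_0 lc_c_rc_28_2 lc_c_rc_17_2 lc_c_Cert_tree lc_c_rc_13_0 lc_c_rc_15_2 lc_c_rc_17_2 lc_c_rc_2_1 lc_c_Cert_tree lc_c_rc_13_0 lc_c_rc_16_2 lc_c_Cert_tree)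
def ce_c_5 : D2 → D3 → (Cert rels S Gen.c) := @D2.rec (fun _ => D3 → (Cert rels S Gen.c)) (@D3.rec (fun _ => (Cert rels S Gen.c)) lc_c_rc_13_0 lc_c_rc_16_2 lc_c_rc_8_3 lc_c_rc_16_2 lc_c_rc_8_3 lc_c_rc_16_2 lc_c_rc_8_3 lc_c_Cert_tree lc_c_rc_13_0 lc_c_Cert_tree lc_c_rc_13_0 lc_c_rc_17_0 lc_c_rc_8_1 lc_c_rc_13_0 lc_c_rc_16_2 lc_c_rc_16_2 lc_c_rc_17_2 lc_c_Cert_tree) (@D3.rec (fun _ => (Cert rels S Gen.c)) lc_c_rc_13_0 lc_c_rc_16_2 lc_c_rc_17_2 lc_c_rc_8_3 lc_c_rc_13_0 lc_c_rc_28_4 lc_c_rc_16_2 lc_c_rc_13_0 lc_c_rc_8_3 lc_c_rc_16_2 lc_c_rc_2_1 lc_c_rc_16_2 lc_c_rc_14_4 lc_c_rc_8_3 lc_c_Cert_tree lc_c_rc_13_0 lc_c_rc_17_2 lc_c_Cert_tree) (@D3.rec (fun _ => (Cert rels S Gen.c)) lc_c_rc_16_0 lc_c_Cert_tree lc_c_rc_13_0 lc_c_rc_17_2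 lc_c_rc_28_6 lc_c_rc_28_4 lc_c_Cert_tree lc_c_rc_13_0 lc_c_rc_30_6 lc_c_rc_8_3 lc_c_Cert_tree lc_c_rc_13_0 lc_c_rc_30_6 lc_c_Cert_tree lc_c_rc_17_2 lc_c_rc_13_1 lc_c_rc_15_2 lc_c_rc_16_0) (@D3.rec (fun _ => (Cert rels S Gen.c)) lc_c_rc_8_3 lc_c_rc_28_4 lc_c_rc_28_6 lc_c_rc_28_4 lc_c_Cert_tree lc_c_rc_8_1 lc_c_rc_28_2 lc_c_rc_15_0 lc_c_rc_2_1 lc_c_rc_17_2 lc_c_rc_8_3 lc_c_rc_28_6 lc_c_rc_17_2 lc_c_rc_16_0 lc_c_Cert_tree lc_c_rc_13_0 lc_c_rc_16_0 lc_c_rc_8_3) (@D3.rec (fun _ => (Cert rels S Gen.c)) lc_c_rc_2_1 lc_c_Cert_tree lc_c_rc_2_1 lc_c_Cert_tree lc_c_rc_13_0 lc_c_rc_16_2 lc_c_rc_28_6 lc_c_rc_13_0 lc_c_rc_16_2 lc_c_rc_16_2 lc_c_Cert_tree lc_c_rc_17_2 lc_c_rc_13_0 lc_c_Cert_tree lc_c_rc_13_0 lc_c_Cert_tree lc_c_rc_13_0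 lc_c_rc_17_2) (@D3.rec (fun _ => (Cert rels S Gen.c)) lc_c_rc_2_1 lc_c_Cert_tree lc_c_rc_16_2 lc_c_rc_15_0 lc_c_rc_16_0 lc_c_rc_17_2 lc_c_rc_2_1 lc_c_rc_2_1 lc_c_Cert_tree lc_c_rc_2_1 lc_c_rc_2_1 lc_c_rc_13_0 lc_c_rc_16_2 lc_c_rc_17_2 lc_c_rc_16_2 lc_c_rc_28_4 lc_c_Cert_tree lc_c_rc_28_4) (@D3.rec (fun _ => (Cert rels S Gen.c)) lc_c_rc_28_4 lc_c_Cert_tree lc_c_rc_13_0 lc_c_rc_8_1 lc_c_rc_8_3 lc_c_rc_16_2 lc_c_rc_8_3 lc_c_rc_28_4 lc_c_rc_28_4 lc_c_Cert_tree lc_c_rc_17_2 lc_c_Cert_tree lc_c_Cert_tree lc_c_rc_15_2 lc_c_rc_28_4 lc_c_rc_13_0 lc_c_rc_16_0 lc_c_rc_32_55) (@D3.rec (fun _ => (Cert rels S Gen.c)) lc_c_Cert_tree lc_c_Cert_tree lc_c_rc_13_0 lc_c_rc_2_1 lc_c_rc_17_2 lc_c_rc_28_6 lc_c_rc_2_1 lc_c_rc_8_3 lc_c_rc_28_4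 lc_c_rc_8_1 lc_c_rc_2_1 lc_c_rc_15_2 lc_c_rc_16_2 lc_c_rc_16_2 lc_c_Cert_tree lc_c_Cert_tree lc_c_rc_15_0 lc_c_rc_28_8) (@D3.rec (fun _ => (Cert rels S Gen.c)) lc_c_Cert_tree lc_c_rc_13_0 lc_c_rc_2_3 lc_c_Cert_tree lc_c_Cert_tree lc_c_rc_13_0 lc_c_rc_16_0 lc_c_Cert_tree lc_c_rc_13_0 lc_c_rc_17_2 lc_c_Cert_tree lc_c_rc_17_2 lc_c_rc_16_2 lc_c_rc_17_2 lc_c_rc_16_0 lc_c_rc_16_2 lc_c_rc_28_8 lc_c_rc_16_2) (@D3.rec (fun _ => (Cert rels S Gen.c)) lc_c_Cert_tree lc_c_rc_16_0 lc_c_rc_13_0 lc_c_rc_17_2 lc_c_rc_13_0 lc_c_Cert_tree lc_c_Cert_tree lc_c_rc_13_0 lc_c_rc_17_2 lc_c_Cert_tree lc_c_rc_13_0 lc_c_rc_17_2 lc_c_rc_8_3 lc_c_rc_28_8 lc_c_rc_17_2 lc_c_rc_15_0 lc_c_rc_16_2 lc_c_rc_17_2) (@D3.rec (fun _ => (Cert rels S Gen.c))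 lc_c_rc_8_3 lc_c_rc_16_2 lc_c_rc_17_0 lc_c_rc_8_1 lc_c_Cert_tree lc_c_rc_13_0 lc_c_rc_17_2 lc_c_rc_8_3 lc_c_Cert_tree lc_c_rc_13_0 lc_c_rc_17_2 lc_c_rc_15_0 lc_c_rc_17_2 lc_c_rc_8_3 lc_c_rc_28_4 lc_c_rc_8_1 lc_c_Cert_tree lc_c_rc_8_1)
def ce_c_6 : D2 → D3 → (Cert rels S Gen.c) := @D2.rec (fun _ => D3 → (Cert rels S Gen.c)) (@D3.rec (fun _ => (Cert rels S Gen.c)) lc_c_rc_15_2 lc_c_rc_15_2 lc_c_rc_15_2 lc_c_rc_17_2 lc_c_Cert_tree lc_c_rc_28_4 lc_c_rc_2_1 lc_c_rc_15_0 lc_c_rc_15_2 lc_c_rc_13_0 lc_c_rc_28_2 lc_c_rc_17_2 lc_c_rc_15_2 lc_c_rc_16_2 lc_c_rc_15_2 lc_c_Cert_tree lc_c_rc_28_2 lc_c_rc_17_2) (@D3.rec (fun _ => (Cert rels S Gen.c)) lc_c_rc_13_0 lc_c_rc_8_3 lc_c_rc_16_2 lc_c_Cert_tree lc_c_Cert_tree lc_c_Cert_tree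 lc_c_rc_13_0 lc_c_rc_17_2 lc_c_rc_28_8 lc_c_rc_16_2 lc_c_rc_2_3 lc_c_rc_13_0 lc_c_rc_17_2 lc_c_Cert_tree lc_c_rc_17_2 lc_c_rc_16_2 lc_c_rc_17_2 lc_c_rc_2_1) (@D3.rec (fun _ => (Cert rels S Gen.c)) lc_c_rc_28_2 lc_c_rc_28_8 lc_c_rc_16_0 lc_c_rc_8_3 lc_c_rc_28_6 lc_c_rc_16_2 lc_c_rc_15_2 lc_c_rc_15_2 lc_c_rc_17_0 lc_c_rc_28_6 lc_c_rc_13_0 lc_c_Cert_tree lc_c_rc_28_6 lc_c_rc_28_6 lc_c_Cert_tree lc_c_rc_13_0 lc_c_rc_17_2 lc_c_Cert_tree) (@D3.rec (fun _ => (Cert rels S Gen.c)) lc_c_rc_13_0 lc_c_rc_28_2 lc_c_rc_17_2 lc_c_Cert_tree lc_c_rc_28_8 lc_c_Cert_tree lc_c_rc_13_0 lc_c_rc_28_6 lc_c_Cert_tree lc_c_rc_13_0 lc_c_rc_17_2 lc_c_rc_8_1 lc_c_rc_13_0 lc_c_rc_15_2 lc_c_rc_15_0 lc_c_rc_16_2 lc_c_rc_8_3 lc_c_rc_28_4) (@D3.rec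 (fun _ => (Cert rels S Gen.c)) lc_c_rc_28_6 lc_c_rc_8_3 lc_c_Cert_tree lc_c_rc_13_0 lc_c_rc_2_1 lc_c_rc_8_1 lc_c_rc_13_0 lc_c_rc_16_2 lc_c_Cert_tree lc_c_rc_13_0 lc_c_rc_15_2 lc_c_rc_15_2 lc_c_rc_15_2 lc_c_rc_16_2 lc_c_rc_17_0 lc_c_rc_30_18 lc_c_rc_15_2 lc_c_rc_28_8) (@D3.rec (fun _ => (Cert rels S Gen.c)) lc_c_rc_13_0 lc_c_rc_28_2 lc_c_rc_13_0 lc_c_rc_28_8 lc_c_rc_15_2 lc_c_rc_2_1 lc_c_Cert_tree lc_c_rc_2_3 lc_c_rc_13_0 lc_c_rc_13_1 lc_c_rc_2_1 lc_c_rc_17_2 lc_c_rc_32_47 lc_c_rc_28_4 lc_c_rc_13_0 lc_c_rc_13_1 lc_c_rc_16_2 lc_c_rc_8_3) (@D3.rec (fun _ => (Cert rels S Gen.c)) lc_c_rc_8_1 lc_c_rc_16_2 lc_c_rc_17_2 lc_c_rc_13_1 lc_c_rc_16_2 lc_c_rc_2_3 lc_c_rc_16_2 lc_c_rc_16_2 lc_c_Cert_tree lc_c_rc_17_2 lc_c_rc_13_0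 lc_c_Cert_tree lc_c_rc_28_2 lc_c_rc_13_0 lc_c_rc_28_4 lc_c_Cert_tree lc_c_Cert_tree lc_c_Cert_tree) (@D3.rec (fun _ => (Cert rels S Gen.c)) lc_c_rc_13_0 lc_c_rc_16_2 lc_c_rc_8_3 lc_c_rc_13_0 lc_c_rc_8_1 lc_c_rc_13_0 lc_c_rc_30_14 lc_c_rc_16_2 lc_c_Cert_tree lc_c_rc_13_0 lc_c_rc_30_6 lc_c_rc_8_3 lc_c_rc_17_2 lc_c_Cert_tree lc_c_rc_13_0 lc_c_rc_13_0 lc_c_Cert_tree lc_c_rc_13_0) (@D3.rec (fun _ => (Cert rels S Gen.c)) lc_c_rc_17_0 lc_c_rc_17_2 lc_c_rc_2_3 lc_c_rc_13_0 lc_c_rc_17_2 lc_c_rc_16_2 lc_c_rc_13_0 lc_c_rc_16_0 lc_c_rc_2_1 lc_c_rc_16_2 lc_c_rc_2_1 lc_c_rc_28_8 lc_c_rc_28_4 lc_c_Cert_tree lc_c_rc_13_0 lc_c_rc_13_0 lc_c_rc_8_3 lc_c_rc_17_0) (@D3.rec (fun _ => (Cert rels S Gen.c)) lc_c_rc_17_0 lc_c_rc_16_2 lc_c_rc_8_3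 lc_c_rc_17_2 lc_c_rc_13_0 lc_c_rc_16_2 lc_c_rc_8_3 lc_c_Cert_tree lc_c_rc_16_2 lc_c_rc_17_2 lc_c_rc_2_1 lc_c_rc_8_5 lc_c_rc_17_2 lc_c_rc_8_3 lc_c_rc_16_2 lc_c_rc_8_3 lc_c_rc_2_1 lc_c_rc_15_2) (@D3.rec (fun _ => (Cert rels S Gen.c)) lc_c_rc_15_2 lc_c_rc_13_0 lc_c_Cert_tree lc_c_rc_17_2 lc_c_Cert_tree lc_c_rc_13_0 lc_c_rc_28_4 lc_c_rc_28_2 lc_c_Cert_tree lc_c_rc_13_0 lc_c_rc_30_6 lc_c_rc_28_6 lc_c_rc_17_2 lc_c_rc_28_4 lc_c_rc_15_2 lc_c_rc_28_2 lc_c_rc_2_1 lc_c_rc_13_0)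
def ce_c_7 : D2 → D3 → (Cert rels S Gen.c) := @D2.rec (fun _ => D3 → (Cert rels S Gen.c)) (@D3.rec (fun _ => (Cert rels S Gen.c)) lc_c_rc_15_2 lc_c_rc_2_1 lc_c_Cert_tree lc_c_rc_13_0 lc_c_rc_16_2 lc_c_rc_8_3 lc_c_rc_13_0 lc_c_rc_15_2 lc_c_rc_8_3 lc_c_rc_17_2 lc_c_Cert_tree lc_c_rc_2_1 lc_c_rc_2_1 lc_c_Cert_tree lc_c_rc_17_2 lc_c_rc_13_0 lc_c_rc_15_2 lc_c_rc_17_2) (@D3.rec (fun _ => (Cert rels S Gen.c)) lc_c_rc_17_2 lc_c_rc_15_2 lc_c_rc_8_3 lc_c_rc_15_2 lc_c_rc_28_4 lc_c_rc_13_0 lc_c_rc_28_8 lc_c_rc_17_2 lc_c_rc_17_2 lc_c_Cert_tree lc_c_Cert_tree lc_c_rc_13_0 lc_c_rc_2_1 lc_c_rc_13_0 lc_c_Cert_tree lc_c_rc_16_2 lc_c_rc_16_2 lc_c_Cert_tree) (@D3.rec (fun _ => (Cert rels S Gen.c)) lc_c_rc_17_2 lc_c_rc_13_0 lc_c_Cert_tree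 lc_c_rc_13_0 lc_c_rc_28_4 lc_c_rc_13_0 lc_c_rc_28_4 lc_c_rc_17_2 lc_c_rc_2_1 lc_c_rc_13_0 lc_c_rc_16_2 lc_c_Cert_tree lc_c_rc_2_1 lc_c_rc_13_0 lc_c_rc_16_2 lc_c_Cert_tree lc_c_rc_17_2 lc_c_Cert_tree) (@D3.rec (fun _ => (Cert rels S Gen.c)) lc_c_Cert_tree lc_c_rc_28_4 lc_c_Cert_tree lc_c_rc_13_0 lc_c_rc_17_2 lc_c_Cert_tree lc_c_Cert_tree lc_c_rc_8_1 lc_c_rc_13_0 lc_c_rc_2_1 lc_c_rc_17_2 lc_c_rc_32_49 lc_c_rc_2_1 lc_c_rc_8_1 lc_c_rc_13_0 lc_c_rc_30_14 lc_c_rc_13_0 lc_c_rc_2_3) (@D3.rec (fun _ => (Cert rels S Gen.c)) lc_c_rc_13_0 lc_c_rc_13_1 lc_c_rc_8_1 lc_c_rc_30_14 lc_c_rc_13_0 lc_c_rc_13_0 lc_c_rc_15_0 lc_c_rc_2_1 lc_c_Cert_tree lc_c_rc_2_1 lc_c_rc_8_3 lc_c_rc_16_2 lc_c_rc_17_2 lc_c_rc_15_2 lc_c_rc_15_2 lc_c_Cert_tree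 lc_c_rc_16_2 lc_c_rc_2_1) (@D3.rec (fun _ => (Cert rels S Gen.c)) lc_c_rc_2_3 lc_c_rc_13_0 lc_c_rc_16_0 lc_c_rc_13_0 lc_c_rc_17_2 lc_c_rc_13_0 lc_c_rc_8_3 lc_c_Cert_tree lc_c_rc_13_0 lc_c_rc_13_0 lc_c_rc_28_8 lc_c_rc_13_0 lc_c_rc_8_3 lc_c_rc_28_4 lc_c_rc_17_2 lc_c_rc_8_1 lc_c_rc_13_0 lc_c_rc_15_2) (@D3.rec (fun _ => (Cert rels S Gen.c)) lc_c_rc_28_6 lc_c_rc_16_2 lc_c_rc_17_2 lc_c_rc_15_2 lc_c_rc_8_3 lc_c_rc_30_10 lc_c_rc_13_0 lc_c_rc_2_3 lc_c_rc_8_3 lc_c_rc_15_0 lc_c_rc_17_2 lc_c_rc_8_3 lc_c_rc_8_3 lc_c_rc_13_0 lc_c_rc_8_1 lc_c_rc_13_0 lc_c_rc_16_0 lc_c_rc_17_2) (@D3.rec (fun _ => (Cert rels S Gen.c)) lc_c_rc_13_0 lc_c_rc_8_3 lc_c_rc_17_2 lc_c_rc_17_2 lc_c_rc_17_2 lc_c_rc_15_0 lc_c_rc_8_3 lc_c_rc_17_2 lc_c_rc_2_1 lc_c_rc_17_2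 lc_c_rc_16_2 lc_c_rc_28_2 lc_c_rc_17_2 lc_c_rc_13_0 lc_c_rc_17_2 lc_c_rc_8_1 lc_c_rc_13_0 lc_c_rc_17_2) (@D3.rec (fun _ => (Cert rels S Gen.c)) lc_c_rc_28_2 lc_c_rc_8_3 lc_c_rc_2_1 lc_c_rc_17_2 lc_c_rc_16_0 lc_c_rc_2_1 lc_c_Cert_tree lc_c_rc_8_1 lc_c_rc_17_2 lc_c_rc_13_0 lc_c_rc_2_3 lc_c_rc_16_2 lc_c_rc_17_2 lc_c_rc_17_2 lc_c_rc_16_2 lc_c_rc_8_1 lc_c_rc_8_1 lc_c_rc_16_0) (@D3.rec (fun _ => (Cert rels S Gen.c)) lc_c_rc_13_0 lc_c_rc_15_0 lc_c_rc_8_1 lc_c_rc_15_2 lc_c_rc_17_2 lc_c_rc_2_1 lc_c_rc_15_2 lc_c_rc_16_2 lc_c_rc_13_0 lc_c_Cert_tree lc_c_rc_15_0 lc_c_rc_13_0 lc_c_rc_2_3 lc_c_rc_13_0 lc_c_rc_17_2 lc_c_rc_13_0 lc_c_rc_17_2 lc_c_Cert_tree) (@D3.rec (fun _ => (Cert rels S Gen.c)) lc_c_rc_17_2 lc_c_rc_2_1 lc_c_Cert_tree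 lc_c_rc_17_2 lc_c_rc_13_0 lc_c_rc_17_2 lc_c_rc_2_3 lc_c_rc_8_3 lc_c_rc_2_1 lc_c_rc_15_2 lc_c_rc_16_2 lc_c_rc_17_2 lc_c_rc_28_8 lc_c_rc_13_0 lc_c_rc_13_0 lc_c_rc_2_1 lc_c_rc_15_2 lc_c_Cert_tree)
def ce_c_8 : D2 → D3 → (Cert rels S Gen.c) := @D2.rec (fun _ => D3 → (Cert rels S Gen.c)) (@D3.rec (fun _ => (Cert rels S Gen.c)) lc_c_rc_13_0 lc_c_rc_17_2 lc_c_rc_13_0 lc_c_rc_16_2 lc_c_rc_13_0 lc_c_rc_28_4 lc_c_rc_13_0 lc_c_rc_17_0 lc_c_rc_8_3 lc_c_rc_17_2 lc_c_rc_28_8 lc_c_rc_32_42 lc_c_rc_13_0 lc_c_rc_13_0 lc_c_rc_15_2 lc_c_rc_17_0 lc_c_rc_13_0 lc_c_rc_17_2) (@D3.rec (fun _ => (Cert rels S Gen.c)) lc_c_Cert_tree lc_c_Cert_tree lc_c_rc_13_0 lc_c_rc_17_2 lc_c_rc_17_2 lc_c_rc_8_3 lc_c_rc_8_3 lc_c_rc_2_1 lc_c_rc_16_2 lc_c_rc_15_2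 lc_c_rc_16_2 lc_c_rc_16_2 lc_c_rc_13_0 lc_c_Cert_tree lc_c_Cert_tree lc_c_rc_13_0 lc_c_rc_16_2 lc_c_rc_13_0) (@D3.rec (fun _ => (Cert rels S Gen.c)) lc_c_rc_13_0 lc_c_Cert_tree lc_c_rc_13_0 lc_c_rc_16_2 lc_c_rc_13_0 lc_c_Cert_tree lc_c_rc_13_0 lc_c_rc_13_0 lc_c_rc_28_2 lc_c_rc_8_3 lc_c_Cert_tree lc_c_rc_13_0 lc_c_rc_16_2 lc_c_rc_8_3 lc_c_rc_17_0 lc_c_rc_16_2 lc_c_rc_32_37 lc_c_rc_8_1) (@D3.rec (fun _ => (Cert rels S Gen.c)) lc_c_rc_17_0 lc_c_rc_2_1 lc_c_rc_17_2 lc_c_rc_8_3 lc_c_Cert_tree lc_c_rc_16_2 lc_c_rc_2_1 lc_c_rc_16_0 lc_c_rc_17_2 lc_c_rc_13_0 lc_c_rc_32_55 lc_c_rc_17_0 lc_c_rc_2_3 lc_c_rc_8_3 lc_c_rc_8_3 lc_c_rc_32_34 lc_c_rc_8_1 lc_c_rc_2_1) (@D3.rec (fun _ => (Cert rels S Gen.c)) lc_c_rc_17_2 lc_c_rc_28_6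 lc_c_rc_13_0 lc_c_rc_16_2 lc_c_rc_13_0 lc_c_rc_17_2 lc_c_rc_16_2 lc_c_rc_13_0 lc_c_rc_13_0 lc_c_rc_2_1 lc_c_rc_28_6 lc_c_rc_17_2 lc_c_rc_28_4 lc_c_rc_13_0 lc_c_rc_28_8 lc_c_rc_16_2 lc_c_rc_15_2 lc_c_rc_16_2) (@D3.rec (fun _ => (Cert rels S Gen.c)) lc_c_rc_13_0 lc_c_rc_13_0 lc_c_rc_16_2 lc_c_rc_13_0 lc_c_rc_13_0 lc_c_rc_28_6 lc_c_rc_2_1 lc_c_rc_28_4 lc_c_rc_13_0 lc_c_rc_13_0 lc_c_rc_32_39 lc_c_rc_13_0 lc_c_rc_28_6 lc_c_rc_28_6 lc_c_rc_16_2 lc_c_rc_13_0 lc_c_Cert_tree lc_c_rc_13_0) (@D3.rec (fun _ => (Cert rels S Gen.c)) lc_c_rc_13_0 lc_c_rc_8_1 lc_c_rc_13_0 lc_c_rc_13_0 lc_c_rc_17_2 lc_c_Cert_tree lc_c_rc_16_2 lc_c_rc_13_0 lc_c_rc_13_0 lc_c_rc_2_1 lc_c_rc_13_0 lc_c_rc_8_1 lc_c_rc_2_1 lc_c_rc_8_3 lc_c_rc_16_2 lc_c_rc_16_2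 lc_c_rc_13_0 lc_c_rc_17_2) (@D3.rec (fun _ => (Cert rels S Gen.c)) lc_c_rc_13_0 lc_c_rc_8_3 lc_c_rc_8_1 lc_c_rc_15_2 lc_c_rc_15_2 lc_c_rc_8_1 lc_c_rc_16_2 lc_c_rc_8_3 lc_c_rc_15_2 lc_c_rc_17_2 lc_c_rc_17_2 lc_c_rc_28_4 lc_c_rc_16_0 lc_c_rc_30_10 lc_c_rc_16_2 lc_c_rc_13_0 lc_c_rc_15_0 lc_c_rc_13_0) (@D3.rec (fun _ => (Cert rels S Gen.c)) lc_c_rc_8_1 lc_c_rc_16_0 lc_c_rc_15_0 lc_c_rc_17_2 lc_c_rc_16_2 lc_c_rc_17_2 lc_c_rc_16_2 lc_c_rc_17_2 lc_c_rc_13_0 lc_c_rc_17_2 lc_c_rc_17_2 lc_c_rc_13_0 lc_c_rc_16_0 lc_c_rc_13_0 lc_c_rc_15_2 lc_c_rc_2_1 lc_c_rc_16_2 lc_c_rc_2_1) (@D3.rec (fun _ => (Cert rels S Gen.c)) lc_c_rc_13_0 lc_c_rc_28_6 lc_c_rc_16_2 lc_c_rc_17_2 lc_c_rc_8_3 lc_c_rc_13_0 lc_c_rc_13_0 lc_c_rc_17_2 lc_c_rc_8_3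 lc_c_rc_15_2 lc_c_rc_13_0 lc_c_rc_13_0 lc_c_rc_13_0 lc_c_rc_8_3 lc_c_rc_13_0 lc_c_rc_2_3 lc_c_rc_13_0 lc_c_rc_17_2) (@D3.rec (fun _ => (Cert rels S Gen.c)) lc_c_rc_17_2 lc_c_rc_13_0 lc_c_rc_30_2 lc_c_rc_28_4 lc_c_rc_17_2 lc_c_rc_2_1 lc_c_rc_15_2 lc_c_rc_17_2 lc_c_rc_2_1 lc_c_rc_8_3 lc_c_rc_13_0 lc_c_Cert_tree lc_c_rc_16_2 lc_c_rc_13_0 lc_c_rc_28_4 lc_c_rc_15_0 lc_c_rc_8_3 lc_c_rc_13_0)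
def ce_c : Pt → (Cert rels S Gen.c) := @Pt.rec (fun _ => (Cert rels S Gen.c)) (@D1.rec (fun _ => D2 → D3 → (Cert rels S Gen.c)) ce_c_0 ce_c_1 ce_c_2 ce_c_3 ce_c_4 ce_c_5 ce_c_6 ce_c_7 ce_c_8)
def isSeed_c (p : Pt) : Bool := false

end

end Cfsg.Agent.Helper28.S1680
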