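import Cfsg.Agent.Lib.Helper28.S1680.Tree

set_option autoImplicit false
set_option maxRecDepth 100000
set_option linter.all false

namespace Cfsg.Agent.Helper28.S1680

open Cfsg.Agent.Helper28
open Cfsg.Spor.Suz (Gen)

noncomputable section

def lv_d_0 : D2 → D3 → Nat := @D2.rec (fun _ => D3 → Nat) (@D3.rec (fun _ => Nat) 1 2 3 5 0 4 6 0 1 2 0 0 1 4 5 2 3 0) (@D3.rec (fun _ => Nat) 1 0 1 2 2 4 7 5 0 21 6 3 55 1 2 22 7 1) (@D3.rec (fun _ => Nat) 2 0 8 2 2 3 5 0 6 0 6 6 1 2 23 7 54 51) (@D3.rec (fun _ => Nat) 8 2 22 0 9 2 0 1 0 2 34 9 9 3 4 6 0 6) (@D3.rec (fun _ => Nat) 6 1 0 7 7 1 2 2 23 7 8 6 2 3 56 52 0 53) (@D3.rec (fun _ => Nat) 9 0 24 1 10 46 1 0 2 2 36 0 2 1 2 2 3 55) (@D3.rec (fun _ => Nat) 10 4 0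 7 7 1 2 2 7 8 6 1 2 2 8 0 2 2) (@D3.rec (fun _ => Nat) 3 3 4 8 9 7 20 3 0 52 1 2 53 1 2 56 21 47) (@D3.rec (fun _ => Nat) 0 49 46 0 2 2 1 2 2 3 3 4 0 1 2 3 57 2) (@D3.rec (fun _ => Nat) 2 3 3 57 57 57 11 0 1 2 2 8 0 2 2 3 4 8) (@D3.rec (fun _ => Nat) 9 7 0 2 2 3 9 0 9 0 1 2 2 3 3 4 4 5)
def lv_d_1 : D2 → D3 → Nat := @D2.rec (fun _ => D3 → Nat) (@D3.rec (fun _ => Nat) 9 0 58 0 10 8 8 8 22 58 1 2 54 37 2 3 53 56) (@D3.rec (fun _ => Nat) 0 2 3 56 21 0 48 45 1 2 2 54 44 1 2 2 3 3) (@D3.rec (fun _ => Nat) 4 0 2 2 3 3 4 59 1 0 2 3 60 59 59 36 3 3) (@D3.rec (fun _ => Nat) 4 4 4 56 58 59 0 103 1 0 2 2 3 9 56 9 0 1) (@D3.rec (fun _ => Nat) 2 2 3 4 4 5 9 59 0 10 8 8 8 0 1 2 2 3) (@D3.rec (fun _ => Nat) 4 103 4 55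 0 1 2 0 1 2 2 8 2 2 3 3 3 4) (@D3.rec (fun _ => Nat) 58 4 5 5 101 5 104 6 0 1 2 1 2 9 9 9 22 9) (@D3.rec (fun _ => Nat) 10 22 58 22 0 2 3 37 37 3 4 4 0 1 2 3 4 23) (@D3.rec (fun _ => Nat) 23 23 1 2 2 45 5 2 2 3 3 0 2 2 3 3 4 0) (@D3.rec (fun _ => Nat) 1 2 2 3 3 4 4 52 0 1 2 3 0 61 59 59 59 38) (@D3.rec (fun _ => Nat) 38 4 0 4 4 5 5 5 102 0 1 0 1 2 2 3 4 0)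
def lv_d_2 : D2 → D3 → Nat := @D2.rec (fun _ => D3 → Nat) (@D3.rec (fun _ => Nat) 4 0 1 2 2 5 8 2 2 3 3 3 4 4 5 5 61 103) (@D3.rec (fun _ => Nat) 6 1 2 9 9 9 9 10 0 1 2 79 9 2 2 3 3 4) (@D3.rec (fun _ => Nat) 100 4 5 103 100 1 2 3 0 1 2 2 80 9 2 2 3 3) (@D3.rec (fun _ => Nat) 3 5 9 9 3 3 3 4 4 60 4 4 5 100 5 104 6 101) (@D3.rec (fun _ => Nat) 102 103 1 2 58 2 3 89 91 10 10 24 60 10 24 60 60 24) (@D3.rec (fun _ => Nat) 0 1 2 3 39 39 39 39 4 0 4 0 1 2 2 53 2 3) (@D3.rec (fun _ => Nat) 59 4 23 23 88 23 0 2 2 3 6 6 6 3 3 0 1 2) (@D3.rec (fun _ => Nat) 2 3 3 4 59 1 2 83 4 2 2 3 3 83 4 4 0 54) (@D3.rec (fun _ => Nat) 0 1 2 2 2 3 0 1 61 61 87 61 90 38 61 61 0 61) (@D3.rec (fun _ => Nat) 38 38 38 5 0 1 2 5 5 101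 102 1 0 1 2 2 9 2) (@D3.rec (fun _ => Nat) 2 3 3 4 0 4 1 83 1 2 83 8 9 2 2 3 83 3)
def lv_d_3 : D2 → D3 → Nat := @D2.rec (fun _ => D3 → Nat) (@D3.rec (fun _ => Nat) 3 6 0 6 6 9 9 3 3 3 4 4 4 4 5 0 60 105) (@D3.rec (fun _ => Nat) 6 102 59 2 84 10 10 10 0 1 2 79 79 10 2 3 3 80) (@D3.rec (fun _ => Nat) 79 10 10 3 3 4 0 4 4 4 5 102 101 101 3 0 86 1) (@D3.rec (fun _ => Nat) 2 2 8 10 2 2 3 83 81 10 10 3 3 3 5 4 60 4) (@D3.rec (fun _ => Nat) 4 10 10 10 11 4 120 4 4 5 60 5 60 5 121 5 0 106) (@D3.rec (fun _ => Nat) 100 99 103 102 59 58 3 88 89 11 0 11 11 88 11 24 62 11) (@D3.rec (fun _ => Nat) 0 11 24 83 24 62 60 24 1 78 2 3 0 39 39 39 39 0) (@D3.rec (fun _ => Nat) 39 24 1 2 62 1 2 62 2 2 3 3 5 53 58 3 4 4) (@D3.rec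 (fun _ => Nat) 59 0 25 82 25 25 92 25 0 1 2 2 3 7 7 7 121 0) (@D3.rec (fun _ => Nat) 1 2 84 4 2 2 3 3 84 4 0 81 113 87 2 3 84 5) (@D3.rec (fun _ => Nat) 3 3 4 4 115 4 4 84 5 0 1 79 54 82 84 1 2 87)
def lv_d_4 : D2 → D3 → Nat := @D2.rec (fun _ => D3 → Nat) (@D3.rec (fun _ => Nat) 0 2 2 3 86 3 3 4 0 4 1 0 63 0 63 63 61 118) (@D3.rec (fun _ => Nat) 61 40 59 61 0 61 1 2 63 40 40 78 40 0 40 0 0 1) (@D3.rec (fun _ => Nat) 23 6 2 3 3 101 115 1 2 84 61 10 2 2 3 82 82 3) (@D3.rec (fun _ => Nat) 10 10 3 3 5 0 4 4 4 0 1 2 0 86 84 84 10 2) (@D3.rec (fun _ => Nat) 9 87 9 10 10 3 3 3 4 118 114 7 0 7 1 2 2 7) (@D3.rec (fun _ => Nat) 10 10 10 11 4 116 4 4 112 5 5 5 5 0 5 0 1 2) (@D3.rec (fun _ => Nat) 104 63 11 0 11 11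 11 11 111 11 0 1 80 11 2 82 79 11) (@D3.rec (fun _ => Nat) 3 3 4 121 119 81 80 11 88 4 118 4 4 4 5 122 119 1) (@D3.rec (fun _ => Nat) 119 119 82 0 98 1 2 87 0 84 2 2 3 9 86 9 11 84) (@D3.rec (fun _ => Nat) 3 4 84 109 82 11 86 11 12 4 120 4 4 62 62 5 5 0) (@D3.rec (fun _ => Nat) 5 11 0 11 11 5 120 5 5 5 105 62 62 62 108 0 111 6)
def lv_d_5 : D2 → D3 → Nat := @D2.rec (fun _ => D3 → Nat) (@D3.rec (fun _ => Nat) 0 106 1 2 102 60 111 93 113 12 0 1 12 86 90 89 88 95) (@D3.rec (fun _ => Nat) 0 26 96 62 112 1 110 86 82 84 62 62 81 60 26 0 26 83) (@D3.rec (fun _ => Nat) 3 4 0 116 1 41 41 0 41 41 41 127 41 1 121 78 57 2) (@D3.rec (fun _ => Nat) 3 62 62 2 113 3 3 5 4 4 124 115 55 60 4 115 4 79) (@D3.rec (fun _ => Nat)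 5 116 74 61 0 61 1 87 91 83 25 90 0 90 0 25 0 25) (@D3.rec (fun _ => Nat) 61 1 2 2 2 3 116 61 1 113 85 88 2 3 85 5 3 3) (@D3.rec (fun _ => Nat) 4 4 115 4 4 85 5 1 85 3 111 121 6 6 4 112 4 4) (@D3.rec (fun _ => Nat) 5 117 115 115 112 5 5 0 1 6 82 79 83 2 3 1 3 3) (@D3.rec (fun _ => Nat) 77 0 4 115 4 117 4 77 0 5 1 2 76 6 1 63 1 85) (@D3.rec (fun _ => Nat) 63 63 0 63 120 40 122 0 120 63 111 63 116 1 123 63 7 2) (@D3.rec (fun _ => Nat) 3 121 76 40 40 124 40 79 40 0 40 1 2 121 1 0 1 2)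
def lv_d_6 : D2 → D3 → Nat := @D2.rec (fun _ => D3 → Nat) (@D3.rec (fun _ => Nat) 2 61 123 62 3 3 4 4 119 63 11 2 110 63 11 3 3 122) (@D3.rec (fun _ => Nat) 0 122 83 4 11 4 0 4 4 4 112 0 5 1 2 122 84 103) (@D3.rec (fun _ => Nat) 1 2 3 0 1 11 11 11 12 4 113 1 2 2 11 114 11 11) (@D3.rec (fun _ => Nat) 117 5 115 5 5 5 0 5 110 0 6 97 105 85 1 106 105 1) (@D3.rec (fun _ => Nat) 2 3 12 121 1 12 111 108 1 0 112 62 12 81 80 12 84 4) (@D3.rec (fun _ => Nat) 0 12 107 12 86 89 5 6 118 6 122 121 83 1 0 86 2 0) (@D3.rec (fun _ => Nat) 1 2 88 85 3 59 90 4 85 87 111 83 12 0 124 124 5 5) (@D3.rec (fun _ => Nat) 92 5 75 114 6 94 1 89 112 124 12 1 12 12 107 116 6 105) (@D3.rec (fun _ => Nat) 62 62 62 0 1 106 111 113 1 104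 2 110 109 99 113 0 0 1) (@D3.rec (fun _ => Nat) 120 87 106 90 0 100 0 1 2 2 64 64 64 109 81 85 64 85) (@D3.rec (fun _ => Nat) 84 0 1 2 80 118 79 4 112 112 118 1 116 78 58 41 41 115)
def lv_d_7 : D2 → D3 → Nat := @D2.rec (fun _ => D3 → Nat) (@D3.rec (fun _ => Nat) 1 41 41 0 41 41 106 59 123 119 3 119 83 90 82 125 122 4) (@D3.rec (fun _ => Nat) 4 75 118 60 60 126 5 82 81 81 118 0 119 0 1 120 111 109) (@D3.rec (fun _ => Nat) 84 0 1 114 1 115 1 119 113 55 2 3 82 6 89 3 111 125) (@D3.rec (fun _ => Nat) 6 6 4 104 4 4 5 125 106 123 5 5 118 6 120 123 127 123) (@D3.rec (fun _ => Nat) 105 109 5 5 109 119 114 95 87 122 1 118 126 62 80 83 84 3) (@D3.rec (fun _ => Nat) 115 82 4 6 4 113 1 125 124 119 5 0 123 1 113 81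 119 7) (@D3.rec (fun _ => Nat) 2 113 119 65 114 83 0 128 120 1 65 122 42 0 122 0 1 120) (@D3.rec (fun _ => Nat) 123 112 113 120 116 122 89 8 3 122 124 42 42 125 119 42 108 42) (@D3.rec (fun _ => Nat) 42 126 1 2 2 121 1 2 2 108 63 2 2 3 5 62 61 4) (@D3.rec (fun _ => Nat) 119 4 123 115 124 105 12 12 121 4 1 120 12 107 12 117 5 1) (@D3.rec (fun _ => Nat) 120 0 1 124 119 105 2 3 0 1 118 107 12 56 126 12 12 12)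
def lv_d_8 : D2 → D3 → Nat := @D2.rec (fun _ => D3 → Nat) (@D3.rec (fun _ => Nat) 0 113 121 6 109 1 121 1 92 105 3 89 0 115 1 112 123 1) (@D3.rec (fun _ => Nat) 112 6 114 6 124 121 0 1 122 1 2 89 123 119 108 92 1 91) (@D3.rec (fun _ => Nat) 114 6 125 90 115 97 107 113 1 108 110 126 116 119 1 1 109 2) (@D3.rec (fun _ => Nat) 119 106 113 127 1 2 125 1 128 0 29 2 2 3 117 83 64 111) (@D3.rec (fun _ => Nat) 111 64 87 1 125 31 2 120 117 58 43 80 118 106 1 122 122 123) (@D3.rec (fun _ => Nat) 123 121 124 125 118 1 127 1 114 119 1 25 28 30 116 120 90 115) (@D3.rec (fun _ => Nat) 123 124 105 113 125 5 5 110 91 95 106 122 117 123 128 121 108 4) (@D3.rec (fun _ => Nat) 115 108 1 127 8 116 1 1 1 112 122 126 42 125 118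 121 2 128) (@D3.rec (fun _ => Nat) 2 2 3 126 124 3 5 126 122 107 118 4 1 4 1 128 109 122) (@D3.rec (fun _ => Nat) 111 1 120 1 117 115 114 117 1 90 93 111 114 126 112 112 110 110) (@D3.rec (fun _ => Nat) 2 26 97 2 126 1 96 3 127 116 127 126 115 113 3 127 114 115)
def lv_d : Pt → Nat := @Pt.rec (fun _ => Nat) (@D1.rec (fun _ => D2 → D3 → Nat) lv_d_0 lv_d_1 lv_d_2 lv_d_3 lv_d_4 lv_d_5 lv_d_6 lv_d_7 lv_d_8)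
abbrev lc_d_Cert_tree : Cert rels S Gen.d := Cert.tree
abbrev lc_d_rc_14_1 : Cert rels S Gen.d := rc_14_1
abbrev lc_d_rc_14_11 : Cert rels S Gen.d := rc_14_11
abbrev lc_d_rc_14_3 : Cert rels S Gen.d := rc_14_3
abbrev lc_d_rc_14_5 : Cert rels S Gen.d := rc_14_5
abbrev lc_d_rc_14_9 : Cert rels S Gen.d := rc_14_9
abbrev lc_d_rc_18_0 : Cert rels S Gen.d := rc_18_0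
abbrev lc_d_rc_18_1 : Cert rels S Gen.d := rc_18_1
abbrev lc_d_rc_19_0 : Cert rels S Gen.d := rc_19_0
abbrev lc_d_rc_19_2 : Cert rels S Gen.d := rc_19_2
abbrev lc_d_rc_19_4 : Cert rels S Gen.d := rc_19_4
abbrev lc_d_rc_20_0 : Cert rels S Gen.d := rc_20_0
abbrev lc_d_rc_20_2 : Cert rels S Gen.d := rc_20_2
abbrev lc_d_rc_21_0 : Cert rels S Gen.d := rc_21_0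
abbrev lc_d_rc_21_2 : Cert rels S Gen.d := rc_21_2
abbrev lc_d_rc_28_1 : Cert rels S Gen.d := rc_28_1
abbrev lc_d_rc_28_3 : Cert rels S Gen.d := rc_28_3
abbrev lc_d_rc_28_5 : Cert rels S Gen.d := rc_28_5
abbrev lc_d_rc_28_7 : Cert rels S Gen.d := rc_28_7
abbrev lc_d_rc_32_2 : Cert rels S Gen.d := rc_32_2
abbrev lc_d_rc_32_28 : Cert rels S Gen.d := rc_32_28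
abbrev lc_d_rc_32_35 : Cert rels S Gen.d := rc_32_35
abbrev lc_d_rc_32_38 : Cert rels S Gen.d := rc_32_38
abbrev lc_d_rc_32_4 : Cert rels S Gen.d := rc_32_4
abbrev lc_d_rc_32_45 : Cert rels S Gen.d := rc_32_45
abbrev lc_d_rc_32_54 : Cert rels S Gen.d := rc_32_54
abbrev lc_d_rc_32_59 : Cert rels S Gen.d := rc_32_59
abbrev lc_d_rc_32_7 : Cert rels S Gen.d := rc_32_7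
abbrev lc_d_rc_32_74 : Cert rels S Gen.d := rc_32_74
abbrev lc_d_rc_3_1 : Cert rels S Gen.d := rc_3_1
abbrev lc_d_rc_3_3 : Cert rels S Gen.d := rc_3_3
abbrev lc_d_rc_9_1 : Cert rels S Gen.d := rc_9_1
abbrev lc_d_rc_9_3 : Cert rels S Gen.d := rc_9_3
abbrev lc_d_sc_3_0 : Cert rels S Gen.d := sc_3_0
def ce_d_0 : D2 → D3 → (Cert rels S Gen.d) := @D2.rec (fun _ => D3 → (Cert rels S Gen.d)) (@D3.rec (fun _ => (Cert rels S Gen.d)) lc_d_sc_3_0 lc_d_rc_21_2 lc_d_rc_9_1 lc_d_rc_28_7 lc_d_Cert_tree lc_d_rc_20_2 lc_d_rc_9_1 lc_d_Cert_tree lc_d_rc_18_0 lc_d_rc_20_2 lc_d_Cert_tree lc_d_Cert_tree lc_d_rc_18_0 lc_d_rc_28_5 lc_d_rc_19_2 lc_d_rc_20_2 lc_d_rc_9_1 lc_d_Cert_tree) (@D3.rec (fun _ => (Cert rels S Gen.d)) lc_d_rc_18_0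 lc_d_Cert_tree lc_d_rc_18_0 lc_d_rc_20_2 lc_d_rc_21_2 lc_d_rc_28_3 lc_d_rc_28_7 lc_d_rc_9_1 lc_d_Cert_tree lc_d_rc_20_2 lc_d_rc_20_2 lc_d_rc_9_1 lc_d_rc_9_3 lc_d_rc_18_0 lc_d_rc_20_2 lc_d_rc_20_2 lc_d_rc_19_2 lc_d_rc_18_0) (@D3.rec (fun _ => (Cert rels S Gen.d)) lc_d_rc_20_2 lc_d_Cert_tree lc_d_rc_9_1 lc_d_rc_20_2 lc_d_rc_21_2 lc_d_rc_20_2 lc_d_rc_9_1 lc_d_Cert_tree lc_d_rc_3_1 lc_d_Cert_tree lc_d_rc_20_2 lc_d_rc_21_2 lc_d_rc_18_0 lc_d_rc_20_2 lc_d_rc_9_1 lc_d_rc_9_1 lc_d_rc_9_1 lc_d_rc_3_3) (@D3.rec (fun _ => (Cert rels S Gen.d)) lc_d_rc_19_2 lc_d_rc_20_2 lc_d_rc_9_1 lc_d_Cert_tree lc_d_rc_3_1 lc_d_rc_20_2 lc_d_Cert_tree lc_d_rc_18_0 lc_d_Cert_tree lc_d_rc_20_2 lc_d_rc_28_3 lc_d_rc_20_2 lc_d_rc_21_2 lc_d_rc_20_2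 lc_d_rc_9_1 lc_d_rc_3_1 lc_d_Cert_tree lc_d_rc_20_2) (@D3.rec (fun _ => (Cert rels S Gen.d)) lc_d_rc_21_2 lc_d_rc_18_0 lc_d_Cert_tree lc_d_rc_3_1 lc_d_rc_3_1 lc_d_rc_18_0 lc_d_rc_20_2 lc_d_rc_21_2 lc_d_rc_20_2 lc_d_rc_21_2 lc_d_rc_3_3 lc_d_rc_28_5 lc_d_rc_20_2 lc_d_rc_9_1 lc_d_rc_9_1 lc_d_rc_3_1 lc_d_Cert_tree lc_d_rc_20_2) (@D3.rec (fun _ => (Cert rels S Gen.d)) lc_d_rc_20_2 lc_d_Cert_tree lc_d_rc_20_2 lc_d_rc_18_0 lc_d_rc_3_1 lc_d_rc_21_0 lc_d_rc_18_0 lc_d_Cert_tree lc_d_rc_20_2 lc_d_rc_21_2 lc_d_rc_28_5 lc_d_Cert_tree lc_d_rc_20_2 lc_d_rc_18_0 lc_d_rc_20_2 lc_d_rc_21_2 lc_d_rc_9_1 lc_d_rc_21_2) (@D3.rec (fun _ => (Cert rels S Gen.d)) lc_d_rc_20_2 lc_d_rc_9_1 lc_d_Cert_tree lc_d_rc_3_1 lc_d_rc_3_1 lc_d_rc_18_0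 lc_d_rc_20_2 lc_d_rc_21_2 lc_d_rc_21_2 lc_d_rc_3_1 lc_d_rc_28_3 lc_d_rc_18_0 lc_d_rc_20_2 lc_d_rc_21_2 lc_d_rc_9_1 lc_d_Cert_tree lc_d_rc_20_2 lc_d_rc_21_2) (@D3.rec (fun _ => (Cert rels S Gen.d)) lc_d_rc_9_1 lc_d_rc_21_2 lc_d_rc_3_3 lc_d_rc_9_1 lc_d_rc_9_1 lc_d_rc_9_1 lc_d_rc_28_5 lc_d_rc_9_1 lc_d_Cert_tree lc_d_rc_20_2 lc_d_rc_18_0 lc_d_rc_20_2 lc_d_rc_9_1 lc_d_rc_18_0 lc_d_rc_20_2 lc_d_rc_21_2 lc_d_rc_28_5 lc_d_rc_21_0) (@D3.rec (fun _ => (Cert rels S Gen.d)) lc_d_Cert_tree lc_d_rc_3_3 lc_d_rc_18_1 lc_d_Cert_tree lc_d_rc_20_2 lc_d_rc_21_2 lc_d_rc_18_0 lc_d_rc_20_2 lc_d_rc_21_2 lc_d_rc_9_1 lc_d_rc_21_2 lc_d_rc_3_3 lc_d_Cert_tree lc_d_rc_18_0 lc_d_rc_20_2 lc_d_rc_9_1 lc_d_rc_21_0 lc_d_rc_20_2) (@D3.rec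 (fun _ => (Cert rels S Gen.d)) lc_d_rc_21_2 lc_d_rc_9_1 lc_d_rc_20_2 lc_d_rc_28_1 lc_d_rc_28_7 lc_d_rc_21_2 lc_d_rc_9_1 lc_d_Cert_tree lc_d_rc_18_0 lc_d_rc_20_2 lc_d_rc_21_2 lc_d_rc_9_1 lc_d_Cert_tree lc_d_rc_20_2 lc_d_rc_21_2 lc_d_rc_21_2 lc_d_rc_3_3 lc_d_rc_9_1) (@D3.rec (fun _ => (Cert rels S Gen.d)) lc_d_rc_9_1 lc_d_rc_9_1 lc_d_Cert_tree lc_d_rc_20_2 lc_d_rc_21_2 lc_d_rc_9_1 lc_d_rc_3_1 lc_d_Cert_tree lc_d_rc_21_2 lc_d_Cert_tree lc_d_rc_18_0 lc_d_rc_20_2 lc_d_rc_21_2 lc_d_rc_9_1 lc_d_rc_21_2 lc_d_rc_3_1 lc_d_rc_9_1 lc_d_rc_9_1)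
def ce_d_1 : D2 → D3 → (Cert rels S Gen.d) := @D2.rec (fun _ => D3 → (Cert rels S Gen.d)) (@D3.rec (fun _ => (Cert rels S Gen.d)) lc_d_rc_3_1 lc_d_Cert_tree lc_d_rc_9_3 lc_d_Cert_tree lc_d_rc_21_2 lc_d_rc_3_1 lc_d_rc_20_2 lc_d_rc_21_2 lc_d_rc_9_1 lc_d_rc_21_0 lc_d_rc_18_0 lc_d_rc_20_2 lc_d_rc_9_1 lc_d_rc_28_5 lc_d_rc_20_2 lc_d_rc_9_1 lc_d_rc_9_1 lc_d_rc_21_2) (@D3.rec (fun _ => (Cert rels S Gen.d)) lc_d_Cert_tree lc_d_rc_20_2 lc_d_rc_21_2 lc_d_rc_21_0 lc_d_rc_9_1 lc_d_Cert_tree lc_d_rc_3_1 lc_d_rc_9_3 lc_d_rc_18_0 lc_d_rc_20_2 lc_d_rc_21_2 lc_d_rc_9_1 lc_d_Cert_tree lc_d_rc_18_0 lc_d_rc_20_2 lc_d_rc_21_2 lc_d_rc_9_1 lc_d_rc_21_2) (@D3.rec (fun _ => (Cert rels S Gen.d)) lc_d_rc_3_1 lc_d_Cert_tree lc_d_rc_20_2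 lc_d_rc_21_2 lc_d_rc_9_1 lc_d_rc_21_2 lc_d_rc_3_3 lc_d_rc_28_7 lc_d_rc_18_0 lc_d_Cert_tree lc_d_rc_20_2 lc_d_rc_9_1 lc_d_rc_28_7 lc_d_rc_9_1 lc_d_rc_21_0 lc_d_rc_28_5 lc_d_rc_9_1 lc_d_rc_20_2) (@D3.rec (fun _ => (Cert rels S Gen.d)) lc_d_rc_3_1 lc_d_rc_21_2 lc_d_rc_9_1 lc_d_rc_21_2 lc_d_rc_28_1 lc_d_rc_28_3 lc_d_Cert_tree lc_d_rc_9_3 lc_d_rc_18_0 lc_d_Cert_tree lc_d_rc_20_2 lc_d_rc_21_2 lc_d_rc_9_1 lc_d_rc_3_1 lc_d_rc_20_0 lc_d_rc_21_2 lc_d_Cert_tree lc_d_rc_18_0) (@D3.rec (fun _ => (Cert rels S Gen.d)) lc_d_rc_20_2 lc_d_rc_21_2 lc_d_rc_21_2 lc_d_rc_3_1 lc_d_rc_9_1 lc_d_rc_9_1 lc_d_rc_3_1 lc_d_rc_9_1 lc_d_Cert_tree lc_d_rc_21_2 lc_d_rc_3_1 lc_d_rc_20_2 lc_d_rc_21_2 lc_d_Cert_tree lc_d_rc_18_0 lc_d_rc_20_2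 lc_d_rc_21_2 lc_d_rc_9_1) (@D3.rec (fun _ => (Cert rels S Gen.d)) lc_d_rc_3_1 lc_d_rc_28_7 lc_d_rc_21_2 lc_d_rc_28_1 lc_d_Cert_tree lc_d_rc_18_0 lc_d_rc_21_2 lc_d_Cert_tree lc_d_rc_18_0 lc_d_rc_20_2 lc_d_rc_21_2 lc_d_rc_19_2 lc_d_rc_20_2 lc_d_rc_21_2 lc_d_rc_9_1 lc_d_rc_21_2 lc_d_rc_9_1 lc_d_rc_3_3) (@D3.rec (fun _ => (Cert rels S Gen.d)) lc_d_rc_21_0 lc_d_rc_9_1 lc_d_rc_9_1 lc_d_rc_3_1 lc_d_rc_28_7 lc_d_rc_20_2 lc_d_rc_21_0 lc_d_rc_21_2 lc_d_Cert_tree lc_d_rc_18_0 lc_d_rc_20_2 lc_d_rc_18_0 lc_d_rc_21_2 lc_d_rc_9_1 lc_d_rc_3_1 lc_d_rc_3_1 lc_d_rc_20_2 lc_d_rc_21_2) (@D3.rec (fun _ => (Cert rels S Gen.d)) lc_d_rc_3_3 lc_d_rc_3_1 lc_d_rc_9_1 lc_d_rc_21_2 lc_d_Cert_tree lc_d_rc_20_2 lc_d_rc_9_1 lc_d_rc_9_1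 lc_d_rc_28_5 lc_d_rc_9_1 lc_d_rc_3_1 lc_d_rc_21_2 lc_d_Cert_tree lc_d_rc_18_0 lc_d_rc_20_2 lc_d_rc_21_2 lc_d_rc_9_1 lc_d_rc_3_1) (@D3.rec (fun _ => (Cert rels S Gen.d)) lc_d_rc_20_2 lc_d_rc_21_2 lc_d_rc_18_0 lc_d_rc_20_2 lc_d_rc_21_2 lc_d_rc_18_0 lc_d_rc_28_3 lc_d_rc_20_2 lc_d_rc_21_2 lc_d_rc_9_1 lc_d_rc_9_1 lc_d_Cert_tree lc_d_rc_20_2 lc_d_rc_21_2 lc_d_rc_9_1 lc_d_rc_21_2 lc_d_rc_3_3 lc_d_Cert_tree) (@D3.rec (fun _ => (Cert rels S Gen.d)) lc_d_rc_18_0 lc_d_rc_20_2 lc_d_rc_21_2 lc_d_rc_9_1 lc_d_rc_21_2 lc_d_rc_3_1 lc_d_rc_3_1 lc_d_rc_28_3 lc_d_Cert_tree lc_d_rc_18_0 lc_d_rc_20_2 lc_d_rc_9_1 lc_d_Cert_tree lc_d_rc_28_1 lc_d_rc_20_2 lc_d_rc_21_2 lc_d_rc_9_1 lc_d_rc_9_1) (@D3.rec (fun _ => (Cert rels S Gen.d))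 lc_d_rc_28_5 lc_d_rc_3_1 lc_d_Cert_tree lc_d_rc_21_2 lc_d_rc_9_1 lc_d_rc_9_1 lc_d_rc_20_2 lc_d_rc_3_1 lc_d_rc_28_7 lc_d_Cert_tree lc_d_rc_18_0 lc_d_Cert_tree lc_d_rc_18_0 lc_d_rc_20_2 lc_d_rc_21_2 lc_d_rc_9_1 lc_d_rc_3_1 lc_d_Cert_tree)
def ce_d_2 : D2 → D3 → (Cert rels S Gen.d) := @D2.rec (fun _ => D3 → (Cert rels S Gen.d)) (@D3.rec (fun _ => (Cert rels S Gen.d)) lc_d_rc_21_2 lc_d_Cert_tree lc_d_rc_18_0 lc_d_rc_20_2 lc_d_rc_21_2 lc_d_rc_28_7 lc_d_rc_19_2 lc_d_rc_20_2 lc_d_rc_21_2 lc_d_rc_9_1 lc_d_rc_21_2 lc_d_rc_9_1 lc_d_rc_3_3 lc_d_rc_9_1 lc_d_rc_9_1 lc_d_rc_3_1 lc_d_rc_9_3 lc_d_rc_9_3) (@D3.rec (fun _ => (Cert rels S Gen.d)) lc_d_rc_21_2 lc_d_rc_18_0 lc_d_rc_21_2 lc_d_rc_9_1 lc_d_rc_3_1 lc_d_rc_3_1 lc_d_rc_21_2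 lc_d_rc_3_1 lc_d_Cert_tree lc_d_rc_18_0 lc_d_rc_20_2 lc_d_rc_28_1 lc_d_rc_19_2 lc_d_rc_20_2 lc_d_rc_21_2 lc_d_rc_9_1 lc_d_rc_9_1 lc_d_rc_3_1) (@D3.rec (fun _ => (Cert rels S Gen.d)) lc_d_rc_21_0 lc_d_rc_21_2 lc_d_rc_9_1 lc_d_rc_28_3 lc_d_rc_28_7 lc_d_rc_18_0 lc_d_rc_21_2 lc_d_rc_9_1 lc_d_Cert_tree lc_d_rc_18_0 lc_d_rc_20_2 lc_d_rc_21_2 lc_d_rc_9_1 lc_d_rc_9_1 lc_d_rc_20_2 lc_d_rc_21_2 lc_d_rc_9_1 lc_d_rc_21_2) (@D3.rec (fun _ => (Cert rels S Gen.d)) lc_d_rc_9_1 lc_d_rc_21_2 lc_d_rc_19_2 lc_d_rc_19_2 lc_d_rc_9_1 lc_d_rc_21_2 lc_d_rc_9_1 lc_d_rc_3_1 lc_d_rc_3_1 lc_d_rc_9_1 lc_d_rc_21_2 lc_d_rc_9_1 lc_d_rc_3_1 lc_d_rc_19_4 lc_d_rc_20_2 lc_d_rc_28_3 lc_d_rc_21_2 lc_d_rc_28_3) (@D3.rec (fun _ => (Cert rels S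 Gen.d)) lc_d_rc_28_7 lc_d_rc_20_0 lc_d_rc_18_0 lc_d_rc_20_2 lc_d_rc_28_5 lc_d_rc_21_2 lc_d_rc_9_1 lc_d_rc_32_45 lc_d_rc_20_2 lc_d_rc_9_1 lc_d_rc_9_1 lc_d_rc_3_1 lc_d_rc_20_2 lc_d_rc_9_1 lc_d_rc_9_1 lc_d_rc_28_5 lc_d_rc_21_2 lc_d_rc_20_2) (@D3.rec (fun _ => (Cert rels S Gen.d)) lc_d_Cert_tree lc_d_rc_18_0 lc_d_rc_20_2 lc_d_rc_9_1 lc_d_rc_3_1 lc_d_rc_20_2 lc_d_rc_21_2 lc_d_rc_9_1 lc_d_rc_3_1 lc_d_Cert_tree lc_d_rc_21_2 lc_d_Cert_tree lc_d_rc_18_0 lc_d_rc_20_2 lc_d_rc_21_2 lc_d_rc_28_5 lc_d_rc_20_2 lc_d_rc_9_1) (@D3.rec (fun _ => (Cert rels S Gen.d)) lc_d_rc_3_3 lc_d_rc_9_1 lc_d_rc_9_1 lc_d_rc_3_1 lc_d_rc_20_2 lc_d_rc_20_2 lc_d_Cert_tree lc_d_rc_20_2 lc_d_rc_21_2 lc_d_rc_9_1 lc_d_rc_9_1 lc_d_rc_28_3 lc_d_rc_28_3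 lc_d_rc_9_1 lc_d_rc_9_1 lc_d_Cert_tree lc_d_rc_18_0 lc_d_rc_20_2) (@D3.rec (fun _ => (Cert rels S Gen.d)) lc_d_rc_21_2 lc_d_rc_9_1 lc_d_rc_21_2 lc_d_rc_3_1 lc_d_rc_28_1 lc_d_rc_18_0 lc_d_rc_20_2 lc_d_rc_9_1 lc_d_rc_19_2 lc_d_rc_20_2 lc_d_rc_21_2 lc_d_rc_9_1 lc_d_rc_21_2 lc_d_rc_21_2 lc_d_rc_3_3 lc_d_rc_3_1 lc_d_Cert_tree lc_d_rc_9_1) (@D3.rec (fun _ => (Cert rels S Gen.d)) lc_d_Cert_tree lc_d_rc_18_0 lc_d_rc_20_2 lc_d_rc_21_2 lc_d_rc_20_2 lc_d_rc_9_1 lc_d_Cert_tree lc_d_rc_18_0 lc_d_rc_9_1 lc_d_rc_28_1 lc_d_rc_3_1 lc_d_rc_20_2 lc_d_rc_20_2 lc_d_rc_21_2 lc_d_rc_20_2 lc_d_rc_3_1 lc_d_Cert_tree lc_d_rc_21_2) (@D3.rec (fun _ => (Cert rels S Gen.d)) lc_d_rc_3_1 lc_d_rc_20_2 lc_d_rc_9_1 lc_d_rc_9_1 lc_d_Cert_tree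 lc_d_rc_18_0 lc_d_rc_21_2 lc_d_rc_20_2 lc_d_rc_3_1 lc_d_rc_21_2 lc_d_rc_28_3 lc_d_rc_18_0 lc_d_Cert_tree lc_d_rc_18_0 lc_d_rc_20_2 lc_d_rc_21_2 lc_d_rc_19_2 lc_d_rc_20_2) (@D3.rec (fun _ => (Cert rels S Gen.d)) lc_d_rc_21_2 lc_d_rc_9_1 lc_d_rc_9_1 lc_d_rc_3_1 lc_d_Cert_tree lc_d_rc_21_2 lc_d_rc_18_0 lc_d_rc_9_3 lc_d_rc_18_0 lc_d_rc_20_2 lc_d_rc_21_2 lc_d_rc_28_7 lc_d_rc_9_1 lc_d_rc_20_2 lc_d_rc_21_2 lc_d_rc_9_1 lc_d_rc_28_7 lc_d_rc_9_1)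
def ce_d_3 : D2 → D3 → (Cert rels S Gen.d) := @D2.rec (fun _ => D3 → (Cert rels S Gen.d)) (@D3.rec (fun _ => (Cert rels S Gen.d)) lc_d_rc_20_2 lc_d_rc_9_1 lc_d_Cert_tree lc_d_rc_28_7 lc_d_rc_28_7 lc_d_rc_19_2 lc_d_rc_19_2 lc_d_rc_9_1 lc_d_rc_21_2 lc_d_rc_9_1 lc_d_rc_3_1 lc_d_rc_3_1 lc_d_rc_21_2 lc_d_rc_9_1 lc_d_rc_3_1 lc_d_Cert_tree lc_d_rc_9_1 lc_d_rc_28_3) (@D3.rec (fun _ => (Cert rels S Gen.d)) lc_d_rc_21_2 lc_d_rc_9_1 lc_d_rc_28_5 lc_d_rc_21_2 lc_d_rc_32_38 lc_d_rc_9_1 lc_d_rc_9_1 lc_d_rc_9_1 lc_d_Cert_tree lc_d_rc_18_0 lc_d_rc_20_2 lc_d_rc_28_5 lc_d_rc_28_7 lc_d_rc_9_1 lc_d_rc_20_2 lc_d_rc_9_1 lc_d_rc_21_2 lc_d_rc_9_1) (@D3.rec (fun _ => (Cert rels S Gen.d)) lc_d_rc_28_1 lc_d_rc_19_2 lc_d_rc_19_2 lc_d_rc_9_1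 lc_d_rc_9_1 lc_d_rc_3_1 lc_d_Cert_tree lc_d_rc_21_2 lc_d_rc_3_1 lc_d_rc_20_2 lc_d_rc_9_1 lc_d_rc_21_0 lc_d_rc_20_2 lc_d_rc_9_1 lc_d_rc_9_1 lc_d_Cert_tree lc_d_rc_28_3 lc_d_rc_18_0) (@D3.rec (fun _ => (Cert rels S Gen.d)) lc_d_rc_20_2 lc_d_rc_21_2 lc_d_rc_28_3 lc_d_rc_3_1 lc_d_rc_20_2 lc_d_rc_21_2 lc_d_rc_9_1 lc_d_rc_9_3 lc_d_rc_20_2 lc_d_rc_20_2 lc_d_rc_21_2 lc_d_rc_9_1 lc_d_rc_21_2 lc_d_rc_9_1 lc_d_rc_21_0 lc_d_rc_3_1 lc_d_rc_20_2 lc_d_rc_21_2) (@D3.rec (fun _ => (Cert rels S Gen.d)) lc_d_rc_9_1 lc_d_rc_9_1 lc_d_rc_19_2 lc_d_rc_9_1 lc_d_rc_19_2 lc_d_rc_3_1 lc_d_rc_3_3 lc_d_rc_21_2 lc_d_rc_9_1 lc_d_rc_9_1 lc_d_rc_3_1 lc_d_rc_3_1 lc_d_rc_21_2 lc_d_rc_21_2 lc_d_rc_32_35 lc_d_rc_3_1 lc_d_Cert_tree lc_d_rc_28_7)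 (@D3.rec (fun _ => (Cert rels S Gen.d)) lc_d_rc_20_0 lc_d_rc_19_0 lc_d_rc_28_3 lc_d_rc_20_2 lc_d_rc_9_1 lc_d_rc_28_5 lc_d_rc_9_1 lc_d_rc_20_2 lc_d_rc_20_2 lc_d_rc_3_1 lc_d_Cert_tree lc_d_rc_21_2 lc_d_rc_3_1 lc_d_rc_9_1 lc_d_rc_20_2 lc_d_rc_9_1 lc_d_rc_28_7 lc_d_rc_3_1) (@D3.rec (fun _ => (Cert rels S Gen.d)) lc_d_Cert_tree lc_d_rc_20_2 lc_d_rc_3_1 lc_d_rc_9_3 lc_d_rc_20_2 lc_d_rc_9_1 lc_d_rc_20_2 lc_d_rc_9_1 lc_d_rc_18_0 lc_d_rc_20_2 lc_d_rc_20_2 lc_d_rc_9_1 lc_d_Cert_tree lc_d_rc_3_1 lc_d_rc_20_2 lc_d_rc_20_2 lc_d_rc_3_1 lc_d_Cert_tree) (@D3.rec (fun _ => (Cert rels S Gen.d)) lc_d_rc_21_2 lc_d_rc_28_3 lc_d_rc_18_0 lc_d_rc_21_2 lc_d_rc_9_3 lc_d_rc_18_0 lc_d_rc_20_2 lc_d_rc_28_5 lc_d_rc_20_2 lc_d_rc_21_2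 lc_d_rc_9_1 lc_d_rc_21_2 lc_d_rc_21_2 lc_d_rc_9_1 lc_d_rc_3_1 lc_d_rc_9_1 lc_d_rc_3_1 lc_d_rc_21_2) (@D3.rec (fun _ => (Cert rels S Gen.d)) lc_d_rc_9_1 lc_d_Cert_tree lc_d_rc_3_1 lc_d_rc_9_1 lc_d_rc_20_2 lc_d_rc_9_1 lc_d_rc_20_2 lc_d_rc_9_1 lc_d_Cert_tree lc_d_rc_18_0 lc_d_rc_20_2 lc_d_rc_21_2 lc_d_rc_9_1 lc_d_rc_3_1 lc_d_rc_20_2 lc_d_rc_9_1 lc_d_rc_9_1 lc_d_Cert_tree) (@D3.rec (fun _ => (Cert rels S Gen.d)) lc_d_rc_18_0 lc_d_rc_20_2 lc_d_rc_9_1 lc_d_rc_19_2 lc_d_rc_20_2 lc_d_rc_21_2 lc_d_rc_9_1 lc_d_rc_21_2 lc_d_rc_21_2 lc_d_rc_3_3 lc_d_Cert_tree lc_d_rc_9_1 lc_d_rc_3_3 lc_d_rc_19_0 lc_d_rc_20_2 lc_d_rc_9_1 lc_d_rc_20_2 lc_d_rc_19_2) (@D3.rec (fun _ => (Cert rels S Gen.d)) lc_d_rc_9_1 lc_d_rc_21_2 lc_d_rc_3_1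 lc_d_rc_3_1 lc_d_rc_28_7 lc_d_rc_21_2 lc_d_rc_9_1 lc_d_rc_3_1 lc_d_rc_9_1 lc_d_Cert_tree lc_d_rc_18_0 lc_d_rc_3_1 lc_d_rc_20_2 lc_d_rc_3_1 lc_d_rc_21_2 lc_d_rc_18_0 lc_d_rc_20_2 lc_d_rc_28_7)
def ce_d_4 : D2 → D3 → (Cert rels S Gen.d) := @D2.rec (fun _ => D3 → (Cert rels S Gen.d)) (@D3.rec (fun _ => (Cert rels S Gen.d)) lc_d_Cert_tree lc_d_rc_20_2 lc_d_rc_21_2 lc_d_rc_9_1 lc_d_rc_28_1 lc_d_rc_20_2 lc_d_rc_9_1 lc_d_rc_3_1 lc_d_Cert_tree lc_d_rc_21_2 lc_d_rc_18_0 lc_d_Cert_tree lc_d_rc_3_1 lc_d_Cert_tree lc_d_rc_20_2 lc_d_rc_9_1 lc_d_rc_3_1 lc_d_rc_20_2) (@D3.rec (fun _ => (Cert rels S Gen.d)) lc_d_rc_21_2 lc_d_rc_20_2 lc_d_rc_20_0 lc_d_rc_9_1 lc_d_Cert_tree lc_d_rc_3_1 lc_d_rc_18_0 lc_d_rc_21_2 lc_d_rc_3_3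 lc_d_rc_3_1 lc_d_rc_20_2 lc_d_rc_21_2 lc_d_rc_3_1 lc_d_Cert_tree lc_d_rc_21_2 lc_d_Cert_tree lc_d_Cert_tree lc_d_rc_18_0) (@D3.rec (fun _ => (Cert rels S Gen.d)) lc_d_rc_28_7 lc_d_rc_19_2 lc_d_rc_21_2 lc_d_rc_9_1 lc_d_rc_20_2 lc_d_rc_21_0 lc_d_rc_20_2 lc_d_rc_18_0 lc_d_rc_20_2 lc_d_rc_9_1 lc_d_rc_9_1 lc_d_rc_9_1 lc_d_rc_20_2 lc_d_rc_21_2 lc_d_rc_9_1 lc_d_rc_20_2 lc_d_rc_9_1 lc_d_rc_20_2) (@D3.rec (fun _ => (Cert rels S Gen.d)) lc_d_rc_19_2 lc_d_rc_19_2 lc_d_rc_9_1 lc_d_rc_9_1 lc_d_rc_28_7 lc_d_Cert_tree lc_d_rc_21_2 lc_d_rc_3_1 lc_d_rc_20_2 lc_d_Cert_tree lc_d_rc_18_0 lc_d_rc_21_2 lc_d_Cert_tree lc_d_rc_19_4 lc_d_rc_32_59 lc_d_rc_20_2 lc_d_rc_3_1 lc_d_rc_20_2) (@D3.rec (fun _ => (Cert rels S Gen.d)) lc_d_rc_9_1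 lc_d_rc_9_1 lc_d_rc_28_7 lc_d_rc_20_2 lc_d_rc_21_2 lc_d_rc_9_1 lc_d_rc_9_1 lc_d_rc_20_2 lc_d_rc_3_1 lc_d_rc_21_2 lc_d_rc_3_1 lc_d_rc_3_1 lc_d_Cert_tree lc_d_rc_20_2 lc_d_rc_18_0 lc_d_rc_20_2 lc_d_rc_21_2 lc_d_rc_9_1) (@D3.rec (fun _ => (Cert rels S Gen.d)) lc_d_rc_9_1 lc_d_rc_19_2 lc_d_rc_9_1 lc_d_rc_19_2 lc_d_rc_3_1 lc_d_rc_19_2 lc_d_rc_21_2 lc_d_rc_9_1 lc_d_rc_3_1 lc_d_rc_3_1 lc_d_rc_21_2 lc_d_rc_20_2 lc_d_rc_3_1 lc_d_Cert_tree lc_d_rc_20_2 lc_d_Cert_tree lc_d_rc_18_0 lc_d_rc_20_2) (@D3.rec (fun _ => (Cert rels S Gen.d)) lc_d_rc_28_3 lc_d_rc_28_5 lc_d_rc_3_1 lc_d_Cert_tree lc_d_rc_21_2 lc_d_rc_3_1 lc_d_rc_20_2 lc_d_rc_3_1 lc_d_rc_19_4 lc_d_rc_20_2 lc_d_Cert_tree lc_d_rc_18_0 lc_d_rc_3_1 lc_d_rc_3_1 lc_d_rc_20_2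 lc_d_rc_20_0 lc_d_rc_28_7 lc_d_rc_20_2) (@D3.rec (fun _ => (Cert rels S Gen.d)) lc_d_rc_9_1 lc_d_rc_21_2 lc_d_rc_3_1 lc_d_rc_28_3 lc_d_rc_28_1 lc_d_rc_20_2 lc_d_rc_9_1 lc_d_rc_9_1 lc_d_rc_9_1 lc_d_rc_3_1 lc_d_rc_3_1 lc_d_rc_21_2 lc_d_rc_3_1 lc_d_rc_20_2 lc_d_rc_9_1 lc_d_rc_3_3 lc_d_rc_28_1 lc_d_rc_18_0) (@D3.rec (fun _ => (Cert rels S Gen.d)) lc_d_rc_20_0 lc_d_rc_28_7 lc_d_rc_21_2 lc_d_Cert_tree lc_d_rc_19_0 lc_d_rc_18_0 lc_d_rc_20_2 lc_d_rc_3_1 lc_d_Cert_tree lc_d_rc_32_28 lc_d_rc_20_2 lc_d_rc_21_2 lc_d_rc_20_2 lc_d_rc_9_1 lc_d_rc_9_3 lc_d_rc_28_3 lc_d_rc_3_1 lc_d_rc_21_2) (@D3.rec (fun _ => (Cert rels S Gen.d)) lc_d_rc_9_1 lc_d_rc_20_2 lc_d_rc_20_2 lc_d_rc_9_1 lc_d_rc_21_2 lc_d_rc_20_2 lc_d_rc_3_3 lc_d_rc_21_2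 lc_d_rc_19_2 lc_d_rc_3_1 lc_d_rc_28_7 lc_d_rc_21_2 lc_d_rc_9_1 lc_d_rc_3_1 lc_d_rc_21_2 lc_d_rc_21_2 lc_d_rc_3_1 lc_d_Cert_tree) (@D3.rec (fun _ => (Cert rels S Gen.d)) lc_d_rc_20_2 lc_d_rc_3_1 lc_d_Cert_tree lc_d_rc_21_2 lc_d_rc_9_1 lc_d_rc_9_1 lc_d_rc_28_3 lc_d_rc_3_1 lc_d_rc_21_2 lc_d_rc_3_1 lc_d_rc_28_3 lc_d_rc_9_1 lc_d_rc_3_1 lc_d_rc_3_1 lc_d_rc_9_1 lc_d_Cert_tree lc_d_rc_28_7 lc_d_rc_9_1)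
def ce_d_5 : D2 → D3 → (Cert rels S Gen.d) := @D2.rec (fun _ => D3 → (Cert rels S Gen.d)) (@D3.rec (fun _ => (Cert rels S Gen.d)) lc_d_Cert_tree lc_d_rc_28_1 lc_d_rc_18_0 lc_d_rc_20_2 lc_d_rc_9_1 lc_d_rc_20_2 lc_d_rc_9_1 lc_d_rc_3_1 lc_d_rc_28_3 lc_d_rc_9_1 lc_d_Cert_tree lc_d_rc_18_0 lc_d_rc_9_1 lc_d_rc_28_3 lc_d_rc_28_1 lc_d_rc_20_2 lc_d_rc_21_2 lc_d_rc_3_1) (@D3.rec (fun _ => (Cert rels S Gen.d)) lc_d_Cert_tree lc_d_rc_20_2 lc_d_rc_3_1 lc_d_rc_9_1 lc_d_rc_3_3 lc_d_rc_18_0 lc_d_rc_19_4 lc_d_rc_9_3 lc_d_rc_20_0 lc_d_rc_20_2 lc_d_rc_3_1 lc_d_rc_20_2 lc_d_rc_21_2 lc_d_rc_20_0 lc_d_rc_3_1 lc_d_Cert_tree lc_d_rc_21_2 lc_d_rc_21_0) (@D3.rec (fun _ => (Cert rels S Gen.d)) lc_d_rc_9_1 lc_d_rc_3_1 lc_d_Cert_tree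 lc_d_rc_20_0 lc_d_rc_18_0 lc_d_rc_9_1 lc_d_rc_3_1 lc_d_Cert_tree lc_d_rc_21_2 lc_d_rc_9_1 lc_d_rc_9_1 lc_d_rc_3_3 lc_d_rc_3_1 lc_d_rc_18_0 lc_d_rc_3_1 lc_d_rc_20_2 lc_d_rc_19_2 lc_d_rc_21_2) (@D3.rec (fun _ => (Cert rels S Gen.d)) lc_d_rc_9_1 lc_d_rc_3_1 lc_d_rc_20_2 lc_d_rc_20_2 lc_d_rc_9_1 lc_d_rc_9_1 lc_d_rc_21_2 lc_d_rc_21_0 lc_d_rc_3_1 lc_d_rc_21_2 lc_d_rc_9_1 lc_d_rc_19_0 lc_d_rc_20_2 lc_d_rc_9_1 lc_d_rc_3_1 lc_d_rc_20_0 lc_d_rc_21_2 lc_d_rc_19_4) (@D3.rec (fun _ => (Cert rels S Gen.d)) lc_d_rc_3_1 lc_d_rc_20_2 lc_d_rc_9_1 lc_d_rc_3_1 lc_d_Cert_tree lc_d_rc_20_2 lc_d_rc_18_0 lc_d_rc_9_1 lc_d_rc_21_2 lc_d_rc_20_2 lc_d_rc_20_2 lc_d_rc_28_7 lc_d_Cert_tree lc_d_rc_3_1 lc_d_Cert_tree lc_d_rc_3_1 lc_d_Cert_tree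 lc_d_rc_21_2) (@D3.rec (fun _ => (Cert rels S Gen.d)) lc_d_rc_3_3 lc_d_rc_18_0 lc_d_rc_20_2 lc_d_rc_20_2 lc_d_rc_21_2 lc_d_rc_9_1 lc_d_rc_20_2 lc_d_rc_9_3 lc_d_rc_18_0 lc_d_rc_3_3 lc_d_rc_3_1 lc_d_rc_21_2 lc_d_rc_20_2 lc_d_rc_9_1 lc_d_rc_20_2 lc_d_rc_19_2 lc_d_rc_9_1 lc_d_rc_21_2) (@D3.rec (fun _ => (Cert rels S Gen.d)) lc_d_rc_3_1 lc_d_rc_3_1 lc_d_rc_3_3 lc_d_rc_21_2 lc_d_rc_9_1 lc_d_rc_3_1 lc_d_rc_9_1 lc_d_rc_18_0 lc_d_rc_20_2 lc_d_rc_9_1 lc_d_rc_3_1 lc_d_rc_20_2 lc_d_rc_9_1 lc_d_rc_19_2 lc_d_rc_3_1 lc_d_rc_21_2 lc_d_rc_21_2 lc_d_rc_9_1) (@D3.rec (fun _ => (Cert rels S Gen.d)) lc_d_rc_9_1 lc_d_rc_21_2 lc_d_rc_28_3 lc_d_rc_28_7 lc_d_rc_9_1 lc_d_rc_20_2 lc_d_rc_3_1 lc_d_Cert_tree lc_d_rc_18_0 lc_d_rc_19_2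 lc_d_rc_3_1 lc_d_rc_3_1 lc_d_rc_19_4 lc_d_rc_20_2 lc_d_rc_9_1 lc_d_rc_18_0 lc_d_rc_9_1 lc_d_rc_20_2) (@D3.rec (fun _ => (Cert rels S Gen.d)) lc_d_rc_9_1 lc_d_Cert_tree lc_d_rc_21_2 lc_d_rc_9_1 lc_d_rc_3_1 lc_d_rc_20_2 lc_d_rc_21_2 lc_d_rc_20_2 lc_d_Cert_tree lc_d_rc_3_1 lc_d_rc_18_0 lc_d_rc_21_2 lc_d_rc_19_4 lc_d_rc_19_2 lc_d_rc_18_0 lc_d_rc_3_1 lc_d_rc_18_0 lc_d_rc_20_2) (@D3.rec (fun _ => (Cert rels S Gen.d)) lc_d_rc_20_2 lc_d_rc_3_1 lc_d_Cert_tree lc_d_rc_21_2 lc_d_rc_28_5 lc_d_rc_9_1 lc_d_rc_18_0 lc_d_Cert_tree lc_d_rc_3_1 lc_d_rc_3_1 lc_d_rc_20_2 lc_d_rc_21_2 lc_d_rc_28_7 lc_d_rc_18_0 lc_d_rc_3_3 lc_d_rc_9_1 lc_d_rc_9_1 lc_d_rc_21_2) (@D3.rec (fun _ => (Cert rels S Gen.d)) lc_d_rc_9_1 lc_d_rc_3_1 lc_d_rc_9_1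 lc_d_rc_9_1 lc_d_rc_3_1 lc_d_rc_9_1 lc_d_rc_21_2 lc_d_rc_20_0 lc_d_rc_9_1 lc_d_Cert_tree lc_d_rc_3_1 lc_d_rc_18_0 lc_d_rc_21_2 lc_d_rc_9_3 lc_d_rc_18_0 lc_d_Cert_tree lc_d_rc_18_0 lc_d_rc_20_2)
def ce_d_6 : D2 → D3 → (Cert rels S Gen.d) := @D2.rec (fun _ => D3 → (Cert rels S Gen.d)) (@D3.rec (fun _ => (Cert rels S Gen.d)) lc_d_rc_21_2 lc_d_rc_3_1 lc_d_rc_9_1 lc_d_rc_3_1 lc_d_rc_9_1 lc_d_rc_20_2 lc_d_rc_3_1 lc_d_rc_20_2 lc_d_rc_3_3 lc_d_rc_3_1 lc_d_rc_3_1 lc_d_rc_20_2 lc_d_rc_19_4 lc_d_rc_20_2 lc_d_rc_20_2 lc_d_rc_9_1 lc_d_rc_20_2 lc_d_rc_21_2) (@D3.rec (fun _ => (Cert rels S Gen.d)) lc_d_Cert_tree lc_d_rc_3_1 lc_d_rc_20_2 lc_d_rc_9_1 lc_d_rc_9_1 lc_d_rc_3_1 lc_d_Cert_tree lc_d_rc_21_2 lc_d_rc_3_1 lc_d_rc_20_2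 lc_d_rc_3_1 lc_d_Cert_tree lc_d_rc_3_1 lc_d_rc_18_0 lc_d_rc_21_2 lc_d_rc_20_2 lc_d_rc_21_2 lc_d_rc_19_2) (@D3.rec (fun _ => (Cert rels S Gen.d)) lc_d_rc_18_0 lc_d_rc_21_2 lc_d_rc_9_1 lc_d_Cert_tree lc_d_rc_18_0 lc_d_rc_3_1 lc_d_rc_20_2 lc_d_rc_21_2 lc_d_rc_19_2 lc_d_rc_3_1 lc_d_rc_19_0 lc_d_rc_18_0 lc_d_rc_20_2 lc_d_rc_21_2 lc_d_rc_3_1 lc_d_rc_9_1 lc_d_rc_21_2 lc_d_rc_9_1) (@D3.rec (fun _ => (Cert rels S Gen.d)) lc_d_rc_28_3 lc_d_rc_3_1 lc_d_rc_28_3 lc_d_rc_21_2 lc_d_rc_20_2 lc_d_rc_3_1 lc_d_Cert_tree lc_d_rc_20_2 lc_d_rc_19_4 lc_d_Cert_tree lc_d_rc_20_2 lc_d_rc_9_1 lc_d_rc_19_4 lc_d_rc_21_2 lc_d_rc_18_0 lc_d_rc_19_4 lc_d_rc_3_1 lc_d_rc_18_0) (@D3.rec (fun _ => (Cert rels S Gen.d)) lc_d_rc_20_2 lc_d_rc_9_1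 lc_d_rc_9_1 lc_d_rc_3_3 lc_d_rc_18_0 lc_d_rc_9_1 lc_d_rc_19_4 lc_d_rc_9_1 lc_d_rc_18_0 lc_d_Cert_tree lc_d_rc_20_2 lc_d_rc_9_1 lc_d_rc_3_1 lc_d_rc_19_2 lc_d_rc_9_1 lc_d_rc_20_2 lc_d_rc_20_2 lc_d_rc_3_1) (@D3.rec (fun _ => (Cert rels S Gen.d)) lc_d_Cert_tree lc_d_rc_3_1 lc_d_rc_28_7 lc_d_rc_21_2 lc_d_rc_28_7 lc_d_rc_20_2 lc_d_rc_9_1 lc_d_rc_3_1 lc_d_rc_19_2 lc_d_rc_21_2 lc_d_rc_3_1 lc_d_rc_28_1 lc_d_rc_9_1 lc_d_rc_18_0 lc_d_Cert_tree lc_d_rc_18_0 lc_d_rc_20_2 lc_d_Cert_tree) (@D3.rec (fun _ => (Cert rels S Gen.d)) lc_d_rc_18_0 lc_d_rc_20_2 lc_d_rc_21_2 lc_d_rc_20_2 lc_d_rc_20_2 lc_d_rc_28_7 lc_d_rc_21_2 lc_d_rc_20_2 lc_d_rc_9_1 lc_d_rc_28_7 lc_d_rc_21_0 lc_d_rc_9_1 lc_d_rc_3_1 lc_d_Cert_tree lc_d_rc_21_2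 lc_d_rc_9_1 lc_d_rc_21_2 lc_d_rc_3_1) (@D3.rec (fun _ => (Cert rels S Gen.d)) lc_d_rc_20_0 lc_d_rc_20_2 lc_d_rc_9_1 lc_d_rc_3_3 lc_d_rc_9_1 lc_d_rc_20_0 lc_d_rc_18_0 lc_d_rc_9_3 lc_d_rc_3_1 lc_d_rc_28_3 lc_d_rc_3_1 lc_d_rc_18_0 lc_d_rc_21_2 lc_d_rc_3_1 lc_d_rc_19_2 lc_d_rc_20_2 lc_d_rc_9_1 lc_d_rc_28_3) (@D3.rec (fun _ => (Cert rels S Gen.d)) lc_d_rc_3_1 lc_d_rc_21_2 lc_d_rc_9_1 lc_d_Cert_tree lc_d_rc_18_0 lc_d_rc_21_2 lc_d_rc_9_1 lc_d_rc_19_0 lc_d_rc_18_0 lc_d_rc_3_3 lc_d_rc_20_2 lc_d_rc_3_1 lc_d_rc_19_0 lc_d_rc_3_1 lc_d_rc_28_7 lc_d_Cert_tree lc_d_Cert_tree lc_d_rc_18_0) (@D3.rec (fun _ => (Cert rels S Gen.d)) lc_d_rc_19_2 lc_d_rc_28_1 lc_d_rc_19_2 lc_d_rc_21_2 lc_d_Cert_tree lc_d_rc_3_1 lc_d_Cert_tree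 lc_d_rc_18_0 lc_d_rc_20_2 lc_d_rc_21_2 lc_d_rc_3_1 lc_d_rc_20_2 lc_d_rc_21_2 lc_d_rc_19_2 lc_d_rc_19_2 lc_d_rc_9_1 lc_d_rc_3_1 lc_d_rc_20_2) (@D3.rec (fun _ => (Cert rels S Gen.d)) lc_d_rc_19_2 lc_d_Cert_tree lc_d_rc_18_0 lc_d_rc_21_2 lc_d_rc_19_4 lc_d_rc_28_5 lc_d_rc_19_4 lc_d_rc_3_1 lc_d_rc_9_1 lc_d_rc_28_3 lc_d_rc_28_1 lc_d_rc_18_0 lc_d_rc_28_5 lc_d_rc_19_2 lc_d_rc_19_2 lc_d_rc_3_1 lc_d_rc_9_1 lc_d_rc_9_1)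
def ce_d_7 : D2 → D3 → (Cert rels S Gen.d) := @D2.rec (fun _ => D3 → (Cert rels S Gen.d)) (@D3.rec (fun _ => (Cert rels S Gen.d)) lc_d_rc_18_0 lc_d_rc_3_1 lc_d_rc_3_1 lc_d_Cert_tree lc_d_rc_20_2 lc_d_rc_21_2 lc_d_rc_18_1 lc_d_rc_19_2 lc_d_rc_18_1 lc_d_rc_9_1 lc_d_rc_9_1 lc_d_rc_3_1 lc_d_rc_28_1 lc_d_rc_19_4 lc_d_rc_3_1 lc_d_rc_9_3 lc_d_rc_9_1 lc_d_rc_3_1) (@D3.rec (fun _ => (Cert rels S Gen.d)) lc_d_rc_21_2 lc_d_rc_19_2 lc_d_rc_9_1 lc_d_rc_20_2 lc_d_rc_3_1 lc_d_rc_32_59 lc_d_rc_3_1 lc_d_rc_19_2 lc_d_rc_19_2 lc_d_rc_9_1 lc_d_rc_28_1 lc_d_Cert_tree lc_d_rc_28_1 lc_d_Cert_tree lc_d_rc_18_0 lc_d_rc_20_2 lc_d_rc_19_2 lc_d_rc_19_2) (@D3.rec (fun _ => (Cert rels S Gen.d)) lc_d_rc_21_2 lc_d_Cert_tree lc_d_rc_18_0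 lc_d_rc_21_0 lc_d_rc_18_0 lc_d_rc_9_1 lc_d_rc_18_0 lc_d_rc_9_1 lc_d_rc_20_2 lc_d_rc_32_54 lc_d_rc_20_2 lc_d_rc_9_1 lc_d_rc_20_2 lc_d_rc_28_3 lc_d_rc_20_2 lc_d_rc_9_1 lc_d_rc_3_1 lc_d_rc_28_7) (@D3.rec (fun _ => (Cert rels S Gen.d)) lc_d_rc_9_1 lc_d_rc_19_2 lc_d_rc_3_1 lc_d_rc_32_54 lc_d_rc_21_2 lc_d_rc_9_1 lc_d_rc_9_1 lc_d_rc_21_2 lc_d_rc_28_3 lc_d_rc_32_4 lc_d_rc_21_2 lc_d_rc_20_2 lc_d_rc_9_1 lc_d_rc_19_2 lc_d_rc_3_1 lc_d_rc_3_1 lc_d_rc_18_1 lc_d_rc_21_2) (@D3.rec (fun _ => (Cert rels S Gen.d)) lc_d_rc_28_7 lc_d_rc_3_1 lc_d_rc_20_2 lc_d_rc_3_1 lc_d_rc_9_3 lc_d_rc_28_3 lc_d_rc_9_1 lc_d_rc_9_1 lc_d_rc_3_1 lc_d_rc_18_1 lc_d_rc_18_0 lc_d_rc_3_1 lc_d_rc_32_7 lc_d_rc_3_1 lc_d_rc_9_1 lc_d_rc_9_1 lc_d_rc_20_2 lc_d_rc_9_1)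 (@D3.rec (fun _ => (Cert rels S Gen.d)) lc_d_rc_3_1 lc_d_rc_21_2 lc_d_rc_21_2 lc_d_rc_28_7 lc_d_rc_21_2 lc_d_rc_28_5 lc_d_rc_18_0 lc_d_rc_28_1 lc_d_rc_20_0 lc_d_rc_28_7 lc_d_rc_3_1 lc_d_Cert_tree lc_d_rc_3_1 lc_d_rc_18_0 lc_d_rc_28_3 lc_d_rc_21_2 lc_d_rc_28_5 lc_d_rc_9_1) (@D3.rec (fun _ => (Cert rels S Gen.d)) lc_d_rc_21_2 lc_d_rc_28_5 lc_d_rc_9_1 lc_d_rc_9_1 lc_d_rc_9_1 lc_d_rc_9_1 lc_d_Cert_tree lc_d_rc_14_1 lc_d_rc_9_1 lc_d_rc_18_0 lc_d_rc_20_2 lc_d_rc_9_1 lc_d_rc_3_1 lc_d_Cert_tree lc_d_rc_9_1 lc_d_Cert_tree lc_d_rc_18_0 lc_d_rc_3_3) (@D3.rec (fun _ => (Cert rels S Gen.d)) lc_d_rc_9_1 lc_d_rc_20_0 lc_d_rc_21_2 lc_d_rc_9_1 lc_d_rc_28_7 lc_d_rc_9_1 lc_d_rc_19_2 lc_d_rc_21_2 lc_d_rc_9_1 lc_d_rc_3_1 lc_d_rc_20_2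 lc_d_rc_3_1 lc_d_rc_9_1 lc_d_rc_20_2 lc_d_rc_9_1 lc_d_rc_3_1 lc_d_rc_28_3 lc_d_rc_20_2) (@D3.rec (fun _ => (Cert rels S Gen.d)) lc_d_rc_21_2 lc_d_rc_28_5 lc_d_rc_18_0 lc_d_rc_21_2 lc_d_rc_21_2 lc_d_rc_3_1 lc_d_rc_18_0 lc_d_rc_20_2 lc_d_rc_21_2 lc_d_rc_9_3 lc_d_rc_9_1 lc_d_rc_20_2 lc_d_rc_21_2 lc_d_rc_21_2 lc_d_rc_21_2 lc_d_rc_9_1 lc_d_rc_3_1 lc_d_rc_3_1) (@D3.rec (fun _ => (Cert rels S Gen.d)) lc_d_rc_9_1 lc_d_rc_20_2 lc_d_rc_18_1 lc_d_rc_3_1 lc_d_rc_9_1 lc_d_rc_28_1 lc_d_rc_3_1 lc_d_rc_20_2 lc_d_rc_3_1 lc_d_rc_9_1 lc_d_rc_18_0 lc_d_rc_19_4 lc_d_rc_3_1 lc_d_rc_9_1 lc_d_rc_21_2 lc_d_rc_3_3 lc_d_rc_3_1 lc_d_rc_18_0) (@D3.rec (fun _ => (Cert rels S Gen.d)) lc_d_rc_9_3 lc_d_Cert_tree lc_d_rc_18_0 lc_d_rc_3_3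 lc_d_rc_3_3 lc_d_rc_19_2 lc_d_rc_21_2 lc_d_rc_9_1 lc_d_Cert_tree lc_d_rc_18_0 lc_d_rc_3_3 lc_d_rc_21_2 lc_d_rc_3_1 lc_d_rc_9_1 lc_d_rc_28_7 lc_d_rc_3_1 lc_d_rc_21_2 lc_d_rc_3_1)
def ce_d_8 : D2 → D3 → (Cert rels S Gen.d) := @D2.rec (fun _ => D3 → (Cert rels S Gen.d)) (@D3.rec (fun _ => (Cert rels S Gen.d)) lc_d_Cert_tree lc_d_rc_9_1 lc_d_rc_28_3 lc_d_rc_20_2 lc_d_rc_28_3 lc_d_rc_18_0 lc_d_rc_28_7 lc_d_rc_18_0 lc_d_rc_20_2 lc_d_rc_21_2 lc_d_rc_9_1 lc_d_rc_9_1 lc_d_Cert_tree lc_d_rc_20_2 lc_d_rc_18_0 lc_d_rc_21_2 lc_d_rc_3_1 lc_d_rc_18_0) (@D3.rec (fun _ => (Cert rels S Gen.d)) lc_d_rc_3_1 lc_d_rc_3_1 lc_d_rc_20_2 lc_d_rc_21_2 lc_d_rc_21_2 lc_d_rc_9_1 lc_d_Cert_tree lc_d_rc_18_0 lc_d_rc_21_2 lc_d_rc_18_0 lc_d_rc_20_2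 lc_d_rc_20_2 lc_d_rc_3_3 lc_d_rc_9_1 lc_d_rc_3_1 lc_d_rc_9_3 lc_d_rc_18_0 lc_d_rc_20_0) (@D3.rec (fun _ => (Cert rels S Gen.d)) lc_d_rc_3_1 lc_d_rc_9_1 lc_d_rc_14_5 lc_d_rc_28_5 lc_d_rc_20_0 lc_d_rc_9_1 lc_d_rc_19_2 lc_d_rc_18_1 lc_d_rc_18_0 lc_d_rc_21_2 lc_d_rc_19_2 lc_d_rc_18_1 lc_d_rc_9_1 lc_d_rc_3_1 lc_d_rc_18_0 lc_d_rc_18_0 lc_d_rc_9_1 lc_d_rc_21_2) (@D3.rec (fun _ => (Cert rels S Gen.d)) lc_d_rc_3_1 lc_d_rc_19_2 lc_d_rc_21_2 lc_d_rc_20_2 lc_d_rc_18_0 lc_d_rc_20_2 lc_d_rc_20_2 lc_d_rc_18_0 lc_d_rc_3_1 lc_d_Cert_tree lc_d_rc_19_2 lc_d_rc_20_2 lc_d_rc_21_2 lc_d_rc_9_1 lc_d_rc_14_3 lc_d_rc_21_2 lc_d_rc_20_2 lc_d_rc_3_1) (@D3.rec (fun _ => (Cert rels S Gen.d)) lc_d_rc_21_2 lc_d_rc_9_1 lc_d_rc_20_0 lc_d_rc_18_0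 lc_d_rc_21_2 lc_d_rc_19_2 lc_d_rc_21_2 lc_d_rc_3_1 lc_d_rc_3_1 lc_d_rc_19_2 lc_d_rc_9_1 lc_d_rc_21_2 lc_d_rc_9_1 lc_d_rc_9_1 lc_d_rc_18_0 lc_d_rc_9_1 lc_d_rc_9_1 lc_d_rc_20_2) (@D3.rec (fun _ => (Cert rels S Gen.d)) lc_d_rc_20_2 lc_d_rc_3_1 lc_d_rc_20_2 lc_d_rc_9_3 lc_d_rc_28_1 lc_d_rc_18_0 lc_d_rc_3_1 lc_d_rc_18_0 lc_d_rc_28_7 lc_d_rc_21_2 lc_d_rc_18_0 lc_d_rc_28_5 lc_d_rc_19_2 lc_d_rc_19_2 lc_d_rc_20_2 lc_d_rc_21_2 lc_d_rc_9_1 lc_d_rc_20_2) (@D3.rec (fun _ => (Cert rels S Gen.d)) lc_d_rc_20_0 lc_d_rc_3_1 lc_d_rc_9_1 lc_d_rc_3_1 lc_d_rc_14_9 lc_d_rc_21_2 lc_d_rc_20_2 lc_d_rc_32_54 lc_d_rc_9_1 lc_d_rc_9_1 lc_d_rc_28_3 lc_d_rc_9_1 lc_d_rc_9_1 lc_d_rc_9_1 lc_d_rc_20_2 lc_d_rc_9_1 lc_d_rc_21_2 lc_d_rc_21_2)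 (@D3.rec (fun _ => (Cert rels S Gen.d)) lc_d_rc_28_1 lc_d_rc_20_2 lc_d_rc_18_0 lc_d_rc_14_11 lc_d_rc_21_2 lc_d_rc_28_5 lc_d_rc_18_0 lc_d_rc_18_0 lc_d_rc_18_0 lc_d_rc_21_2 lc_d_rc_9_1 lc_d_rc_28_7 lc_d_rc_9_1 lc_d_rc_3_1 lc_d_rc_14_11 lc_d_rc_9_3 lc_d_rc_21_2 lc_d_rc_3_1) (@D3.rec (fun _ => (Cert rels S Gen.d)) lc_d_rc_20_2 lc_d_rc_21_2 lc_d_rc_9_1 lc_d_rc_20_0 lc_d_rc_9_1 lc_d_rc_21_2 lc_d_rc_21_0 lc_d_rc_20_0 lc_d_rc_28_5 lc_d_rc_21_2 lc_d_rc_20_2 lc_d_rc_28_5 lc_d_rc_18_0 lc_d_rc_28_3 lc_d_rc_18_0 lc_d_rc_18_0 lc_d_rc_20_2 lc_d_rc_3_1) (@D3.rec (fun _ => (Cert rels S Gen.d)) lc_d_rc_28_3 lc_d_rc_18_0 lc_d_rc_21_0 lc_d_rc_18_0 lc_d_rc_9_1 lc_d_rc_20_0 lc_d_rc_20_0 lc_d_rc_14_5 lc_d_rc_18_0 lc_d_rc_9_1 lc_d_rc_9_1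 lc_d_rc_9_1 lc_d_rc_18_1 lc_d_rc_9_1 lc_d_rc_32_54 lc_d_rc_28_1 lc_d_rc_28_7 lc_d_rc_21_2) (@D3.rec (fun _ => (Cert rels S Gen.d)) lc_d_rc_21_2 lc_d_rc_28_3 lc_d_rc_19_2 lc_d_rc_20_2 lc_d_rc_21_2 lc_d_rc_18_0 lc_d_rc_19_2 lc_d_rc_9_1 lc_d_rc_28_5 lc_d_rc_9_1 lc_d_rc_32_2 lc_d_rc_9_1 lc_d_rc_14_5 lc_d_rc_14_3 lc_d_rc_9_1 lc_d_rc_32_74 lc_d_rc_9_1 lc_d_rc_9_1)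
def ce_d : Pt → (Cert rels S Gen.d) := @Pt.rec (fun _ => (Cert rels S Gen.d)) (@D1.rec (fun _ => D2 → D3 → (Cert rels S Gen.d)) ce_d_0 ce_d_1 ce_d_2 ce_d_3 ce_d_4 ce_d_5 ce_d_6 ce_d_7 ce_d_8)
def isSeed_d (p : Pt) : Bool := orB (beqPt p (Pt.mk D1.c1 D2.c1 D3.c12)) (false)

end

end Cfsg.Agent.Helper28.S1680
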