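import Cfsg.Agent.Lib.Helper28.S1680.Tree

set_option autoImplicit false
set_option maxRecDepth 100000
set_option linter.all false

namespace Cfsg.Agent.Helper28.S1680

open Cfsg.Agent.Helper28
open Cfsg.Spor.Suz (Gen)

noncomputable section

def lv_e_0 : D2 → D3 → Nat := @D2.rec (fun _ => D3 → Nat) (@D3.rec (fun _ => Nat) 1 2 3 4 4 4 5 5 0 5 6 6 0 0 1 2 6 7) (@D3.rec (fun _ => Nat) 0 7 0 7 7 0 1 0 1 2 2 3 7 0 8 0 1 0) (@D3.rec (fun _ => Nat) 8 0 1 2 2 8 0 1 0 1 2 2 5 2 3 3 4 0) (@D3.rec (fun _ => Nat) 1 2 0 1 1 2 0 0 1 2 2 2 2 3 9 0 1 2) (@D3.rec (fun _ => Nat) 2 5 1 2 2 6 2 2 3 3 5 6 23 3 4 0 1 2) (@D3.rec (fun _ => Nat) 2 1 2 24 2 0 0 1 2 2 0 1 2 2 2 2 3 3) (@D3.rec (fun _ => Nat) 3 4 1 2 2 6 2 2 3 5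 6 7 2 2 3 7 7 7) (@D3.rec (fun _ => Nat) 3 3 5 4 6 7 25 25 1 2 53 2 3 24 2 3 24 0) (@D3.rec (fun _ => Nat) 1 2 2 1 2 2 2 2 2 3 3 5 1 2 2 3 3 3) (@D3.rec (fun _ => Nat) 37 3 3 4 4 4 4 5 7 2 2 3 7 7 7 3 5 4) (@D3.rec (fun _ => Nat) 6 7 8 8 8 3 4 4 4 8 0 8 8 25 8 9 4 6)
def lv_e_1 : D2 → D3 → Nat := @D2.rec (fun _ => D3 → Nat) (@D3.rec (fun _ => Nat) 5 5 5 7 7 8 8 8 25 25 54 2 3 55 55 3 4 4) (@D3.rec (fun _ => Nat) 26 26 3 4 26 1 2 2 48 2 2 3 3 2 2 2 3 3) (@D3.rec (fun _ => Nat) 4 3 3 3 3 3 5 4 35 3 3 3 4 4 4 36 4 57) (@D3.rec (fun _ => Nat) 4 4 4 5 5 5 5 5 104 8 8 8 3 4 4 4 8 0) (@D3.rec (fun _ => Nat) 8 8 8 9 4 6 5 5 7 7 8 8 8 9 0 9 9 9) (@D3.rec (fun _ => Nat) 4 4 4 5 5 104 5 9 0 9 9 1 2 2 9 9 9 10) (@D3.rec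 (fun _ => Nat) 27 9 10 5 5 5 7 7 6 102 6 105 8 9 9 9 25 9) (@D3.rec (fun _ => Nat) 10 27 27 27 54 54 3 55 55 55 4 4 26 58 26 58 4 26) (@D3.rec (fun _ => Nat) 24 26 47 2 2 3 51 51 46 3 3 3 3 3 3 3 4 4) (@D3.rec (fun _ => Nat) 0 4 4 4 4 5 4 38 4 59 4 4 4 5 5 5 5 39) (@D3.rec (fun _ => Nat) 59 58 5 59 59 5 5 5 5 6 103 9 0 9 9 9 4 4)
def lv_e_2 : D2 → D3 → Nat := @D2.rec (fun _ => D3 → Nat) (@D3.rec (fun _ => Nat) 4 9 0 9 9 0 1 2 2 9 9 9 10 9 10 5 5 7) (@D3.rec (fun _ => Nat) 7 104 8 9 9 9 9 10 10 0 10 10 1 2 2 10 10 10) (@D3.rec (fun _ => Nat) 10 10 5 5 5 104 101 6 10 0 10 10 0 1 2 2 10 10) (@D3.rec (fun _ => Nat) 10 11 2 2 3 3 3 4 10 27 10 10 10 10 10 11 11 6) (@D3.rec (fun _ => Nat) 6 8 102 103 106 104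 9 10 91 10 10 25 25 10 27 27 27 27) (@D3.rec (fun _ => Nat) 56 56 56 56 81 57 82 57 57 57 57 28 60 26 28 55 60 28) (@D3.rec (fun _ => Nat) 58 58 28 26 88 28 50 50 47 3 51 51 51 54 46 4 0 4) (@D3.rec (fun _ => Nat) 4 4 4 5 5 86 5 5 1 2 85 5 5 5 6 58 5 37) (@D3.rec (fun _ => Nat) 5 59 5 5 59 5 5 60 6 6 6 6 6 38 7 6 6 6) (@D3.rec (fun _ => Nat) 38 38 59 59 59 0 60 58 57 59 6 103 10 0 10 10 1 2) (@D3.rec (fun _ => Nat) 2 10 10 10 10 10 60 10 0 10 10 0 1 2 2 10 10 10)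
def lv_e_3 : D2 → D3 → Nat := @D2.rec (fun _ => D3 → Nat) (@D3.rec (fun _ => Nat) 11 0 1 2 2 2 2 3 3 3 4 10 10 10 10 10 10 11) (@D3.rec (fun _ => Nat) 11 8 105 103 10 10 10 10 11 0 11 11 0 1 2 11 11 11) (@D3.rec (fun _ => Nat) 12 2 2 3 3 11 11 11 11 11 63 11 11 6 102 11 11 0) (@D3.rec (fun _ => Nat) 11 86 0 1 2 2 85 1 2 2 2 3 3 3 6 11 25 11) (@D3.rec (fun _ => Nat) 11 3 3 3 4 4 4 4 4 11 29 11 29 11 12 11 11 11) (@D3.rec (fun _ => Nat) 11 11 12 9 107 105 103 87 89 11 11 11 11 88 11 27 27 11) (@D3.rec (fun _ => Nat) 11 11 29 29 29 29 29 29 56 56 59 56 56 79 57 77 57 57) (@D3.rec (fun _ => Nat) 57 55 0 60 28 60 26 60 60 60 26 90 28 57 60 60 28 28) (@D3.rec (fun _ => Nat) 60 60 28 28 28 26 92 28 52 52 52 52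 45 53 53 53 58 5) (@D3.rec (fun _ => Nat) 87 5 5 1 2 86 5 5 5 6 5 6 6 6 87 6 6 2) (@D3.rec (fun _ => Nat) 3 3 86 6 6 6 6 6 7 58 0 40 40 40 6 61 6 6)
def lv_e_4 : D2 → D3 → Nat := @D2.rec (fun _ => D3 → Nat) (@D3.rec (fun _ => Nat) 61 61 61 6 6 7 61 6 6 6 0 64 85 87 7 7 7 7) (@D3.rec (fun _ => Nat) 7 41 8 7 7 7 0 7 8 41 61 80 61 61 61 58 61 0) (@D3.rec (fun _ => Nat) 0 1 2 60 62 61 11 0 11 11 82 1 2 81 11 11 11 12) (@D3.rec (fun _ => Nat) 2 2 3 88 11 11 11 11 11 11 100 11 62 11 11 11 1 2) (@D3.rec (fun _ => Nat) 58 1 109 2 2 3 3 3 11 11 11 61 1 114 51 2 2 114) (@D3.rec (fun _ => Nat) 3 3 3 4 4 4 4 4 11 11 11 12 11 11 11 11 100 11) (@D3.rec (fun _ => Nat) 12 104 11 11 11 11 11 11 11 11 115 0 0 1 2 1 2 2)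 (@D3.rec (fun _ => Nat) 3 3 12 12 12 12 13 3 3 4 4 4 4 4 12 12 12 102) (@D3.rec (fun _ => Nat) 12 13 12 61 12 0 113 87 59 1 2 87 87 0 1 2 2 2) (@D3.rec (fun _ => Nat) 86 86 2 3 3 3 3 3 6 4 4 4 4 27 27 112 109 12) (@D3.rec (fun _ => Nat) 86 4 4 4 4 5 5 5 5 5 5 29 29 27 12 12 12 12)
def lv_e_5 : D2 → D3 → Nat := @D2.rec (fun _ => D3 → Nat) (@D3.rec (fun _ => Nat) 12 12 102 12 12 108 91 93 93 12 12 0 12 91 90 89 88 95) (@D3.rec (fun _ => Nat) 27 27 96 27 12 112 12 29 81 29 29 29 82 29 29 29 29 58) (@D3.rec (fun _ => Nat) 61 58 58 58 0 78 59 59 59 80 59 59 59 0 59 59 1 2) (@D3.rec (fun _ => Nat) 62 30 30 62 28 62 90 62 26 26 88 30 78 60 62 62 62 30) (@D3.rec (fun _ => Nat) 30 60 28 60 60 60 100 30 91 30 28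 91 28 90 90 30 30 30) (@D3.rec (fun _ => Nat) 52 52 52 52 52 52 53 6 63 6 6 88 88 6 6 2 3 3) (@D3.rec (fun _ => Nat) 87 6 6 6 6 6 7 0 7 111 7 7 3 3 113 4 108 4) (@D3.rec (fun _ => Nat) 86 7 7 7 7 7 7 63 0 1 39 39 7 61 7 61 61 61) (@D3.rec (fun _ => Nat) 7 7 7 8 61 61 61 7 7 7 0 7 8 1 0 88 84 86) (@D3.rec (fun _ => Nat) 8 8 8 8 8 40 9 9 81 78 8 79 8 124 8 8 1 2) (@D3.rec (fun _ => Nat) 62 9 78 40 80 61 81 79 61 61 61 103 61 61 121 61 0 61)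
def lv_e_6 : D2 → D3 → Nat := @D2.rec (fun _ => D3 → Nat) (@D3.rec (fun _ => Nat) 61 1 1 2 3 3 62 62 59 84 1 2 110 83 2 3 80 12) (@D3.rec (fun _ => Nat) 12 12 12 13 3 4 4 4 92 89 12 12 12 0 12 13 12 104) (@D3.rec (fun _ => Nat) 99 98 12 103 101 2 3 3 3 4 12 53 53 53 4 4 4 4) (@D3.rec (fun _ => Nat) 5 5 116 5 119 5 5 89 12 12 12 12 12 12 107 12 102 99) (@D3.rec (fun _ => Nat) 99 12 12 12 117 12 12 12 115 65 1 1 2 2 3 3 3 4) (@D3.rec (fun _ => Nat) 14 4 4 4 4 4 5 112 119 107 13 13 108 117 59 1 113 57) (@D3.rec (fun _ => Nat) 58 59 88 2 88 1 2 87 3 3 4 4 4 4 4 4 112 109) (@D3.rec (fun _ => Nat) 5 87 27 115 112 107 110 87 5 5 5 127 5 5 5 6 6 6) (@D3.rec (fun _ => Nat) 31 31 31 13 103 108 111 108 105 106 104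 13 13 99 91 13 128 0) (@D3.rec (fun _ => Nat) 1 90 89 90 95 100 29 0 29 96 120 29 29 109 80 31 31 31) (@D3.rec (fun _ => Nat) 82 31 0 31 58 58 58 61 58 58 58 0 58 60 1 81 84 59)
def lv_e_7 : D2 → D3 → Nat := @D2.rec (fun _ => D3 → Nat) (@D3.rec (fun _ => Nat) 120 79 121 59 78 83 0 1 118 2 119 114 30 28 30 28 28 77) (@D3.rec (fun _ => Nat) 62 28 118 80 62 62 62 30 30 30 62 62 62 62 102 62 90 30) (@D3.rec (fun _ => Nat) 91 28 0 94 113 30 0 30 54 54 114 114 7 62 89 111 7 7) (@D3.rec (fun _ => Nat) 3 3 113 4 110 110 87 7 7 7 7 7 7 1 120 126 10 8) (@D3.rec (fun _ => Nat) 4 4 108 109 87 89 89 8 90 60 0 60 128 1 42 42 8 115) (@D3.rec (fun _ => Nat) 8 8 8 64 63 8 123 9 9 63 63 8 8 119 8 8 0 1) (@D3.rec (fun _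 => Nat) 2 9 1 87 89 83 80 82 122 119 79 126 82 43 85 10 127 79) (@D3.rec (fun _ => Nat) 80 9 78 81 122 121 89 2 124 62 64 84 80 77 81 90 120 115) (@D3.rec (fun _ => Nat) 85 63 104 63 104 121 127 63 63 122 1 124 2 63 63 3 3 125) (@D3.rec (fun _ => Nat) 119 122 62 64 62 64 2 3 114 120 123 14 4 4 4 110 113 114) (@D3.rec (fun _ => Nat) 5 13 121 13 127 1 122 98 104 101 122 104 4 53 5 5 5 5)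
def lv_e_8 : D2 → D3 → Nat := @D2.rec (fun _ => D3 → Nat) (@D3.rec (fun _ => Nat) 5 116 123 6 6 108 13 107 13 103 97 13 13 115 67 3 4 120) (@D3.rec (fun _ => Nat) 5 112 6 109 120 120 61 60 115 58 60 89 4 4 109 5 118 5) (@D3.rec (fun _ => Nat) 114 109 111 88 6 6 6 7 119 108 70 99 116 117 121 119 109 124) (@D3.rec (fun _ => Nat) 1 90 122 97 0 100 120 125 119 124 1 125 2 29 96 84 120 91) (@D3.rec (fun _ => Nat) 124 118 88 123 125 1 117 60 60 1 80 81 82 88 111 82 1 120) (@D3.rec (fun _ => Nat) 121 125 120 125 62 107 62 102 124 30 123 129 1 1 116 114 90 113) (@D3.rec (fun _ => Nat) 10 8 4 113 110 110 108 112 88 8 91 108 127 1 65 124 41 117) (@D3.rec (fun _ => Nat) 10 9 105 1 2 122 119 123 126 122 122 129 118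 127 113 120 105 123) (@D3.rec (fun _ => Nat) 121 125 124 125 2 126 123 61 123 5 114 125 123 123 103 105 105 6) (@D3.rec (fun _ => Nat) 6 71 92 129 117 6 112 109 60 90 5 113 111 111 7 112 111 125) (@D3.rec (fun _ => Nat) 126 127 1 129 126 124 2 132 91 116 113 112 110 110 125 114 111 112)
def lv_e : Pt → Nat := @Pt.rec (fun _ => Nat) (@D1.rec (fun _ => D2 → D3 → Nat) lv_e_0 lv_e_1 lv_e_2 lv_e_3 lv_e_4 lv_e_5 lv_e_6 lv_e_7 lv_e_8)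
abbrev lc_e_Cert_tree : Cert rels S Gen.e := Cert.tree
abbrev lc_e_rc_10_1 : Cert rels S Gen.e := rc_10_1
abbrev lc_e_rc_10_3 : Cert rels S Gen.e := rc_10_3
abbrev lc_e_rc_15_1 : Cert rels S Gen.e := rc_15_1
abbrev lc_e_rc_15_3 : Cert rels S Gen.e := rc_15_3
abbrev lc_e_rc_19_1 : Cert rels S Gen.e := rc_19_1
abbrev lc_e_rc_19_3 : Cert rels S Gen.e := rc_19_3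
abbrev lc_e_rc_22_0 : Cert rels S Gen.e := rc_22_0
abbrev lc_e_rc_22_1 : Cert rels S Gen.e := rc_22_1
abbrev lc_e_rc_23_0 : Cert rels S Gen.e := rc_23_0
abbrev lc_e_rc_23_2 : Cert rels S Gen.e := rc_23_2
abbrev lc_e_rc_24_0 : Cert rels S Gen.e := rc_24_0
abbrev lc_e_rc_24_2 : Cert rels S Gen.e := rc_24_2
abbrev lc_e_rc_32_25 : Cert rels S Gen.e := rc_32_25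
abbrev lc_e_rc_32_51 : Cert rels S Gen.e := rc_32_51
abbrev lc_e_rc_4_1 : Cert rels S Gen.e := rc_4_1
abbrev lc_e_rc_4_3 : Cert rels S Gen.e := rc_4_3
abbrev lc_e_sc_4_0 : Cert rels S Gen.e := sc_4_0
def ce_e_0 : D2 → D3 → (Cert rels S Gen.e) := @D2.rec (fun _ => D3 → (Cert rels S Gen.e)) (@D3.rec (fun _ => (Cert rels S Gen.e)) lc_e_sc_4_0 lc_e_rc_24_2 lc_e_rc_10_1 lc_e_rc_4_1 lc_e_rc_15_1 lc_e_rc_23_2 lc_e_rc_10_1 lc_e_rc_4_1 lc_e_Cert_tree lc_e_rc_23_2 lc_e_rc_15_1 lc_e_rc_10_1 lc_e_Cert_tree lc_e_Cert_tree lc_e_rc_22_0 lc_e_rc_23_2 lc_e_rc_10_1 lc_e_rc_15_1) (@D3.rec (fun _ => (Cert rels S Gen.e)) lc_e_Cert_tree lc_e_rc_4_1 lc_e_Cert_tree lc_e_rc_23_2 lc_e_rc_24_2 lc_e_Cert_tree lc_e_rc_22_0 lc_e_Cert_tree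 lc_e_rc_22_0 lc_e_rc_23_2 lc_e_rc_23_2 lc_e_rc_10_1 lc_e_rc_24_2 lc_e_Cert_tree lc_e_rc_23_2 lc_e_Cert_tree lc_e_rc_22_0 lc_e_Cert_tree) (@D3.rec (fun _ => (Cert rels S Gen.e)) lc_e_rc_4_1 lc_e_Cert_tree lc_e_rc_22_0 lc_e_rc_23_2 lc_e_rc_24_2 lc_e_rc_23_2 lc_e_Cert_tree lc_e_rc_22_0 lc_e_Cert_tree lc_e_rc_22_0 lc_e_rc_23_2 lc_e_rc_24_2 lc_e_rc_19_3 lc_e_rc_23_2 lc_e_rc_10_1 lc_e_rc_10_1 lc_e_rc_15_1 lc_e_Cert_tree) (@D3.rec (fun _ => (Cert rels S Gen.e)) lc_e_rc_22_0 lc_e_rc_23_2 lc_e_Cert_tree lc_e_rc_22_0 lc_e_rc_22_0 lc_e_rc_23_2 lc_e_Cert_tree lc_e_Cert_tree lc_e_rc_22_0 lc_e_rc_23_2 lc_e_rc_24_2 lc_e_rc_23_2 lc_e_rc_24_2 lc_e_rc_23_2 lc_e_rc_10_1 lc_e_Cert_tree lc_e_rc_22_0 lc_e_rc_23_2) (@D3.rec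 (fun _ => (Cert rels S Gen.e)) lc_e_rc_24_2 lc_e_rc_19_3 lc_e_rc_22_0 lc_e_rc_23_2 lc_e_rc_24_2 lc_e_rc_19_3 lc_e_rc_23_2 lc_e_rc_24_2 lc_e_rc_10_1 lc_e_rc_24_2 lc_e_rc_24_2 lc_e_rc_15_1 lc_e_rc_23_2 lc_e_rc_10_1 lc_e_rc_15_1 lc_e_Cert_tree lc_e_rc_22_0 lc_e_rc_23_2) (@D3.rec (fun _ => (Cert rels S Gen.e)) lc_e_rc_23_2 lc_e_rc_22_0 lc_e_rc_23_2 lc_e_rc_23_2 lc_e_rc_23_2 lc_e_Cert_tree lc_e_Cert_tree lc_e_rc_22_0 lc_e_rc_23_2 lc_e_rc_24_2 lc_e_Cert_tree lc_e_rc_22_0 lc_e_rc_23_2 lc_e_rc_19_3 lc_e_rc_23_2 lc_e_rc_24_2 lc_e_rc_10_1 lc_e_rc_23_2) (@D3.rec (fun _ => (Cert rels S Gen.e)) lc_e_rc_23_2 lc_e_rc_10_1 lc_e_rc_22_0 lc_e_rc_23_2 lc_e_rc_24_2 lc_e_rc_19_3 lc_e_rc_23_2 lc_e_rc_24_2 lc_e_rc_24_2 lc_e_rc_24_2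 lc_e_rc_15_1 lc_e_rc_4_1 lc_e_rc_23_2 lc_e_rc_24_2 lc_e_rc_10_1 lc_e_rc_15_1 lc_e_rc_23_2 lc_e_rc_24_2) (@D3.rec (fun _ => (Cert rels S Gen.e)) lc_e_rc_10_1 lc_e_rc_24_2 lc_e_rc_24_0 lc_e_rc_10_1 lc_e_rc_10_1 lc_e_rc_10_1 lc_e_rc_15_1 lc_e_rc_10_1 lc_e_rc_22_0 lc_e_rc_23_2 lc_e_rc_4_3 lc_e_rc_23_2 lc_e_rc_10_1 lc_e_rc_10_1 lc_e_rc_23_2 lc_e_rc_24_2 lc_e_rc_15_1 lc_e_Cert_tree) (@D3.rec (fun _ => (Cert rels S Gen.e)) lc_e_rc_22_0 lc_e_rc_23_2 lc_e_rc_24_2 lc_e_rc_22_0 lc_e_rc_23_2 lc_e_rc_24_2 lc_e_rc_19_3 lc_e_rc_23_2 lc_e_rc_24_2 lc_e_rc_10_1 lc_e_rc_24_2 lc_e_rc_24_2 lc_e_rc_22_0 lc_e_rc_19_3 lc_e_rc_23_2 lc_e_rc_10_1 lc_e_rc_15_1 lc_e_rc_23_2) (@D3.rec (fun _ => (Cert rels S Gen.e)) lc_e_rc_19_3 lc_e_rc_10_1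 lc_e_rc_23_2 lc_e_rc_4_1 lc_e_rc_24_2 lc_e_rc_10_1 lc_e_rc_10_1 lc_e_rc_15_1 lc_e_rc_4_1 lc_e_rc_23_2 lc_e_rc_24_2 lc_e_rc_10_1 lc_e_rc_15_1 lc_e_rc_23_2 lc_e_rc_24_2 lc_e_rc_24_2 lc_e_rc_24_0 lc_e_rc_10_1) (@D3.rec (fun _ => (Cert rels S Gen.e)) lc_e_rc_10_1 lc_e_rc_10_1 lc_e_rc_15_1 lc_e_rc_4_1 lc_e_rc_4_1 lc_e_rc_10_1 lc_e_rc_4_1 lc_e_rc_15_1 lc_e_rc_24_2 lc_e_rc_10_1 lc_e_Cert_tree lc_e_rc_15_1 lc_e_rc_15_1 lc_e_rc_23_2 lc_e_rc_24_2 lc_e_rc_4_3 lc_e_rc_10_1 lc_e_rc_10_1)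
def ce_e_1 : D2 → D3 → (Cert rels S Gen.e) := @D2.rec (fun _ => D3 → (Cert rels S Gen.e)) (@D3.rec (fun _ => (Cert rels S Gen.e)) lc_e_rc_4_1 lc_e_rc_15_1 lc_e_rc_23_2 lc_e_rc_15_1 lc_e_rc_24_2 lc_e_rc_4_1 lc_e_rc_23_2 lc_e_rc_24_2 lc_e_rc_10_1 lc_e_rc_15_1 lc_e_rc_4_1 lc_e_rc_23_2 lc_e_rc_10_1 lc_e_rc_15_1 lc_e_rc_23_2 lc_e_rc_10_1 lc_e_rc_4_1 lc_e_rc_24_2) (@D3.rec (fun _ => (Cert rels S Gen.e)) lc_e_rc_15_1 lc_e_rc_23_2 lc_e_rc_24_2 lc_e_rc_10_1 lc_e_rc_10_1 lc_e_rc_22_0 lc_e_rc_23_2 lc_e_rc_24_2 lc_e_rc_24_0 lc_e_rc_23_2 lc_e_rc_24_2 lc_e_rc_10_1 lc_e_rc_10_1 lc_e_rc_19_3 lc_e_rc_23_2 lc_e_rc_24_2 lc_e_rc_10_1 lc_e_rc_24_2) (@D3.rec (fun _ => (Cert rels S Gen.e)) lc_e_rc_4_3 lc_e_rc_15_1 lc_e_rc_23_2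 lc_e_rc_24_2 lc_e_rc_10_1 lc_e_rc_24_2 lc_e_rc_24_0 lc_e_rc_4_1 lc_e_rc_19_3 lc_e_rc_15_1 lc_e_rc_23_2 lc_e_rc_10_1 lc_e_rc_15_1 lc_e_rc_10_1 lc_e_rc_15_1 lc_e_rc_15_1 lc_e_rc_10_1 lc_e_rc_24_2) (@D3.rec (fun _ => (Cert rels S Gen.e)) lc_e_rc_4_1 lc_e_rc_24_2 lc_e_rc_10_1 lc_e_rc_10_1 lc_e_rc_23_2 lc_e_rc_4_1 lc_e_rc_15_1 lc_e_rc_15_1 lc_e_rc_19_1 lc_e_rc_15_1 lc_e_rc_4_1 lc_e_rc_4_1 lc_e_rc_10_1 lc_e_rc_4_1 lc_e_rc_15_1 lc_e_rc_24_2 lc_e_rc_10_1 lc_e_Cert_tree) (@D3.rec (fun _ => (Cert rels S Gen.e)) lc_e_rc_15_1 lc_e_rc_15_1 lc_e_rc_24_2 lc_e_rc_4_1 lc_e_rc_10_1 lc_e_rc_10_1 lc_e_rc_4_1 lc_e_rc_15_1 lc_e_rc_15_1 lc_e_rc_24_2 lc_e_rc_4_1 lc_e_rc_23_2 lc_e_rc_24_2 lc_e_rc_10_1 lc_e_Cert_tree lc_e_rc_15_1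 lc_e_rc_15_1 lc_e_rc_10_1) (@D3.rec (fun _ => (Cert rels S Gen.e)) lc_e_rc_4_1 lc_e_rc_15_1 lc_e_rc_24_2 lc_e_rc_10_1 lc_e_rc_4_1 lc_e_rc_19_1 lc_e_rc_24_2 lc_e_rc_4_1 lc_e_Cert_tree lc_e_rc_23_2 lc_e_rc_24_2 lc_e_rc_22_0 lc_e_rc_23_2 lc_e_rc_24_2 lc_e_rc_10_1 lc_e_rc_15_1 lc_e_rc_10_1 lc_e_rc_15_1) (@D3.rec (fun _ => (Cert rels S Gen.e)) lc_e_rc_23_2 lc_e_rc_10_1 lc_e_rc_10_1 lc_e_rc_4_1 lc_e_rc_15_1 lc_e_rc_23_2 lc_e_rc_15_1 lc_e_rc_24_2 lc_e_rc_4_1 lc_e_rc_19_1 lc_e_rc_23_2 lc_e_rc_24_0 lc_e_rc_24_2 lc_e_rc_10_1 lc_e_rc_4_1 lc_e_rc_4_1 lc_e_rc_10_1 lc_e_rc_24_2) (@D3.rec (fun _ => (Cert rels S Gen.e)) lc_e_rc_4_3 lc_e_rc_4_1 lc_e_rc_10_1 lc_e_rc_24_2 lc_e_rc_15_1 lc_e_rc_23_2 lc_e_rc_10_1 lc_e_rc_10_1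 lc_e_rc_23_2 lc_e_rc_10_1 lc_e_rc_4_1 lc_e_rc_24_2 lc_e_rc_10_1 lc_e_rc_19_3 lc_e_rc_23_2 lc_e_rc_24_2 lc_e_rc_10_1 lc_e_rc_4_1) (@D3.rec (fun _ => (Cert rels S Gen.e)) lc_e_rc_10_1 lc_e_rc_24_2 lc_e_rc_24_0 lc_e_rc_23_2 lc_e_rc_24_2 lc_e_rc_10_1 lc_e_rc_4_3 lc_e_rc_4_3 lc_e_rc_19_3 lc_e_rc_10_1 lc_e_rc_10_1 lc_e_rc_15_1 lc_e_rc_23_2 lc_e_rc_24_2 lc_e_rc_10_1 lc_e_rc_24_2 lc_e_rc_4_1 lc_e_rc_10_1) (@D3.rec (fun _ => (Cert rels S Gen.e)) lc_e_Cert_tree lc_e_rc_15_1 lc_e_rc_15_1 lc_e_rc_10_1 lc_e_rc_24_2 lc_e_rc_4_3 lc_e_rc_4_1 lc_e_rc_15_1 lc_e_rc_10_1 lc_e_rc_19_3 lc_e_rc_15_1 lc_e_rc_10_1 lc_e_rc_15_1 lc_e_rc_4_1 lc_e_rc_23_2 lc_e_rc_24_2 lc_e_rc_10_1 lc_e_rc_10_1) (@D3.rec (fun _ => (Cert rels S Gen.e))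 lc_e_rc_24_2 lc_e_rc_4_1 lc_e_rc_15_1 lc_e_rc_4_1 lc_e_rc_24_2 lc_e_rc_10_1 lc_e_rc_23_2 lc_e_rc_4_1 lc_e_rc_15_1 lc_e_rc_4_1 lc_e_rc_19_1 lc_e_rc_10_1 lc_e_Cert_tree lc_e_rc_15_1 lc_e_rc_15_1 lc_e_rc_10_1 lc_e_rc_4_1 lc_e_rc_15_1)
def ce_e_2 : D2 → D3 → (Cert rels S Gen.e) := @D2.rec (fun _ => D3 → (Cert rels S Gen.e)) (@D3.rec (fun _ => (Cert rels S Gen.e)) lc_e_rc_24_2 lc_e_rc_4_1 lc_e_Cert_tree lc_e_rc_23_2 lc_e_rc_24_2 lc_e_Cert_tree lc_e_rc_22_0 lc_e_rc_23_2 lc_e_rc_24_2 lc_e_rc_10_1 lc_e_rc_15_1 lc_e_rc_10_1 lc_e_rc_15_1 lc_e_rc_10_1 lc_e_rc_10_1 lc_e_rc_4_1 lc_e_rc_15_1 lc_e_rc_15_1) (@D3.rec (fun _ => (Cert rels S Gen.e)) lc_e_rc_24_2 lc_e_rc_19_1 lc_e_rc_24_2 lc_e_rc_10_1 lc_e_rc_4_1 lc_e_rc_4_1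 lc_e_rc_24_2 lc_e_rc_4_1 lc_e_rc_4_1 lc_e_Cert_tree lc_e_rc_23_2 lc_e_rc_24_2 lc_e_rc_22_0 lc_e_rc_23_2 lc_e_rc_24_2 lc_e_rc_10_1 lc_e_rc_10_1 lc_e_rc_4_1) (@D3.rec (fun _ => (Cert rels S Gen.e)) lc_e_rc_15_1 lc_e_rc_24_2 lc_e_rc_10_1 lc_e_rc_4_1 lc_e_rc_24_2 lc_e_rc_19_1 lc_e_rc_19_1 lc_e_rc_10_1 lc_e_rc_10_1 lc_e_Cert_tree lc_e_rc_4_1 lc_e_rc_4_1 lc_e_Cert_tree lc_e_rc_22_0 lc_e_rc_23_2 lc_e_rc_24_2 lc_e_rc_23_2 lc_e_rc_24_2) (@D3.rec (fun _ => (Cert rels S Gen.e)) lc_e_rc_24_2 lc_e_rc_4_3 lc_e_rc_23_2 lc_e_rc_24_2 lc_e_rc_10_1 lc_e_rc_24_2 lc_e_rc_10_1 lc_e_rc_4_3 lc_e_rc_4_1 lc_e_rc_10_1 lc_e_rc_24_2 lc_e_rc_10_1 lc_e_rc_4_1 lc_e_rc_15_1 lc_e_rc_23_2 lc_e_rc_15_1 lc_e_rc_24_2 lc_e_rc_4_1) (@D3.rec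 (fun _ => (Cert rels S Gen.e)) lc_e_rc_23_2 lc_e_rc_24_2 lc_e_rc_19_1 lc_e_rc_19_1 lc_e_rc_15_1 lc_e_rc_23_0 lc_e_rc_10_1 lc_e_rc_15_1 lc_e_rc_23_2 lc_e_rc_10_1 lc_e_rc_10_1 lc_e_rc_4_1 lc_e_rc_15_1 lc_e_rc_10_1 lc_e_rc_10_1 lc_e_rc_4_1 lc_e_rc_24_2 lc_e_rc_23_2) (@D3.rec (fun _ => (Cert rels S Gen.e)) lc_e_rc_10_1 lc_e_rc_19_3 lc_e_rc_23_2 lc_e_rc_10_1 lc_e_rc_24_2 lc_e_rc_23_2 lc_e_rc_4_1 lc_e_rc_10_1 lc_e_rc_10_1 lc_e_rc_15_1 lc_e_rc_24_2 lc_e_rc_4_1 lc_e_rc_19_3 lc_e_rc_15_1 lc_e_rc_24_2 lc_e_rc_19_3 lc_e_rc_19_3 lc_e_rc_10_1) (@D3.rec (fun _ => (Cert rels S Gen.e)) lc_e_rc_24_2 lc_e_rc_24_0 lc_e_rc_10_1 lc_e_rc_4_1 lc_e_rc_23_2 lc_e_rc_23_2 lc_e_rc_4_1 lc_e_rc_4_1 lc_e_rc_19_3 lc_e_rc_10_1 lc_e_rc_10_1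 lc_e_rc_4_3 lc_e_rc_4_3 lc_e_rc_10_1 lc_e_rc_19_3 lc_e_rc_10_1 lc_e_Cert_tree lc_e_rc_15_1) (@D3.rec (fun _ => (Cert rels S Gen.e)) lc_e_rc_15_1 lc_e_rc_10_1 lc_e_rc_24_2 lc_e_rc_4_1 lc_e_rc_4_1 lc_e_rc_24_2 lc_e_rc_23_2 lc_e_rc_24_2 lc_e_rc_22_0 lc_e_rc_23_2 lc_e_rc_10_1 lc_e_rc_10_1 lc_e_rc_15_1 lc_e_rc_10_1 lc_e_rc_15_1 lc_e_rc_4_1 lc_e_rc_15_1 lc_e_rc_10_1) (@D3.rec (fun _ => (Cert rels S Gen.e)) lc_e_rc_4_1 lc_e_rc_19_3 lc_e_rc_23_2 lc_e_rc_24_2 lc_e_rc_19_3 lc_e_rc_10_1 lc_e_rc_15_1 lc_e_rc_4_3 lc_e_rc_10_1 lc_e_rc_4_1 lc_e_rc_4_1 lc_e_rc_23_2 lc_e_rc_24_2 lc_e_rc_24_2 lc_e_rc_4_3 lc_e_rc_4_1 lc_e_rc_10_1 lc_e_rc_24_2) (@D3.rec (fun _ => (Cert rels S Gen.e)) lc_e_rc_4_1 lc_e_rc_23_2 lc_e_rc_10_1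 lc_e_rc_24_2 lc_e_rc_4_1 lc_e_Cert_tree lc_e_rc_4_1 lc_e_rc_4_1 lc_e_rc_23_2 lc_e_rc_24_2 lc_e_rc_4_1 lc_e_rc_19_1 lc_e_rc_4_1 lc_e_Cert_tree lc_e_rc_23_2 lc_e_rc_24_2 lc_e_rc_22_0 lc_e_rc_23_2) (@D3.rec (fun _ => (Cert rels S Gen.e)) lc_e_rc_24_2 lc_e_rc_10_1 lc_e_rc_10_1 lc_e_rc_4_1 lc_e_rc_15_1 lc_e_rc_24_2 lc_e_rc_4_1 lc_e_rc_10_1 lc_e_Cert_tree lc_e_rc_4_1 lc_e_rc_4_1 lc_e_Cert_tree lc_e_rc_22_0 lc_e_rc_23_2 lc_e_rc_24_2 lc_e_rc_23_2 lc_e_rc_24_2 lc_e_rc_24_2)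
def ce_e_3 : D2 → D3 → (Cert rels S Gen.e) := @D2.rec (fun _ => D3 → (Cert rels S Gen.e)) (@D3.rec (fun _ => (Cert rels S Gen.e)) lc_e_rc_4_1 lc_e_Cert_tree lc_e_rc_22_0 lc_e_rc_23_2 lc_e_rc_24_2 lc_e_rc_23_2 lc_e_rc_24_2 lc_e_rc_10_1 lc_e_rc_24_2 lc_e_rc_10_1 lc_e_rc_4_3 lc_e_rc_4_1 lc_e_rc_24_2 lc_e_rc_10_1 lc_e_rc_4_1 lc_e_rc_15_1 lc_e_rc_23_2 lc_e_rc_15_1) (@D3.rec (fun _ => (Cert rels S Gen.e)) lc_e_rc_24_2 lc_e_rc_24_2 lc_e_rc_15_1 lc_e_rc_19_1 lc_e_rc_15_1 lc_e_rc_10_1 lc_e_rc_10_1 lc_e_rc_10_1 lc_e_rc_10_1 lc_e_Cert_tree lc_e_rc_4_1 lc_e_rc_4_1 lc_e_Cert_tree lc_e_rc_22_0 lc_e_rc_23_2 lc_e_rc_23_2 lc_e_rc_24_2 lc_e_rc_24_2) (@D3.rec (fun _ => (Cert rels S Gen.e)) lc_e_rc_4_3 lc_e_rc_23_2 lc_e_rc_24_2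 lc_e_rc_10_1 lc_e_rc_10_1 lc_e_rc_4_1 lc_e_rc_10_1 lc_e_rc_24_2 lc_e_rc_4_1 lc_e_rc_23_2 lc_e_rc_4_1 lc_e_rc_4_1 lc_e_rc_24_2 lc_e_rc_10_1 lc_e_rc_19_1 lc_e_rc_4_1 lc_e_rc_15_1 lc_e_Cert_tree) (@D3.rec (fun _ => (Cert rels S Gen.e)) lc_e_rc_23_2 lc_e_rc_24_2 lc_e_Cert_tree lc_e_rc_22_0 lc_e_rc_23_2 lc_e_rc_24_2 lc_e_rc_10_1 lc_e_rc_22_0 lc_e_rc_23_2 lc_e_rc_23_2 lc_e_rc_24_2 lc_e_rc_10_1 lc_e_rc_24_2 lc_e_rc_10_1 lc_e_rc_24_2 lc_e_rc_4_1 lc_e_rc_15_1 lc_e_rc_24_2) (@D3.rec (fun _ => (Cert rels S Gen.e)) lc_e_rc_10_1 lc_e_rc_10_1 lc_e_rc_24_2 lc_e_rc_10_1 lc_e_rc_4_1 lc_e_rc_4_1 lc_e_rc_15_1 lc_e_rc_24_2 lc_e_rc_10_1 lc_e_rc_10_1 lc_e_rc_4_1 lc_e_rc_4_1 lc_e_rc_24_2 lc_e_rc_24_2 lc_e_rc_4_3 lc_e_rc_4_1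 lc_e_rc_10_1 lc_e_rc_23_2) (@D3.rec (fun _ => (Cert rels S Gen.e)) lc_e_rc_4_1 lc_e_rc_23_2 lc_e_rc_24_2 lc_e_rc_10_1 lc_e_rc_10_1 lc_e_rc_15_1 lc_e_rc_23_2 lc_e_rc_23_2 lc_e_rc_23_2 lc_e_rc_4_1 lc_e_rc_15_1 lc_e_rc_24_2 lc_e_rc_4_1 lc_e_rc_10_1 lc_e_rc_23_2 lc_e_rc_10_1 lc_e_rc_4_1 lc_e_rc_4_1) (@D3.rec (fun _ => (Cert rels S Gen.e)) lc_e_rc_15_1 lc_e_rc_23_2 lc_e_rc_4_1 lc_e_rc_15_1 lc_e_rc_23_2 lc_e_rc_10_1 lc_e_rc_23_2 lc_e_rc_10_1 lc_e_rc_19_3 lc_e_rc_23_2 lc_e_rc_19_3 lc_e_rc_10_1 lc_e_rc_15_1 lc_e_rc_4_1 lc_e_rc_23_2 lc_e_rc_4_1 lc_e_rc_4_1 lc_e_rc_15_1) (@D3.rec (fun _ => (Cert rels S Gen.e)) lc_e_rc_24_2 lc_e_rc_15_1 lc_e_Cert_tree lc_e_rc_15_1 lc_e_rc_10_1 lc_e_rc_4_1 lc_e_rc_4_1 lc_e_rc_15_1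 lc_e_rc_23_2 lc_e_rc_24_2 lc_e_rc_15_1 lc_e_rc_23_2 lc_e_rc_23_2 lc_e_rc_19_3 lc_e_rc_19_3 lc_e_rc_19_3 lc_e_rc_4_1 lc_e_rc_24_2) (@D3.rec (fun _ => (Cert rels S Gen.e)) lc_e_rc_10_1 lc_e_rc_24_0 lc_e_rc_4_1 lc_e_rc_15_1 lc_e_rc_23_2 lc_e_rc_10_1 lc_e_rc_23_2 lc_e_rc_10_1 lc_e_rc_10_1 lc_e_rc_4_3 lc_e_rc_4_1 lc_e_rc_4_1 lc_e_rc_19_3 lc_e_rc_4_1 lc_e_rc_23_2 lc_e_rc_10_1 lc_e_rc_15_1 lc_e_rc_4_1) (@D3.rec (fun _ => (Cert rels S Gen.e)) lc_e_rc_24_2 lc_e_rc_23_2 lc_e_rc_24_2 lc_e_rc_22_0 lc_e_rc_23_2 lc_e_rc_10_1 lc_e_rc_10_1 lc_e_rc_15_1 lc_e_rc_10_1 lc_e_rc_15_1 lc_e_rc_15_1 lc_e_rc_10_1 lc_e_rc_4_1 lc_e_rc_4_1 lc_e_rc_23_2 lc_e_rc_23_2 lc_e_rc_23_2 lc_e_rc_23_2) (@D3.rec (fun _ => (Cert rels S Gen.e))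 lc_e_rc_10_1 lc_e_rc_24_2 lc_e_rc_23_2 lc_e_rc_4_1 lc_e_rc_10_1 lc_e_rc_24_2 lc_e_rc_10_1 lc_e_rc_23_2 lc_e_rc_10_1 lc_e_rc_4_1 lc_e_Cert_tree lc_e_rc_4_1 lc_e_rc_23_2 lc_e_rc_24_2 lc_e_rc_10_1 lc_e_rc_4_1 lc_e_rc_4_1 lc_e_rc_4_1)
def ce_e_4 : D2 → D3 → (Cert rels S Gen.e) := @D2.rec (fun _ => D3 → (Cert rels S Gen.e)) (@D3.rec (fun _ => (Cert rels S Gen.e)) lc_e_rc_15_1 lc_e_rc_23_2 lc_e_rc_24_2 lc_e_rc_23_2 lc_e_rc_24_2 lc_e_rc_4_1 lc_e_rc_19_3 lc_e_rc_4_1 lc_e_rc_10_1 lc_e_rc_24_2 lc_e_Cert_tree lc_e_rc_15_1 lc_e_rc_10_3 lc_e_rc_10_3 lc_e_rc_23_2 lc_e_rc_10_1 lc_e_rc_4_1 lc_e_rc_23_2) (@D3.rec (fun _ => (Cert rels S Gen.e)) lc_e_rc_24_2 lc_e_rc_23_2 lc_e_rc_10_1 lc_e_rc_10_1 lc_e_rc_4_1 lc_e_rc_4_1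 lc_e_Cert_tree lc_e_rc_24_2 lc_e_rc_4_3 lc_e_rc_4_1 lc_e_rc_23_2 lc_e_rc_24_2 lc_e_rc_4_1 lc_e_rc_10_1 lc_e_rc_24_2 lc_e_rc_15_1 lc_e_rc_10_1 lc_e_Cert_tree) (@D3.rec (fun _ => (Cert rels S Gen.e)) lc_e_Cert_tree lc_e_rc_22_0 lc_e_rc_24_2 lc_e_rc_10_1 lc_e_rc_4_1 lc_e_rc_4_1 lc_e_rc_10_1 lc_e_Cert_tree lc_e_rc_4_1 lc_e_rc_4_1 lc_e_rc_24_2 lc_e_rc_22_0 lc_e_rc_23_2 lc_e_rc_23_0 lc_e_rc_23_2 lc_e_rc_24_2 lc_e_rc_24_2 lc_e_rc_4_1) (@D3.rec (fun _ => (Cert rels S Gen.e)) lc_e_rc_23_2 lc_e_rc_24_2 lc_e_rc_10_1 lc_e_rc_10_1 lc_e_rc_4_1 lc_e_rc_10_1 lc_e_rc_24_2 lc_e_rc_4_1 lc_e_rc_23_2 lc_e_rc_4_1 lc_e_rc_24_0 lc_e_rc_24_2 lc_e_rc_4_1 lc_e_rc_4_1 lc_e_rc_15_1 lc_e_rc_23_2 lc_e_rc_22_0 lc_e_rc_23_2) (@D3.rec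 (fun _ => (Cert rels S Gen.e)) lc_e_rc_4_1 lc_e_rc_22_0 lc_e_rc_10_1 lc_e_rc_23_2 lc_e_rc_24_2 lc_e_rc_10_1 lc_e_rc_10_1 lc_e_rc_23_2 lc_e_rc_4_1 lc_e_rc_24_2 lc_e_rc_10_1 lc_e_rc_4_3 lc_e_rc_22_0 lc_e_rc_23_2 lc_e_rc_4_1 lc_e_rc_23_2 lc_e_rc_24_2 lc_e_rc_10_1) (@D3.rec (fun _ => (Cert rels S Gen.e)) lc_e_rc_10_1 lc_e_rc_24_2 lc_e_rc_10_1 lc_e_rc_4_1 lc_e_rc_4_1 lc_e_rc_15_1 lc_e_rc_24_2 lc_e_rc_10_1 lc_e_rc_10_1 lc_e_rc_4_1 lc_e_rc_24_2 lc_e_rc_4_1 lc_e_rc_4_1 lc_e_rc_10_1 lc_e_rc_23_2 lc_e_rc_4_1 lc_e_rc_22_1 lc_e_rc_23_2) (@D3.rec (fun _ => (Cert rels S Gen.e)) lc_e_rc_24_2 lc_e_rc_15_1 lc_e_rc_4_1 lc_e_rc_15_1 lc_e_rc_24_2 lc_e_rc_4_1 lc_e_rc_23_2 lc_e_rc_4_1 lc_e_rc_15_1 lc_e_rc_23_2 lc_e_rc_23_2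 lc_e_Cert_tree lc_e_Cert_tree lc_e_rc_22_0 lc_e_rc_23_2 lc_e_rc_22_0 lc_e_rc_23_2 lc_e_rc_23_2) (@D3.rec (fun _ => (Cert rels S Gen.e)) lc_e_rc_10_1 lc_e_rc_24_2 lc_e_rc_4_1 lc_e_rc_23_2 lc_e_rc_24_2 lc_e_rc_23_2 lc_e_rc_10_1 lc_e_rc_10_1 lc_e_rc_10_1 lc_e_rc_4_1 lc_e_rc_15_1 lc_e_rc_24_2 lc_e_rc_4_1 lc_e_rc_23_2 lc_e_rc_10_1 lc_e_rc_4_1 lc_e_rc_4_1 lc_e_rc_10_1) (@D3.rec (fun _ => (Cert rels S Gen.e)) lc_e_rc_24_2 lc_e_rc_4_3 lc_e_rc_4_1 lc_e_rc_15_1 lc_e_rc_10_1 lc_e_Cert_tree lc_e_rc_10_1 lc_e_rc_4_3 lc_e_rc_22_1 lc_e_rc_22_0 lc_e_rc_23_2 lc_e_rc_24_2 lc_e_rc_23_2 lc_e_Cert_tree lc_e_rc_22_0 lc_e_rc_23_2 lc_e_rc_23_2 lc_e_rc_24_2) (@D3.rec (fun _ => (Cert rels S Gen.e)) lc_e_rc_10_1 lc_e_rc_23_2 lc_e_rc_23_2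 lc_e_rc_10_1 lc_e_rc_24_2 lc_e_rc_10_1 lc_e_rc_24_2 lc_e_rc_10_1 lc_e_rc_24_0 lc_e_rc_4_1 lc_e_rc_15_1 lc_e_rc_24_2 lc_e_rc_10_1 lc_e_rc_4_1 lc_e_rc_24_2 lc_e_rc_4_1 lc_e_rc_23_0 lc_e_rc_15_1) (@D3.rec (fun _ => (Cert rels S Gen.e)) lc_e_rc_23_2 lc_e_rc_4_1 lc_e_rc_15_1 lc_e_rc_24_2 lc_e_rc_10_1 lc_e_rc_10_1 lc_e_rc_4_1 lc_e_rc_4_1 lc_e_rc_24_2 lc_e_rc_4_1 lc_e_rc_15_1 lc_e_rc_10_1 lc_e_rc_4_1 lc_e_rc_4_3 lc_e_rc_4_1 lc_e_rc_24_2 lc_e_rc_23_2 lc_e_rc_10_1)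
def ce_e_5 : D2 → D3 → (Cert rels S Gen.e) := @D2.rec (fun _ => D3 → (Cert rels S Gen.e)) (@D3.rec (fun _ => (Cert rels S Gen.e)) lc_e_rc_4_1 lc_e_rc_4_1 lc_e_rc_10_1 lc_e_rc_23_2 lc_e_rc_10_1 lc_e_rc_23_2 lc_e_rc_10_1 lc_e_rc_4_1 lc_e_rc_23_2 lc_e_rc_10_1 lc_e_rc_4_1 lc_e_Cert_tree lc_e_rc_10_1 lc_e_rc_32_25 lc_e_rc_4_1 lc_e_rc_23_2 lc_e_rc_24_2 lc_e_rc_4_1) (@D3.rec (fun _ => (Cert rels S Gen.e)) lc_e_rc_15_1 lc_e_rc_23_2 lc_e_rc_4_1 lc_e_rc_10_1 lc_e_rc_4_1 lc_e_rc_4_3 lc_e_rc_23_2 lc_e_rc_4_1 lc_e_rc_23_0 lc_e_rc_23_2 lc_e_rc_4_1 lc_e_rc_23_2 lc_e_rc_24_2 lc_e_rc_10_1 lc_e_rc_4_1 lc_e_rc_15_1 lc_e_rc_24_2 lc_e_rc_23_2) (@D3.rec (fun _ => (Cert rels S Gen.e)) lc_e_rc_19_3 lc_e_rc_4_1 lc_e_rc_15_1 lc_e_rc_24_2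 lc_e_Cert_tree lc_e_rc_10_1 lc_e_rc_4_1 lc_e_rc_23_2 lc_e_rc_24_2 lc_e_rc_10_1 lc_e_rc_10_1 lc_e_rc_4_1 lc_e_rc_4_1 lc_e_Cert_tree lc_e_rc_24_2 lc_e_rc_4_3 lc_e_rc_22_0 lc_e_rc_24_2) (@D3.rec (fun _ => (Cert rels S Gen.e)) lc_e_rc_15_1 lc_e_rc_4_1 lc_e_rc_23_2 lc_e_rc_4_1 lc_e_rc_10_1 lc_e_rc_23_2 lc_e_rc_4_3 lc_e_rc_23_2 lc_e_rc_4_1 lc_e_rc_24_2 lc_e_rc_10_1 lc_e_rc_10_1 lc_e_rc_23_2 lc_e_rc_19_3 lc_e_rc_4_1 lc_e_rc_15_1 lc_e_rc_24_2 lc_e_rc_10_1) (@D3.rec (fun _ => (Cert rels S Gen.e)) lc_e_rc_4_1 lc_e_rc_24_2 lc_e_rc_4_1 lc_e_rc_4_1 lc_e_rc_10_1 lc_e_rc_23_2 lc_e_rc_24_2 lc_e_rc_4_1 lc_e_rc_24_2 lc_e_rc_23_2 lc_e_rc_23_2 lc_e_rc_4_1 lc_e_rc_15_1 lc_e_rc_4_1 lc_e_rc_23_2 lc_e_rc_4_1 lc_e_rc_15_1 lc_e_rc_24_2)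 (@D3.rec (fun _ => (Cert rels S Gen.e)) lc_e_rc_4_1 lc_e_rc_10_1 lc_e_rc_23_2 lc_e_rc_4_3 lc_e_rc_19_3 lc_e_rc_10_1 lc_e_rc_4_1 lc_e_rc_10_1 lc_e_rc_19_3 lc_e_rc_4_1 lc_e_rc_4_1 lc_e_rc_24_2 lc_e_rc_23_2 lc_e_rc_23_2 lc_e_rc_23_2 lc_e_rc_23_2 lc_e_rc_10_1 lc_e_rc_24_2) (@D3.rec (fun _ => (Cert rels S Gen.e)) lc_e_rc_23_2 lc_e_rc_4_1 lc_e_rc_10_1 lc_e_rc_24_2 lc_e_rc_10_1 lc_e_rc_23_2 lc_e_rc_10_1 lc_e_Cert_tree lc_e_rc_23_2 lc_e_rc_4_1 lc_e_rc_4_1 lc_e_rc_10_1 lc_e_rc_10_1 lc_e_rc_24_2 lc_e_rc_4_1 lc_e_rc_15_1 lc_e_rc_23_0 lc_e_rc_10_1) (@D3.rec (fun _ => (Cert rels S Gen.e)) lc_e_rc_23_2 lc_e_rc_10_1 lc_e_rc_4_1 lc_e_rc_4_1 lc_e_rc_24_2 lc_e_rc_23_2 lc_e_rc_4_1 lc_e_rc_10_1 lc_e_Cert_tree lc_e_rc_22_0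 lc_e_rc_4_1 lc_e_rc_23_2 lc_e_rc_23_2 lc_e_rc_4_1 lc_e_rc_10_1 lc_e_rc_19_3 lc_e_rc_23_2 lc_e_rc_23_2) (@D3.rec (fun _ => (Cert rels S Gen.e)) lc_e_rc_4_1 lc_e_rc_23_2 lc_e_rc_24_2 lc_e_rc_10_1 lc_e_rc_4_1 lc_e_rc_15_1 lc_e_rc_24_2 lc_e_rc_10_1 lc_e_rc_4_1 lc_e_rc_4_1 lc_e_Cert_tree lc_e_rc_24_2 lc_e_rc_4_1 lc_e_rc_22_0 lc_e_Cert_tree lc_e_rc_23_2 lc_e_rc_15_1 lc_e_rc_23_2) (@D3.rec (fun _ => (Cert rels S Gen.e)) lc_e_rc_23_2 lc_e_rc_4_1 lc_e_rc_15_1 lc_e_rc_24_2 lc_e_rc_4_1 lc_e_rc_23_2 lc_e_rc_4_1 lc_e_rc_15_1 lc_e_rc_10_3 lc_e_rc_4_1 lc_e_rc_15_1 lc_e_rc_24_2 lc_e_rc_10_1 lc_e_rc_4_3 lc_e_rc_4_1 lc_e_rc_10_1 lc_e_rc_22_0 lc_e_rc_24_2) (@D3.rec (fun _ => (Cert rels S Gen.e)) lc_e_rc_24_2 lc_e_rc_15_1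 lc_e_rc_19_3 lc_e_rc_10_1 lc_e_rc_24_2 lc_e_rc_23_2 lc_e_rc_4_1 lc_e_rc_23_2 lc_e_rc_10_1 lc_e_rc_4_1 lc_e_rc_4_1 lc_e_rc_10_1 lc_e_rc_24_2 lc_e_rc_15_1 lc_e_rc_10_1 lc_e_rc_4_1 lc_e_Cert_tree lc_e_rc_23_2)
def ce_e_6 : D2 → D3 → (Cert rels S Gen.e) := @D2.rec (fun _ => D3 → (Cert rels S Gen.e)) (@D3.rec (fun _ => (Cert rels S Gen.e)) lc_e_rc_24_2 lc_e_rc_22_0 lc_e_rc_22_0 lc_e_rc_24_2 lc_e_rc_10_1 lc_e_rc_23_2 lc_e_rc_4_1 lc_e_rc_23_2 lc_e_rc_10_1 lc_e_rc_15_3 lc_e_rc_22_0 lc_e_rc_23_2 lc_e_rc_10_1 lc_e_rc_4_3 lc_e_rc_23_2 lc_e_rc_10_1 lc_e_rc_15_1 lc_e_rc_4_1) (@D3.rec (fun _ => (Cert rels S Gen.e)) lc_e_rc_23_2 lc_e_rc_24_2 lc_e_rc_23_2 lc_e_rc_10_1 lc_e_rc_10_1 lc_e_rc_4_1 lc_e_rc_15_1 lc_e_rc_24_2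 lc_e_rc_32_25 lc_e_rc_23_2 lc_e_rc_10_1 lc_e_rc_4_1 lc_e_rc_4_1 lc_e_Cert_tree lc_e_rc_24_2 lc_e_rc_4_1 lc_e_rc_4_1 lc_e_rc_10_1) (@D3.rec (fun _ => (Cert rels S Gen.e)) lc_e_rc_24_0 lc_e_rc_10_3 lc_e_rc_10_1 lc_e_rc_10_1 lc_e_rc_24_0 lc_e_rc_23_2 lc_e_rc_10_1 lc_e_rc_10_1 lc_e_rc_23_2 lc_e_rc_4_1 lc_e_rc_15_1 lc_e_rc_10_1 lc_e_rc_4_1 lc_e_rc_19_3 lc_e_rc_4_1 lc_e_rc_15_1 lc_e_rc_24_2 lc_e_rc_10_1) (@D3.rec (fun _ => (Cert rels S Gen.e)) lc_e_rc_4_1 lc_e_rc_4_1 lc_e_rc_24_2 lc_e_rc_24_2 lc_e_rc_4_3 lc_e_rc_4_1 lc_e_rc_15_1 lc_e_rc_23_2 lc_e_rc_4_1 lc_e_rc_24_2 lc_e_rc_23_2 lc_e_rc_10_1 lc_e_rc_4_1 lc_e_rc_4_1 lc_e_rc_10_3 lc_e_rc_23_2 lc_e_rc_10_1 lc_e_rc_15_1) (@D3.rec (fun _ => (Cert rels S Gen.e)) lc_e_rc_22_0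 lc_e_rc_10_1 lc_e_rc_10_1 lc_e_rc_4_1 lc_e_rc_24_0 lc_e_rc_10_1 lc_e_rc_4_1 lc_e_rc_23_2 lc_e_rc_23_2 lc_e_rc_10_3 lc_e_rc_22_0 lc_e_rc_22_0 lc_e_rc_23_2 lc_e_rc_23_2 lc_e_rc_10_1 lc_e_rc_10_1 lc_e_rc_24_2 lc_e_rc_4_1) (@D3.rec (fun _ => (Cert rels S Gen.e)) lc_e_rc_15_1 lc_e_rc_4_1 lc_e_rc_15_1 lc_e_rc_24_2 lc_e_rc_4_1 lc_e_rc_23_2 lc_e_rc_10_1 lc_e_rc_4_1 lc_e_rc_24_0 lc_e_rc_10_1 lc_e_rc_10_1 lc_e_rc_4_1 lc_e_rc_4_1 lc_e_rc_10_1 lc_e_rc_4_3 lc_e_rc_22_0 lc_e_rc_10_1 lc_e_rc_4_3) (@D3.rec (fun _ => (Cert rels S Gen.e)) lc_e_rc_10_1 lc_e_rc_23_2 lc_e_rc_24_2 lc_e_rc_23_2 lc_e_rc_23_2 lc_e_rc_22_0 lc_e_rc_23_2 lc_e_rc_23_2 lc_e_rc_10_1 lc_e_rc_24_2 lc_e_rc_15_1 lc_e_rc_10_1 lc_e_rc_4_1 lc_e_rc_15_1 lc_e_rc_24_2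 lc_e_rc_10_1 lc_e_rc_4_1 lc_e_rc_23_0) (@D3.rec (fun _ => (Cert rels S Gen.e)) lc_e_rc_15_1 lc_e_rc_23_2 lc_e_rc_10_1 lc_e_rc_24_2 lc_e_rc_10_1 lc_e_rc_23_0 lc_e_rc_4_3 lc_e_rc_23_2 lc_e_rc_10_1 lc_e_rc_4_1 lc_e_rc_4_1 lc_e_rc_4_1 lc_e_rc_24_2 lc_e_rc_4_1 lc_e_rc_15_1 lc_e_rc_15_1 lc_e_rc_10_1 lc_e_rc_4_1) (@D3.rec (fun _ => (Cert rels S Gen.e)) lc_e_rc_4_1 lc_e_rc_24_2 lc_e_rc_10_1 lc_e_rc_4_1 lc_e_rc_24_2 lc_e_rc_24_2 lc_e_rc_10_1 lc_e_rc_23_0 lc_e_rc_4_1 lc_e_rc_10_1 lc_e_rc_4_1 lc_e_rc_23_2 lc_e_rc_4_1 lc_e_rc_4_1 lc_e_rc_4_1 lc_e_rc_15_1 lc_e_rc_4_1 lc_e_Cert_tree) (@D3.rec (fun _ => (Cert rels S Gen.e)) lc_e_rc_22_0 lc_e_rc_4_1 lc_e_rc_23_2 lc_e_rc_24_2 lc_e_rc_4_1 lc_e_rc_4_1 lc_e_rc_15_1 lc_e_Cert_tree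 lc_e_rc_23_2 lc_e_rc_4_1 lc_e_rc_10_1 lc_e_rc_23_2 lc_e_rc_24_2 lc_e_rc_4_3 lc_e_rc_15_1 lc_e_rc_10_1 lc_e_rc_4_1 lc_e_rc_24_2) (@D3.rec (fun _ => (Cert rels S Gen.e)) lc_e_rc_4_3 lc_e_rc_4_1 lc_e_Cert_tree lc_e_rc_24_2 lc_e_rc_4_1 lc_e_rc_23_2 lc_e_rc_24_2 lc_e_rc_4_1 lc_e_rc_10_1 lc_e_rc_4_1 lc_e_rc_4_1 lc_e_Cert_tree lc_e_rc_24_2 lc_e_rc_4_1 lc_e_rc_22_0 lc_e_rc_4_1 lc_e_rc_10_1 lc_e_rc_4_1)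
def ce_e_7 : D2 → D3 → (Cert rels S Gen.e) := @D2.rec (fun _ => D3 → (Cert rels S Gen.e)) (@D3.rec (fun _ => (Cert rels S Gen.e)) lc_e_rc_10_3 lc_e_rc_4_1 lc_e_rc_10_3 lc_e_rc_15_1 lc_e_rc_23_2 lc_e_rc_4_1 lc_e_Cert_tree lc_e_rc_22_0 lc_e_rc_10_1 lc_e_rc_24_2 lc_e_rc_4_1 lc_e_rc_10_1 lc_e_rc_4_1 lc_e_rc_23_2 lc_e_rc_24_2 lc_e_rc_15_1 lc_e_rc_24_2 lc_e_rc_19_3) (@D3.rec (fun _ => (Cert rels S Gen.e)) lc_e_rc_24_2 lc_e_rc_10_1 lc_e_rc_10_1 lc_e_rc_24_0 lc_e_rc_4_1 lc_e_rc_15_1 lc_e_rc_4_1 lc_e_rc_4_1 lc_e_rc_24_2 lc_e_rc_10_1 lc_e_rc_4_1 lc_e_rc_24_2 lc_e_rc_10_1 lc_e_rc_4_1 lc_e_rc_10_1 lc_e_rc_23_2 lc_e_rc_24_2 lc_e_rc_10_1) (@D3.rec (fun _ => (Cert rels S Gen.e)) lc_e_rc_4_1 lc_e_rc_23_2 lc_e_Cert_tree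 lc_e_rc_4_1 lc_e_rc_24_2 lc_e_rc_4_1 lc_e_Cert_tree lc_e_rc_24_2 lc_e_rc_4_1 lc_e_rc_15_1 lc_e_rc_23_2 lc_e_rc_10_1 lc_e_rc_23_2 lc_e_rc_15_1 lc_e_rc_23_2 lc_e_rc_4_1 lc_e_rc_4_1 lc_e_rc_10_1) (@D3.rec (fun _ => (Cert rels S Gen.e)) lc_e_rc_10_1 lc_e_rc_24_2 lc_e_rc_4_1 lc_e_rc_15_1 lc_e_rc_23_0 lc_e_rc_10_1 lc_e_rc_23_2 lc_e_rc_10_1 lc_e_rc_4_1 lc_e_rc_4_1 lc_e_rc_24_2 lc_e_rc_23_2 lc_e_rc_4_1 lc_e_rc_22_0 lc_e_rc_4_1 lc_e_rc_4_1 lc_e_rc_10_3 lc_e_rc_24_2) (@D3.rec (fun _ => (Cert rels S Gen.e)) lc_e_rc_15_1 lc_e_rc_10_1 lc_e_rc_10_1 lc_e_rc_4_1 lc_e_rc_23_2 lc_e_rc_15_1 lc_e_rc_10_1 lc_e_rc_4_1 lc_e_rc_4_1 lc_e_rc_4_1 lc_e_Cert_tree lc_e_rc_23_2 lc_e_rc_19_1 lc_e_rc_22_0 lc_e_rc_10_1 lc_e_rc_23_2 lc_e_rc_23_2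 lc_e_rc_4_1) (@D3.rec (fun _ => (Cert rels S Gen.e)) lc_e_rc_4_1 lc_e_rc_15_1 lc_e_rc_24_2 lc_e_rc_15_1 lc_e_rc_24_2 lc_e_rc_4_1 lc_e_rc_23_2 lc_e_rc_4_1 lc_e_rc_15_1 lc_e_rc_15_1 lc_e_rc_4_1 lc_e_rc_15_1 lc_e_rc_10_1 lc_e_rc_10_1 lc_e_rc_4_1 lc_e_rc_10_1 lc_e_Cert_tree lc_e_rc_22_0) (@D3.rec (fun _ => (Cert rels S Gen.e)) lc_e_rc_24_2 lc_e_rc_15_1 lc_e_rc_22_0 lc_e_rc_10_1 lc_e_rc_10_1 lc_e_rc_10_1 lc_e_rc_23_2 lc_e_rc_24_2 lc_e_rc_10_1 lc_e_rc_10_1 lc_e_rc_10_1 lc_e_rc_4_1 lc_e_rc_4_1 lc_e_rc_23_2 lc_e_rc_10_1 lc_e_rc_4_1 lc_e_rc_19_1 lc_e_rc_23_2) (@D3.rec (fun _ => (Cert rels S Gen.e)) lc_e_rc_4_1 lc_e_rc_15_1 lc_e_rc_4_1 lc_e_rc_10_1 lc_e_rc_4_1 lc_e_rc_10_1 lc_e_rc_4_1 lc_e_rc_24_2 lc_e_rc_10_1 lc_e_rc_4_1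 lc_e_rc_4_3 lc_e_rc_4_1 lc_e_rc_10_1 lc_e_rc_4_1 lc_e_rc_4_1 lc_e_rc_15_1 lc_e_rc_4_1 lc_e_rc_24_2) (@D3.rec (fun _ => (Cert rels S Gen.e)) lc_e_rc_4_1 lc_e_rc_10_1 lc_e_rc_4_1 lc_e_rc_4_1 lc_e_rc_24_2 lc_e_rc_4_1 lc_e_rc_4_3 lc_e_rc_4_1 lc_e_rc_4_1 lc_e_rc_10_3 lc_e_rc_22_0 lc_e_rc_10_3 lc_e_rc_24_2 lc_e_rc_24_2 lc_e_rc_4_3 lc_e_rc_10_1 lc_e_rc_23_2 lc_e_rc_10_1) (@D3.rec (fun _ => (Cert rels S Gen.e)) lc_e_rc_10_1 lc_e_rc_10_1 lc_e_rc_4_1 lc_e_rc_23_2 lc_e_rc_24_2 lc_e_rc_4_1 lc_e_rc_23_2 lc_e_rc_10_1 lc_e_rc_23_2 lc_e_rc_24_2 lc_e_rc_4_1 lc_e_rc_15_1 lc_e_rc_4_1 lc_e_rc_15_1 lc_e_rc_24_2 lc_e_rc_4_1 lc_e_rc_4_1 lc_e_rc_10_1) (@D3.rec (fun _ => (Cert rels S Gen.e)) lc_e_rc_24_2 lc_e_rc_10_1 lc_e_rc_4_3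 lc_e_rc_4_1 lc_e_rc_23_2 lc_e_rc_22_0 lc_e_rc_23_0 lc_e_rc_22_1 lc_e_rc_4_1 lc_e_rc_10_1 lc_e_rc_10_1 lc_e_rc_24_2 lc_e_rc_4_1 lc_e_rc_15_1 lc_e_rc_4_1 lc_e_rc_4_1 lc_e_rc_24_2 lc_e_rc_4_1)
def ce_e_8 : D2 → D3 → (Cert rels S Gen.e) := @D2.rec (fun _ => D3 → (Cert rels S Gen.e)) (@D3.rec (fun _ => (Cert rels S Gen.e)) lc_e_rc_15_1 lc_e_rc_10_1 lc_e_rc_10_1 lc_e_rc_23_2 lc_e_rc_4_1 lc_e_rc_4_3 lc_e_rc_4_1 lc_e_rc_24_2 lc_e_rc_23_2 lc_e_rc_24_2 lc_e_rc_4_1 lc_e_rc_4_1 lc_e_rc_15_1 lc_e_rc_23_2 lc_e_rc_10_1 lc_e_rc_10_1 lc_e_rc_4_1 lc_e_rc_22_1) (@D3.rec (fun _ => (Cert rels S Gen.e)) lc_e_rc_10_1 lc_e_rc_4_1 lc_e_rc_15_1 lc_e_rc_19_1 lc_e_rc_24_2 lc_e_rc_10_1 lc_e_rc_10_3 lc_e_rc_4_1 lc_e_rc_15_1 lc_e_rc_22_0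 lc_e_rc_23_2 lc_e_rc_23_2 lc_e_rc_15_1 lc_e_rc_10_1 lc_e_rc_10_1 lc_e_rc_15_1 lc_e_rc_4_1 lc_e_rc_15_1) (@D3.rec (fun _ => (Cert rels S Gen.e)) lc_e_rc_4_1 lc_e_rc_23_2 lc_e_rc_15_1 lc_e_rc_23_2 lc_e_rc_15_1 lc_e_rc_10_1 lc_e_rc_4_1 lc_e_rc_15_1 lc_e_rc_4_1 lc_e_rc_24_2 lc_e_rc_10_1 lc_e_rc_4_1 lc_e_rc_10_1 lc_e_rc_23_2 lc_e_rc_10_1 lc_e_rc_10_3 lc_e_rc_10_1 lc_e_rc_10_3) (@D3.rec (fun _ => (Cert rels S Gen.e)) lc_e_rc_22_0 lc_e_rc_4_1 lc_e_rc_4_1 lc_e_rc_10_1 lc_e_Cert_tree lc_e_rc_4_1 lc_e_rc_4_1 lc_e_rc_19_3 lc_e_rc_10_3 lc_e_rc_19_1 lc_e_rc_22_0 lc_e_rc_22_0 lc_e_rc_24_2 lc_e_rc_10_1 lc_e_rc_10_1 lc_e_rc_10_1 lc_e_rc_10_1 lc_e_rc_15_1) (@D3.rec (fun _ => (Cert rels S Gen.e)) lc_e_rc_4_3 lc_e_rc_10_1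 lc_e_rc_4_1 lc_e_rc_10_1 lc_e_rc_24_2 lc_e_rc_22_0 lc_e_rc_10_1 lc_e_rc_4_1 lc_e_rc_15_1 lc_e_rc_22_0 lc_e_rc_10_1 lc_e_rc_10_1 lc_e_rc_10_1 lc_e_rc_10_1 lc_e_rc_4_1 lc_e_rc_15_1 lc_e_rc_22_0 lc_e_rc_23_2) (@D3.rec (fun _ => (Cert rels S Gen.e)) lc_e_rc_10_3 lc_e_rc_10_1 lc_e_rc_23_2 lc_e_rc_10_1 lc_e_rc_4_1 lc_e_rc_24_2 lc_e_rc_10_1 lc_e_rc_4_1 lc_e_rc_4_3 lc_e_rc_10_1 lc_e_rc_32_25 lc_e_rc_32_25 lc_e_rc_22_0 lc_e_rc_22_0 lc_e_rc_23_2 lc_e_rc_15_1 lc_e_rc_10_1 lc_e_rc_4_1) (@D3.rec (fun _ => (Cert rels S Gen.e)) lc_e_rc_10_1 lc_e_rc_24_2 lc_e_rc_15_1 lc_e_rc_4_1 lc_e_rc_15_1 lc_e_rc_23_0 lc_e_rc_19_3 lc_e_rc_4_1 lc_e_rc_23_2 lc_e_rc_4_1 lc_e_rc_15_1 lc_e_rc_10_1 lc_e_rc_10_3 lc_e_rc_22_0 lc_e_rc_24_2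 lc_e_rc_4_3 lc_e_rc_23_2 lc_e_rc_10_1) (@D3.rec (fun _ => (Cert rels S Gen.e)) lc_e_rc_4_1 lc_e_rc_15_1 lc_e_rc_23_2 lc_e_rc_22_0 lc_e_rc_24_2 lc_e_rc_22_0 lc_e_rc_23_2 lc_e_rc_4_1 lc_e_rc_10_1 lc_e_rc_15_1 lc_e_rc_10_1 lc_e_rc_32_51 lc_e_rc_10_1 lc_e_rc_23_2 lc_e_rc_4_1 lc_e_rc_10_1 lc_e_rc_4_1 lc_e_rc_10_1) (@D3.rec (fun _ => (Cert rels S Gen.e)) lc_e_rc_10_1 lc_e_rc_19_3 lc_e_rc_10_1 lc_e_rc_23_2 lc_e_rc_24_2 lc_e_rc_19_1 lc_e_rc_23_2 lc_e_rc_24_2 lc_e_rc_4_3 lc_e_rc_24_2 lc_e_rc_4_1 lc_e_rc_23_2 lc_e_rc_10_1 lc_e_rc_15_1 lc_e_rc_4_1 lc_e_rc_4_1 lc_e_rc_23_2 lc_e_rc_23_2) (@D3.rec (fun _ => (Cert rels S Gen.e)) lc_e_rc_4_1 lc_e_rc_10_1 lc_e_rc_15_1 lc_e_rc_32_51 lc_e_rc_10_1 lc_e_rc_15_1 lc_e_rc_4_1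 lc_e_rc_15_1 lc_e_rc_10_1 lc_e_rc_10_1 lc_e_rc_15_1 lc_e_rc_10_1 lc_e_rc_15_1 lc_e_rc_10_1 lc_e_rc_15_1 lc_e_rc_4_1 lc_e_rc_4_1 lc_e_rc_19_1) (@D3.rec (fun _ => (Cert rels S Gen.e)) lc_e_rc_19_1 lc_e_rc_23_2 lc_e_rc_22_0 lc_e_rc_32_51 lc_e_rc_24_2 lc_e_rc_22_0 lc_e_rc_24_2 lc_e_rc_32_25 lc_e_rc_15_1 lc_e_rc_10_1 lc_e_rc_10_1 lc_e_rc_10_1 lc_e_rc_15_1 lc_e_rc_15_1 lc_e_rc_19_3 lc_e_rc_10_1 lc_e_rc_10_1 lc_e_rc_10_1)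
def ce_e : Pt → (Cert rels S Gen.e) := @Pt.rec (fun _ => (Cert rels S Gen.e)) (@D1.rec (fun _ => D2 → D3 → (Cert rels S Gen.e)) ce_e_0 ce_e_1 ce_e_2 ce_e_3 ce_e_4 ce_e_5 ce_e_6 ce_e_7 ce_e_8)
def isSeed_e (p : Pt) : Bool := false

end

end Cfsg.Agent.Helper28.S1680
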