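import Cfsg.Agent.Lib.Helper28.S1680.Tree

set_option autoImplicit false
set_option maxRecDepth 100000
set_option linter.all false

namespace Cfsg.Agent.Helper28.S1680

open Cfsg.Agent.Helper28
open Cfsg.Spor.Suz (Gen)

noncomputable section

def lv_f_0 : D2 → D3 → Nat := @D2.rec (fun _ => D3 → Nat) (@D3.rec (fun _ => Nat) 1 2 0 17 0 1 18 19 0 1 18 0 19 0 0 1 4 0) (@D3.rec (fun _ => Nat) 20 0 0 1 0 21 21 0 0 1 1 5 21 0 1 20 20 0) (@D3.rec (fun _ => Nat) 1 0 0 1 0 1 0 21 0 0 1 0 0 1 2 6 6 0) (@D3.rec (fun _ => Nat) 0 1 0 22 0 1 0 0 0 1 0 1 0 1 6 0 0 1) (@D3.rec (fun _ => Nat) 0 23 0 1 2 0 1 0 2 3 1 0 1 3 7 0 0 1) (@D3.rec (fun _ => Nat) 1 0 1 22 1 0 0 0 1 0 55 0 1 0 1 0 2 1) (@D3.rec (fun _ => Nat) 1 7 0 1 2 0 1 0 3 1 23 0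 1 5 51 0 1 0) (@D3.rec (fun _ => Nat) 3 5 1 0 7 0 1 4 0 1 0 1 2 0 1 54 22 0) (@D3.rec (fun _ => Nat) 0 1 2 0 1 0 0 1 0 2 3 1 55 0 1 3 0 1) (@D3.rec (fun _ => Nat) 0 3 1 3 0 50 8 8 0 1 5 55 0 1 0 5 1 58) (@D3.rec (fun _ => Nat) 8 0 0 1 5 51 51 51 59 0 0 1 0 4 5 1 0 8)
def lv_f_1 : D2 → D3 → Nat := @D2.rec (fun _ => D3 → Nat) (@D3.rec (fun _ => Nat) 57 0 1 8 57 0 1 0 2 5 0 1 2 0 1 3 53 58) (@D3.rec (fun _ => Nat) 0 1 56 55 0 0 1 47 0 1 5 54 57 0 1 0 3 46) (@D3.rec (fun _ => Nat) 1 0 1 0 3 5 1 3 57 0 1 4 54 0 1 0 4 1) (@D3.rec (fun _ => Nat) 4 0 52 55 1 52 52 9 9 0 1 5 57 55 56 58 0 0) (@D3.rec (fun _ => Nat) 1 0 5 1 60 9 60 59 9 56 0 1 0 0 0 1 6 53) (@D3.rec (fun _ => Nat) 53 53 59 59 53 53 59 0 0 1 0 0 1 0 2 6 114 1) (@D3.rec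 (fun _ => Nat) 5 0 9 59 0 1 9 59 59 0 1 9 57 0 1 2 2 3) (@D3.rec (fun _ => Nat) 1 3 3 0 0 1 3 0 1 4 53 58 0 0 1 56 57 0) (@D3.rec (fun _ => Nat) 1 0 0 1 47 58 0 1 5 56 59 0 1 0 4 48 1 0) (@D3.rec (fun _ => Nat) 0 1 0 4 5 1 4 57 0 0 1 5 54 0 1 0 2 0) (@D3.rec (fun _ => Nat) 1 5 5 0 52 57 1 52 52 52 52 0 0 1 6 57 55 56)
def lv_f_2 : D2 → D3 → Nat := @D2.rec (fun _ => D3 → Nat) (@D3.rec (fun _ => Nat) 62 0 0 1 0 0 0 1 0 2 6 117 1 0 10 61 61 10) (@D3.rec (fun _ => Nat) 56 10 58 87 1 2 3 1 0 0 1 0 0 1 7 2 0 53) (@D3.rec (fun _ => Nat) 53 61 61 53 61 53 61 60 0 0 1 2 0 0 1 0 2 3) (@D3.rec (fun _ => Nat) 111 1 1 0 3 7 109 1 4 3 0 0 59 0 1 10 57 59) (@D3.rec (fun _ => Nat) 1 57 59 1 10 59 59 0 1 2 0 3 3 0 0 4 0 1) (@D3.rec (fun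 _ => Nat) 0 0 1 4 0 1 0 2 57 5 60 0 0 1 0 0 1 2) (@D3.rec (fun _ => Nat) 58 57 0 1 90 1 0 1 47 60 0 1 6 54 59 0 0 1) (@D3.rec (fun _ => Nat) 0 5 48 1 0 0 1 0 0 1 0 2 6 0 1 5 5 0) (@D3.rec (fun _ => Nat) 0 0 1 0 1 2 6 58 0 1 2 2 3 0 1 4 3 0) (@D3.rec (fun _ => Nat) 0 1 2 55 6 6 0 1 54 54 54 54 0 0 1 0 0 1) (@D3.rec (fun _ => Nat) 7 2 0 57 58 60 56 0 0 1 2 0 0 1 0 2 3 119)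
def lv_f_3 : D2 → D3 → Nat := @D2.rec (fun _ => D3 → Nat) (@D3.rec (fun _ => Nat) 1 0 0 1 8 1 0 3 7 109 1 4 0 0 61 0 1 11) (@D3.rec (fun _ => Nat) 58 58 11 58 89 91 0 0 110 0 1 2 0 0 1 2 3 0) (@D3.rec (fun _ => Nat) 1 1 8 3 0 4 3 0 0 1 59 55 61 62 62 0 0 0) (@D3.rec (fun _ => Nat) 1 0 0 0 1 5 0 0 1 1 0 3 5 108 1 3 3 5) (@D3.rec (fun _ => Nat) 0 4 8 109 1 4 4 118 108 114 5 3 0 0 1 0 0 1) (@D3.rec (fun _ => Nat) 61 1 59 59 0 63 59 1 2 3 3 96 0 0 1 0 4 92) (@D3.rec (fun _ => Nat) 0 1 94 0 1 0 1 26 78 1 1 2 5 1 2 1 4 3) (@D3.rec (fun _ => Nat) 0 55 6 62 0 0 1 113 1 0 2 86 1 0 1 3 4 0) (@D3.rec (fun _ => Nat) 0 58 0 0 1 2 88 25 0 0 1 52 59 0 1 116 58 0) (@D3.rec (fun _ => Nat) 0 1 0 0 1 0 2 51 0 1 6 0 1 117 1 2 1 1) (@D3.rec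 (fun _ => Nat) 3 7 1 4 114 0 92 1 116 6 6 0 1 0 0 0 1 2)
def lv_f_4 : D2 → D3 → Nat := @D2.rec (fun _ => D3 → Nat) (@D3.rec (fun _ => Nat) 113 1 0 2 3 1 3 4 3 0 7 64 0 0 1 2 3 3) (@D3.rec (fun _ => Nat) 5 1 2 75 5 3 118 0 1 1 2 77 3 3 76 63 0 7) (@D3.rec (fun _ => Nat) 127 7 0 0 1 54 115 0 1 2 0 0 1 0 2 3 0 1) (@D3.rec (fun _ => Nat) 1 8 3 0 4 3 0 0 1 65 59 62 62 115 87 1 0 1) (@D3.rec (fun _ => Nat) 109 111 1 1 0 3 118 1 3 5 85 114 114 1 0 1 9 116) (@D3.rec (fun _ => Nat) 4 8 108 1 5 116 0 0 112 3 0 1 0 0 1 63 0 1) (@D3.rec (fun _ => Nat) 60 62 89 89 91 90 1 92 0 1 113 110 80 0 1 0 1 1) (@D3.rec (fun _ => Nat) 3 82 3 3 5 1 109 4 0 4 118 120 83 1 75 119 3 121) (@D3.rec (fun _ => Nat) 117 1 1 61 112 0 1 1 0 0 1 0 1 111 0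 1 1 6) (@D3.rec (fun _ => Nat) 0 1 1 9 82 4 6 110 1 4 4 4 0 4 6 74 77 0) (@D3.rec (fun _ => Nat) 1 5 5 126 108 114 122 4 112 106 107 116 4 1 117 0 1 108)
def lv_f_5 : D2 → D3 → Nat := @D2.rec (fun _ => D3 → Nat) (@D3.rec (fun _ => Nat) 0 1 0 1 5 1 126 3 3 91 4 116 94 0 1 1 90 0) (@D3.rec (fun _ => Nat) 0 1 97 0 114 112 1 92 0 1 0 1 0 58 26 26 95 2) (@D3.rec (fun _ => Nat) 78 4 3 0 6 79 3 3 5 59 0 4 3 4 121 1 7 62) (@D3.rec (fun _ => Nat) 114 0 1 1 2 3 87 1 3 5 124 82 1 2 4 115 76 114) (@D3.rec (fun _ => Nat) 3 74 1 76 0 1 59 0 1 1 2 92 3 90 92 27 27 90) (@D3.rec (fun _ => Nat) 0 0 1 1 52 118 1 0 113 1 117 0 1 2 1 1 3 53) (@D3.rec (fun _ => Nat) 1 4 121 0 92 1 116 7 1 3 3 121 110 9 111 4 0 91) (@D3.rec (fun _ => Nat) 85 117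 114 116 95 1 94 0 7 7 1 1 1 1 2 113 3 1) (@D3.rec (fun _ => Nat) 3 3 5 41 77 115 76 77 5 3 4 0 1 8 64 1 84 1) (@D3.rec (fun _ => Nat) 2 3 3 0 4 2 3 3 77 75 75 75 123 118 120 115 121 118) (@D3.rec (fun _ => Nat) 0 1 78 115 3 3 3 79 0 4 3 123 78 112 65 0 0 1)
def lv_f_6 : D2 → D3 → Nat := @D2.rec (fun _ => D3 → Nat) (@D3.rec (fun _ => Nat) 0 8 123 0 0 1 0 1 2 83 0 1 112 1 1 3 1 3) (@D3.rec (fun _ => Nat) 3 5 1 118 4 122 4 120 89 1 109 124 3 4 120 1 1 120) (@D3.rec (fun _ => Nat) 65 64 115 0 60 1 4 107 1 4 86 114 1 10 5 114 124 88) (@D3.rec (fun _ => Nat) 116 118 116 0 1 86 108 1 110 110 1 112 108 1 109 1 105 63) (@D3.rec (fun _ => Nat) 1 5 96 93 93 93 113 1 113 112 112 83 1 1 9 4 81 4) (@D3.rec (fun _ => Nat) 118 5 126 120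 84 1 75 111 75 75 122 119 88 63 0 115 1 111) (@D3.rec (fun _ => Nat) 0 1 0 1 1 111 1 1 10 83 112 88 5 5 5 86 76 77) (@D3.rec (fun _ => Nat) 0 1 75 76 107 91 90 1 112 112 5 6 121 108 109 114 108 107) (@D3.rec (fun _ => Nat) 118 78 121 110 106 1 111 106 103 1 1 5 110 96 4 96 0 116) (@D3.rec (fun _ => Nat) 119 1 88 89 0 1 121 0 1 97 82 1 0 89 1 119 1 84) (@D3.rec (fun _ => Nat) 1 28 28 92 3 3 5 82 78 4 3 118 117 1 7 118 82 4)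
def lv_f_7 : D2 → D3 → Nat := @D2.rec (fun _ => D3 → Nat) (@D3.rec (fun _ => Nat) 4 118 119 0 1 80 115 120 0 119 119 114 1 2 82 3 122 4) (@D3.rec (fun _ => Nat) 4 77 120 2 79 115 4 114 81 84 76 76 117 76 120 1 1 82) (@D3.rec (fun _ => Nat) 83 3 4 94 90 27 27 97 1 0 1 114 1 113 1 3 3 121) (@D3.rec (fun _ => Nat) 112 10 111 4 0 91 86 125 117 115 95 1 94 8 4 121 121 121) (@D3.rec (fun _ => Nat) 118 90 1 92 86 117 117 93 86 115 124 1 0 8 115 39 2 86) (@D3.rec (fun _ => Nat) 82 80 80 115 4 4 4 82 40 117 4 77 110 118 119 115 122 121) (@D3.rec (fun _ => Nat) 121 1 119 60 118 3 3 79 118 4 1 122 3 3 88 126 4 79) (@D3.rec (fun _ => Nat) 77 110 77 117 114 122 113 124 122 6 1 115 82 4 4 127 125 1) (@D3.rec (fun _ => Nat) 115 0 125 4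 78 119 0 1 2 110 127 1 0 3 1 123 1 125) (@D3.rec (fun _ => Nat) 119 1 1 2 5 106 1 4 4 82 4 111 123 114 122 121 122 117) (@D3.rec (fun _ => Nat) 122 121 123 123 119 118 122 107 116 126 1 0 5 114 115 124 0 89)
def lv_f_8 : D2 → D3 → Nat := @D2.rec (fun _ => D3 → Nat) (@D3.rec (fun _ => Nat) 89 118 0 1 87 108 119 109 5 104 93 90 91 115 112 10 5 111) (@D3.rec (fun _ => Nat) 111 111 77 77 119 109 115 115 1 113 1 1 113 87 89 90 6 87) (@D3.rec (fun _ => Nat) 76 109 79 1 114 96 107 110 119 78 113 98 107 119 98 109 1 122) (@D3.rec (fun _ => Nat) 115 89 120 125 0 1 85 123 121 126 125 1 126 121 117 116 1 90) (@D3.rec (fun _ => Nat) 120 61 83 123 127 28 97 4 78 128 126 84 120 116 120 1 118 1) (@D3.rec (fun _ => Nat) 123 3 87 83 78 111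 114 113 121 81 4 125 125 29 1 116 15 4) (@D3.rec (fun _ => Nat) 123 123 113 113 0 98 1 92 87 93 86 126 2 122 3 1 42 83) (@D3.rec (fun _ => Nat) 118 79 79 122 123 116 4 4 123 112 120 124 118 125 1 113 123 123) (@D3.rec (fun _ => Nat) 1 5 126 122 124 5 1 117 81 122 113 119 121 124 124 122 1 1) (@D3.rec (fun _ => Nat) 90 111 1 119 116 112 114 78 116 91 88 91 109 116 99 112 114 122) (@D3.rec (fun _ => Nat) 122 127 126 1 126 124 126 121 125 55 14 118 1 97 127 115 117 121)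
def lv_f : Pt → Nat := @Pt.rec (fun _ => Nat) (@D1.rec (fun _ => D2 → D3 → Nat) lv_f_0 lv_f_1 lv_f_2 lv_f_3 lv_f_4 lv_f_5 lv_f_6 lv_f_7 lv_f_8)
abbrev lc_f_Cert_tree : Cert rels S Gen.f := Cert.tree
abbrev lc_f_rc_11_1 : Cert rels S Gen.f := rc_11_1
abbrev lc_f_rc_11_3 : Cert rels S Gen.f := rc_11_3
abbrev lc_f_rc_11_5 : Cert rels S Gen.f := rc_11_5
abbrev lc_f_rc_16_1 : Cert rels S Gen.f := rc_16_1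
abbrev lc_f_rc_16_3 : Cert rels S Gen.f := rc_16_3
abbrev lc_f_rc_20_1 : Cert rels S Gen.f := rc_20_1
abbrev lc_f_rc_20_3 : Cert rels S Gen.f := rc_20_3
abbrev lc_f_rc_23_1 : Cert rels S Gen.f := rc_23_1
abbrev lc_f_rc_23_3 : Cert rels S Gen.f := rc_23_3
abbrev lc_f_rc_25_0 : Cert rels S Gen.f := rc_25_0
abbrev lc_f_rc_25_1 : Cert rels S Gen.f := rc_25_1
abbrev lc_f_rc_26_2 : Cert rels S Gen.f := rc_26_2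
abbrev lc_f_rc_26_4 : Cert rels S Gen.f := rc_26_4
abbrev lc_f_rc_26_6 : Cert rels S Gen.f := rc_26_6
abbrev lc_f_rc_29_2 : Cert rels S Gen.f := rc_29_2
abbrev lc_f_rc_29_4 : Cert rels S Gen.f := rc_29_4
abbrev lc_f_rc_30_11 : Cert rels S Gen.f := rc_30_11
abbrev lc_f_rc_30_15 : Cert rels S Gen.f := rc_30_15
abbrev lc_f_rc_30_3 : Cert rels S Gen.f := rc_30_3
abbrev lc_f_rc_30_7 : Cert rels S Gen.f := rc_30_7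
abbrev lc_f_rc_31_1 : Cert rels S Gen.f := rc_31_1
abbrev lc_f_rc_31_10 : Cert rels S Gen.f := rc_31_10
abbrev lc_f_rc_31_4 : Cert rels S Gen.f := rc_31_4
abbrev lc_f_rc_31_7 : Cert rels S Gen.f := rc_31_7
abbrev lc_f_rc_5_1 : Cert rels S Gen.f := rc_5_1
abbrev lc_f_rc_5_3 : Cert rels S Gen.f := rc_5_3
abbrev lc_f_sc_5_0 : Cert rels S Gen.f := sc_5_0
def ce_f_0 : D2 → D3 → (Cert rels S Gen.f) := @D2.rec (fun _ => D3 → (Cert rels S Gen.f)) (@D3.rec (fun _ => (Cert rels S Gen.f)) lc_f_sc_5_0 lc_f_rc_29_2 lc_f_Cert_tree lc_f_rc_5_3 lc_f_Cert_tree lc_f_rc_25_0 lc_f_rc_5_1 lc_f_rc_5_3 lc_f_Cert_tree lc_f_rc_25_0 lc_f_rc_5_1 lc_f_Cert_tree lc_f_rc_5_3 lc_f_Cert_tree lc_f_Cert_tree lc_f_rc_25_0 lc_f_rc_11_3 lc_f_Cert_tree) (@D3.rec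 (fun _ => (Cert rels S Gen.f)) lc_f_rc_5_1 lc_f_Cert_tree lc_f_Cert_tree lc_f_rc_25_0 lc_f_Cert_tree lc_f_rc_16_1 lc_f_rc_5_3 lc_f_Cert_tree lc_f_Cert_tree lc_f_rc_25_0 lc_f_rc_25_0 lc_f_rc_11_3 lc_f_rc_29_2 lc_f_Cert_tree lc_f_rc_25_0 lc_f_rc_16_1 lc_f_rc_5_1 lc_f_Cert_tree) (@D3.rec (fun _ => (Cert rels S Gen.f)) lc_f_rc_25_0 lc_f_Cert_tree lc_f_Cert_tree lc_f_rc_25_0 lc_f_Cert_tree lc_f_rc_25_0 lc_f_Cert_tree lc_f_rc_16_1 lc_f_Cert_tree lc_f_Cert_tree lc_f_rc_25_0 lc_f_Cert_tree lc_f_Cert_tree lc_f_rc_25_0 lc_f_rc_11_3 lc_f_rc_11_3 lc_f_rc_16_1 lc_f_Cert_tree) (@D3.rec (fun _ => (Cert rels S Gen.f)) lc_f_Cert_tree lc_f_rc_25_0 lc_f_Cert_tree lc_f_rc_16_1 lc_f_Cert_tree lc_f_rc_25_0 lc_f_Cert_tree lc_f_Cert_tree lc_f_Cert_tree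 lc_f_rc_25_0 lc_f_Cert_tree lc_f_rc_25_0 lc_f_Cert_tree lc_f_rc_25_0 lc_f_rc_11_3 lc_f_Cert_tree lc_f_Cert_tree lc_f_rc_25_0) (@D3.rec (fun _ => (Cert rels S Gen.f)) lc_f_Cert_tree lc_f_rc_20_1 lc_f_Cert_tree lc_f_rc_25_0 lc_f_rc_29_2 lc_f_Cert_tree lc_f_rc_25_0 lc_f_Cert_tree lc_f_rc_11_3 lc_f_rc_25_0 lc_f_rc_25_0 lc_f_Cert_tree lc_f_rc_25_0 lc_f_rc_11_3 lc_f_rc_16_1 lc_f_Cert_tree lc_f_Cert_tree lc_f_rc_25_0) (@D3.rec (fun _ => (Cert rels S Gen.f)) lc_f_rc_25_0 lc_f_Cert_tree lc_f_rc_25_0 lc_f_rc_20_1 lc_f_rc_25_0 lc_f_Cert_tree lc_f_Cert_tree lc_f_Cert_tree lc_f_rc_25_0 lc_f_Cert_tree lc_f_rc_26_2 lc_f_Cert_tree lc_f_rc_25_0 lc_f_Cert_tree lc_f_rc_25_0 lc_f_Cert_tree lc_f_rc_11_3 lc_f_rc_25_0) (@D3.rec (fun _ => (Cert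 rels S Gen.f)) lc_f_rc_25_0 lc_f_rc_11_3 lc_f_Cert_tree lc_f_rc_25_0 lc_f_rc_29_2 lc_f_Cert_tree lc_f_rc_25_0 lc_f_Cert_tree lc_f_rc_25_0 lc_f_rc_25_0 lc_f_rc_5_3 lc_f_Cert_tree lc_f_rc_25_0 lc_f_rc_26_2 lc_f_rc_11_3 lc_f_Cert_tree lc_f_rc_25_0 lc_f_Cert_tree) (@D3.rec (fun _ => (Cert rels S Gen.f)) lc_f_rc_11_3 lc_f_rc_26_6 lc_f_rc_25_0 lc_f_Cert_tree lc_f_rc_11_3 lc_f_Cert_tree lc_f_rc_25_0 lc_f_rc_11_3 lc_f_Cert_tree lc_f_rc_25_0 lc_f_Cert_tree lc_f_rc_25_0 lc_f_rc_11_3 lc_f_Cert_tree lc_f_rc_25_0 lc_f_rc_26_4 lc_f_rc_5_1 lc_f_Cert_tree) (@D3.rec (fun _ => (Cert rels S Gen.f)) lc_f_Cert_tree lc_f_rc_25_0 lc_f_rc_29_2 lc_f_Cert_tree lc_f_rc_25_0 lc_f_Cert_tree lc_f_Cert_tree lc_f_rc_25_0 lc_f_Cert_tree lc_f_rc_11_3 lc_f_rc_25_0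 lc_f_rc_25_0 lc_f_rc_26_2 lc_f_Cert_tree lc_f_rc_25_0 lc_f_rc_11_3 lc_f_Cert_tree lc_f_rc_25_0) (@D3.rec (fun _ => (Cert rels S Gen.f)) lc_f_Cert_tree lc_f_rc_11_3 lc_f_rc_25_0 lc_f_rc_5_1 lc_f_Cert_tree lc_f_rc_11_3 lc_f_rc_11_3 lc_f_rc_16_1 lc_f_Cert_tree lc_f_rc_25_0 lc_f_rc_26_2 lc_f_rc_11_3 lc_f_Cert_tree lc_f_rc_25_0 lc_f_Cert_tree lc_f_rc_26_6 lc_f_rc_25_0 lc_f_rc_11_3) (@D3.rec (fun _ => (Cert rels S Gen.f)) lc_f_rc_11_3 lc_f_Cert_tree lc_f_Cert_tree lc_f_rc_25_0 lc_f_rc_5_3 lc_f_rc_11_3 lc_f_rc_5_1 lc_f_rc_16_1 lc_f_rc_29_2 lc_f_Cert_tree lc_f_Cert_tree lc_f_rc_25_0 lc_f_Cert_tree lc_f_rc_11_3 lc_f_rc_5_1 lc_f_rc_25_0 lc_f_Cert_tree lc_f_rc_11_3)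
def ce_f_1 : D2 → D3 → (Cert rels S Gen.f) := @D2.rec (fun _ => D3 → (Cert rels S Gen.f)) (@D3.rec (fun _ => (Cert rels S Gen.f)) lc_f_rc_5_3 lc_f_Cert_tree lc_f_rc_25_0 lc_f_rc_16_1 lc_f_rc_23_3 lc_f_Cert_tree lc_f_rc_25_0 lc_f_Cert_tree lc_f_rc_11_3 lc_f_rc_16_1 lc_f_Cert_tree lc_f_rc_25_0 lc_f_rc_11_3 lc_f_Cert_tree lc_f_rc_25_0 lc_f_rc_11_3 lc_f_rc_11_3 lc_f_rc_31_7) (@D3.rec (fun _ => (Cert rels S Gen.f)) lc_f_Cert_tree lc_f_rc_25_0 lc_f_rc_26_4 lc_f_rc_31_10 lc_f_Cert_tree lc_f_Cert_tree lc_f_rc_25_0 lc_f_rc_20_1 lc_f_Cert_tree lc_f_rc_25_0 lc_f_rc_26_2 lc_f_rc_11_3 lc_f_rc_11_3 lc_f_Cert_tree lc_f_rc_25_0 lc_f_Cert_tree lc_f_rc_11_3 lc_f_rc_20_1) (@D3.rec (fun _ => (Cert rels S Gen.f)) lc_f_rc_25_0 lc_f_Cert_tree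 lc_f_rc_25_0 lc_f_Cert_tree lc_f_rc_11_3 lc_f_rc_26_6 lc_f_rc_25_0 lc_f_rc_5_1 lc_f_rc_26_2 lc_f_Cert_tree lc_f_rc_25_0 lc_f_rc_11_3 lc_f_rc_16_1 lc_f_Cert_tree lc_f_rc_25_0 lc_f_Cert_tree lc_f_rc_11_3 lc_f_rc_25_0) (@D3.rec (fun _ => (Cert rels S Gen.f)) lc_f_rc_5_1 lc_f_Cert_tree lc_f_rc_11_3 lc_f_rc_16_1 lc_f_rc_25_0 lc_f_rc_5_1 lc_f_rc_16_1 lc_f_rc_16_1 lc_f_rc_20_1 lc_f_Cert_tree lc_f_rc_25_0 lc_f_rc_5_3 lc_f_rc_11_3 lc_f_rc_30_11 lc_f_rc_23_3 lc_f_rc_20_1 lc_f_Cert_tree lc_f_Cert_tree) (@D3.rec (fun _ => (Cert rels S Gen.f)) lc_f_rc_25_0 lc_f_Cert_tree lc_f_rc_5_1 lc_f_rc_25_0 lc_f_rc_11_3 lc_f_rc_11_3 lc_f_rc_20_1 lc_f_rc_11_1 lc_f_rc_16_1 lc_f_rc_31_7 lc_f_Cert_tree lc_f_rc_25_0 lc_f_Cert_tree lc_f_Cert_tree lc_f_Cert_tree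 lc_f_rc_25_0 lc_f_rc_16_1 lc_f_rc_20_1) (@D3.rec (fun _ => (Cert rels S Gen.f)) lc_f_rc_5_1 lc_f_rc_16_1 lc_f_rc_29_2 lc_f_rc_23_3 lc_f_rc_5_1 lc_f_rc_20_1 lc_f_rc_29_2 lc_f_Cert_tree lc_f_Cert_tree lc_f_rc_25_0 lc_f_Cert_tree lc_f_Cert_tree lc_f_rc_25_0 lc_f_Cert_tree lc_f_rc_11_3 lc_f_rc_16_1 lc_f_rc_30_15 lc_f_rc_25_0) (@D3.rec (fun _ => (Cert rels S Gen.f)) lc_f_rc_16_1 lc_f_Cert_tree lc_f_rc_11_3 lc_f_rc_5_3 lc_f_Cert_tree lc_f_rc_25_0 lc_f_rc_16_1 lc_f_rc_20_3 lc_f_rc_5_3 lc_f_Cert_tree lc_f_rc_25_0 lc_f_rc_20_1 lc_f_rc_16_1 lc_f_Cert_tree lc_f_rc_25_0 lc_f_rc_29_2 lc_f_rc_11_3 lc_f_rc_25_0) (@D3.rec (fun _ => (Cert rels S Gen.f)) lc_f_rc_25_0 lc_f_rc_5_1 lc_f_rc_16_1 lc_f_Cert_tree lc_f_Cert_tree lc_f_rc_25_0 lc_f_rc_11_3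 lc_f_Cert_tree lc_f_rc_25_0 lc_f_rc_11_3 lc_f_rc_11_3 lc_f_rc_31_7 lc_f_Cert_tree lc_f_Cert_tree lc_f_rc_25_0 lc_f_rc_26_4 lc_f_rc_31_10 lc_f_Cert_tree) (@D3.rec (fun _ => (Cert rels S Gen.f)) lc_f_rc_25_0 lc_f_Cert_tree lc_f_Cert_tree lc_f_rc_25_0 lc_f_rc_23_1 lc_f_rc_11_1 lc_f_Cert_tree lc_f_rc_25_0 lc_f_rc_5_3 lc_f_rc_11_3 lc_f_rc_11_3 lc_f_Cert_tree lc_f_rc_25_0 lc_f_Cert_tree lc_f_rc_11_3 lc_f_rc_23_1 lc_f_rc_25_0 lc_f_Cert_tree) (@D3.rec (fun _ => (Cert rels S Gen.f)) lc_f_Cert_tree lc_f_rc_25_0 lc_f_Cert_tree lc_f_rc_11_3 lc_f_rc_5_1 lc_f_rc_25_0 lc_f_rc_5_1 lc_f_rc_26_2 lc_f_Cert_tree lc_f_Cert_tree lc_f_rc_25_0 lc_f_rc_11_3 lc_f_rc_16_1 lc_f_Cert_tree lc_f_rc_25_0 lc_f_Cert_tree lc_f_rc_11_3 lc_f_Cert_tree) (@D3.rec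 (fun _ => (Cert rels S Gen.f)) lc_f_rc_25_0 lc_f_rc_5_1 lc_f_rc_16_1 lc_f_Cert_tree lc_f_rc_20_1 lc_f_rc_16_1 lc_f_rc_25_0 lc_f_rc_5_1 lc_f_rc_16_1 lc_f_rc_5_1 lc_f_rc_20_1 lc_f_Cert_tree lc_f_Cert_tree lc_f_rc_25_0 lc_f_rc_16_1 lc_f_rc_11_3 lc_f_rc_30_11 lc_f_rc_23_1)
def ce_f_2 : D2 → D3 → (Cert rels S Gen.f) := @D2.rec (fun _ => D3 → (Cert rels S Gen.f)) (@D3.rec (fun _ => (Cert rels S Gen.f)) lc_f_rc_20_3 lc_f_Cert_tree lc_f_Cert_tree lc_f_rc_25_0 lc_f_Cert_tree lc_f_Cert_tree lc_f_Cert_tree lc_f_rc_25_0 lc_f_Cert_tree lc_f_rc_11_3 lc_f_rc_16_1 lc_f_rc_30_15 lc_f_rc_25_0 lc_f_Cert_tree lc_f_rc_11_3 lc_f_rc_20_3 lc_f_rc_11_1 lc_f_rc_16_1) (@D3.rec (fun _ => (Cert rels S Gen.f)) lc_f_rc_31_7 lc_f_rc_20_1 lc_f_rc_23_3 lc_f_rc_5_3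 lc_f_rc_25_0 lc_f_rc_29_2 lc_f_rc_25_0 lc_f_rc_25_0 lc_f_Cert_tree lc_f_Cert_tree lc_f_rc_25_0 lc_f_Cert_tree lc_f_Cert_tree lc_f_rc_25_0 lc_f_rc_20_1 lc_f_rc_11_3 lc_f_Cert_tree lc_f_rc_5_1) (@D3.rec (fun _ => (Cert rels S Gen.f)) lc_f_rc_16_1 lc_f_rc_29_2 lc_f_rc_20_3 lc_f_rc_5_1 lc_f_rc_29_2 lc_f_rc_5_1 lc_f_rc_29_2 lc_f_rc_31_4 lc_f_Cert_tree lc_f_Cert_tree lc_f_rc_25_0 lc_f_rc_29_2 lc_f_Cert_tree lc_f_Cert_tree lc_f_rc_25_0 lc_f_Cert_tree lc_f_rc_11_3 lc_f_rc_25_0) (@D3.rec (fun _ => (Cert rels S Gen.f)) lc_f_rc_30_3 lc_f_rc_25_0 lc_f_rc_25_0 lc_f_Cert_tree lc_f_rc_11_3 lc_f_rc_20_1 lc_f_rc_11_1 lc_f_rc_25_0 lc_f_rc_29_2 lc_f_rc_16_1 lc_f_Cert_tree lc_f_Cert_tree lc_f_rc_5_3 lc_f_Cert_tree lc_f_rc_25_0 lc_f_rc_16_1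 lc_f_rc_20_1 lc_f_rc_5_3) (@D3.rec (fun _ => (Cert rels S Gen.f)) lc_f_rc_25_0 lc_f_rc_16_1 lc_f_rc_5_3 lc_f_rc_25_0 lc_f_rc_16_1 lc_f_rc_25_1 lc_f_rc_31_4 lc_f_Cert_tree lc_f_rc_25_0 lc_f_rc_11_3 lc_f_Cert_tree lc_f_rc_5_1 lc_f_rc_16_1 lc_f_Cert_tree lc_f_Cert_tree lc_f_rc_5_1 lc_f_Cert_tree lc_f_rc_25_0) (@D3.rec (fun _ => (Cert rels S Gen.f)) lc_f_Cert_tree lc_f_Cert_tree lc_f_rc_25_0 lc_f_rc_11_3 lc_f_Cert_tree lc_f_rc_25_0 lc_f_Cert_tree lc_f_rc_11_3 lc_f_rc_11_3 lc_f_rc_16_1 lc_f_rc_31_7 lc_f_Cert_tree lc_f_Cert_tree lc_f_rc_25_0 lc_f_Cert_tree lc_f_Cert_tree lc_f_rc_25_0 lc_f_rc_11_3) (@D3.rec (fun _ => (Cert rels S Gen.f)) lc_f_rc_26_4 lc_f_rc_31_10 lc_f_Cert_tree lc_f_rc_25_0 lc_f_rc_5_1 lc_f_rc_25_0 lc_f_Cert_tree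 lc_f_rc_25_0 lc_f_rc_23_1 lc_f_rc_11_1 lc_f_Cert_tree lc_f_rc_25_0 lc_f_rc_16_1 lc_f_rc_11_3 lc_f_rc_11_3 lc_f_Cert_tree lc_f_Cert_tree lc_f_rc_25_0) (@D3.rec (fun _ => (Cert rels S Gen.f)) lc_f_Cert_tree lc_f_rc_11_3 lc_f_rc_23_1 lc_f_rc_25_0 lc_f_Cert_tree lc_f_Cert_tree lc_f_rc_25_0 lc_f_Cert_tree lc_f_Cert_tree lc_f_rc_25_0 lc_f_Cert_tree lc_f_rc_11_3 lc_f_rc_16_1 lc_f_Cert_tree lc_f_rc_25_0 lc_f_rc_5_1 lc_f_rc_16_1 lc_f_Cert_tree) (@D3.rec (fun _ => (Cert rels S Gen.f)) lc_f_Cert_tree lc_f_Cert_tree lc_f_rc_25_0 lc_f_Cert_tree lc_f_rc_25_0 lc_f_rc_11_3 lc_f_rc_16_1 lc_f_rc_20_1 lc_f_Cert_tree lc_f_rc_25_0 lc_f_rc_29_2 lc_f_rc_11_3 lc_f_rc_25_0 lc_f_Cert_tree lc_f_rc_25_0 lc_f_rc_29_2 lc_f_rc_16_1 lc_f_Cert_tree) (@D3.rec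 (fun _ => (Cert rels S Gen.f)) lc_f_Cert_tree lc_f_rc_25_0 lc_f_rc_11_3 lc_f_rc_20_1 lc_f_rc_5_1 lc_f_rc_20_1 lc_f_Cert_tree lc_f_rc_25_0 lc_f_rc_5_1 lc_f_rc_16_1 lc_f_rc_5_1 lc_f_rc_5_1 lc_f_Cert_tree lc_f_Cert_tree lc_f_rc_25_0 lc_f_Cert_tree lc_f_Cert_tree lc_f_rc_25_0) (@D3.rec (fun _ => (Cert rels S Gen.f)) lc_f_rc_20_1 lc_f_rc_11_3 lc_f_Cert_tree lc_f_rc_25_1 lc_f_rc_16_1 lc_f_rc_5_1 lc_f_rc_20_1 lc_f_Cert_tree lc_f_Cert_tree lc_f_rc_25_0 lc_f_rc_29_2 lc_f_Cert_tree lc_f_Cert_tree lc_f_rc_25_0 lc_f_Cert_tree lc_f_rc_11_3 lc_f_rc_25_0 lc_f_rc_30_3)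
def ce_f_3 : D2 → D3 → (Cert rels S Gen.f) := @D2.rec (fun _ => D3 → (Cert rels S Gen.f)) (@D3.rec (fun _ => (Cert rels S Gen.f)) lc_f_rc_25_0 lc_f_Cert_tree lc_f_Cert_tree lc_f_rc_25_0 lc_f_rc_29_2 lc_f_rc_25_0 lc_f_Cert_tree lc_f_rc_11_3 lc_f_rc_20_1 lc_f_rc_30_3 lc_f_rc_25_0 lc_f_rc_29_2 lc_f_Cert_tree lc_f_Cert_tree lc_f_rc_5_3 lc_f_Cert_tree lc_f_rc_25_0 lc_f_rc_16_1) (@D3.rec (fun _ => (Cert rels S Gen.f)) lc_f_rc_31_7 lc_f_rc_23_1 lc_f_rc_16_1 lc_f_rc_20_1 lc_f_rc_5_3 lc_f_rc_11_3 lc_f_Cert_tree lc_f_Cert_tree lc_f_rc_11_1 lc_f_Cert_tree lc_f_rc_25_0 lc_f_rc_29_2 lc_f_Cert_tree lc_f_Cert_tree lc_f_rc_25_0 lc_f_rc_11_3 lc_f_rc_25_0 lc_f_Cert_tree) (@D3.rec (fun _ => (Cert rels S Gen.f)) lc_f_rc_25_0 lc_f_rc_25_0 lc_f_rc_23_1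 lc_f_rc_11_3 lc_f_Cert_tree lc_f_rc_29_2 lc_f_rc_16_1 lc_f_Cert_tree lc_f_Cert_tree lc_f_rc_25_0 lc_f_rc_20_1 lc_f_rc_16_1 lc_f_rc_29_2 lc_f_rc_31_4 lc_f_rc_31_4 lc_f_Cert_tree lc_f_Cert_tree lc_f_Cert_tree) (@D3.rec (fun _ => (Cert rels S Gen.f)) lc_f_rc_25_0 lc_f_Cert_tree lc_f_Cert_tree lc_f_Cert_tree lc_f_rc_25_0 lc_f_rc_26_2 lc_f_Cert_tree lc_f_Cert_tree lc_f_rc_25_0 lc_f_rc_25_0 lc_f_Cert_tree lc_f_rc_11_3 lc_f_rc_26_6 lc_f_rc_11_1 lc_f_rc_25_0 lc_f_rc_5_1 lc_f_rc_16_1 lc_f_rc_29_2) (@D3.rec (fun _ => (Cert rels S Gen.f)) lc_f_Cert_tree lc_f_rc_11_3 lc_f_rc_23_1 lc_f_rc_11_1 lc_f_rc_25_0 lc_f_rc_5_1 lc_f_rc_16_1 lc_f_rc_31_10 lc_f_rc_11_3 lc_f_rc_5_1 lc_f_rc_29_2 lc_f_rc_29_2 lc_f_Cert_tree lc_f_Cert_tree lc_f_rc_25_0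 lc_f_Cert_tree lc_f_Cert_tree lc_f_rc_25_0) (@D3.rec (fun _ => (Cert rels S Gen.f)) lc_f_rc_5_3 lc_f_rc_25_0 lc_f_rc_16_1 lc_f_rc_31_4 lc_f_Cert_tree lc_f_rc_16_1 lc_f_rc_31_4 lc_f_rc_25_0 lc_f_rc_11_3 lc_f_rc_5_1 lc_f_rc_16_1 lc_f_rc_29_2 lc_f_Cert_tree lc_f_Cert_tree lc_f_rc_25_0 lc_f_Cert_tree lc_f_rc_5_1 lc_f_rc_5_3) (@D3.rec (fun _ => (Cert rels S Gen.f)) lc_f_Cert_tree lc_f_rc_25_0 lc_f_rc_5_3 lc_f_Cert_tree lc_f_rc_25_0 lc_f_Cert_tree lc_f_rc_25_0 lc_f_rc_11_3 lc_f_rc_25_1 lc_f_rc_25_0 lc_f_rc_25_0 lc_f_rc_11_3 lc_f_rc_16_1 lc_f_rc_25_0 lc_f_rc_11_3 lc_f_rc_25_0 lc_f_rc_29_2 lc_f_rc_16_1) (@D3.rec (fun _ => (Cert rels S Gen.f)) lc_f_Cert_tree lc_f_rc_16_1 lc_f_rc_20_1 lc_f_rc_25_1 lc_f_Cert_tree lc_f_Cert_tree lc_f_rc_25_0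 lc_f_rc_5_3 lc_f_rc_25_0 lc_f_Cert_tree lc_f_rc_11_3 lc_f_rc_5_1 lc_f_rc_25_0 lc_f_Cert_tree lc_f_rc_25_0 lc_f_rc_11_3 lc_f_rc_29_2 lc_f_Cert_tree) (@D3.rec (fun _ => (Cert rels S Gen.f)) lc_f_Cert_tree lc_f_rc_16_1 lc_f_Cert_tree lc_f_Cert_tree lc_f_rc_25_0 lc_f_rc_11_3 lc_f_rc_11_3 lc_f_rc_11_3 lc_f_Cert_tree lc_f_Cert_tree lc_f_rc_25_0 lc_f_rc_5_3 lc_f_rc_11_1 lc_f_Cert_tree lc_f_rc_25_0 lc_f_rc_20_3 lc_f_rc_16_1 lc_f_Cert_tree) (@D3.rec (fun _ => (Cert rels S Gen.f)) lc_f_Cert_tree lc_f_rc_25_0 lc_f_Cert_tree lc_f_Cert_tree lc_f_rc_25_0 lc_f_Cert_tree lc_f_rc_11_3 lc_f_rc_5_1 lc_f_Cert_tree lc_f_rc_25_0 lc_f_rc_16_1 lc_f_Cert_tree lc_f_rc_25_0 lc_f_rc_20_3 lc_f_rc_25_0 lc_f_rc_11_3 lc_f_rc_25_0 lc_f_rc_25_0) (@D3.rec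 (fun _ => (Cert rels S Gen.f)) lc_f_rc_11_3 lc_f_rc_29_2 lc_f_rc_25_0 lc_f_rc_29_2 lc_f_rc_20_1 lc_f_Cert_tree lc_f_rc_20_3 lc_f_rc_25_0 lc_f_rc_5_1 lc_f_rc_5_1 lc_f_rc_20_1 lc_f_Cert_tree lc_f_rc_25_0 lc_f_Cert_tree lc_f_Cert_tree lc_f_Cert_tree lc_f_rc_25_0 lc_f_rc_29_2)
def ce_f_4 : D2 → D3 → (Cert rels S Gen.f) := @D2.rec (fun _ => D3 → (Cert rels S Gen.f)) (@D3.rec (fun _ => (Cert rels S Gen.f)) lc_f_rc_5_3 lc_f_rc_25_0 lc_f_Cert_tree lc_f_rc_11_3 lc_f_rc_25_0 lc_f_rc_25_0 lc_f_rc_11_3 lc_f_rc_29_2 lc_f_rc_16_1 lc_f_Cert_tree lc_f_rc_20_1 lc_f_rc_5_3 lc_f_Cert_tree lc_f_Cert_tree lc_f_rc_25_0 lc_f_rc_11_3 lc_f_rc_5_1 lc_f_rc_16_1) (@D3.rec (fun _ => (Cert rels S Gen.f)) lc_f_rc_29_2 lc_f_rc_25_0 lc_f_rc_11_3 lc_f_rc_11_1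 lc_f_rc_29_2 lc_f_rc_29_2 lc_f_rc_11_1 lc_f_Cert_tree lc_f_rc_25_0 lc_f_rc_25_0 lc_f_rc_11_3 lc_f_rc_31_1 lc_f_rc_5_1 lc_f_rc_16_1 lc_f_rc_11_1 lc_f_rc_5_1 lc_f_Cert_tree lc_f_rc_5_1) (@D3.rec (fun _ => (Cert rels S Gen.f)) lc_f_rc_11_3 lc_f_rc_23_1 lc_f_Cert_tree lc_f_Cert_tree lc_f_rc_25_0 lc_f_rc_16_1 lc_f_rc_16_3 lc_f_Cert_tree lc_f_rc_25_0 lc_f_rc_29_2 lc_f_Cert_tree lc_f_Cert_tree lc_f_rc_25_0 lc_f_Cert_tree lc_f_rc_11_3 lc_f_rc_25_0 lc_f_Cert_tree lc_f_rc_25_0) (@D3.rec (fun _ => (Cert rels S Gen.f)) lc_f_rc_25_0 lc_f_rc_23_1 lc_f_rc_11_3 lc_f_Cert_tree lc_f_rc_29_2 lc_f_rc_16_1 lc_f_Cert_tree lc_f_Cert_tree lc_f_rc_25_0 lc_f_rc_29_2 lc_f_rc_20_1 lc_f_rc_5_1 lc_f_rc_5_1 lc_f_rc_16_3 lc_f_rc_26_2 lc_f_rc_25_0 lc_f_Cert_tree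 lc_f_rc_25_0) (@D3.rec (fun _ => (Cert rels S Gen.f)) lc_f_rc_11_1 lc_f_rc_16_3 lc_f_rc_25_0 lc_f_rc_25_0 lc_f_Cert_tree lc_f_rc_11_3 lc_f_rc_30_3 lc_f_rc_25_0 lc_f_rc_5_1 lc_f_rc_29_2 lc_f_rc_11_3 lc_f_rc_16_3 lc_f_rc_11_1 lc_f_rc_25_0 lc_f_Cert_tree lc_f_rc_25_0 lc_f_rc_16_3 lc_f_rc_16_1) (@D3.rec (fun _ => (Cert rels S Gen.f)) lc_f_rc_11_3 lc_f_rc_23_1 lc_f_rc_30_3 lc_f_rc_25_0 lc_f_rc_29_2 lc_f_rc_11_3 lc_f_Cert_tree lc_f_Cert_tree lc_f_rc_5_1 lc_f_rc_29_2 lc_f_Cert_tree lc_f_rc_25_0 lc_f_Cert_tree lc_f_Cert_tree lc_f_rc_25_0 lc_f_rc_5_3 lc_f_Cert_tree lc_f_rc_25_0) (@D3.rec (fun _ => (Cert rels S Gen.f)) lc_f_rc_25_0 lc_f_rc_16_1 lc_f_rc_5_1 lc_f_rc_16_1 lc_f_rc_29_2 lc_f_rc_5_3 lc_f_rc_25_0 lc_f_rc_29_2 lc_f_Cert_tree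 lc_f_rc_25_0 lc_f_rc_11_1 lc_f_rc_11_1 lc_f_rc_5_3 lc_f_Cert_tree lc_f_rc_25_0 lc_f_Cert_tree lc_f_rc_25_0 lc_f_rc_25_0) (@D3.rec (fun _ => (Cert rels S Gen.f)) lc_f_rc_11_3 lc_f_rc_5_1 lc_f_rc_5_1 lc_f_rc_16_1 lc_f_rc_29_2 lc_f_rc_25_0 lc_f_rc_11_3 lc_f_rc_11_3 lc_f_Cert_tree lc_f_rc_5_1 lc_f_rc_5_3 lc_f_rc_29_2 lc_f_rc_5_3 lc_f_rc_25_0 lc_f_rc_11_1 lc_f_rc_29_2 lc_f_rc_29_2 lc_f_rc_26_6) (@D3.rec (fun _ => (Cert rels S Gen.f)) lc_f_rc_11_1 lc_f_rc_25_0 lc_f_rc_25_0 lc_f_rc_16_1 lc_f_rc_11_3 lc_f_Cert_tree lc_f_rc_25_0 lc_f_rc_25_0 lc_f_Cert_tree lc_f_Cert_tree lc_f_rc_25_0 lc_f_Cert_tree lc_f_rc_25_0 lc_f_rc_11_1 lc_f_Cert_tree lc_f_rc_25_0 lc_f_rc_25_0 lc_f_rc_26_2) (@D3.rec (fun _ => (Cert rels S Gen.f)) lc_f_Cert_tree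 lc_f_rc_25_0 lc_f_rc_25_0 lc_f_rc_11_3 lc_f_rc_29_4 lc_f_rc_11_3 lc_f_rc_26_6 lc_f_rc_11_1 lc_f_rc_25_0 lc_f_rc_5_1 lc_f_rc_16_1 lc_f_rc_29_4 lc_f_Cert_tree lc_f_rc_5_1 lc_f_rc_29_2 lc_f_rc_11_1 lc_f_rc_5_3 lc_f_Cert_tree) (@D3.rec (fun _ => (Cert rels S Gen.f)) lc_f_rc_25_0 lc_f_rc_5_1 lc_f_rc_16_1 lc_f_rc_29_4 lc_f_rc_11_3 lc_f_rc_5_1 lc_f_rc_30_7 lc_f_rc_29_2 lc_f_rc_29_2 lc_f_rc_20_3 lc_f_rc_11_1 lc_f_rc_16_1 lc_f_rc_29_2 lc_f_rc_25_0 lc_f_rc_5_3 lc_f_Cert_tree lc_f_rc_25_0 lc_f_rc_11_1)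
def ce_f_5 : D2 → D3 → (Cert rels S Gen.f) := @D2.rec (fun _ => D3 → (Cert rels S Gen.f)) (@D3.rec (fun _ => (Cert rels S Gen.f)) lc_f_Cert_tree lc_f_rc_25_0 lc_f_Cert_tree lc_f_rc_25_0 lc_f_rc_11_3 lc_f_rc_25_0 lc_f_rc_11_3 lc_f_rc_5_1 lc_f_rc_16_1 lc_f_rc_20_3 lc_f_rc_5_1 lc_f_rc_20_1 lc_f_rc_11_1 lc_f_Cert_tree lc_f_rc_25_0 lc_f_rc_25_0 lc_f_rc_29_4 lc_f_Cert_tree) (@D3.rec (fun _ => (Cert rels S Gen.f)) lc_f_Cert_tree lc_f_rc_25_0 lc_f_rc_25_1 lc_f_Cert_tree lc_f_rc_11_1 lc_f_rc_5_1 lc_f_rc_25_0 lc_f_rc_5_3 lc_f_Cert_tree lc_f_rc_25_0 lc_f_Cert_tree lc_f_rc_25_0 lc_f_Cert_tree lc_f_rc_11_3 lc_f_rc_5_1 lc_f_rc_16_1 lc_f_rc_31_7 lc_f_rc_11_3) (@D3.rec (fun _ => (Cert rels S Gen.f)) lc_f_rc_11_3 lc_f_rc_29_2 lc_f_rc_16_1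 lc_f_Cert_tree lc_f_rc_20_1 lc_f_rc_11_3 lc_f_rc_5_1 lc_f_rc_16_1 lc_f_rc_29_2 lc_f_rc_11_3 lc_f_Cert_tree lc_f_rc_5_1 lc_f_rc_29_2 lc_f_rc_20_1 lc_f_rc_5_1 lc_f_rc_25_0 lc_f_rc_23_1 lc_f_rc_20_1) (@D3.rec (fun _ => (Cert rels S Gen.f)) lc_f_rc_11_1 lc_f_Cert_tree lc_f_rc_25_0 lc_f_rc_25_0 lc_f_rc_11_3 lc_f_rc_11_3 lc_f_rc_26_6 lc_f_rc_25_0 lc_f_rc_5_1 lc_f_rc_29_2 lc_f_rc_11_3 lc_f_rc_11_3 lc_f_rc_25_0 lc_f_rc_11_3 lc_f_rc_5_1 lc_f_rc_16_1 lc_f_rc_20_3 lc_f_rc_16_1) (@D3.rec (fun _ => (Cert rels S Gen.f)) lc_f_rc_29_2 lc_f_rc_11_1 lc_f_rc_25_0 lc_f_rc_29_2 lc_f_Cert_tree lc_f_rc_25_0 lc_f_rc_20_1 lc_f_Cert_tree lc_f_rc_25_0 lc_f_rc_25_0 lc_f_rc_11_3 lc_f_rc_29_4 lc_f_rc_16_1 lc_f_rc_29_2 lc_f_rc_16_1 lc_f_rc_5_1 lc_f_rc_16_1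 lc_f_rc_31_7) (@D3.rec (fun _ => (Cert rels S Gen.f)) lc_f_Cert_tree lc_f_Cert_tree lc_f_rc_25_0 lc_f_rc_25_0 lc_f_rc_5_3 lc_f_rc_23_1 lc_f_rc_25_0 lc_f_Cert_tree lc_f_rc_5_3 lc_f_rc_25_0 lc_f_rc_23_1 lc_f_Cert_tree lc_f_rc_25_0 lc_f_rc_11_3 lc_f_rc_25_0 lc_f_rc_25_0 lc_f_rc_11_3 lc_f_rc_5_1) (@D3.rec (fun _ => (Cert rels S Gen.f)) lc_f_rc_25_0 lc_f_rc_29_2 lc_f_rc_20_3 lc_f_Cert_tree lc_f_rc_20_3 lc_f_rc_25_0 lc_f_rc_5_1 lc_f_rc_20_1 lc_f_rc_25_0 lc_f_rc_11_3 lc_f_rc_5_1 lc_f_rc_11_3 lc_f_rc_26_2 lc_f_rc_16_1 lc_f_rc_5_1 lc_f_rc_16_1 lc_f_Cert_tree lc_f_rc_11_3) (@D3.rec (fun _ => (Cert rels S Gen.f)) lc_f_rc_11_3 lc_f_rc_26_6 lc_f_rc_20_1 lc_f_rc_29_4 lc_f_rc_29_2 lc_f_rc_25_0 lc_f_rc_29_2 lc_f_Cert_tree lc_f_rc_5_1 lc_f_rc_23_1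 lc_f_rc_25_0 lc_f_rc_25_0 lc_f_rc_25_0 lc_f_rc_25_0 lc_f_rc_11_3 lc_f_rc_5_3 lc_f_rc_11_3 lc_f_rc_25_0) (@D3.rec (fun _ => (Cert rels S Gen.f)) lc_f_rc_5_1 lc_f_rc_16_1 lc_f_rc_29_2 lc_f_rc_11_3 lc_f_rc_20_1 lc_f_rc_16_1 lc_f_rc_20_3 lc_f_rc_11_1 lc_f_rc_29_2 lc_f_rc_29_2 lc_f_rc_20_1 lc_f_Cert_tree lc_f_rc_25_0 lc_f_rc_23_1 lc_f_rc_5_3 lc_f_rc_25_0 lc_f_rc_16_3 lc_f_rc_25_0) (@D3.rec (fun _ => (Cert rels S Gen.f)) lc_f_rc_11_3 lc_f_rc_5_1 lc_f_rc_16_1 lc_f_Cert_tree lc_f_rc_5_1 lc_f_rc_11_3 lc_f_rc_5_1 lc_f_rc_16_1 lc_f_rc_31_10 lc_f_rc_5_1 lc_f_rc_16_1 lc_f_rc_29_4 lc_f_rc_30_11 lc_f_rc_5_1 lc_f_rc_26_2 lc_f_rc_11_1 lc_f_rc_11_1 lc_f_rc_29_4) (@D3.rec (fun _ => (Cert rels S Gen.f)) lc_f_Cert_tree lc_f_rc_25_0 lc_f_rc_20_1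 lc_f_rc_11_3 lc_f_rc_5_1 lc_f_rc_16_1 lc_f_rc_29_4 lc_f_rc_25_0 lc_f_Cert_tree lc_f_rc_5_1 lc_f_rc_29_2 lc_f_rc_31_7 lc_f_rc_16_1 lc_f_rc_11_3 lc_f_rc_5_1 lc_f_Cert_tree lc_f_Cert_tree lc_f_rc_25_0)
def ce_f_6 : D2 → D3 → (Cert rels S Gen.f) := @D2.rec (fun _ => D3 → (Cert rels S Gen.f)) (@D3.rec (fun _ => (Cert rels S Gen.f)) lc_f_Cert_tree lc_f_rc_5_1 lc_f_rc_11_1 lc_f_Cert_tree lc_f_Cert_tree lc_f_rc_25_0 lc_f_Cert_tree lc_f_rc_25_0 lc_f_rc_11_3 lc_f_rc_5_3 lc_f_Cert_tree lc_f_rc_25_0 lc_f_rc_16_1 lc_f_rc_25_0 lc_f_rc_25_0 lc_f_rc_11_3 lc_f_rc_25_0 lc_f_rc_5_1) (@D3.rec (fun _ => (Cert rels S Gen.f)) lc_f_rc_16_1 lc_f_rc_29_2 lc_f_rc_25_0 lc_f_rc_5_1 lc_f_rc_11_3 lc_f_rc_29_2 lc_f_rc_16_1 lc_f_rc_11_3 lc_f_rc_29_2 lc_f_rc_25_0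 lc_f_rc_29_4 lc_f_rc_26_4 lc_f_rc_29_2 lc_f_rc_20_1 lc_f_rc_11_1 lc_f_rc_25_0 lc_f_rc_25_0 lc_f_rc_26_6) (@D3.rec (fun _ => (Cert rels S Gen.f)) lc_f_rc_29_2 lc_f_rc_20_1 lc_f_rc_11_3 lc_f_Cert_tree lc_f_rc_5_1 lc_f_rc_25_0 lc_f_rc_11_3 lc_f_rc_30_3 lc_f_rc_25_0 lc_f_rc_5_1 lc_f_rc_16_1 lc_f_rc_11_1 lc_f_rc_25_0 lc_f_rc_20_1 lc_f_rc_5_1 lc_f_rc_11_3 lc_f_rc_29_4 lc_f_rc_11_3) (@D3.rec (fun _ => (Cert rels S Gen.f)) lc_f_rc_30_7 lc_f_rc_26_2 lc_f_rc_29_4 lc_f_Cert_tree lc_f_rc_25_0 lc_f_rc_5_3 lc_f_rc_29_4 lc_f_rc_25_0 lc_f_rc_11_3 lc_f_rc_29_2 lc_f_rc_25_0 lc_f_rc_11_1 lc_f_rc_16_3 lc_f_rc_25_0 lc_f_rc_16_1 lc_f_rc_25_0 lc_f_rc_5_1 lc_f_rc_20_1) (@D3.rec (fun _ => (Cert rels S Gen.f)) lc_f_rc_25_0 lc_f_rc_11_3 lc_f_rc_20_1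 lc_f_rc_5_1 lc_f_rc_20_1 lc_f_rc_11_1 lc_f_rc_11_1 lc_f_rc_25_0 lc_f_rc_11_1 lc_f_rc_16_1 lc_f_rc_11_1 lc_f_rc_5_3 lc_f_rc_25_0 lc_f_rc_25_0 lc_f_rc_11_3 lc_f_rc_11_3 lc_f_rc_5_1 lc_f_rc_5_1) (@D3.rec (fun _ => (Cert rels S Gen.f)) lc_f_rc_5_1 lc_f_rc_5_1 lc_f_rc_5_3 lc_f_rc_29_2 lc_f_rc_5_3 lc_f_rc_25_0 lc_f_rc_20_1 lc_f_rc_26_4 lc_f_rc_16_1 lc_f_rc_29_4 lc_f_rc_5_3 lc_f_rc_29_4 lc_f_rc_11_3 lc_f_rc_25_0 lc_f_Cert_tree lc_f_rc_23_3 lc_f_rc_25_0 lc_f_rc_16_1) (@D3.rec (fun _ => (Cert rels S Gen.f)) lc_f_Cert_tree lc_f_rc_25_0 lc_f_Cert_tree lc_f_rc_25_0 lc_f_rc_25_0 lc_f_rc_11_1 lc_f_rc_25_0 lc_f_rc_25_0 lc_f_rc_11_3 lc_f_rc_29_4 lc_f_rc_26_4 lc_f_rc_11_3 lc_f_rc_5_1 lc_f_rc_16_1 lc_f_rc_29_4 lc_f_rc_11_3 lc_f_rc_20_1 lc_f_rc_5_3)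 (@D3.rec (fun _ => (Cert rels S Gen.f)) lc_f_Cert_tree lc_f_rc_25_0 lc_f_rc_20_1 lc_f_rc_16_1 lc_f_rc_11_1 lc_f_rc_5_3 lc_f_rc_20_3 lc_f_rc_25_0 lc_f_rc_5_1 lc_f_rc_5_1 lc_f_rc_29_2 lc_f_rc_20_1 lc_f_rc_26_6 lc_f_rc_20_3 lc_f_rc_11_1 lc_f_rc_5_1 lc_f_rc_20_1 lc_f_rc_20_1) (@D3.rec (fun _ => (Cert rels S Gen.f)) lc_f_rc_29_2 lc_f_rc_5_1 lc_f_rc_30_11 lc_f_rc_16_1 lc_f_rc_29_2 lc_f_rc_25_0 lc_f_rc_11_1 lc_f_rc_11_1 lc_f_rc_30_11 lc_f_rc_25_0 lc_f_rc_25_0 lc_f_rc_11_3 lc_f_rc_5_1 lc_f_rc_11_3 lc_f_rc_5_1 lc_f_rc_16_1 lc_f_Cert_tree lc_f_rc_20_1) (@D3.rec (fun _ => (Cert rels S Gen.f)) lc_f_rc_20_1 lc_f_rc_25_0 lc_f_rc_11_3 lc_f_rc_29_4 lc_f_Cert_tree lc_f_rc_25_0 lc_f_rc_11_5 lc_f_Cert_tree lc_f_rc_25_0 lc_f_rc_16_1 lc_f_rc_20_3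 lc_f_rc_25_0 lc_f_Cert_tree lc_f_rc_11_3 lc_f_rc_25_0 lc_f_rc_26_2 lc_f_rc_25_0 lc_f_rc_16_1) (@D3.rec (fun _ => (Cert rels S Gen.f)) lc_f_rc_25_0 lc_f_rc_5_1 lc_f_rc_20_1 lc_f_rc_23_3 lc_f_rc_5_1 lc_f_rc_16_1 lc_f_rc_29_2 lc_f_rc_20_1 lc_f_rc_25_0 lc_f_rc_5_1 lc_f_rc_29_2 lc_f_rc_5_3 lc_f_rc_30_15 lc_f_rc_25_0 lc_f_rc_23_1 lc_f_rc_5_1 lc_f_rc_11_3 lc_f_rc_5_1)
def ce_f_7 : D2 → D3 → (Cert rels S Gen.f) := @D2.rec (fun _ => D3 → (Cert rels S Gen.f)) (@D3.rec (fun _ => (Cert rels S Gen.f)) lc_f_rc_20_1 lc_f_rc_5_1 lc_f_rc_5_3 lc_f_Cert_tree lc_f_rc_25_0 lc_f_rc_29_4 lc_f_rc_20_3 lc_f_rc_5_1 lc_f_Cert_tree lc_f_rc_11_1 lc_f_rc_5_3 lc_f_rc_11_3 lc_f_rc_25_0 lc_f_rc_11_3 lc_f_rc_29_4 lc_f_rc_16_1 lc_f_rc_11_1 lc_f_rc_5_1) (@D3.rec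 (fun _ => (Cert rels S Gen.f)) lc_f_rc_29_4 lc_f_rc_20_1 lc_f_rc_11_3 lc_f_rc_11_3 lc_f_rc_5_1 lc_f_rc_5_1 lc_f_rc_29_2 lc_f_rc_29_4 lc_f_rc_20_1 lc_f_rc_20_1 lc_f_rc_29_4 lc_f_rc_16_1 lc_f_rc_29_2 lc_f_rc_29_2 lc_f_rc_25_1 lc_f_rc_25_0 lc_f_rc_25_0 lc_f_rc_16_3) (@D3.rec (fun _ => (Cert rels S Gen.f)) lc_f_rc_29_4 lc_f_rc_16_1 lc_f_rc_20_1 lc_f_rc_29_2 lc_f_rc_20_1 lc_f_rc_5_1 lc_f_rc_20_1 lc_f_rc_23_1 lc_f_rc_25_0 lc_f_Cert_tree lc_f_rc_25_0 lc_f_rc_23_1 lc_f_rc_25_0 lc_f_rc_5_3 lc_f_rc_25_0 lc_f_rc_11_3 lc_f_rc_5_1 lc_f_rc_11_3) (@D3.rec (fun _ => (Cert rels S Gen.f)) lc_f_rc_26_2 lc_f_rc_20_1 lc_f_rc_5_1 lc_f_rc_16_1 lc_f_Cert_tree lc_f_rc_11_3 lc_f_rc_11_3 lc_f_rc_29_2 lc_f_rc_23_1 lc_f_rc_30_7 lc_f_rc_29_2 lc_f_rc_25_0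 lc_f_rc_29_2 lc_f_rc_23_1 lc_f_rc_16_1 lc_f_rc_5_1 lc_f_rc_16_1 lc_f_rc_29_4) (@D3.rec (fun _ => (Cert rels S Gen.f)) lc_f_rc_5_1 lc_f_rc_11_3 lc_f_rc_25_0 lc_f_rc_5_1 lc_f_rc_16_1 lc_f_rc_29_4 lc_f_rc_20_3 lc_f_rc_29_2 lc_f_rc_29_4 lc_f_rc_23_3 lc_f_rc_11_3 lc_f_rc_25_0 lc_f_Cert_tree lc_f_rc_5_1 lc_f_rc_11_3 lc_f_rc_11_3 lc_f_rc_11_3 lc_f_rc_11_3) (@D3.rec (fun _ => (Cert rels S Gen.f)) lc_f_rc_23_3 lc_f_rc_25_1 lc_f_rc_31_7 lc_f_rc_5_3 lc_f_rc_29_4 lc_f_rc_5_1 lc_f_rc_20_1 lc_f_rc_5_1 lc_f_rc_16_1 lc_f_rc_5_1 lc_f_rc_29_2 lc_f_rc_16_1 lc_f_rc_16_3 lc_f_rc_5_1 lc_f_rc_26_2 lc_f_rc_5_1 lc_f_rc_5_3 lc_f_rc_11_1) (@D3.rec (fun _ => (Cert rels S Gen.f)) lc_f_rc_5_3 lc_f_rc_25_0 lc_f_rc_11_1 lc_f_rc_11_3 lc_f_rc_11_3 lc_f_rc_5_1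 lc_f_rc_16_1 lc_f_rc_30_11 lc_f_rc_11_1 lc_f_rc_20_1 lc_f_rc_25_0 lc_f_rc_16_1 lc_f_rc_5_1 lc_f_rc_16_1 lc_f_rc_25_1 lc_f_rc_11_1 lc_f_rc_20_1 lc_f_rc_25_1) (@D3.rec (fun _ => (Cert rels S Gen.f)) lc_f_rc_5_1 lc_f_rc_11_3 lc_f_rc_29_4 lc_f_rc_31_7 lc_f_rc_16_3 lc_f_rc_11_1 lc_f_rc_11_3 lc_f_rc_26_4 lc_f_rc_5_1 lc_f_rc_5_3 lc_f_rc_25_0 lc_f_rc_30_11 lc_f_rc_11_3 lc_f_rc_5_1 lc_f_rc_29_4 lc_f_rc_5_3 lc_f_rc_5_3 lc_f_rc_25_0) (@D3.rec (fun _ => (Cert rels S Gen.f)) lc_f_rc_29_4 lc_f_Cert_tree lc_f_rc_25_1 lc_f_rc_29_2 lc_f_rc_20_1 lc_f_rc_5_1 lc_f_Cert_tree lc_f_rc_25_0 lc_f_rc_29_2 lc_f_rc_20_1 lc_f_rc_5_1 lc_f_rc_25_0 lc_f_Cert_tree lc_f_rc_25_0 lc_f_rc_25_0 lc_f_rc_11_1 lc_f_rc_25_0 lc_f_rc_11_3) (@D3.rec (fun _ => (Cert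 rels S Gen.f)) lc_f_rc_11_1 lc_f_rc_25_0 lc_f_rc_25_0 lc_f_rc_11_3 lc_f_rc_29_4 lc_f_rc_5_1 lc_f_rc_25_0 lc_f_rc_11_3 lc_f_rc_16_1 lc_f_rc_16_3 lc_f_rc_20_1 lc_f_rc_16_1 lc_f_rc_5_1 lc_f_rc_25_1 lc_f_rc_11_3 lc_f_rc_5_1 lc_f_rc_29_4 lc_f_rc_23_1) (@D3.rec (fun _ => (Cert rels S Gen.f)) lc_f_rc_16_1 lc_f_rc_5_3 lc_f_rc_5_1 lc_f_rc_16_1 lc_f_rc_11_1 lc_f_rc_29_4 lc_f_rc_11_1 lc_f_rc_11_1 lc_f_rc_30_11 lc_f_rc_16_1 lc_f_rc_25_0 lc_f_Cert_tree lc_f_rc_5_1 lc_f_rc_16_1 lc_f_rc_30_11 lc_f_rc_29_2 lc_f_Cert_tree lc_f_rc_5_1)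
def ce_f_8 : D2 → D3 → (Cert rels S Gen.f) := @D2.rec (fun _ => D3 → (Cert rels S Gen.f)) (@D3.rec (fun _ => (Cert rels S Gen.f)) lc_f_rc_11_3 lc_f_rc_11_1 lc_f_Cert_tree lc_f_rc_25_0 lc_f_rc_16_1 lc_f_rc_5_1 lc_f_rc_5_3 lc_f_rc_29_4 lc_f_rc_11_3 lc_f_rc_29_4 lc_f_rc_5_1 lc_f_rc_20_1 lc_f_rc_16_1 lc_f_rc_16_1 lc_f_rc_16_1 lc_f_rc_11_3 lc_f_rc_5_1 lc_f_rc_20_1) (@D3.rec (fun _ => (Cert rels S Gen.f)) lc_f_rc_29_4 lc_f_rc_26_4 lc_f_rc_16_1 lc_f_rc_29_4 lc_f_rc_31_10 lc_f_rc_16_3 lc_f_rc_11_1 lc_f_rc_23_3 lc_f_rc_25_0 lc_f_rc_16_1 lc_f_rc_25_0 lc_f_rc_25_0 lc_f_rc_29_2 lc_f_rc_11_3 lc_f_rc_5_1 lc_f_rc_11_1 lc_f_rc_20_1 lc_f_rc_16_1) (@D3.rec (fun _ => (Cert rels S Gen.f)) lc_f_rc_16_1 lc_f_rc_20_1 lc_f_rc_5_3 lc_f_rc_25_0 lc_f_rc_5_1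 lc_f_rc_20_1 lc_f_rc_20_1 lc_f_rc_16_1 lc_f_rc_5_1 lc_f_rc_11_3 lc_f_rc_11_3 lc_f_rc_25_0 lc_f_rc_5_1 lc_f_rc_5_1 lc_f_rc_25_1 lc_f_rc_20_3 lc_f_rc_25_0 lc_f_rc_11_1) (@D3.rec (fun _ => (Cert rels S Gen.f)) lc_f_rc_23_1 lc_f_rc_5_1 lc_f_rc_26_6 lc_f_rc_11_1 lc_f_Cert_tree lc_f_rc_25_0 lc_f_rc_16_1 lc_f_rc_11_5 lc_f_rc_31_4 lc_f_rc_23_1 lc_f_rc_23_3 lc_f_rc_25_0 lc_f_rc_20_1 lc_f_rc_29_2 lc_f_rc_16_1 lc_f_rc_11_1 lc_f_rc_25_0 lc_f_rc_5_1) (@D3.rec (fun _ => (Cert rels S Gen.f)) lc_f_rc_29_2 lc_f_rc_11_3 lc_f_rc_11_3 lc_f_rc_11_3 lc_f_rc_26_6 lc_f_rc_23_1 lc_f_rc_20_1 lc_f_rc_5_1 lc_f_rc_16_1 lc_f_rc_5_1 lc_f_rc_29_2 lc_f_rc_23_1 lc_f_rc_20_1 lc_f_rc_23_1 lc_f_rc_5_3 lc_f_rc_25_0 lc_f_rc_23_1 lc_f_rc_25_0) (@D3.rec (fun _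 => (Cert rels S Gen.f)) lc_f_rc_11_1 lc_f_rc_16_1 lc_f_rc_29_4 lc_f_rc_16_1 lc_f_rc_29_4 lc_f_rc_11_1 lc_f_rc_29_4 lc_f_rc_20_1 lc_f_rc_20_1 lc_f_rc_11_3 lc_f_rc_20_1 lc_f_rc_16_1 lc_f_rc_23_1 lc_f_rc_23_1 lc_f_rc_25_0 lc_f_rc_23_1 lc_f_rc_16_3 lc_f_rc_16_1) (@D3.rec (fun _ => (Cert rels S Gen.f)) lc_f_rc_16_1 lc_f_rc_29_4 lc_f_rc_5_1 lc_f_rc_5_1 lc_f_Cert_tree lc_f_rc_20_3 lc_f_rc_25_0 lc_f_rc_16_1 lc_f_rc_16_1 lc_f_rc_29_2 lc_f_rc_29_4 lc_f_rc_11_1 lc_f_rc_29_2 lc_f_rc_5_1 lc_f_rc_25_0 lc_f_rc_25_0 lc_f_rc_16_1 lc_f_rc_11_1) (@D3.rec (fun _ => (Cert rels S Gen.f)) lc_f_rc_16_1 lc_f_rc_11_3 lc_f_rc_20_1 lc_f_rc_5_1 lc_f_rc_29_4 lc_f_rc_11_3 lc_f_rc_20_1 lc_f_rc_20_1 lc_f_rc_5_1 lc_f_rc_29_4 lc_f_rc_20_1 lc_f_rc_5_1 lc_f_rc_11_3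 lc_f_rc_5_1 lc_f_rc_25_0 lc_f_rc_31_4 lc_f_rc_20_1 lc_f_rc_11_1) (@D3.rec (fun _ => (Cert rels S Gen.f)) lc_f_rc_25_0 lc_f_rc_26_2 lc_f_rc_16_3 lc_f_rc_31_7 lc_f_rc_11_3 lc_f_rc_26_6 lc_f_rc_25_0 lc_f_rc_29_2 lc_f_rc_11_3 lc_f_rc_16_1 lc_f_rc_29_2 lc_f_rc_5_1 lc_f_rc_5_1 lc_f_rc_16_1 lc_f_rc_16_1 lc_f_rc_5_3 lc_f_rc_25_0 lc_f_rc_25_0) (@D3.rec (fun _ => (Cert rels S Gen.f)) lc_f_rc_5_1 lc_f_rc_11_3 lc_f_rc_25_0 lc_f_rc_20_1 lc_f_rc_16_1 lc_f_rc_5_1 lc_f_rc_5_1 lc_f_rc_5_1 lc_f_rc_20_1 lc_f_rc_11_3 lc_f_rc_11_1 lc_f_rc_5_1 lc_f_rc_16_1 lc_f_rc_31_10 lc_f_rc_16_1 lc_f_rc_5_1 lc_f_rc_5_1 lc_f_rc_29_2) (@D3.rec (fun _ => (Cert rels S Gen.f)) lc_f_rc_11_1 lc_f_rc_25_1 lc_f_rc_20_1 lc_f_rc_25_0 lc_f_rc_26_2 lc_f_rc_23_1 lc_f_rc_25_0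 lc_f_rc_29_2 lc_f_rc_16_1 lc_f_rc_11_3 lc_f_rc_11_3 lc_f_rc_31_4 lc_f_rc_25_0 lc_f_rc_16_1 lc_f_rc_29_2 lc_f_rc_11_3 lc_f_rc_31_10 lc_f_rc_31_7)
def ce_f : Pt → (Cert rels S Gen.f) := @Pt.rec (fun _ => (Cert rels S Gen.f)) (@D1.rec (fun _ => D2 → D3 → (Cert rels S Gen.f)) ce_f_0 ce_f_1 ce_f_2 ce_f_3 ce_f_4 ce_f_5 ce_f_6 ce_f_7 ce_f_8)
def isSeed_f (p : Pt) : Bool := false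

end

end Cfsg.Agent.Helper28.S1680
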