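import Cfsg.Agent.Lib.Helper28.S1680.Tree

set_option autoImplicit false
set_option maxRecDepth 100000
set_option linter.all false

namespace Cfsg.Agent.Helper28.S1680

open Cfsg.Agent.Helper28
open Cfsg.Spor.Suz (Gen)

noncomputable section

def lv_g_0 : D2 → D3 → Nat := @D2.rec (fun _ => D3 → Nat) (@D3.rec (fun _ => Nat) 0 1 2 3 3 19 18 4 4 19 20 0 5 5 5 21 0 33) (@D3.rec (fun _ => Nat) 20 34 0 32 1 6 6 0 6 21 21 55 1 35 33 22 22 34) (@D3.rec (fun _ => Nat) 3 0 0 34 1 2 0 7 0 0 0 1 7 23 54 55 54 53) (@D3.rec (fun _ => Nat) 35 33 52 22 36 4 0 37 0 34 1 34 1 3 35 0 0 0) (@D3.rec (fun _ => Nat) 1 8 0 4 1 0 0 1 54 1 2 8 23 54 56 53 55 35) (@D3.rec (fun _ => Nat) 35 54 0 24 5 0 0 0 0 1 35 36 53 0 36 1 0 55) (@D3.rec (fun _ =>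 Nat) 4 37 0 4 1 0 0 1 1 2 9 0 4 1 0 0 0 1) (@D3.rec (fun _ => Nat) 56 1 4 56 0 0 25 56 53 54 55 35 0 54 0 1 23 0) (@D3.rec (fun _ => Nat) 0 4 1 0 0 1 0 0 1 54 1 2 38 36 55 55 0 36) (@D3.rec (fun _ => Nat) 1 0 55 55 1 55 37 38 0 4 1 0 0 0 1 1 4 23) (@D3.rec (fun _ => Nat) 0 0 0 5 1 0 57 0 1 0 0 0 1 56 1 5 56 0)
def lv_g_1 : D2 → D3 → Nat := @D2.rec (fun _ => D3 → Nat) (@D3.rec (fun _ => Nat) 58 56 56 0 1 0 0 1 0 56 55 54 55 57 37 0 59 1) (@D3.rec (fun _ => Nat) 56 0 1 22 0 0 47 1 0 4 1 58 2 0 0 1 54 1) (@D3.rec (fun _ => Nat) 48 0 0 1 56 1 4 3 38 39 55 57 60 0 38 1 0 57) (@D3.rec (fun _ => Nat) 55 1 57 55 4 57 57 38 39 0 5 1 0 57 60 1 0 0) (@D3.rec (fun _ => Nat) 0 1 1 5 23 0 57 59 0 1 0 0 1 0 0 6 1 0) (@D3.rec (fun _ =>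 Nat) 57 0 1 57 57 0 1 0 0 0 1 0 0 1 0 1 2 6) (@D3.rec (fun _ => Nat) 58 58 0 58 58 58 0 1 58 58 58 0 1 88 4 1 89 1) (@D3.rec (fun _ => Nat) 2 91 0 1 55 56 55 0 39 0 60 1 0 56 0 1 24 90) (@D3.rec (fun _ => Nat) 0 1 0 49 1 2 0 5 1 58 3 0 0 1 54 1 48 0) (@D3.rec (fun _ => Nat) 0 0 1 56 1 5 4 37 0 58 57 57 62 0 0 1 0 2) (@D3.rec (fun _ => Nat) 57 57 0 1 57 57 5 57 57 57 57 0 0 6 1 0 59 58)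
def lv_g_2 : D2 → D3 → Nat := @D2.rec (fun _ => D3 → Nat) (@D3.rec (fun _ => Nat) 1 0 0 0 1 0 0 0 1 0 1 2 6 25 0 59 61 0) (@D3.rec (fun _ => Nat) 1 0 1 87 4 1 1 2 0 80 0 1 0 7 1 0 2 59) (@D3.rec (fun _ => Nat) 0 1 59 59 1 59 1 9 0 0 4 1 81 0 0 1 0 1) (@D3.rec (fun _ => Nat) 2 2 0 1 0 1 3 7 0 0 1 2 60 58 58 0 1 60) (@D3.rec (fun _ => Nat) 58 1 60 58 0 1 10 90 92 0 92 3 88 93 89 87 1 5) (@D3.rec (fun _ => Nat) 80 57 56 58 78 75 1 0 61 0 1 86 0 0 1 59 58 0) (@D3.rec (fun _ => Nat) 1 24 88 4 1 2 0 49 1 3 92 6 1 60 4 0 0 0) (@D3.rec (fun _ => Nat) 1 56 1 48 0 85 118 1 87 0 1 0 1 82 6 5 57 0) (@D3.rec (fun _ => Nat) 0 0 0 1 58 0 58 61 83 4 1 0 1 2 2 0 0 1) (@D3.rec (fun _ => Nat) 79 0 0 56 58 0 1 7 59 59 59 59 0 0 0 1 0 7) (@D3.rec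 (fun _ => Nat) 1 0 2 60 0 1 60 85 82 4 1 83 0 83 1 0 1 2)
def lv_g_3 : D2 → D3 → Nat := @D2.rec (fun _ => D3 → Nat) (@D3.rec (fun _ => Nat) 2 91 0 9 1 0 1 0 1 3 7 0 1 2 61 25 61 0) (@D3.rec (fun _ => Nat) 1 1 63 1 89 0 91 25 89 81 4 1 80 81 0 0 1 2) (@D3.rec (fun _ => Nat) 2 8 1 0 81 0 0 1 83 82 59 59 1 11 10 88 87 0) (@D3.rec (fun _ => Nat) 113 1 82 0 4 1 87 82 0 0 1 0 1 3 4 3 0 1) (@D3.rec (fun _ => Nat) 2 0 1 4 8 0 117 1 2 114 0 1 1 2 4 3 3 117) (@D3.rec (fun _ => Nat) 60 60 1 12 66 1 11 88 90 94 116 1 90 88 0 0 4 95) (@D3.rec (fun _ => Nat) 91 91 91 88 93 0 4 0 78 77 57 0 63 3 0 2 0 0) (@D3.rec (fun _ => Nat) 1 61 0 1 81 86 4 87 0 1 0 1 2 80 57 0 0 1) (@D3.rec (fun _ => Nat) 2 26 92 82 0 94 24 0 92 0 52 1 4 90 93 118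 60 0) (@D3.rec (fun _ => Nat) 86 117 1 88 0 1 0 1 83 51 57 85 3 1 119 117 2 0) (@D3.rec (fun _ => Nat) 0 1 6 0 115 1 2 83 117 6 58 80 77 1 80 87 4 1)
def lv_g_4 : D2 → D3 → Nat := @D2.rec (fun _ => D3 → Nat) (@D3.rec (fun _ => Nat) 89 88 1 0 1 2 0 0 0 1 59 64 87 87 86 0 3 120) (@D3.rec (fun _ => Nat) 1 3 0 0 0 1 0 1 4 3 0 1 0 0 1 63 0 59) (@D3.rec (fun _ => Nat) 65 0 1 4 6 59 112 82 4 1 81 82 86 1 0 1 2 2) (@D3.rec (fun _ => Nat) 8 1 0 82 0 0 1 82 119 62 0 1 64 88 86 121 83 4) (@D3.rec (fun _ => Nat) 88 85 84 84 1 116 3 3 3 1 114 89 90 111 0 88 1 119) (@D3.rec (fun _ => Nat) 0 1 4 8 0 0 1 2 120 1 2 4 3 3 111 61 27 63) (@D3.rec (fun _ => Nat) 1 62 89 115 1 88 90 25 25 93 90 89 81 82 82 81 80 0) (@D3.rec (fun _ => Nat) 118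 1 3 122 1 3 110 0 82 118 119 1 83 82 0 0 1 119) (@D3.rec (fun _ => Nat) 1 4 3 61 114 88 3 88 0 86 113 1 2 88 83 82 5 1) (@D3.rec (fun _ => Nat) 88 88 0 109 1 0 1 4 5 119 119 1 2 4 1 2 109 3) (@D3.rec (fun _ => Nat) 77 0 117 1 2 114 119 1 2 110 111 0 1 5 3 3 3 108)
def lv_g_5 : D2 → D3 → Nat := @D2.rec (fun _ => D3 → Nat) (@D3.rec (fun _ => Nat) 4 3 4 111 117 67 118 94 94 96 92 115 92 89 90 0 1 93) (@D3.rec (fun _ => Nat) 0 93 1 0 93 113 95 90 82 89 87 0 1 118 97 0 1 0) (@D3.rec (fun _ => Nat) 112 0 0 1 62 113 3 114 1 122 0 121 1 127 1 4 0 1) (@D3.rec (fun _ => Nat) 4 82 0 4 0 0 1 4 3 1 2 118 79 114 0 113 1 0) (@D3.rec (fun _ => Nat) 1 2 4 3 3 77 26 88 87 0 92 1 94 26 26 92 0 1) (@D3.rec (fun _ => Nat) 88 91 93 52 1 119 91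 83 87 3 1 87 120 118 2 0 0 1) (@D3.rec (fun _ => Nat) 53 0 118 1 2 84 116 58 83 114 3 0 110 1 119 110 1 112) (@D3.rec (fun _ => Nat) 118 117 115 1 2 4 3 0 7 59 3 2 84 4 0 87 0 3) (@D3.rec (fun _ => Nat) 3 119 1 79 0 113 1 79 0 1 0 1 4 60 62 81 86 86) (@D3.rec (fun _ => Nat) 0 81 82 1 4 128 120 0 1 75 0 1 0 118 1 2 0 1) (@D3.rec (fun _ => Nat) 4 4 75 90 78 0 1 79 0 0 1 0 1 118 63 0 0 0)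
def lv_g_6 : D2 → D3 → Nat := @D2.rec (fun _ => D3 → Nat) (@D3.rec (fun _ => Nat) 1 60 63 1 5 7 5 0 121 83 86 4 112 82 83 123 3 3) (@D3.rec (fun _ => Nat) 123 1 3 118 0 0 0 1 88 83 109 0 1 0 1 4 3 118) (@D3.rec (fun _ => Nat) 64 1 117 0 64 5 124 4 4 4 112 90 89 1 0 114 1 2) (@D3.rec (fun _ => Nat) 114 1 1 2 5 118 3 119 3 3 3 96 4 3 4 119 0 61) (@D3.rec (fun _ => Nat) 63 116 91 93 118 93 27 90 88 89 114 82 81 83 110 116 1 123) (@D3.rec (fun _ => Nat) 118 118 127 1 84 83 0 75 92 1 0 1 109 117 91 86 4 91) (@D3.rec (fun _ => Nat) 87 115 1 113 3 87 83 89 119 1 111 109 127 117 1 111 2 111) (@D3.rec (fun _ => Nat) 3 77 75 3 111 111 116 118 114 119 1 115 2 120 111 114 110 110) (@D3.rec (fun _ => Nat) 78 1 120 4 4 4 111 111 5 4 119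 119 111 98 92 93 0 110) (@D3.rec (fun _ => Nat) 118 89 0 1 95 97 0 0 93 1 0 114 1 0 82 119 4 1) (@D3.rec (fun _ => Nat) 2 92 0 1 3 114 1 114 78 117 1 117 1 4 128 115 0 123)
def lv_g_7 : D2 → D3 → Nat := @D2.rec (fun _ => D3 → Nat) (@D3.rec (fun _ => Nat) 121 124 80 122 80 1 119 120 4 1 119 115 82 0 1 121 1 76) (@D3.rec (fun _ => Nat) 1 74 2 79 114 115 1 82 1 83 3 3 85 4 4 77 89 117) (@D3.rec (fun _ => Nat) 1 94 96 26 114 97 119 1 89 92 113 118 85 88 119 117 3 0) (@D3.rec (fun _ => Nat) 110 1 125 0 1 2 119 123 120 1 2 4 3 59 119 121 124 1) (@D3.rec (fun _ => Nat) 112 110 108 98 117 91 89 3 84 0 122 0 1 8 84 82 81 0) (@D3.rec (fun _ => Nat) 82 82 1 91 1 4 117 119 81 117 1 79 123 117 1 79 121 0) (@D3.rec (fun _ => Nat) 1 4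 66 0 118 3 81 1 129 115 4 122 79 90 123 116 116 1) (@D3.rec (fun _ => Nat) 77 0 1 2 1 2 121 1 5 6 5 86 80 78 1 85 125 115) (@D3.rec (fun _ => Nat) 1 0 0 1 1 119 0 4 1 0 0 0 1 1 2 124 8 122) (@D3.rec (fun _ => Nat) 119 124 5 0 1 117 84 116 113 119 124 112 116 0 1 0 1 116) (@D3.rec (fun _ => Nat) 1 120 124 1 119 118 1 116 0 107 125 1 124 91 127 1 2 118)
def lv_g_8 : D2 → D3 → Nat := @D2.rec (fun _ => D3 → Nat) (@D3.rec (fun _ => Nat) 120 116 3 85 118 120 4 4 119 1 93 111 98 90 117 112 118 112) (@D3.rec (fun _ => Nat) 109 77 0 1 1 125 92 88 4 88 116 5 111 113 112 111 118 126) (@D3.rec (fun _ => Nat) 3 111 114 79 117 114 112 114 5 106 0 98 115 119 121 0 124 1) (@D3.rec (fun _ => Nat) 112 89 1 119 95 99 128 125 1 98 0 95 1 119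 115 1 85 0) (@D3.rec (fun _ => Nat) 1 124 85 100 125 125 1 116 122 128 126 1 120 82 114 80 118 122) (@D3.rec (fun _ => Nat) 122 121 1 125 4 4 112 121 115 119 94 96 99 121 116 121 116 120) (@D3.rec (fun _ => Nat) 128 1 113 112 1 2 110 3 118 3 86 122 1 124 1 118 81 1) (@D3.rec (fun _ => Nat) 119 125 125 122 1 1 86 120 116 1 2 126 120 125 113 1 1 127) (@D3.rec (fun _ => Nat) 4 1 119 1 1 1 4 1 119 1 1 125 124 126 119 1 117 90) (@D3.rec (fun _ => Nat) 120 119 85 101 92 111 78 1 120 115 113 112 113 115 112 125 120 1) (@D3.rec (fun _ => Nat) 1 97 98 126 126 99 1 121 1 121 115 14 110 3 118 90 116 12)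
def lv_g : Pt → Nat := @Pt.rec (fun _ => Nat) (@D1.rec (fun _ => D2 → D3 → Nat) lv_g_0 lv_g_1 lv_g_2 lv_g_3 lv_g_4 lv_g_5 lv_g_6 lv_g_7 lv_g_8)
abbrev lc_g_Cert_tree : Cert rels S Gen.g := Cert.tree
abbrev lc_g_rc_12_1 : Cert rels S Gen.g := rc_12_1
abbrev lc_g_rc_12_3 : Cert rels S Gen.g := rc_12_3
abbrev lc_g_rc_12_5 : Cert rels S Gen.g := rc_12_5
abbrev lc_g_rc_17_1 : Cert rels S Gen.g := rc_17_1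
abbrev lc_g_rc_17_3 : Cert rels S Gen.g := rc_17_3
abbrev lc_g_rc_21_1 : Cert rels S Gen.g := rc_21_1
abbrev lc_g_rc_21_3 : Cert rels S Gen.g := rc_21_3
abbrev lc_g_rc_24_1 : Cert rels S Gen.g := rc_24_1
abbrev lc_g_rc_24_3 : Cert rels S Gen.g := rc_24_3
abbrev lc_g_rc_26_1 : Cert rels S Gen.g := rc_26_1
abbrev lc_g_rc_26_3 : Cert rels S Gen.g := rc_26_3
abbrev lc_g_rc_26_5 : Cert rels S Gen.g := rc_26_5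
abbrev lc_g_rc_26_7 : Cert rels S Gen.g := rc_26_7
abbrev lc_g_rc_27_0 : Cert rels S Gen.g := rc_27_0
abbrev lc_g_rc_27_1 : Cert rels S Gen.g := rc_27_1
abbrev lc_g_rc_29_1 : Cert rels S Gen.g := rc_29_1
abbrev lc_g_rc_29_3 : Cert rels S Gen.g := rc_29_3
abbrev lc_g_rc_31_11 : Cert rels S Gen.g := rc_31_11
abbrev lc_g_rc_31_14 : Cert rels S Gen.g := rc_31_14
abbrev lc_g_rc_31_2 : Cert rels S Gen.g := rc_31_2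
abbrev lc_g_rc_31_5 : Cert rels S Gen.g := rc_31_5
abbrev lc_g_rc_31_8 : Cert rels S Gen.g := rc_31_8
abbrev lc_g_rc_6_1 : Cert rels S Gen.g := rc_6_1
abbrev lc_g_rc_6_3 : Cert rels S Gen.g := rc_6_3
def ce_g_0 : D2 → D3 → (Cert rels S Gen.g) := @D2.rec (fun _ => D3 → (Cert rels S Gen.g)) (@D3.rec (fun _ => (Cert rels S Gen.g)) lc_g_Cert_tree lc_g_rc_27_0 lc_g_rc_12_3 lc_g_rc_6_1 lc_g_rc_17_1 lc_g_rc_29_3 lc_g_rc_29_3 lc_g_rc_6_1 lc_g_rc_21_1 lc_g_rc_29_3 lc_g_rc_29_3 lc_g_Cert_tree lc_g_rc_6_1 lc_g_rc_17_1 lc_g_rc_24_1 lc_g_rc_29_3 lc_g_Cert_tree lc_g_rc_26_7) (@D3.rec (fun _ => (Cert rels S Gen.g)) lc_g_rc_29_3 lc_g_rc_26_3 lc_g_Cert_tree lc_g_Cert_tree lc_g_rc_27_0 lc_g_rc_17_1 lc_g_rc_6_1 lc_g_Cert_tree lc_g_rc_17_1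 lc_g_rc_29_3 lc_g_rc_29_3 lc_g_rc_12_3 lc_g_rc_27_0 lc_g_rc_27_1 lc_g_rc_24_1 lc_g_rc_29_3 lc_g_rc_29_3 lc_g_rc_26_3) (@D3.rec (fun _ => (Cert rels S Gen.g)) lc_g_rc_27_1 lc_g_Cert_tree lc_g_Cert_tree lc_g_rc_27_1 lc_g_rc_27_0 lc_g_rc_29_3 lc_g_Cert_tree lc_g_rc_17_1 lc_g_Cert_tree lc_g_Cert_tree lc_g_Cert_tree lc_g_rc_27_0 lc_g_rc_21_1 lc_g_rc_29_3 lc_g_rc_6_3 lc_g_rc_12_3 lc_g_rc_12_1 lc_g_rc_6_1) (@D3.rec (fun _ => (Cert rels S Gen.g)) lc_g_rc_26_7 lc_g_rc_21_1 lc_g_rc_6_3 lc_g_rc_29_3 lc_g_rc_27_0 lc_g_rc_29_1 lc_g_Cert_tree lc_g_rc_21_3 lc_g_Cert_tree lc_g_rc_17_1 lc_g_rc_27_0 lc_g_rc_24_1 lc_g_rc_27_0 lc_g_rc_29_3 lc_g_rc_12_3 lc_g_Cert_tree lc_g_Cert_tree lc_g_Cert_tree) (@D3.rec (fun _ => (Cert rels S Gen.g)) lc_g_rc_27_0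 lc_g_rc_21_1 lc_g_Cert_tree lc_g_rc_6_3 lc_g_rc_27_0 lc_g_Cert_tree lc_g_Cert_tree lc_g_rc_27_0 lc_g_rc_6_3 lc_g_rc_27_0 lc_g_rc_29_3 lc_g_rc_17_1 lc_g_rc_29_3 lc_g_rc_6_3 lc_g_rc_12_1 lc_g_rc_6_1 lc_g_rc_6_1 lc_g_rc_17_1) (@D3.rec (fun _ => (Cert rels S Gen.g)) lc_g_rc_27_0 lc_g_rc_6_3 lc_g_Cert_tree lc_g_rc_29_3 lc_g_rc_29_1 lc_g_Cert_tree lc_g_Cert_tree lc_g_Cert_tree lc_g_Cert_tree lc_g_rc_27_0 lc_g_rc_21_1 lc_g_rc_24_1 lc_g_rc_21_1 lc_g_Cert_tree lc_g_rc_17_1 lc_g_rc_27_0 lc_g_Cert_tree lc_g_rc_6_1) (@D3.rec (fun _ => (Cert rels S Gen.g)) lc_g_rc_29_3 lc_g_rc_12_3 lc_g_Cert_tree lc_g_rc_6_3 lc_g_rc_27_0 lc_g_Cert_tree lc_g_Cert_tree lc_g_rc_27_0 lc_g_rc_27_0 lc_g_rc_29_3 lc_g_rc_17_1 lc_g_Cert_tree lc_g_rc_6_3 lc_g_rc_27_0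 lc_g_Cert_tree lc_g_Cert_tree lc_g_Cert_tree lc_g_rc_27_0) (@D3.rec (fun _ => (Cert rels S Gen.g)) lc_g_rc_6_3 lc_g_rc_27_0 lc_g_rc_6_1 lc_g_rc_12_3 lc_g_Cert_tree lc_g_Cert_tree lc_g_rc_17_1 lc_g_rc_6_3 lc_g_rc_6_1 lc_g_rc_21_1 lc_g_rc_6_1 lc_g_rc_17_1 lc_g_Cert_tree lc_g_rc_6_3 lc_g_Cert_tree lc_g_rc_27_0 lc_g_rc_29_1 lc_g_Cert_tree) (@D3.rec (fun _ => (Cert rels S Gen.g)) lc_g_Cert_tree lc_g_rc_6_3 lc_g_rc_27_0 lc_g_Cert_tree lc_g_Cert_tree lc_g_rc_27_0 lc_g_Cert_tree lc_g_Cert_tree lc_g_rc_27_0 lc_g_rc_31_8 lc_g_rc_27_0 lc_g_rc_29_3 lc_g_rc_24_1 lc_g_rc_24_3 lc_g_rc_24_1 lc_g_rc_26_5 lc_g_Cert_tree lc_g_rc_21_1) (@D3.rec (fun _ => (Cert rels S Gen.g)) lc_g_rc_27_0 lc_g_Cert_tree lc_g_rc_6_1 lc_g_rc_26_3 lc_g_rc_27_0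 lc_g_rc_12_3 lc_g_rc_12_3 lc_g_rc_17_1 lc_g_Cert_tree lc_g_rc_6_3 lc_g_rc_27_0 lc_g_Cert_tree lc_g_Cert_tree lc_g_Cert_tree lc_g_rc_27_0 lc_g_rc_27_0 lc_g_rc_6_1 lc_g_rc_12_3) (@D3.rec (fun _ => (Cert rels S Gen.g)) lc_g_Cert_tree lc_g_Cert_tree lc_g_Cert_tree lc_g_rc_6_3 lc_g_rc_27_0 lc_g_Cert_tree lc_g_rc_29_1 lc_g_Cert_tree lc_g_rc_27_0 lc_g_Cert_tree lc_g_Cert_tree lc_g_Cert_tree lc_g_rc_27_0 lc_g_rc_6_3 lc_g_rc_27_0 lc_g_rc_6_1 lc_g_rc_12_3 lc_g_Cert_tree)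
def ce_g_1 : D2 → D3 → (Cert rels S Gen.g) := @D2.rec (fun _ => D3 → (Cert rels S Gen.g)) (@D3.rec (fun _ => (Cert rels S Gen.g)) lc_g_rc_29_1 lc_g_rc_17_1 lc_g_rc_29_3 lc_g_Cert_tree lc_g_rc_27_0 lc_g_Cert_tree lc_g_Cert_tree lc_g_rc_27_0 lc_g_Cert_tree lc_g_rc_17_1 lc_g_rc_6_1 lc_g_rc_24_1 lc_g_rc_17_3 lc_g_rc_17_1 lc_g_rc_21_1 lc_g_Cert_tree lc_g_rc_26_3 lc_g_rc_27_0) (@D3.rec (fun _ => (Cert rels S Gen.g)) lc_g_rc_17_1 lc_g_Cert_tree lc_g_rc_27_0 lc_g_rc_12_3 lc_g_Cert_tree lc_g_Cert_tree lc_g_rc_26_3 lc_g_rc_27_0 lc_g_Cert_tree lc_g_rc_6_3 lc_g_rc_27_0 lc_g_rc_12_3 lc_g_rc_12_3 lc_g_Cert_tree lc_g_Cert_tree lc_g_rc_27_0 lc_g_rc_31_2 lc_g_rc_27_0) (@D3.rec (fun _ => (Cert rels S Gen.g)) lc_g_rc_26_5 lc_g_Cert_tree lc_g_Cert_tree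 lc_g_rc_27_0 lc_g_rc_31_8 lc_g_rc_27_0 lc_g_rc_6_1 lc_g_rc_29_1 lc_g_rc_24_1 lc_g_rc_17_1 lc_g_rc_24_1 lc_g_rc_26_5 lc_g_rc_26_5 lc_g_Cert_tree lc_g_rc_29_3 lc_g_rc_27_0 lc_g_Cert_tree lc_g_rc_6_1) (@D3.rec (fun _ => (Cert rels S Gen.g)) lc_g_rc_26_3 lc_g_rc_27_0 lc_g_rc_12_3 lc_g_rc_17_1 lc_g_rc_27_0 lc_g_rc_6_1 lc_g_rc_17_1 lc_g_rc_17_1 lc_g_rc_21_1 lc_g_Cert_tree lc_g_rc_6_3 lc_g_rc_27_0 lc_g_Cert_tree lc_g_rc_17_1 lc_g_rc_24_3 lc_g_rc_27_0 lc_g_Cert_tree lc_g_Cert_tree) (@D3.rec (fun _ => (Cert rels S Gen.g)) lc_g_Cert_tree lc_g_rc_27_0 lc_g_rc_27_0 lc_g_rc_6_1 lc_g_rc_12_3 lc_g_Cert_tree lc_g_rc_6_1 lc_g_rc_21_1 lc_g_Cert_tree lc_g_rc_27_0 lc_g_Cert_tree lc_g_Cert_tree lc_g_rc_27_0 lc_g_Cert_tree lc_g_Cert_tree lc_g_rc_17_1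 lc_g_rc_27_0 lc_g_Cert_tree) (@D3.rec (fun _ => (Cert rels S Gen.g)) lc_g_rc_29_1 lc_g_Cert_tree lc_g_rc_27_0 lc_g_rc_12_1 lc_g_rc_29_1 lc_g_Cert_tree lc_g_rc_27_0 lc_g_Cert_tree lc_g_Cert_tree lc_g_Cert_tree lc_g_rc_27_0 lc_g_Cert_tree lc_g_Cert_tree lc_g_rc_27_0 lc_g_Cert_tree lc_g_rc_27_0 lc_g_rc_12_3 lc_g_rc_17_1) (@D3.rec (fun _ => (Cert rels S Gen.g)) lc_g_rc_17_1 lc_g_rc_12_3 lc_g_Cert_tree lc_g_rc_29_1 lc_g_rc_17_1 lc_g_rc_29_3 lc_g_Cert_tree lc_g_rc_27_0 lc_g_rc_29_1 lc_g_rc_21_1 lc_g_rc_29_3 lc_g_Cert_tree lc_g_rc_27_0 lc_g_rc_6_1 lc_g_rc_6_3 lc_g_rc_27_0 lc_g_rc_6_3 lc_g_rc_27_0) (@D3.rec (fun _ => (Cert rels S Gen.g)) lc_g_rc_29_3 lc_g_rc_6_3 lc_g_Cert_tree lc_g_rc_27_0 lc_g_rc_17_1 lc_g_rc_24_1 lc_g_rc_17_3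 lc_g_Cert_tree lc_g_rc_29_1 lc_g_Cert_tree lc_g_rc_26_3 lc_g_rc_27_0 lc_g_Cert_tree lc_g_rc_21_1 lc_g_Cert_tree lc_g_rc_27_0 lc_g_rc_12_3 lc_g_rc_6_3) (@D3.rec (fun _ => (Cert rels S Gen.g)) lc_g_Cert_tree lc_g_rc_27_0 lc_g_Cert_tree lc_g_rc_26_3 lc_g_rc_27_0 lc_g_rc_12_3 lc_g_Cert_tree lc_g_rc_6_3 lc_g_rc_27_0 lc_g_rc_12_3 lc_g_rc_12_3 lc_g_Cert_tree lc_g_Cert_tree lc_g_rc_27_0 lc_g_rc_31_2 lc_g_rc_27_0 lc_g_rc_26_5 lc_g_Cert_tree) (@D3.rec (fun _ => (Cert rels S Gen.g)) lc_g_Cert_tree lc_g_Cert_tree lc_g_rc_27_0 lc_g_rc_31_8 lc_g_rc_27_0 lc_g_rc_6_1 lc_g_rc_29_1 lc_g_rc_17_1 lc_g_Cert_tree lc_g_rc_29_3 lc_g_rc_24_1 lc_g_rc_26_5 lc_g_rc_26_5 lc_g_Cert_tree lc_g_Cert_tree lc_g_rc_27_0 lc_g_Cert_tree lc_g_rc_12_3) (@D3.rec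 (fun _ => (Cert rels S Gen.g)) lc_g_rc_17_1 lc_g_rc_26_3 lc_g_Cert_tree lc_g_rc_27_0 lc_g_rc_12_3 lc_g_rc_17_1 lc_g_rc_27_0 lc_g_rc_6_1 lc_g_rc_17_1 lc_g_rc_6_1 lc_g_rc_21_1 lc_g_Cert_tree lc_g_Cert_tree lc_g_rc_17_1 lc_g_rc_27_0 lc_g_Cert_tree lc_g_rc_17_1 lc_g_rc_24_1)
def ce_g_2 : D2 → D3 → (Cert rels S Gen.g) := @D2.rec (fun _ => D3 → (Cert rels S Gen.g)) (@D3.rec (fun _ => (Cert rels S Gen.g)) lc_g_rc_27_0 lc_g_Cert_tree lc_g_Cert_tree lc_g_Cert_tree lc_g_rc_27_0 lc_g_Cert_tree lc_g_Cert_tree lc_g_Cert_tree lc_g_rc_27_0 lc_g_Cert_tree lc_g_rc_27_0 lc_g_rc_12_3 lc_g_rc_17_1 lc_g_rc_12_3 lc_g_Cert_tree lc_g_rc_6_1 lc_g_rc_21_3 lc_g_Cert_tree) (@D3.rec (fun _ => (Cert rels S Gen.g)) lc_g_rc_27_0 lc_g_Cert_tree lc_g_rc_27_0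 lc_g_rc_6_1 lc_g_rc_6_3 lc_g_rc_27_0 lc_g_rc_27_0 lc_g_rc_29_3 lc_g_Cert_tree lc_g_rc_29_3 lc_g_Cert_tree lc_g_rc_27_0 lc_g_Cert_tree lc_g_rc_21_1 lc_g_rc_27_0 lc_g_Cert_tree lc_g_rc_12_3 lc_g_rc_29_1) (@D3.rec (fun _ => (Cert rels S Gen.g)) lc_g_Cert_tree lc_g_rc_27_0 lc_g_rc_12_1 lc_g_rc_29_1 lc_g_rc_27_0 lc_g_rc_29_1 lc_g_rc_27_0 lc_g_rc_12_3 lc_g_Cert_tree lc_g_Cert_tree lc_g_rc_6_3 lc_g_rc_27_0 lc_g_rc_12_3 lc_g_Cert_tree lc_g_Cert_tree lc_g_rc_27_0 lc_g_Cert_tree lc_g_rc_27_0) (@D3.rec (fun _ => (Cert rels S Gen.g)) lc_g_rc_12_3 lc_g_rc_29_3 lc_g_Cert_tree lc_g_rc_27_0 lc_g_Cert_tree lc_g_rc_27_0 lc_g_rc_12_3 lc_g_rc_21_1 lc_g_Cert_tree lc_g_Cert_tree lc_g_rc_27_0 lc_g_rc_12_3 lc_g_rc_29_1 lc_g_rc_17_1 lc_g_rc_29_3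 lc_g_Cert_tree lc_g_rc_27_0 lc_g_rc_29_1) (@D3.rec (fun _ => (Cert rels S Gen.g)) lc_g_rc_29_3 lc_g_rc_27_0 lc_g_rc_29_1 lc_g_rc_29_3 lc_g_Cert_tree lc_g_rc_27_0 lc_g_rc_12_3 lc_g_rc_6_1 lc_g_rc_6_3 lc_g_Cert_tree lc_g_rc_12_3 lc_g_rc_29_1 lc_g_rc_31_14 lc_g_rc_12_3 lc_g_rc_12_3 lc_g_rc_6_3 lc_g_rc_27_0 lc_g_rc_17_3) (@D3.rec (fun _ => (Cert rels S Gen.g)) lc_g_rc_21_3 lc_g_rc_21_1 lc_g_rc_24_1 lc_g_rc_21_1 lc_g_rc_26_3 lc_g_rc_31_2 lc_g_rc_27_0 lc_g_Cert_tree lc_g_rc_26_3 lc_g_Cert_tree lc_g_rc_27_0 lc_g_rc_6_3 lc_g_Cert_tree lc_g_Cert_tree lc_g_rc_27_0 lc_g_rc_29_3 lc_g_rc_29_3 lc_g_Cert_tree) (@D3.rec (fun _ => (Cert rels S Gen.g)) lc_g_rc_27_0 lc_g_rc_12_3 lc_g_rc_12_3 lc_g_rc_6_3 lc_g_rc_27_0 lc_g_rc_29_3 lc_g_Cert_tree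 lc_g_rc_26_3 lc_g_rc_27_0 lc_g_rc_12_3 lc_g_rc_21_3 lc_g_rc_17_1 lc_g_rc_27_0 lc_g_rc_12_3 lc_g_rc_12_3 lc_g_Cert_tree lc_g_Cert_tree lc_g_Cert_tree) (@D3.rec (fun _ => (Cert rels S Gen.g)) lc_g_rc_27_0 lc_g_rc_31_2 lc_g_rc_27_0 lc_g_rc_26_5 lc_g_Cert_tree lc_g_rc_12_1 lc_g_rc_12_1 lc_g_rc_27_0 lc_g_rc_17_3 lc_g_Cert_tree lc_g_rc_27_0 lc_g_Cert_tree lc_g_rc_27_0 lc_g_rc_17_3 lc_g_rc_17_1 lc_g_rc_29_1 lc_g_rc_17_1 lc_g_Cert_tree) (@D3.rec (fun _ => (Cert rels S Gen.g)) lc_g_Cert_tree lc_g_Cert_tree lc_g_Cert_tree lc_g_rc_27_0 lc_g_rc_6_3 lc_g_Cert_tree lc_g_rc_26_5 lc_g_rc_26_5 lc_g_rc_12_1 lc_g_rc_6_3 lc_g_rc_27_0 lc_g_Cert_tree lc_g_rc_27_0 lc_g_rc_12_3 lc_g_rc_29_3 lc_g_Cert_tree lc_g_Cert_tree lc_g_rc_27_0) (@D3.rec (fun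 _ => (Cert rels S Gen.g)) lc_g_rc_6_1 lc_g_Cert_tree lc_g_Cert_tree lc_g_rc_21_1 lc_g_rc_26_3 lc_g_Cert_tree lc_g_rc_27_0 lc_g_rc_17_3 lc_g_rc_6_1 lc_g_rc_17_1 lc_g_rc_6_1 lc_g_rc_6_1 lc_g_Cert_tree lc_g_Cert_tree lc_g_Cert_tree lc_g_rc_27_0 lc_g_Cert_tree lc_g_rc_21_1) (@D3.rec (fun _ => (Cert rels S Gen.g)) lc_g_rc_27_0 lc_g_Cert_tree lc_g_rc_12_3 lc_g_rc_6_3 lc_g_Cert_tree lc_g_rc_27_0 lc_g_rc_21_1 lc_g_rc_12_1 lc_g_rc_17_1 lc_g_rc_6_3 lc_g_rc_27_0 lc_g_rc_29_1 lc_g_Cert_tree lc_g_rc_26_1 lc_g_rc_27_0 lc_g_Cert_tree lc_g_rc_27_0 lc_g_rc_12_3)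
def ce_g_3 : D2 → D3 → (Cert rels S Gen.g) := @D2.rec (fun _ => D3 → (Cert rels S Gen.g)) (@D3.rec (fun _ => (Cert rels S Gen.g)) lc_g_rc_29_3 lc_g_rc_12_1 lc_g_Cert_tree lc_g_rc_29_1 lc_g_rc_27_0 lc_g_Cert_tree lc_g_rc_27_0 lc_g_Cert_tree lc_g_rc_27_0 lc_g_rc_12_3 lc_g_rc_21_1 lc_g_Cert_tree lc_g_rc_27_0 lc_g_rc_12_3 lc_g_rc_26_5 lc_g_rc_17_1 lc_g_rc_6_1 lc_g_Cert_tree) (@D3.rec (fun _ => (Cert rels S Gen.g)) lc_g_rc_27_0 lc_g_rc_27_0 lc_g_rc_17_3 lc_g_rc_27_0 lc_g_rc_6_1 lc_g_Cert_tree lc_g_rc_12_3 lc_g_rc_12_3 lc_g_rc_12_5 lc_g_rc_21_3 lc_g_rc_6_3 lc_g_rc_27_0 lc_g_rc_21_1 lc_g_rc_24_1 lc_g_Cert_tree lc_g_Cert_tree lc_g_rc_27_0 lc_g_rc_12_3) (@D3.rec (fun _ => (Cert rels S Gen.g)) lc_g_rc_29_3 lc_g_rc_24_1 lc_g_rc_27_0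 lc_g_Cert_tree lc_g_rc_21_1 lc_g_Cert_tree lc_g_Cert_tree lc_g_rc_27_0 lc_g_rc_29_3 lc_g_rc_29_3 lc_g_rc_12_1 lc_g_rc_29_1 lc_g_rc_27_0 lc_g_rc_12_3 lc_g_rc_12_3 lc_g_rc_24_3 lc_g_rc_24_3 lc_g_Cert_tree) (@D3.rec (fun _ => (Cert rels S Gen.g)) lc_g_rc_6_3 lc_g_rc_27_0 lc_g_rc_6_1 lc_g_Cert_tree lc_g_rc_6_3 lc_g_rc_27_0 lc_g_rc_17_1 lc_g_rc_24_1 lc_g_Cert_tree lc_g_Cert_tree lc_g_rc_27_0 lc_g_Cert_tree lc_g_rc_27_0 lc_g_rc_12_3 lc_g_rc_6_1 lc_g_rc_29_1 lc_g_Cert_tree lc_g_rc_27_0) (@D3.rec (fun _ => (Cert rels S Gen.g)) lc_g_rc_12_3 lc_g_Cert_tree lc_g_rc_27_0 lc_g_rc_12_3 lc_g_rc_24_1 lc_g_Cert_tree lc_g_rc_24_3 lc_g_rc_27_0 lc_g_rc_12_3 lc_g_rc_6_3 lc_g_Cert_tree lc_g_rc_27_0 lc_g_rc_27_0 lc_g_rc_12_3 lc_g_rc_6_1 lc_g_rc_6_1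 lc_g_rc_17_1 lc_g_rc_6_3) (@D3.rec (fun _ => (Cert rels S Gen.g)) lc_g_rc_29_1 lc_g_rc_29_3 lc_g_rc_27_0 lc_g_rc_12_3 lc_g_rc_12_1 lc_g_rc_27_0 lc_g_rc_12_3 lc_g_rc_6_3 lc_g_rc_12_3 lc_g_rc_29_1 lc_g_rc_17_3 lc_g_rc_27_0 lc_g_rc_6_1 lc_g_rc_12_3 lc_g_Cert_tree lc_g_Cert_tree lc_g_rc_29_1 lc_g_rc_29_1) (@D3.rec (fun _ => (Cert rels S Gen.g)) lc_g_rc_17_1 lc_g_rc_29_3 lc_g_rc_29_3 lc_g_rc_12_5 lc_g_rc_29_3 lc_g_Cert_tree lc_g_rc_17_1 lc_g_Cert_tree lc_g_rc_26_3 lc_g_rc_31_2 lc_g_rc_29_3 lc_g_Cert_tree lc_g_rc_6_3 lc_g_rc_27_1 lc_g_Cert_tree lc_g_rc_29_3 lc_g_Cert_tree lc_g_Cert_tree) (@D3.rec (fun _ => (Cert rels S Gen.g)) lc_g_rc_27_0 lc_g_rc_6_3 lc_g_Cert_tree lc_g_rc_27_0 lc_g_rc_17_1 lc_g_rc_17_1 lc_g_rc_6_3 lc_g_rc_21_3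 lc_g_Cert_tree lc_g_rc_27_0 lc_g_Cert_tree lc_g_rc_27_0 lc_g_rc_29_3 lc_g_rc_24_1 lc_g_rc_29_1 lc_g_Cert_tree lc_g_Cert_tree lc_g_rc_27_0) (@D3.rec (fun _ => (Cert rels S Gen.g)) lc_g_rc_12_3 lc_g_rc_17_1 lc_g_rc_6_1 lc_g_rc_12_3 lc_g_Cert_tree lc_g_rc_29_3 lc_g_rc_12_3 lc_g_Cert_tree lc_g_rc_21_3 lc_g_Cert_tree lc_g_rc_6_3 lc_g_rc_27_0 lc_g_rc_12_3 lc_g_rc_21_3 lc_g_rc_29_3 lc_g_rc_31_2 lc_g_rc_17_1 lc_g_Cert_tree) (@D3.rec (fun _ => (Cert rels S Gen.g)) lc_g_rc_12_1 lc_g_rc_12_1 lc_g_rc_27_0 lc_g_rc_21_1 lc_g_Cert_tree lc_g_rc_27_0 lc_g_Cert_tree lc_g_rc_27_0 lc_g_rc_17_3 lc_g_rc_6_1 lc_g_rc_17_1 lc_g_rc_21_1 lc_g_rc_27_1 lc_g_rc_27_0 lc_g_rc_12_1 lc_g_rc_6_3 lc_g_rc_29_3 lc_g_Cert_tree) (@D3.rec (fun _ => (Cert rels S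 Gen.g)) lc_g_Cert_tree lc_g_rc_27_0 lc_g_rc_29_3 lc_g_Cert_tree lc_g_rc_17_3 lc_g_rc_27_0 lc_g_rc_12_3 lc_g_rc_26_1 lc_g_rc_29_1 lc_g_rc_29_1 lc_g_rc_21_1 lc_g_rc_26_3 lc_g_rc_31_2 lc_g_rc_27_0 lc_g_rc_12_1 lc_g_rc_24_3 lc_g_rc_6_3 lc_g_rc_27_0)
def ce_g_4 : D2 → D3 → (Cert rels S Gen.g) := @D2.rec (fun _ => D3 → (Cert rels S Gen.g)) (@D3.rec (fun _ => (Cert rels S Gen.g)) lc_g_rc_24_3 lc_g_rc_26_1 lc_g_rc_27_0 lc_g_Cert_tree lc_g_rc_27_0 lc_g_rc_29_3 lc_g_Cert_tree lc_g_Cert_tree lc_g_Cert_tree lc_g_rc_27_0 lc_g_rc_26_5 lc_g_rc_6_1 lc_g_rc_17_1 lc_g_rc_17_1 lc_g_rc_21_3 lc_g_Cert_tree lc_g_rc_29_1 lc_g_rc_21_1) (@D3.rec (fun _ => (Cert rels S Gen.g)) lc_g_rc_27_0 lc_g_rc_29_3 lc_g_Cert_tree lc_g_Cert_tree lc_g_Cert_tree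 lc_g_rc_27_0 lc_g_Cert_tree lc_g_rc_27_0 lc_g_rc_6_1 lc_g_rc_29_1 lc_g_Cert_tree lc_g_rc_27_0 lc_g_Cert_tree lc_g_Cert_tree lc_g_rc_27_0 lc_g_rc_29_1 lc_g_Cert_tree lc_g_rc_26_3) (@D3.rec (fun _ => (Cert rels S Gen.g)) lc_g_rc_6_3 lc_g_Cert_tree lc_g_rc_27_0 lc_g_rc_12_3 lc_g_rc_17_1 lc_g_rc_6_1 lc_g_rc_17_1 lc_g_rc_21_3 lc_g_rc_6_3 lc_g_rc_27_0 lc_g_rc_17_3 lc_g_rc_24_3 lc_g_rc_21_3 lc_g_rc_27_0 lc_g_Cert_tree lc_g_rc_27_0 lc_g_rc_12_3 lc_g_rc_29_3) (@D3.rec (fun _ => (Cert rels S Gen.g)) lc_g_rc_24_1 lc_g_rc_27_0 lc_g_Cert_tree lc_g_rc_12_3 lc_g_Cert_tree lc_g_Cert_tree lc_g_rc_27_0 lc_g_rc_6_1 lc_g_rc_12_1 lc_g_rc_6_3 lc_g_Cert_tree lc_g_rc_27_0 lc_g_rc_29_1 lc_g_rc_21_1 lc_g_rc_17_1 lc_g_rc_12_1 lc_g_rc_17_1 lc_g_rc_29_1)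 (@D3.rec (fun _ => (Cert rels S Gen.g)) lc_g_rc_12_1 lc_g_rc_6_1 lc_g_rc_29_1 lc_g_rc_26_1 lc_g_rc_27_0 lc_g_rc_12_1 lc_g_rc_12_3 lc_g_rc_29_3 lc_g_rc_29_1 lc_g_rc_27_0 lc_g_rc_6_1 lc_g_rc_12_3 lc_g_rc_12_1 lc_g_rc_17_3 lc_g_Cert_tree lc_g_rc_17_3 lc_g_rc_27_0 lc_g_rc_31_2) (@D3.rec (fun _ => (Cert rels S Gen.g)) lc_g_Cert_tree lc_g_rc_27_0 lc_g_rc_12_3 lc_g_rc_24_1 lc_g_Cert_tree lc_g_Cert_tree lc_g_rc_27_0 lc_g_rc_12_3 lc_g_rc_12_5 lc_g_rc_27_0 lc_g_rc_12_3 lc_g_rc_6_1 lc_g_rc_6_1 lc_g_rc_17_1 lc_g_rc_24_3 lc_g_rc_6_1 lc_g_rc_21_1 lc_g_rc_6_1) (@D3.rec (fun _ => (Cert rels S Gen.g)) lc_g_rc_27_0 lc_g_rc_17_1 lc_g_rc_29_1 lc_g_rc_17_3 lc_g_rc_27_0 lc_g_rc_29_1 lc_g_rc_17_3 lc_g_rc_6_1 lc_g_rc_17_1 lc_g_rc_6_1 lc_g_rc_12_1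 lc_g_rc_12_5 lc_g_rc_6_1 lc_g_rc_24_1 lc_g_rc_6_3 lc_g_rc_24_1 lc_g_rc_6_1 lc_g_Cert_tree) (@D3.rec (fun _ => (Cert rels S Gen.g)) lc_g_rc_27_0 lc_g_rc_27_0 lc_g_rc_29_1 lc_g_rc_6_1 lc_g_rc_27_0 lc_g_rc_29_3 lc_g_rc_12_3 lc_g_Cert_tree lc_g_rc_24_1 lc_g_rc_29_1 lc_g_rc_31_5 lc_g_rc_27_0 lc_g_rc_29_3 lc_g_rc_29_3 lc_g_Cert_tree lc_g_Cert_tree lc_g_rc_27_0 lc_g_rc_21_3) (@D3.rec (fun _ => (Cert rels S Gen.g)) lc_g_rc_27_0 lc_g_rc_6_1 lc_g_rc_29_1 lc_g_rc_17_1 lc_g_rc_17_1 lc_g_rc_24_3 lc_g_rc_27_1 lc_g_rc_26_1 lc_g_Cert_tree lc_g_rc_12_1 lc_g_rc_6_3 lc_g_rc_27_0 lc_g_rc_29_3 lc_g_rc_12_1 lc_g_rc_6_1 lc_g_rc_29_1 lc_g_rc_6_3 lc_g_rc_27_0) (@D3.rec (fun _ => (Cert rels S Gen.g)) lc_g_rc_21_1 lc_g_rc_17_1 lc_g_Cert_tree lc_g_rc_31_8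 lc_g_rc_27_0 lc_g_Cert_tree lc_g_rc_27_0 lc_g_rc_12_3 lc_g_rc_6_1 lc_g_rc_6_3 lc_g_rc_29_3 lc_g_rc_27_0 lc_g_rc_12_3 lc_g_rc_29_1 lc_g_rc_27_0 lc_g_rc_12_3 lc_g_rc_24_1 lc_g_rc_17_1) (@D3.rec (fun _ => (Cert rels S Gen.g)) lc_g_rc_6_1 lc_g_Cert_tree lc_g_rc_27_1 lc_g_rc_27_0 lc_g_rc_12_3 lc_g_rc_6_3 lc_g_rc_29_1 lc_g_rc_27_0 lc_g_rc_12_3 lc_g_rc_21_3 lc_g_rc_12_1 lc_g_Cert_tree lc_g_rc_27_0 lc_g_rc_6_1 lc_g_rc_6_1 lc_g_rc_17_1 lc_g_rc_29_3 lc_g_rc_31_5)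
def ce_g_5 : D2 → D3 → (Cert rels S Gen.g) := @D2.rec (fun _ => D3 → (Cert rels S Gen.g)) (@D3.rec (fun _ => (Cert rels S Gen.g)) lc_g_rc_6_1 lc_g_rc_29_1 lc_g_rc_21_1 lc_g_rc_17_1 lc_g_rc_21_1 lc_g_rc_29_3 lc_g_rc_12_3 lc_g_rc_6_1 lc_g_rc_17_1 lc_g_rc_29_3 lc_g_rc_29_1 lc_g_rc_21_1 lc_g_rc_12_3 lc_g_rc_6_1 lc_g_rc_29_1 lc_g_Cert_tree lc_g_rc_27_0 lc_g_rc_29_1) (@D3.rec (fun _ => (Cert rels S Gen.g)) lc_g_Cert_tree lc_g_rc_31_8 lc_g_rc_27_0 lc_g_Cert_tree lc_g_rc_29_1 lc_g_rc_17_1 lc_g_rc_29_3 lc_g_rc_29_3 lc_g_rc_24_1 lc_g_rc_29_3 lc_g_rc_17_3 lc_g_Cert_tree lc_g_rc_27_0 lc_g_rc_6_1 lc_g_rc_29_1 lc_g_Cert_tree lc_g_rc_27_0 lc_g_Cert_tree) (@D3.rec (fun _ => (Cert rels S Gen.g)) lc_g_rc_17_1 lc_g_Cert_tree lc_g_Cert_tree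 lc_g_rc_27_0 lc_g_rc_17_3 lc_g_rc_17_1 lc_g_rc_29_1 lc_g_rc_17_3 lc_g_rc_27_0 lc_g_rc_17_1 lc_g_Cert_tree lc_g_rc_6_3 lc_g_rc_27_0 lc_g_rc_6_1 lc_g_rc_27_0 lc_g_rc_6_1 lc_g_Cert_tree lc_g_rc_27_0) (@D3.rec (fun _ => (Cert rels S Gen.g)) lc_g_rc_12_3 lc_g_rc_6_1 lc_g_Cert_tree lc_g_rc_6_3 lc_g_Cert_tree lc_g_Cert_tree lc_g_rc_27_0 lc_g_rc_6_1 lc_g_rc_29_1 lc_g_rc_27_0 lc_g_rc_12_3 lc_g_rc_6_1 lc_g_rc_12_5 lc_g_rc_17_1 lc_g_Cert_tree lc_g_rc_17_3 lc_g_rc_27_0 lc_g_Cert_tree) (@D3.rec (fun _ => (Cert rels S Gen.g)) lc_g_rc_27_0 lc_g_rc_12_3 lc_g_rc_6_1 lc_g_rc_6_1 lc_g_rc_17_1 lc_g_rc_6_1 lc_g_rc_21_1 lc_g_rc_21_1 lc_g_rc_17_3 lc_g_Cert_tree lc_g_rc_31_8 lc_g_rc_27_0 lc_g_rc_29_3 lc_g_rc_6_1 lc_g_rc_17_1 lc_g_rc_29_1 lc_g_Cert_tree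 lc_g_rc_27_0) (@D3.rec (fun _ => (Cert rels S Gen.g)) lc_g_rc_21_3 lc_g_rc_12_1 lc_g_rc_29_3 lc_g_rc_6_3 lc_g_rc_27_0 lc_g_rc_12_3 lc_g_rc_29_3 lc_g_rc_24_1 lc_g_rc_21_3 lc_g_rc_27_1 lc_g_rc_27_0 lc_g_rc_17_1 lc_g_rc_12_1 lc_g_rc_6_3 lc_g_rc_29_3 lc_g_Cert_tree lc_g_Cert_tree lc_g_rc_27_0) (@D3.rec (fun _ => (Cert rels S Gen.g)) lc_g_rc_6_1 lc_g_Cert_tree lc_g_rc_17_3 lc_g_rc_27_0 lc_g_rc_12_3 lc_g_rc_26_1 lc_g_rc_6_3 lc_g_rc_21_1 lc_g_rc_21_1 lc_g_rc_29_3 lc_g_rc_29_1 lc_g_Cert_tree lc_g_rc_24_3 lc_g_rc_27_0 lc_g_rc_29_3 lc_g_rc_17_3 lc_g_rc_27_0 lc_g_rc_12_3) (@D3.rec (fun _ => (Cert rels S Gen.g)) lc_g_rc_29_1 lc_g_rc_12_1 lc_g_rc_17_3 lc_g_rc_27_0 lc_g_rc_12_3 lc_g_rc_27_0 lc_g_rc_6_1 lc_g_Cert_tree lc_g_rc_29_1 lc_g_rc_24_1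 lc_g_rc_27_1 lc_g_rc_29_3 lc_g_rc_29_3 lc_g_rc_29_1 lc_g_Cert_tree lc_g_rc_24_3 lc_g_Cert_tree lc_g_rc_29_3) (@D3.rec (fun _ => (Cert rels S Gen.g)) lc_g_rc_29_1 lc_g_rc_21_3 lc_g_rc_27_0 lc_g_rc_31_11 lc_g_Cert_tree lc_g_rc_17_3 lc_g_rc_27_0 lc_g_rc_21_1 lc_g_Cert_tree lc_g_rc_27_0 lc_g_Cert_tree lc_g_rc_27_0 lc_g_rc_6_1 lc_g_rc_26_5 lc_g_rc_6_1 lc_g_rc_29_1 lc_g_rc_17_1 lc_g_rc_21_1) (@D3.rec (fun _ => (Cert rels S Gen.g)) lc_g_Cert_tree lc_g_rc_6_3 lc_g_rc_24_1 lc_g_rc_27_0 lc_g_rc_29_1 lc_g_rc_6_3 lc_g_rc_6_3 lc_g_Cert_tree lc_g_rc_27_0 lc_g_rc_29_1 lc_g_Cert_tree lc_g_rc_27_0 lc_g_Cert_tree lc_g_rc_29_1 lc_g_rc_27_0 lc_g_rc_12_3 lc_g_Cert_tree lc_g_rc_27_0) (@D3.rec (fun _ => (Cert rels S Gen.g)) lc_g_rc_12_3 lc_g_rc_17_1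 lc_g_rc_12_3 lc_g_rc_24_3 lc_g_rc_21_1 lc_g_Cert_tree lc_g_rc_27_0 lc_g_rc_12_3 lc_g_Cert_tree lc_g_Cert_tree lc_g_rc_27_0 lc_g_Cert_tree lc_g_rc_27_0 lc_g_rc_12_3 lc_g_rc_29_1 lc_g_Cert_tree lc_g_Cert_tree lc_g_Cert_tree)
def ce_g_6 : D2 → D3 → (Cert rels S Gen.g) := @D2.rec (fun _ => D3 → (Cert rels S Gen.g)) (@D3.rec (fun _ => (Cert rels S Gen.g)) lc_g_rc_27_0 lc_g_rc_26_3 lc_g_rc_6_3 lc_g_rc_27_0 lc_g_rc_12_3 lc_g_rc_21_1 lc_g_rc_6_1 lc_g_Cert_tree lc_g_rc_29_1 lc_g_rc_29_3 lc_g_rc_24_1 lc_g_rc_29_1 lc_g_rc_17_1 lc_g_rc_29_3 lc_g_rc_21_3 lc_g_rc_6_1 lc_g_rc_29_3 lc_g_rc_29_1) (@D3.rec (fun _ => (Cert rels S Gen.g)) lc_g_rc_17_3 lc_g_rc_27_0 lc_g_rc_29_3 lc_g_rc_6_3 lc_g_Cert_tree lc_g_Cert_tree lc_g_Cert_tree lc_g_rc_27_0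 lc_g_rc_21_1 lc_g_rc_29_3 lc_g_rc_24_3 lc_g_Cert_tree lc_g_rc_27_0 lc_g_Cert_tree lc_g_rc_27_0 lc_g_rc_6_1 lc_g_rc_29_1 lc_g_rc_21_3) (@D3.rec (fun _ => (Cert rels S Gen.g)) lc_g_rc_21_1 lc_g_rc_27_0 lc_g_rc_17_1 lc_g_Cert_tree lc_g_rc_29_1 lc_g_rc_29_1 lc_g_rc_12_1 lc_g_rc_12_3 lc_g_rc_29_3 lc_g_rc_29_1 lc_g_rc_21_1 lc_g_rc_12_1 lc_g_rc_21_1 lc_g_rc_27_0 lc_g_Cert_tree lc_g_rc_12_3 lc_g_rc_27_0 lc_g_rc_12_3) (@D3.rec (fun _ => (Cert rels S Gen.g)) lc_g_rc_6_3 lc_g_rc_27_0 lc_g_rc_27_0 lc_g_rc_12_3 lc_g_rc_27_0 lc_g_rc_12_1 lc_g_rc_17_1 lc_g_rc_21_1 lc_g_rc_6_1 lc_g_rc_17_1 lc_g_rc_29_3 lc_g_rc_21_1 lc_g_rc_6_1 lc_g_rc_29_1 lc_g_rc_21_1 lc_g_rc_6_3 lc_g_Cert_tree lc_g_rc_6_1) (@D3.rec (fun _ => (Cert rels S Gen.g)) lc_g_rc_21_1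 lc_g_rc_24_1 lc_g_rc_29_3 lc_g_rc_29_1 lc_g_rc_21_1 lc_g_rc_12_1 lc_g_rc_6_1 lc_g_rc_17_1 lc_g_rc_12_1 lc_g_rc_17_1 lc_g_rc_21_1 lc_g_rc_24_1 lc_g_rc_6_3 lc_g_rc_6_1 lc_g_rc_12_3 lc_g_rc_21_3 lc_g_rc_27_0 lc_g_rc_31_8) (@D3.rec (fun _ => (Cert rels S Gen.g)) lc_g_rc_6_3 lc_g_rc_29_1 lc_g_rc_29_1 lc_g_rc_27_0 lc_g_rc_29_3 lc_g_rc_29_3 lc_g_Cert_tree lc_g_rc_29_1 lc_g_rc_17_3 lc_g_rc_27_0 lc_g_Cert_tree lc_g_rc_27_0 lc_g_rc_12_1 lc_g_rc_12_3 lc_g_rc_6_3 lc_g_rc_21_1 lc_g_rc_29_1 lc_g_rc_12_1) (@D3.rec (fun _ => (Cert rels S Gen.g)) lc_g_rc_17_1 lc_g_rc_6_3 lc_g_rc_27_0 lc_g_rc_21_1 lc_g_rc_29_3 lc_g_rc_12_1 lc_g_rc_29_1 lc_g_rc_21_1 lc_g_rc_21_3 lc_g_rc_27_0 lc_g_rc_27_1 lc_g_rc_21_1 lc_g_rc_6_3 lc_g_rc_29_3 lc_g_rc_27_0 lc_g_rc_6_1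 lc_g_rc_12_3 lc_g_rc_24_1) (@D3.rec (fun _ => (Cert rels S Gen.g)) lc_g_rc_17_1 lc_g_rc_6_1 lc_g_rc_21_1 lc_g_rc_17_1 lc_g_rc_12_3 lc_g_rc_24_1 lc_g_rc_17_1 lc_g_rc_6_1 lc_g_rc_21_1 lc_g_rc_29_1 lc_g_rc_27_0 lc_g_rc_17_3 lc_g_rc_12_3 lc_g_rc_21_3 lc_g_rc_12_1 lc_g_rc_6_3 lc_g_rc_12_3 lc_g_rc_17_1) (@D3.rec (fun _ => (Cert rels S Gen.g)) lc_g_rc_6_3 lc_g_rc_27_0 lc_g_rc_12_3 lc_g_rc_6_1 lc_g_rc_21_1 lc_g_rc_29_3 lc_g_rc_12_3 lc_g_rc_17_1 lc_g_rc_6_1 lc_g_rc_29_1 lc_g_rc_6_3 lc_g_rc_12_3 lc_g_rc_21_1 lc_g_rc_29_3 lc_g_rc_6_1 lc_g_rc_29_3 lc_g_Cert_tree lc_g_rc_21_1) (@D3.rec (fun _ => (Cert rels S Gen.g)) lc_g_rc_24_1 lc_g_rc_29_1 lc_g_Cert_tree lc_g_rc_27_0 lc_g_rc_29_1 lc_g_rc_29_1 lc_g_Cert_tree lc_g_Cert_tree lc_g_rc_17_1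 lc_g_rc_27_0 lc_g_Cert_tree lc_g_rc_12_1 lc_g_rc_27_0 lc_g_Cert_tree lc_g_rc_21_1 lc_g_rc_12_3 lc_g_rc_6_3 lc_g_rc_27_0) (@D3.rec (fun _ => (Cert rels S Gen.g)) lc_g_rc_29_3 lc_g_rc_29_1 lc_g_Cert_tree lc_g_rc_27_0 lc_g_rc_29_1 lc_g_rc_17_3 lc_g_rc_27_0 lc_g_rc_6_1 lc_g_rc_29_3 lc_g_rc_6_3 lc_g_rc_27_0 lc_g_rc_6_1 lc_g_rc_27_0 lc_g_rc_6_1 lc_g_rc_12_1 lc_g_rc_17_1 lc_g_Cert_tree lc_g_rc_17_1)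
def ce_g_7 : D2 → D3 → (Cert rels S Gen.g) := @D2.rec (fun _ => D3 → (Cert rels S Gen.g)) (@D3.rec (fun _ => (Cert rels S Gen.g)) lc_g_rc_6_3 lc_g_rc_17_1 lc_g_rc_29_1 lc_g_rc_12_3 lc_g_rc_27_0 lc_g_rc_27_0 lc_g_rc_6_1 lc_g_rc_6_1 lc_g_rc_12_3 lc_g_rc_27_0 lc_g_rc_6_3 lc_g_rc_12_3 lc_g_rc_29_1 lc_g_Cert_tree lc_g_rc_27_0 lc_g_rc_31_2 lc_g_rc_27_0 lc_g_rc_21_1) (@D3.rec (fun _ => (Cert rels S Gen.g)) lc_g_rc_27_0 lc_g_rc_12_1 lc_g_rc_12_3 lc_g_rc_6_1 lc_g_rc_6_1 lc_g_rc_29_1 lc_g_rc_27_0 lc_g_rc_12_3 lc_g_rc_27_0 lc_g_rc_12_3 lc_g_rc_6_1 lc_g_rc_17_1 lc_g_rc_24_3 lc_g_rc_6_1 lc_g_rc_21_1 lc_g_rc_6_1 lc_g_rc_29_3 lc_g_rc_12_5) (@D3.rec (fun _ => (Cert rels S Gen.g)) lc_g_rc_27_0 lc_g_rc_17_1 lc_g_rc_29_3 lc_g_rc_6_1 lc_g_rc_21_1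 lc_g_rc_29_1 lc_g_rc_21_3 lc_g_rc_27_0 lc_g_rc_29_3 lc_g_rc_17_1 lc_g_rc_21_1 lc_g_rc_12_3 lc_g_rc_21_1 lc_g_rc_6_1 lc_g_rc_17_1 lc_g_rc_6_3 lc_g_rc_29_1 lc_g_Cert_tree) (@D3.rec (fun _ => (Cert rels S Gen.g)) lc_g_rc_24_3 lc_g_rc_27_0 lc_g_rc_6_3 lc_g_Cert_tree lc_g_rc_27_0 lc_g_rc_12_3 lc_g_rc_6_3 lc_g_rc_12_1 lc_g_rc_12_1 lc_g_rc_27_0 lc_g_rc_12_3 lc_g_rc_27_0 lc_g_rc_6_1 lc_g_rc_24_1 lc_g_rc_26_1 lc_g_rc_29_1 lc_g_rc_6_3 lc_g_rc_27_0) (@D3.rec (fun _ => (Cert rels S Gen.g)) lc_g_rc_24_1 lc_g_rc_12_3 lc_g_rc_24_1 lc_g_rc_21_3 lc_g_rc_26_1 lc_g_rc_24_3 lc_g_rc_24_3 lc_g_rc_6_1 lc_g_rc_31_8 lc_g_Cert_tree lc_g_rc_31_11 lc_g_Cert_tree lc_g_rc_27_0 lc_g_rc_29_1 lc_g_rc_6_1 lc_g_rc_6_1 lc_g_rc_24_3 lc_g_Cert_tree) (@D3.rec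 (fun _ => (Cert rels S Gen.g)) lc_g_rc_6_3 lc_g_rc_17_3 lc_g_rc_27_0 lc_g_rc_29_1 lc_g_rc_27_0 lc_g_rc_29_1 lc_g_rc_12_1 lc_g_rc_6_1 lc_g_rc_27_1 lc_g_rc_29_1 lc_g_rc_27_0 lc_g_rc_26_5 lc_g_rc_6_1 lc_g_rc_6_3 lc_g_rc_27_0 lc_g_rc_12_3 lc_g_rc_29_1 lc_g_Cert_tree) (@D3.rec (fun _ => (Cert rels S Gen.g)) lc_g_rc_27_0 lc_g_rc_17_1 lc_g_rc_6_1 lc_g_Cert_tree lc_g_rc_12_3 lc_g_rc_29_1 lc_g_rc_17_3 lc_g_rc_27_0 lc_g_rc_12_3 lc_g_rc_6_1 lc_g_rc_6_1 lc_g_rc_17_1 lc_g_rc_29_1 lc_g_rc_24_3 lc_g_rc_6_1 lc_g_rc_29_1 lc_g_rc_29_3 lc_g_rc_27_0) (@D3.rec (fun _ => (Cert rels S Gen.g)) lc_g_rc_29_1 lc_g_Cert_tree lc_g_rc_27_0 lc_g_rc_12_3 lc_g_rc_27_0 lc_g_rc_12_3 lc_g_rc_17_3 lc_g_rc_27_0 lc_g_rc_12_3 lc_g_rc_29_3 lc_g_rc_29_3 lc_g_rc_24_1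 lc_g_rc_12_3 lc_g_rc_26_3 lc_g_rc_27_0 lc_g_rc_6_3 lc_g_rc_29_1 lc_g_rc_12_1) (@D3.rec (fun _ => (Cert rels S Gen.g)) lc_g_rc_27_0 lc_g_Cert_tree lc_g_Cert_tree lc_g_rc_27_0 lc_g_rc_27_0 lc_g_rc_6_3 lc_g_Cert_tree lc_g_rc_6_3 lc_g_rc_27_0 lc_g_Cert_tree lc_g_Cert_tree lc_g_Cert_tree lc_g_rc_27_0 lc_g_rc_27_0 lc_g_rc_29_3 lc_g_rc_12_3 lc_g_rc_24_1 lc_g_rc_6_1) (@D3.rec (fun _ => (Cert rels S Gen.g)) lc_g_rc_12_3 lc_g_rc_17_1 lc_g_rc_29_1 lc_g_Cert_tree lc_g_rc_27_0 lc_g_rc_6_1 lc_g_rc_21_1 lc_g_rc_27_0 lc_g_rc_27_1 lc_g_rc_26_1 lc_g_rc_6_1 lc_g_rc_24_1 lc_g_rc_29_1 lc_g_Cert_tree lc_g_rc_27_0 lc_g_Cert_tree lc_g_rc_27_0 lc_g_rc_26_3) (@D3.rec (fun _ => (Cert rels S Gen.g)) lc_g_rc_27_0 lc_g_rc_12_5 lc_g_rc_6_3 lc_g_rc_27_0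 lc_g_rc_12_1 lc_g_rc_12_3 lc_g_rc_27_0 lc_g_rc_21_1 lc_g_Cert_tree lc_g_rc_12_3 lc_g_rc_12_3 lc_g_rc_27_0 lc_g_rc_6_1 lc_g_rc_17_1 lc_g_rc_6_1 lc_g_rc_27_0 lc_g_rc_12_3 lc_g_rc_12_1)
def ce_g_8 : D2 → D3 → (Cert rels S Gen.g) := @D2.rec (fun _ => D3 → (Cert rels S Gen.g)) (@D3.rec (fun _ => (Cert rels S Gen.g)) lc_g_rc_12_3 lc_g_rc_12_3 lc_g_rc_17_1 lc_g_rc_27_0 lc_g_rc_17_1 lc_g_rc_26_5 lc_g_rc_6_1 lc_g_rc_21_1 lc_g_rc_17_1 lc_g_rc_27_0 lc_g_rc_17_1 lc_g_rc_24_1 lc_g_rc_29_3 lc_g_rc_17_1 lc_g_rc_21_1 lc_g_rc_12_3 lc_g_rc_6_1 lc_g_rc_21_1) (@D3.rec (fun _ => (Cert rels S Gen.g)) lc_g_rc_24_3 lc_g_rc_29_1 lc_g_Cert_tree lc_g_rc_27_0 lc_g_rc_27_0 lc_g_rc_6_3 lc_g_rc_12_3 lc_g_rc_6_1 lc_g_rc_17_1 lc_g_rc_12_3 lc_g_rc_21_1 lc_g_rc_17_1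 lc_g_rc_24_1 lc_g_rc_17_3 lc_g_rc_12_3 lc_g_rc_17_1 lc_g_rc_6_1 lc_g_rc_17_1) (@D3.rec (fun _ => (Cert rels S Gen.g)) lc_g_rc_17_1 lc_g_rc_12_3 lc_g_rc_6_1 lc_g_rc_6_1 lc_g_rc_21_1 lc_g_rc_17_3 lc_g_rc_27_0 lc_g_rc_21_3 lc_g_rc_6_1 lc_g_rc_12_1 lc_g_Cert_tree lc_g_rc_29_3 lc_g_rc_21_1 lc_g_rc_6_1 lc_g_rc_12_1 lc_g_Cert_tree lc_g_rc_31_5 lc_g_rc_27_0) (@D3.rec (fun _ => (Cert rels S Gen.g)) lc_g_rc_24_1 lc_g_rc_29_1 lc_g_rc_27_0 lc_g_rc_17_1 lc_g_rc_29_1 lc_g_rc_29_1 lc_g_rc_6_3 lc_g_rc_17_1 lc_g_rc_27_0 lc_g_rc_17_3 lc_g_Cert_tree lc_g_rc_21_1 lc_g_rc_27_0 lc_g_rc_17_1 lc_g_rc_12_3 lc_g_rc_27_0 lc_g_rc_12_3 lc_g_Cert_tree) (@D3.rec (fun _ => (Cert rels S Gen.g)) lc_g_rc_27_0 lc_g_rc_17_1 lc_g_rc_21_1 lc_g_rc_6_3 lc_g_rc_27_0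 lc_g_rc_12_3 lc_g_rc_27_0 lc_g_rc_17_1 lc_g_rc_12_1 lc_g_rc_6_1 lc_g_rc_21_1 lc_g_rc_27_0 lc_g_rc_21_1 lc_g_rc_29_1 lc_g_rc_29_1 lc_g_rc_17_1 lc_g_rc_6_1 lc_g_rc_17_1) (@D3.rec (fun _ => (Cert rels S Gen.g)) lc_g_rc_12_1 lc_g_rc_6_1 lc_g_rc_27_0 lc_g_rc_12_3 lc_g_rc_6_1 lc_g_rc_21_1 lc_g_rc_31_2 lc_g_rc_6_1 lc_g_rc_6_1 lc_g_rc_17_1 lc_g_rc_21_1 lc_g_rc_17_1 lc_g_rc_6_1 lc_g_rc_21_3 lc_g_rc_21_1 lc_g_rc_17_1 lc_g_rc_21_3 lc_g_rc_17_1) (@D3.rec (fun _ => (Cert rels S Gen.g)) lc_g_rc_6_3 lc_g_rc_27_0 lc_g_rc_6_1 lc_g_rc_17_1 lc_g_rc_27_0 lc_g_rc_12_3 lc_g_rc_24_1 lc_g_rc_17_1 lc_g_rc_17_1 lc_g_rc_6_1 lc_g_rc_27_1 lc_g_rc_12_1 lc_g_rc_27_0 lc_g_rc_31_5 lc_g_rc_27_0 lc_g_rc_26_5 lc_g_rc_17_1 lc_g_rc_27_0) (@D3.rec (fun _ => (Cert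 rels S Gen.g)) lc_g_rc_29_1 lc_g_rc_17_1 lc_g_rc_26_5 lc_g_rc_6_1 lc_g_rc_27_0 lc_g_rc_27_0 lc_g_rc_27_0 lc_g_rc_12_3 lc_g_rc_29_1 lc_g_rc_27_0 lc_g_rc_12_3 lc_g_rc_17_1 lc_g_rc_12_1 lc_g_rc_6_1 lc_g_rc_6_1 lc_g_rc_27_0 lc_g_rc_27_0 lc_g_rc_12_1) (@D3.rec (fun _ => (Cert rels S Gen.g)) lc_g_rc_6_3 lc_g_rc_27_0 lc_g_rc_12_3 lc_g_rc_27_0 lc_g_rc_27_0 lc_g_rc_27_0 lc_g_rc_6_1 lc_g_rc_27_0 lc_g_rc_26_1 lc_g_rc_27_0 lc_g_rc_27_0 lc_g_rc_6_3 lc_g_rc_31_2 lc_g_rc_12_1 lc_g_rc_6_1 lc_g_rc_27_0 lc_g_rc_17_1 lc_g_rc_6_1) (@D3.rec (fun _ => (Cert rels S Gen.g)) lc_g_rc_17_1 lc_g_rc_12_3 lc_g_rc_17_1 lc_g_rc_6_1 lc_g_rc_12_3 lc_g_rc_17_1 lc_g_rc_6_3 lc_g_rc_27_0 lc_g_rc_31_5 lc_g_rc_12_3 lc_g_rc_6_3 lc_g_rc_17_1 lc_g_rc_17_1 lc_g_rc_12_1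 lc_g_rc_6_1 lc_g_rc_12_1 lc_g_rc_21_1 lc_g_rc_27_0) (@D3.rec (fun _ => (Cert rels S Gen.g)) lc_g_rc_27_0 lc_g_rc_17_1 lc_g_rc_6_3 lc_g_rc_21_1 lc_g_rc_27_0 lc_g_rc_17_1 lc_g_rc_27_0 lc_g_rc_21_1 lc_g_rc_27_0 lc_g_rc_6_1 lc_g_rc_24_3 lc_g_rc_12_3 lc_g_rc_17_1 lc_g_rc_17_1 lc_g_rc_12_3 lc_g_rc_12_3 lc_g_rc_17_1 lc_g_rc_12_3)
def ce_g : Pt → (Cert rels S Gen.g) := @Pt.rec (fun _ => (Cert rels S Gen.g)) (@D1.rec (fun _ => D2 → D3 → (Cert rels S Gen.g)) ce_g_0 ce_g_1 ce_g_2 ce_g_3 ce_g_4 ce_g_5 ce_g_6 ce_g_7 ce_g_8)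
def isSeed_g (p : Pt) : Bool := orB (beqPt p (Pt.mk D1.c0 D2.c1 D3.c3)) (false)

end

end Cfsg.Agent.Helper28.S1680
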