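import Cfsg.Agent.Lib.Helper28.S1680.Tree

set_option autoImplicit false
set_option maxRecDepth 100000
set_option linter.all false

namespace Cfsg.Agent.Helper28.S1680

open Cfsg.Agent.Helper28
open Cfsg.Spor.Suz (Gen)

noncomputable section

def lv_a_0 : D2 → D3 → Nat := @D2.rec (fun _ => D3 → Nat) (@D3.rec (fun _ => Nat) 1 3 0 1 2 17 16 2 3 17 18 0 3 4 4 19 20 34) (@D3.rec (fun _ => Nat) 18 1 2 2 33 4 4 0 5 22 19 21 21 36 33 23 20 2) (@D3.rec (fun _ => Nat) 2 53 3 3 35 35 0 5 1 2 2 3 6 21 52 22 22 36) (@D3.rec (fun _ => Nat) 36 34 52 22 3 3 0 51 53 53 37 4 35 35 36 1 2 2) (@D3.rec (fun _ => Nat) 3 6 2 2 2 3 3 3 54 2 3 8 21 54 23 50 36 36) (@D3.rec (fun _ => Nat) 36 52 52 22 4 1 49 2 2 3 51 53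 53 55 55 37 0 35) (@D3.rec (fun _ => Nat) 37 37 2 2 2 3 3 3 2 3 7 3 3 3 0 7 4 4) (@D3.rec (fun _ => Nat) 54 2 3 0 58 0 21 54 52 58 38 38 0 54 54 57 22 48) (@D3.rec (fun _ => Nat) 2 2 2 49 47 47 3 3 3 0 2 3 51 53 53 57 58 55) (@D3.rec (fun _ => Nat) 37 0 37 1 55 0 38 38 3 3 3 0 7 4 4 2 3 0) (@D3.rec (fun _ => Nat) 57 0 7 4 4 0 1 2 56 0 8 7 7 56 2 3 0 60)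
def lv_a_1 : D2 → D3 → Nat := @D2.rec (fun _ => D3 → Nat) (@D3.rec (fun _ => Nat) 1 2 57 58 58 1 2 3 0 59 52 56 61 38 38 0 1 57) (@D3.rec (fun _ => Nat) 54 54 55 60 0 48 48 48 3 3 3 58 52 49 49 49 55 2) (@D3.rec (fun _ => Nat) 3 8 4 4 0 2 3 1 53 55 55 58 61 0 60 37 0 39) (@D3.rec (fun _ => Nat) 1 57 0 55 55 1 2 39 39 6 4 4 0 1 56 59 0 8) (@D3.rec (fun _ => Nat) 8 8 2 3 0 57 1 61 59 57 1 2 3 0 8 7 7 0) (@D3.rec (fun _ => Nat) 1 2 58 54 2 3 58 1 2 2 3 9 8 8 0 2 86 3) (@D3.rec (fun _ => Nat) 59 0 58 1 2 59 58 60 2 3 59 60 58 90 2 2 0 2) (@D3.rec (fun _ => Nat) 3 1 2 87 54 58 58 0 38 0 1 58 0 54 59 55 61 1) (@D3.rec (fun _ => Nat) 2 86 48 50 50 51 6 4 4 62 53 49 49 49 57 2 3 0) (@D3.rec (fun _ =>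 Nat) 5 9 9 0 2 3 1 53 0 53 55 58 63 1 2 3 0 0) (@D3.rec (fun _ => Nat) 39 1 2 57 0 55 55 1 2 2 3 0 7 7 7 0 1 58)
def lv_a_2 : D2 → D3 → Nat := @D2.rec (fun _ => D3 → Nat) (@D3.rec (fun _ => Nat) 61 1 2 2 3 7 9 9 9 0 2 87 3 0 59 1 62 59) (@D3.rec (fun _ => Nat) 57 59 59 89 2 2 2 3 1 2 2 3 9 8 8 0 0 1) (@D3.rec (fun _ => Nat) 2 58 56 2 58 3 58 60 0 2 2 2 3 3 3 3 0 2) (@D3.rec (fun _ => Nat) 86 3 9 9 0 2 86 3 1 2 2 0 1 2 59 60 58 2) (@D3.rec (fun _ => Nat) 59 58 3 59 60 60 60 86 88 0 0 1 2 0 0 2 89 91) (@D3.rec (fun _ => Nat) 81 5 58 62 1 2 76 0 1 2 59 1 2 2 88 6 56 0) (@D3.rec (fun _ => Nat) 57 59 0 2 2 3 50 50 50 52 0 7 7 55 54 0 51 51) (@D3.rec (fun _ => Nat) 51 57 2 3 1 60 2 2 8 6 6 0 2 83 3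 1 2 0) (@D3.rec (fun _ => Nat) 1 2 2 3 57 0 59 62 0 2 2 0 2 78 3 1 2 2) (@D3.rec (fun _ => Nat) 1 2 0 57 2 3 58 57 1 2 2 3 1 2 2 3 9 8) (@D3.rec (fun _ => Nat) 8 0 0 1 2 60 60 0 2 2 2 82 3 3 85 0 2 87)
def lv_a_3 : D2 → D3 → Nat := @D2.rec (fun _ => D3 → Nat) (@D3.rec (fun _ => Nat) 3 0 6 8 8 9 9 0 2 92 3 1 2 0 1 2 59 61) (@D3.rec (fun _ => Nat) 59 59 61 59 85 0 0 0 0 2 2 2 3 3 3 0 2 81) (@D3.rec (fun _ => Nat) 3 9 9 0 0 1 2 2 1 2 56 2 60 60 61 1 88 2) (@D3.rec (fun _ => Nat) 2 89 3 3 3 3 88 4 4 4 4 0 2 86 3 1 2 3) (@D3.rec (fun _ => Nat) 0 0 2 87 3 1 2 2 0 112 2 2 3 0 4 1 2 2) (@D3.rec (fun _ => Nat) 2 61 60 62 66 62 62 90 0 1 2 91 1 2 2 0 2 1) (@D3.rec (fun _ => Nat) 2 92 1 2 91 0 87 0 78 76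 6 0 58 2 0 78 1 2) (@D3.rec (fun _ => Nat) 2 2 23 63 0 2 2 63 3 84 0 2 3 81 7 0 1 2) (@D3.rec (fun _ => Nat) 0 61 1 2 2 95 0 0 0 50 50 50 53 1 2 115 62 1) (@D3.rec (fun _ => Nat) 2 2 2 12 51 51 0 2 84 3 61 83 2 2 111 0 119 9) (@D3.rec (fun _ => Nat) 0 2 3 1 2 2 0 84 116 2 3 1 2 78 88 2 2 2)
def lv_a_4 : D2 → D3 → Nat := @D2.rec (fun _ => D3 → Nat) (@D3.rec (fun _ => Nat) 90 3 85 0 2 3 0 1 2 2 60 60 1 87 2 0 1 2) (@D3.rec (fun _ => Nat) 3 4 0 0 2 2 3 3 4 2 0 3 1 2 2 57 0 3) (@D3.rec (fun _ => Nat) 25 4 59 0 57 2 116 2 2 2 3 3 3 84 0 2 84 3) (@D3.rec (fun _ => Nat) 9 9 0 0 1 2 2 1 2 2 3 62 60 1 87 116 3 3) (@D3.rec (fun _ => Nat) 60 81 83 4 85 0 89 83 1 3 109 1 57 117 11 7 87 120) (@D3.rec (fun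 _ => Nat) 0 2 91 3 1 2 2 0 112 2 0 4 1 2 2 2 3 61) (@D3.rec (fun _ => Nat) 61 64 1 2 92 1 90 1 2 93 1 2 3 3 3 4 81 4) (@D3.rec (fun _ => Nat) 0 79 1 122 3 82 116 0 0 1 118 120 1 83 0 2 2 120) (@D3.rec (fun _ => Nat) 3 4 2 58 110 2 2 89 3 3 3 90 113 56 4 4 4 4) (@D3.rec (fun _ => Nat) 87 89 5 113 82 0 2 87 3 1 121 117 0 2 4 112 1 2) (@D3.rec (fun _ => Nat) 77 1 2 2 0 112 2 2 110 1 2 0 3 5 1 2 118 114)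
def lv_a_5 : D2 → D3 → Nat := @D2.rec (fun _ => D3 → Nat) (@D3.rec (fun _ => Nat) 2 2 3 3 0 67 112 1 2 98 2 3 10 2 2 3 93 1) (@D3.rec (fun _ => Nat) 2 2 94 0 2 109 116 2 84 92 1 2 87 120 1 2 91 0) (@D3.rec (fun _ => Nat) 0 1 2 2 118 0 1 2 3 0 0 2 2 119 117 4 26 61) (@D3.rec (fun _ => Nat) 0 1 2 3 118 0 2 3 1 3 125 116 78 0 1 2 2 0) (@D3.rec (fun _ => Nat) 2 0 4 1 2 77 59 2 2 3 98 89 95 1 2 1 2 96) (@D3.rec (fun _ => Nat) 1 59 2 52 52 121 2 84 2 2 2 3 111 0 121 11 0 2) (@D3.rec (fun _ => Nat) 3 1 2 2 0 85 117 62 86 111 1 0 111 88 1 115 113 0) (@D3.rec (fun _ => Nat) 117 118 2 2 0 115 1 0 3 4 2 81 85 3 0 89 78 86) (@D3.rec (fun _ => Nat) 1 2 3 0 1 2 2 80 2 2 3 3 4 61 64 2 88 89) (@D3.rec (fun _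 => Nat) 0 1 81 80 2 0 1 2 126 1 2 76 117 3 3 0 125 121) (@D3.rec (fun _ => Nat) 0 121 78 0 1 2 77 84 0 2 2 3 3 114 59 1 2 2)
def lv_a_6 : D2 → D3 → Nat := @D2.rec (fun _ => D3 → Nat) (@D3.rec (fun _ => Nat) 3 4 24 60 0 61 1 2 0 3 3 3 111 81 4 123 83 1) (@D3.rec (fun _ => Nat) 125 3 112 123 0 1 2 2 1 90 110 2 2 3 3 4 2 119) (@D3.rec (fun _ => Nat) 3 62 118 0 60 4 0 91 84 1 109 57 12 88 1 2 2 0) (@D3.rec (fun _ => Nat) 2 2 116 121 119 1 2 86 1 2 117 113 2 2 108 110 103 3) (@D3.rec (fun _ => Nat) 62 0 92 2 119 11 2 117 2 3 117 4 4 80 121 0 82 1) (@D3.rec (fun _ => Nat) 121 1 126 111 1 84 0 1 118 76 121 3 108 58 3 3 3 60) (@D3.rec (fun _ => Nat) 4 4 89 123 113 60 5 88 122 83 112 0 1 122 125 124 112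 1) (@D3.rec (fun _ => Nat) 2 77 76 114 115 2 91 92 112 2 2 125 112 1 2 114 110 2) (@D3.rec (fun _ => Nat) 1 78 86 2 3 117 114 108 3 3 104 111 1 99 2 94 123 3) (@D3.rec (fun _ => Nat) 4 3 0 91 2 2 0 3 3 94 1 85 2 0 87 120 2 2) (@D3.rec (fun _ => Nat) 3 2 3 98 1 2 3 1 120 2 2 113 117 4 120 1 56 2)
def lv_a_7 : D2 → D3 → Nat := @D2.rec (fun _ => D3 → Nat) (@D3.rec (fun _ => Nat) 127 1 1 2 119 81 119 118 127 65 122 1 2 85 82 126 86 1) (@D3.rec (fun _ => Nat) 77 79 74 77 1 2 2 1 81 84 1 2 90 2 3 77 3 118) (@D3.rec (fun _ => Nat) 83 98 97 2 114 2 126 93 2 11 112 119 86 3 113 111 1 126) (@D3.rec (fun _ => Nat) 111 89 1 2 110 118 116 89 2 2 0 115 1 60 120 1 124 122) (@D3.rec (fun _ => Nat) 113 107 118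 1 97 91 90 1 85 1 120 116 3 4 84 82 83 127) (@D3.rec (fun _ => Nat) 1 80 82 90 77 2 116 1 2 2 2 80 123 3 3 87 120 124) (@D3.rec (fun _ => Nat) 114 120 62 123 121 1 57 3 75 88 4 123 1 124 85 2 3 118) (@D3.rec (fun _ => Nat) 2 121 76 124 120 0 1 122 120 1 6 1 58 2 79 1 90 127) (@D3.rec (fun _ => Nat) 83 127 3 3 4 117 2 2 2 3 122 3 3 2 3 127 61 1) (@D3.rec (fun _ => Nat) 128 127 2 106 5 1 4 123 125 121 123 118 1 110 117 2 2 117) (@D3.rec (fun _ => Nat) 3 119 3 3 4 121 122 96 1 2 118 2 1 56 2 2 121 1)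
def lv_a_8 : D2 → D3 → Nat := @D2.rec (fun _ => D3 → Nat) (@D3.rec (fun _ => Nat) 2 124 122 122 2 108 2 122 91 114 90 1 99 3 111 122 1 118) (@D3.rec (fun _ => Nat) 110 1 2 76 122 123 56 4 4 10 121 113 121 120 1 2 112 118) (@D3.rec (fun _ => Nat) 112 111 2 77 112 100 2 114 3 121 0 99 105 122 128 126 127 123) (@D3.rec (fun _ => Nat) 4 1 89 128 3 3 1 120 127 4 4 4 96 126 118 2 118 1) (@D3.rec (fun _ => Nat) 2 127 88 3 126 128 100 2 91 126 86 83 124 2 109 117 118 127) (@D3.rec (fun _ => Nat) 119 121 125 126 2 117 123 3 116 120 124 26 97 122 117 121 117 111) (@D3.rec (fun _ => Nat) 124 122 113 2 126 99 118 112 115 1 107 124 2 119 2 3 117 87) (@D3.rec (fun _ => Nat) 2 120 128 118 122 83 57 123 3 120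 123 1 121 126 113 121 4 3) (@D3.rec (fun _ => Nat) 3 3 128 127 127 2 3 122 123 112 3 117 121 4 2 2 120 90) (@D3.rec (fun _ => Nat) 2 110 122 99 57 112 2 78 55 116 111 2 115 111 100 1 111 128) (@D3.rec (fun _ => Nat) 127 4 4 4 127 25 98 128 2 118 116 127 116 101 125 116 116 126)
def lv_a : Pt → Nat := @Pt.rec (fun _ => Nat) (@D1.rec (fun _ => D2 → D3 → Nat) lv_a_0 lv_a_1 lv_a_2 lv_a_3 lv_a_4 lv_a_5 lv_a_6 lv_a_7 lv_a_8)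
abbrev lc_a_Cert_tree : Cert rels S Gen.a := Cert.tree
abbrev lc_a_rc_0_0 : Cert rels S Gen.a := rc_0_0
abbrev lc_a_rc_0_1 : Cert rels S Gen.a := rc_0_1
abbrev lc_a_rc_1_0 : Cert rels S Gen.a := rc_1_0
abbrev lc_a_rc_1_2 : Cert rels S Gen.a := rc_1_2
abbrev lc_a_rc_1_4 : Cert rels S Gen.a := rc_1_4
abbrev lc_a_rc_1_6 : Cert rels S Gen.a := rc_1_6
abbrev lc_a_rc_1_8 : Cert rels S Gen.a := rc_1_8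
abbrev lc_a_rc_28_0 : Cert rels S Gen.a := rc_28_0
abbrev lc_a_rc_29_0 : Cert rels S Gen.a := rc_29_0
abbrev lc_a_rc_2_0 : Cert rels S Gen.a := rc_2_0
abbrev lc_a_rc_2_2 : Cert rels S Gen.a := rc_2_2
abbrev lc_a_rc_30_12 : Cert rels S Gen.a := rc_30_12
abbrev lc_a_rc_30_16 : Cert rels S Gen.a := rc_30_16
abbrev lc_a_rc_30_8 : Cert rels S Gen.a := rc_30_8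
abbrev lc_a_rc_3_0 : Cert rels S Gen.a := rc_3_0
abbrev lc_a_rc_3_2 : Cert rels S Gen.a := rc_3_2
abbrev lc_a_rc_4_0 : Cert rels S Gen.a := rc_4_0
abbrev lc_a_rc_4_2 : Cert rels S Gen.a := rc_4_2
abbrev lc_a_rc_5_0 : Cert rels S Gen.a := rc_5_0
abbrev lc_a_rc_5_2 : Cert rels S Gen.a := rc_5_2
abbrev lc_a_rc_6_0 : Cert rels S Gen.a := rc_6_0
abbrev lc_a_rc_6_2 : Cert rels S Gen.a := rc_6_2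
abbrev lc_a_sc_0_0 : Cert rels S Gen.a := sc_0_0
def ce_a_0 : D2 → D3 → (Cert rels S Gen.a) := @D2.rec (fun _ => D3 → (Cert rels S Gen.a)) (@D3.rec (fun _ => (Cert rels S Gen.a)) lc_a_sc_0_0 lc_a_rc_29_0 lc_a_Cert_tree lc_a_rc_0_0 lc_a_rc_2_2 lc_a_rc_0_1 lc_a_Cert_tree lc_a_rc_2_2 lc_a_rc_3_2 lc_a_rc_2_2 lc_a_rc_2_2 lc_a_Cert_tree lc_a_rc_3_2 lc_a_rc_2_2 lc_a_rc_4_2 lc_a_rc_3_2 lc_a_rc_30_16 lc_a_rc_29_0) (@D3.rec (fun _ => (Cert rels S Gen.a)) lc_a_rc_3_2 lc_a_rc_0_0 lc_a_rc_3_2 lc_a_rc_5_2 lc_a_rc_29_0 lc_a_rc_2_2 lc_a_rc_4_2 lc_a_Cert_tree lc_a_rc_2_2 lc_a_rc_28_0 lc_a_rc_4_2 lc_a_rc_3_2 lc_a_rc_6_2 lc_a_rc_29_0 lc_a_rc_6_2 lc_a_rc_28_0 lc_a_rc_4_2 lc_a_rc_3_2) (@D3.rec (fun _ => (Cert rels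 S Gen.a)) lc_a_rc_5_2 lc_a_rc_3_0 lc_a_rc_4_2 lc_a_rc_5_2 lc_a_rc_29_0 lc_a_rc_29_0 lc_a_Cert_tree lc_a_rc_2_2 lc_a_rc_0_0 lc_a_rc_4_2 lc_a_rc_5_2 lc_a_rc_5_0 lc_a_rc_3_2 lc_a_rc_28_0 lc_a_rc_3_0 lc_a_rc_4_2 lc_a_rc_2_2 lc_a_rc_2_2) (@D3.rec (fun _ => (Cert rels S Gen.a)) lc_a_rc_29_0 lc_a_rc_29_0 lc_a_rc_2_0 lc_a_rc_28_0 lc_a_rc_4_2 lc_a_rc_5_2 lc_a_Cert_tree lc_a_rc_2_0 lc_a_rc_4_2 lc_a_rc_5_2 lc_a_rc_2_2 lc_a_rc_5_2 lc_a_rc_29_0 lc_a_rc_29_0 lc_a_rc_1_6 lc_a_rc_0_0 lc_a_rc_4_2 lc_a_rc_5_2) (@D3.rec (fun _ => (Cert rels S Gen.a)) lc_a_rc_5_0 lc_a_rc_3_2 lc_a_rc_4_2 lc_a_rc_5_2 lc_a_rc_6_2 lc_a_rc_3_2 lc_a_rc_5_2 lc_a_rc_6_2 lc_a_rc_5_2 lc_a_rc_29_0 lc_a_rc_29_0 lc_a_rc_28_0 lc_a_rc_28_0 lc_a_rc_4_2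 lc_a_rc_2_2 lc_a_rc_1_4 lc_a_rc_2_2 lc_a_rc_2_2) (@D3.rec (fun _ => (Cert rels S Gen.a)) lc_a_rc_29_0 lc_a_rc_2_0 lc_a_rc_5_2 lc_a_rc_28_0 lc_a_rc_5_2 lc_a_rc_0_0 lc_a_rc_28_0 lc_a_rc_4_2 lc_a_rc_5_2 lc_a_rc_5_0 lc_a_rc_1_6 lc_a_rc_2_0 lc_a_rc_5_2 lc_a_rc_4_0 lc_a_rc_5_2 lc_a_rc_2_2 lc_a_Cert_tree lc_a_rc_2_2) (@D3.rec (fun _ => (Cert rels S Gen.a)) lc_a_rc_29_0 lc_a_rc_1_6 lc_a_rc_4_2 lc_a_rc_5_2 lc_a_rc_6_2 lc_a_rc_3_2 lc_a_rc_5_2 lc_a_rc_6_2 lc_a_rc_29_0 lc_a_rc_29_0 lc_a_rc_28_0 lc_a_rc_3_2 lc_a_rc_5_2 lc_a_rc_6_2 lc_a_Cert_tree lc_a_rc_29_0 lc_a_rc_3_2 lc_a_rc_3_2) (@D3.rec (fun _ => (Cert rels S Gen.a)) lc_a_rc_5_2 lc_a_rc_29_0 lc_a_rc_0_0 lc_a_Cert_tree lc_a_rc_29_0 lc_a_Cert_tree lc_a_rc_28_0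 lc_a_rc_4_0 lc_a_rc_1_4 lc_a_rc_28_0 lc_a_rc_3_2 lc_a_rc_2_2 lc_a_Cert_tree lc_a_rc_3_2 lc_a_rc_5_2 lc_a_rc_28_0 lc_a_rc_28_0 lc_a_rc_28_0) (@D3.rec (fun _ => (Cert rels S Gen.a)) lc_a_rc_4_2 lc_a_rc_5_2 lc_a_rc_6_2 lc_a_rc_29_0 lc_a_rc_29_0 lc_a_rc_28_0 lc_a_rc_3_2 lc_a_rc_5_2 lc_a_rc_6_2 lc_a_Cert_tree lc_a_rc_29_0 lc_a_rc_29_0 lc_a_rc_1_6 lc_a_rc_3_2 lc_a_rc_5_2 lc_a_rc_28_0 lc_a_rc_28_0 lc_a_rc_5_2) (@D3.rec (fun _ => (Cert rels S Gen.a)) lc_a_rc_3_2 lc_a_Cert_tree lc_a_rc_2_2 lc_a_rc_0_0 lc_a_rc_29_0 lc_a_Cert_tree lc_a_rc_1_6 lc_a_rc_2_2 lc_a_rc_3_2 lc_a_rc_5_2 lc_a_rc_6_2 lc_a_Cert_tree lc_a_rc_28_0 lc_a_rc_3_2 lc_a_rc_3_2 lc_a_rc_29_0 lc_a_rc_0_0 lc_a_Cert_tree) (@D3.rec (fun _ => (Cert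 rels S Gen.a)) lc_a_rc_29_0 lc_a_Cert_tree lc_a_rc_29_0 lc_a_rc_3_2 lc_a_rc_3_2 lc_a_Cert_tree lc_a_rc_0_0 lc_a_rc_2_2 lc_a_rc_29_0 lc_a_Cert_tree lc_a_rc_29_0 lc_a_rc_29_0 lc_a_rc_29_0 lc_a_rc_5_2 lc_a_rc_29_0 lc_a_rc_0_0 lc_a_Cert_tree lc_a_rc_29_0)
def ce_a_1 : D2 → D3 → (Cert rels S Gen.a) := @D2.rec (fun _ => D3 → (Cert rels S Gen.a)) (@D3.rec (fun _ => (Cert rels S Gen.a)) lc_a_rc_0_0 lc_a_rc_2_2 lc_a_rc_0_0 lc_a_rc_29_0 lc_a_rc_29_0 lc_a_rc_0_0 lc_a_rc_5_2 lc_a_rc_5_0 lc_a_Cert_tree lc_a_rc_28_0 lc_a_rc_3_2 lc_a_rc_29_0 lc_a_rc_29_0 lc_a_rc_28_0 lc_a_rc_3_2 lc_a_Cert_tree lc_a_rc_0_0 lc_a_rc_28_0) (@D3.rec (fun _ => (Cert rels S Gen.a)) lc_a_rc_28_0 lc_a_rc_5_2 lc_a_rc_29_0 lc_a_rc_29_0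 lc_a_Cert_tree lc_a_rc_29_0 lc_a_rc_29_0 lc_a_rc_28_0 lc_a_rc_3_2 lc_a_rc_5_2 lc_a_rc_6_2 lc_a_rc_28_0 lc_a_rc_1_4 lc_a_rc_29_0 lc_a_rc_29_0 lc_a_rc_29_0 lc_a_rc_6_2 lc_a_rc_29_0) (@D3.rec (fun _ => (Cert rels S Gen.a)) lc_a_rc_0_0 lc_a_rc_28_0 lc_a_rc_3_2 lc_a_rc_3_2 lc_a_Cert_tree lc_a_rc_29_0 lc_a_rc_0_0 lc_a_rc_0_0 lc_a_rc_3_2 lc_a_rc_28_0 lc_a_rc_5_2 lc_a_rc_29_0 lc_a_rc_29_0 lc_a_Cert_tree lc_a_rc_28_0 lc_a_rc_28_0 lc_a_Cert_tree lc_a_rc_3_2) (@D3.rec (fun _ => (Cert rels S Gen.a)) lc_a_rc_0_0 lc_a_rc_29_0 lc_a_Cert_tree lc_a_rc_1_4 lc_a_rc_6_0 lc_a_rc_0_0 lc_a_rc_2_2 lc_a_rc_2_2 lc_a_rc_3_2 lc_a_rc_28_0 lc_a_rc_3_2 lc_a_rc_3_2 lc_a_Cert_tree lc_a_rc_0_0 lc_a_rc_5_0 lc_a_rc_29_0 lc_a_Cert_tree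 lc_a_rc_28_0) (@D3.rec (fun _ => (Cert rels S Gen.a)) lc_a_rc_28_0 lc_a_rc_28_0 lc_a_rc_29_0 lc_a_rc_0_0 lc_a_Cert_tree lc_a_rc_29_0 lc_a_rc_0_0 lc_a_rc_29_0 lc_a_rc_29_0 lc_a_rc_29_0 lc_a_rc_0_0 lc_a_rc_5_2 lc_a_rc_5_0 lc_a_Cert_tree lc_a_rc_29_0 lc_a_rc_29_0 lc_a_rc_29_0 lc_a_Cert_tree) (@D3.rec (fun _ => (Cert rels S Gen.a)) lc_a_rc_0_0 lc_a_rc_2_2 lc_a_rc_29_0 lc_a_rc_1_6 lc_a_rc_2_2 lc_a_rc_3_2 lc_a_rc_29_0 lc_a_rc_0_0 lc_a_rc_3_2 lc_a_rc_5_2 lc_a_rc_5_0 lc_a_rc_29_0 lc_a_rc_29_0 lc_a_rc_29_0 lc_a_Cert_tree lc_a_rc_29_0 lc_a_rc_28_0 lc_a_rc_0_0) (@D3.rec (fun _ => (Cert rels S Gen.a)) lc_a_rc_28_0 lc_a_Cert_tree lc_a_rc_29_0 lc_a_rc_0_0 lc_a_rc_2_2 lc_a_rc_0_0 lc_a_rc_29_0 lc_a_rc_29_0 lc_a_rc_2_2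 lc_a_rc_3_2 lc_a_rc_0_0 lc_a_rc_29_0 lc_a_rc_29_0 lc_a_rc_2_0 lc_a_rc_5_2 lc_a_rc_6_2 lc_a_Cert_tree lc_a_rc_29_0) (@D3.rec (fun _ => (Cert rels S Gen.a)) lc_a_rc_29_0 lc_a_rc_0_0 lc_a_rc_2_2 lc_a_rc_2_0 lc_a_rc_28_0 lc_a_rc_29_0 lc_a_rc_28_0 lc_a_Cert_tree lc_a_rc_28_0 lc_a_Cert_tree lc_a_rc_0_0 lc_a_rc_29_0 lc_a_Cert_tree lc_a_rc_28_0 lc_a_rc_29_0 lc_a_rc_29_0 lc_a_rc_28_0 lc_a_rc_0_0) (@D3.rec (fun _ => (Cert rels S Gen.a)) lc_a_rc_5_2 lc_a_rc_2_0 lc_a_rc_29_0 lc_a_rc_29_0 lc_a_rc_29_0 lc_a_rc_1_4 lc_a_rc_28_0 lc_a_rc_3_2 lc_a_rc_3_2 lc_a_rc_29_0 lc_a_rc_1_4 lc_a_rc_2_2 lc_a_rc_29_0 lc_a_rc_29_0 lc_a_rc_6_2 lc_a_rc_29_0 lc_a_rc_0_0 lc_a_Cert_tree) (@D3.rec (fun _ => (Cert rels S Gen.a)) lc_a_rc_28_0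 lc_a_rc_28_0 lc_a_rc_28_0 lc_a_Cert_tree lc_a_rc_29_0 lc_a_rc_0_0 lc_a_rc_0_0 lc_a_rc_28_0 lc_a_Cert_tree lc_a_rc_28_0 lc_a_rc_28_0 lc_a_rc_29_0 lc_a_rc_29_0 lc_a_rc_0_0 lc_a_rc_5_2 lc_a_rc_5_0 lc_a_Cert_tree lc_a_Cert_tree) (@D3.rec (fun _ => (Cert rels S Gen.a)) lc_a_rc_28_0 lc_a_rc_0_0 lc_a_rc_2_2 lc_a_rc_29_0 lc_a_Cert_tree lc_a_rc_1_4 lc_a_rc_6_0 lc_a_rc_0_0 lc_a_rc_2_2 lc_a_rc_2_2 lc_a_rc_3_2 lc_a_Cert_tree lc_a_rc_28_0 lc_a_rc_28_0 lc_a_rc_28_0 lc_a_Cert_tree lc_a_rc_0_0 lc_a_rc_5_0)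
def ce_a_2 : D2 → D3 → (Cert rels S Gen.a) := @D2.rec (fun _ => D3 → (Cert rels S Gen.a)) (@D3.rec (fun _ => (Cert rels S Gen.a)) lc_a_rc_29_0 lc_a_rc_0_0 lc_a_rc_3_2 lc_a_rc_5_2 lc_a_rc_5_0 lc_a_rc_28_0 lc_a_rc_29_0 lc_a_rc_28_0 lc_a_rc_28_0 lc_a_Cert_tree lc_a_rc_29_0 lc_a_rc_4_2 lc_a_rc_0_0 lc_a_Cert_tree lc_a_rc_29_0 lc_a_rc_0_0 lc_a_rc_29_0 lc_a_rc_29_0) (@D3.rec (fun _ => (Cert rels S Gen.a)) lc_a_rc_29_0 lc_a_rc_29_0 lc_a_rc_29_0 lc_a_rc_2_0 lc_a_rc_5_2 lc_a_rc_6_2 lc_a_rc_29_0 lc_a_rc_29_0 lc_a_rc_0_0 lc_a_rc_3_2 lc_a_rc_5_2 lc_a_rc_5_0 lc_a_rc_29_0 lc_a_rc_29_0 lc_a_rc_29_0 lc_a_Cert_tree lc_a_Cert_tree lc_a_rc_0_0) (@D3.rec (fun _ => (Cert rels S Gen.a)) lc_a_rc_2_2 lc_a_rc_29_0 lc_a_rc_1_6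 lc_a_rc_2_2 lc_a_rc_29_0 lc_a_rc_3_2 lc_a_rc_29_0 lc_a_rc_1_4 lc_a_Cert_tree lc_a_rc_3_2 lc_a_rc_5_2 lc_a_rc_6_2 lc_a_rc_2_2 lc_a_rc_4_2 lc_a_rc_5_2 lc_a_rc_6_2 lc_a_Cert_tree lc_a_rc_29_0) (@D3.rec (fun _ => (Cert rels S Gen.a)) lc_a_rc_28_0 lc_a_rc_29_0 lc_a_rc_29_0 lc_a_rc_29_0 lc_a_Cert_tree lc_a_rc_29_0 lc_a_rc_28_0 lc_a_rc_0_0 lc_a_rc_0_0 lc_a_rc_2_2 lc_a_rc_6_2 lc_a_Cert_tree lc_a_rc_0_0 lc_a_rc_2_2 lc_a_rc_0_0 lc_a_rc_29_0 lc_a_rc_29_0 lc_a_rc_2_2) (@D3.rec (fun _ => (Cert rels S Gen.a)) lc_a_rc_0_0 lc_a_rc_29_0 lc_a_rc_3_2 lc_a_rc_0_0 lc_a_rc_2_2 lc_a_rc_29_0 lc_a_rc_1_4 lc_a_rc_1_4 lc_a_rc_5_2 lc_a_Cert_tree lc_a_Cert_tree lc_a_rc_0_0 lc_a_rc_2_2 lc_a_Cert_tree lc_a_Cert_tree lc_a_rc_2_2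 lc_a_rc_1_6 lc_a_rc_5_2) (@D3.rec (fun _ => (Cert rels S Gen.a)) lc_a_rc_29_0 lc_a_rc_28_0 lc_a_rc_29_0 lc_a_rc_29_0 lc_a_rc_0_0 lc_a_rc_5_2 lc_a_rc_29_0 lc_a_Cert_tree lc_a_rc_0_0 lc_a_rc_2_2 lc_a_rc_29_0 lc_a_rc_0_0 lc_a_rc_3_2 lc_a_rc_5_2 lc_a_rc_1_6 lc_a_rc_0_0 lc_a_rc_28_0 lc_a_Cert_tree) (@D3.rec (fun _ => (Cert rels S Gen.a)) lc_a_rc_29_0 lc_a_rc_28_0 lc_a_Cert_tree lc_a_rc_5_2 lc_a_rc_29_0 lc_a_rc_0_0 lc_a_rc_2_2 lc_a_rc_29_0 lc_a_rc_29_0 lc_a_rc_1_4 lc_a_Cert_tree lc_a_rc_28_0 lc_a_rc_28_0 lc_a_rc_28_0 lc_a_rc_3_2 lc_a_Cert_tree lc_a_rc_3_2 lc_a_rc_2_2) (@D3.rec (fun _ => (Cert rels S Gen.a)) lc_a_rc_2_2 lc_a_rc_6_2 lc_a_rc_29_0 lc_a_rc_0_0 lc_a_rc_0_0 lc_a_rc_28_0 lc_a_rc_5_2 lc_a_rc_6_2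 lc_a_rc_4_2 lc_a_rc_28_0 lc_a_rc_28_0 lc_a_Cert_tree lc_a_rc_29_0 lc_a_rc_29_0 lc_a_rc_0_0 lc_a_rc_0_0 lc_a_rc_2_2 lc_a_Cert_tree) (@D3.rec (fun _ => (Cert rels S Gen.a)) lc_a_rc_0_0 lc_a_rc_3_2 lc_a_rc_5_2 lc_a_rc_5_0 lc_a_rc_0_0 lc_a_Cert_tree lc_a_rc_29_0 lc_a_rc_29_0 lc_a_Cert_tree lc_a_rc_5_2 lc_a_rc_6_2 lc_a_Cert_tree lc_a_rc_29_0 lc_a_rc_29_0 lc_a_rc_29_0 lc_a_rc_0_0 lc_a_rc_2_2 lc_a_rc_6_2) (@D3.rec (fun _ => (Cert rels S Gen.a)) lc_a_rc_0_0 lc_a_rc_5_2 lc_a_Cert_tree lc_a_rc_1_4 lc_a_rc_2_2 lc_a_rc_3_2 lc_a_rc_29_0 lc_a_rc_6_0 lc_a_rc_0_0 lc_a_rc_2_2 lc_a_rc_2_2 lc_a_rc_3_2 lc_a_rc_0_0 lc_a_rc_3_2 lc_a_rc_5_2 lc_a_rc_5_0 lc_a_rc_29_0 lc_a_rc_28_0) (@D3.rec (fun _ => (Cert rels S Gen.a))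 lc_a_rc_28_0 lc_a_Cert_tree lc_a_Cert_tree lc_a_rc_0_0 lc_a_rc_2_2 lc_a_rc_4_2 lc_a_rc_28_0 lc_a_Cert_tree lc_a_rc_3_2 lc_a_rc_5_2 lc_a_rc_6_2 lc_a_rc_28_0 lc_a_rc_4_2 lc_a_rc_5_2 lc_a_rc_28_0 lc_a_Cert_tree lc_a_rc_29_0 lc_a_rc_4_2)
def ce_a_3 : D2 → D3 → (Cert rels S Gen.a) := @D2.rec (fun _ => D3 → (Cert rels S Gen.a)) (@D3.rec (fun _ => (Cert rels S Gen.a)) lc_a_rc_29_0 lc_a_Cert_tree lc_a_rc_4_2 lc_a_rc_28_0 lc_a_rc_28_0 lc_a_rc_29_0 lc_a_rc_29_0 lc_a_Cert_tree lc_a_rc_29_0 lc_a_rc_28_0 lc_a_rc_0_0 lc_a_rc_0_0 lc_a_rc_6_2 lc_a_Cert_tree lc_a_rc_0_0 lc_a_rc_2_2 lc_a_rc_4_2 lc_a_rc_29_0) (@D3.rec (fun _ => (Cert rels S Gen.a)) lc_a_rc_29_0 lc_a_rc_29_0 lc_a_rc_2_2 lc_a_rc_29_0 lc_a_rc_1_4 lc_a_Cert_tree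 lc_a_Cert_tree lc_a_Cert_tree lc_a_Cert_tree lc_a_rc_3_2 lc_a_rc_5_2 lc_a_rc_6_2 lc_a_rc_2_2 lc_a_rc_4_2 lc_a_rc_5_2 lc_a_Cert_tree lc_a_rc_29_0 lc_a_rc_28_0) (@D3.rec (fun _ => (Cert rels S Gen.a)) lc_a_rc_29_0 lc_a_rc_29_0 lc_a_rc_29_0 lc_a_Cert_tree lc_a_Cert_tree lc_a_rc_0_0 lc_a_rc_2_2 lc_a_rc_6_2 lc_a_rc_0_0 lc_a_rc_5_2 lc_a_rc_1_6 lc_a_rc_2_2 lc_a_rc_29_0 lc_a_rc_1_4 lc_a_rc_1_4 lc_a_rc_0_0 lc_a_rc_29_0 lc_a_rc_3_2) (@D3.rec (fun _ => (Cert rels S Gen.a)) lc_a_rc_5_2 lc_a_rc_28_0 lc_a_rc_2_2 lc_a_rc_4_2 lc_a_rc_5_2 lc_a_rc_6_2 lc_a_rc_28_0 lc_a_rc_2_2 lc_a_rc_2_2 lc_a_rc_5_2 lc_a_rc_6_2 lc_a_Cert_tree lc_a_rc_29_0 lc_a_rc_28_0 lc_a_rc_0_0 lc_a_rc_0_0 lc_a_rc_2_2 lc_a_rc_29_0) (@D3.rec (fun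 _ => (Cert rels S Gen.a)) lc_a_Cert_tree lc_a_Cert_tree lc_a_rc_29_0 lc_a_rc_4_2 lc_a_rc_0_0 lc_a_rc_0_0 lc_a_rc_2_2 lc_a_rc_6_2 lc_a_Cert_tree lc_a_rc_4_2 lc_a_rc_2_2 lc_a_rc_6_2 lc_a_rc_6_2 lc_a_Cert_tree lc_a_rc_0_0 lc_a_rc_0_0 lc_a_rc_2_2 lc_a_rc_5_2) (@D3.rec (fun _ => (Cert rels S Gen.a)) lc_a_rc_2_2 lc_a_rc_0_0 lc_a_rc_29_0 lc_a_rc_1_4 lc_a_rc_1_8 lc_a_rc_28_0 lc_a_rc_1_4 lc_a_rc_5_2 lc_a_Cert_tree lc_a_rc_0_0 lc_a_rc_2_2 lc_a_rc_29_0 lc_a_rc_0_0 lc_a_rc_2_2 lc_a_rc_5_2 lc_a_Cert_tree lc_a_rc_2_2 lc_a_rc_0_0) (@D3.rec (fun _ => (Cert rels S Gen.a)) lc_a_rc_2_2 lc_a_rc_0_0 lc_a_rc_0_0 lc_a_rc_2_2 lc_a_rc_28_0 lc_a_Cert_tree lc_a_rc_5_2 lc_a_Cert_tree lc_a_rc_5_0 lc_a_rc_6_2 lc_a_rc_28_0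 lc_a_Cert_tree lc_a_rc_28_0 lc_a_rc_5_2 lc_a_Cert_tree lc_a_rc_6_0 lc_a_rc_0_0 lc_a_rc_2_2) (@D3.rec (fun _ => (Cert rels S Gen.a)) lc_a_rc_6_2 lc_a_rc_2_2 lc_a_rc_28_0 lc_a_rc_2_2 lc_a_Cert_tree lc_a_rc_3_2 lc_a_rc_5_2 lc_a_rc_28_0 lc_a_rc_5_2 lc_a_rc_28_0 lc_a_Cert_tree lc_a_rc_29_0 lc_a_rc_0_0 lc_a_rc_29_0 lc_a_rc_0_0 lc_a_Cert_tree lc_a_rc_0_0 lc_a_rc_6_2) (@D3.rec (fun _ => (Cert rels S Gen.a)) lc_a_Cert_tree lc_a_rc_28_0 lc_a_rc_0_0 lc_a_rc_2_2 lc_a_rc_5_2 lc_a_rc_0_1 lc_a_Cert_tree lc_a_Cert_tree lc_a_Cert_tree lc_a_rc_3_2 lc_a_rc_2_2 lc_a_rc_2_2 lc_a_rc_3_2 lc_a_rc_0_0 lc_a_rc_5_2 lc_a_rc_28_0 lc_a_rc_29_0 lc_a_rc_0_0) (@D3.rec (fun _ => (Cert rels S Gen.a)) lc_a_rc_3_2 lc_a_rc_5_2 lc_a_rc_6_2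 lc_a_rc_0_1 lc_a_rc_3_2 lc_a_rc_3_2 lc_a_Cert_tree lc_a_rc_29_0 lc_a_rc_29_0 lc_a_rc_0_0 lc_a_rc_28_0 lc_a_rc_28_0 lc_a_rc_5_2 lc_a_rc_6_2 lc_a_rc_1_4 lc_a_Cert_tree lc_a_rc_6_0 lc_a_rc_4_2) (@D3.rec (fun _ => (Cert rels S Gen.a)) lc_a_Cert_tree lc_a_rc_29_0 lc_a_rc_0_0 lc_a_rc_0_0 lc_a_rc_2_2 lc_a_rc_6_2 lc_a_Cert_tree lc_a_rc_29_0 lc_a_rc_28_0 lc_a_rc_2_2 lc_a_rc_3_2 lc_a_rc_0_0 lc_a_rc_5_2 lc_a_rc_29_0 lc_a_rc_28_0 lc_a_rc_3_2 lc_a_rc_5_2 lc_a_rc_6_2)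
def ce_a_4 : D2 → D3 → (Cert rels S Gen.a) := @D2.rec (fun _ => D3 → (Cert rels S Gen.a)) (@D3.rec (fun _ => (Cert rels S Gen.a)) lc_a_rc_28_0 lc_a_rc_5_2 lc_a_rc_28_0 lc_a_Cert_tree lc_a_rc_29_0 lc_a_rc_29_0 lc_a_Cert_tree lc_a_rc_0_0 lc_a_rc_2_2 lc_a_rc_6_2 lc_a_rc_29_0 lc_a_rc_2_2 lc_a_rc_0_0 lc_a_rc_28_0 lc_a_rc_5_2 lc_a_Cert_tree lc_a_rc_0_0 lc_a_rc_2_2) (@D3.rec (fun _ => (Cert rels S Gen.a)) lc_a_rc_29_0 lc_a_rc_0_1 lc_a_Cert_tree lc_a_Cert_tree lc_a_rc_2_2 lc_a_rc_6_2 lc_a_rc_3_2 lc_a_rc_6_2 lc_a_rc_0_0 lc_a_rc_5_2 lc_a_Cert_tree lc_a_rc_29_0 lc_a_rc_0_0 lc_a_rc_2_2 lc_a_rc_6_2 lc_a_rc_2_2 lc_a_Cert_tree lc_a_rc_3_2) (@D3.rec (fun _ => (Cert rels S Gen.a)) lc_a_rc_28_0 lc_a_rc_4_2 lc_a_rc_29_0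 lc_a_Cert_tree lc_a_rc_28_0 lc_a_rc_2_2 lc_a_rc_28_0 lc_a_rc_3_2 lc_a_rc_5_2 lc_a_rc_6_2 lc_a_rc_2_2 lc_a_rc_4_2 lc_a_rc_5_2 lc_a_rc_28_0 lc_a_Cert_tree lc_a_rc_29_0 lc_a_rc_1_4 lc_a_rc_29_0) (@D3.rec (fun _ => (Cert rels S Gen.a)) lc_a_rc_29_0 lc_a_rc_29_0 lc_a_Cert_tree lc_a_Cert_tree lc_a_rc_0_0 lc_a_rc_2_2 lc_a_rc_6_2 lc_a_rc_0_0 lc_a_rc_5_2 lc_a_rc_2_2 lc_a_rc_3_2 lc_a_rc_4_2 lc_a_rc_28_0 lc_a_rc_0_0 lc_a_rc_29_0 lc_a_rc_28_0 lc_a_rc_4_2 lc_a_rc_5_2) (@D3.rec (fun _ => (Cert rels S Gen.a)) lc_a_rc_28_0 lc_a_rc_1_6 lc_a_rc_28_0 lc_a_rc_5_2 lc_a_rc_29_0 lc_a_Cert_tree lc_a_rc_28_0 lc_a_rc_29_0 lc_a_rc_0_0 lc_a_rc_29_0 lc_a_rc_30_16 lc_a_rc_0_0 lc_a_rc_28_0 lc_a_rc_28_0 lc_a_rc_29_0 lc_a_rc_4_2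 lc_a_rc_28_0 lc_a_rc_28_0) (@D3.rec (fun _ => (Cert rels S Gen.a)) lc_a_Cert_tree lc_a_rc_29_0 lc_a_rc_28_0 lc_a_rc_0_0 lc_a_rc_0_0 lc_a_rc_2_2 lc_a_rc_6_2 lc_a_Cert_tree lc_a_rc_1_6 lc_a_rc_6_2 lc_a_Cert_tree lc_a_rc_0_0 lc_a_rc_0_0 lc_a_rc_2_2 lc_a_rc_5_2 lc_a_rc_2_2 lc_a_rc_3_2 lc_a_rc_4_2) (@D3.rec (fun _ => (Cert rels S Gen.a)) lc_a_rc_29_0 lc_a_rc_28_0 lc_a_rc_0_0 lc_a_rc_2_2 lc_a_rc_29_0 lc_a_rc_0_0 lc_a_rc_28_0 lc_a_rc_0_0 lc_a_rc_2_2 lc_a_rc_0_0 lc_a_rc_0_0 lc_a_rc_3_2 lc_a_rc_2_2 lc_a_rc_4_2 lc_a_rc_5_2 lc_a_rc_2_2 lc_a_rc_28_0 lc_a_rc_5_2) (@D3.rec (fun _ => (Cert rels S Gen.a)) lc_a_Cert_tree lc_a_rc_28_0 lc_a_rc_0_0 lc_a_rc_0_1 lc_a_rc_29_0 lc_a_rc_28_0 lc_a_rc_1_4 lc_a_Cert_tree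 lc_a_Cert_tree lc_a_rc_0_0 lc_a_rc_1_8 lc_a_rc_28_0 lc_a_rc_0_0 lc_a_rc_0_1 lc_a_Cert_tree lc_a_rc_2_2 lc_a_rc_6_2 lc_a_rc_29_0) (@D3.rec (fun _ => (Cert rels S Gen.a)) lc_a_rc_6_2 lc_a_rc_0_0 lc_a_rc_5_2 lc_a_rc_2_2 lc_a_rc_28_0 lc_a_rc_3_2 lc_a_rc_5_2 lc_a_rc_29_0 lc_a_rc_2_2 lc_a_rc_4_2 lc_a_rc_5_2 lc_a_rc_28_0 lc_a_rc_4_0 lc_a_rc_28_0 lc_a_rc_2_2 lc_a_rc_2_2 lc_a_rc_5_2 lc_a_rc_6_2) (@D3.rec (fun _ => (Cert rels S Gen.a)) lc_a_rc_28_0 lc_a_rc_28_0 lc_a_rc_2_2 lc_a_rc_29_0 lc_a_rc_29_0 lc_a_Cert_tree lc_a_rc_29_0 lc_a_rc_4_2 lc_a_rc_0_0 lc_a_rc_0_0 lc_a_rc_30_12 lc_a_rc_1_0 lc_a_Cert_tree lc_a_rc_2_2 lc_a_rc_29_0 lc_a_rc_29_0 lc_a_rc_0_0 lc_a_rc_2_2) (@D3.rec (fun _ => (Cert rels S Gen.a))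 lc_a_rc_0_1 lc_a_rc_0_0 lc_a_rc_2_2 lc_a_rc_6_2 lc_a_Cert_tree lc_a_rc_4_0 lc_a_rc_2_2 lc_a_rc_6_2 lc_a_rc_6_2 lc_a_rc_0_0 lc_a_rc_2_2 lc_a_Cert_tree lc_a_rc_6_2 lc_a_rc_0_0 lc_a_rc_0_0 lc_a_rc_2_2 lc_a_rc_29_0 lc_a_rc_28_0)
def ce_a_5 : D2 → D3 → (Cert rels S Gen.a) := @D2.rec (fun _ => D3 → (Cert rels S Gen.a)) (@D3.rec (fun _ => (Cert rels S Gen.a)) lc_a_rc_2_2 lc_a_rc_5_2 lc_a_rc_3_2 lc_a_rc_5_2 lc_a_Cert_tree lc_a_rc_5_2 lc_a_rc_28_0 lc_a_rc_0_0 lc_a_rc_2_2 lc_a_rc_29_0 lc_a_rc_2_2 lc_a_rc_3_2 lc_a_rc_1_4 lc_a_rc_2_2 lc_a_rc_5_2 lc_a_rc_5_2 lc_a_rc_29_0 lc_a_rc_0_0) (@D3.rec (fun _ => (Cert rels S Gen.a)) lc_a_rc_2_2 lc_a_rc_5_2 lc_a_rc_29_0 lc_a_Cert_tree lc_a_rc_2_2 lc_a_rc_1_4 lc_a_rc_28_0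 lc_a_rc_2_2 lc_a_rc_29_0 lc_a_rc_0_1 lc_a_rc_0_0 lc_a_rc_5_2 lc_a_rc_28_0 lc_a_rc_2_2 lc_a_rc_0_0 lc_a_rc_2_2 lc_a_rc_29_0 lc_a_Cert_tree) (@D3.rec (fun _ => (Cert rels S Gen.a)) lc_a_Cert_tree lc_a_rc_0_0 lc_a_rc_2_2 lc_a_rc_6_2 lc_a_rc_28_0 lc_a_Cert_tree lc_a_rc_0_0 lc_a_rc_2_2 lc_a_rc_29_0 lc_a_Cert_tree lc_a_Cert_tree lc_a_rc_2_2 lc_a_rc_6_2 lc_a_rc_2_0 lc_a_rc_4_0 lc_a_rc_0_0 lc_a_rc_4_2 lc_a_rc_3_2) (@D3.rec (fun _ => (Cert rels S Gen.a)) lc_a_Cert_tree lc_a_rc_0_0 lc_a_rc_5_2 lc_a_rc_5_2 lc_a_rc_1_8 lc_a_Cert_tree lc_a_rc_29_0 lc_a_rc_0_0 lc_a_rc_0_0 lc_a_rc_29_0 lc_a_rc_28_0 lc_a_rc_28_0 lc_a_rc_6_2 lc_a_Cert_tree lc_a_rc_0_0 lc_a_rc_2_2 lc_a_rc_6_2 lc_a_Cert_tree) (@D3.rec (fun _ =>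 (Cert rels S Gen.a)) lc_a_rc_6_2 lc_a_Cert_tree lc_a_rc_0_0 lc_a_rc_0_0 lc_a_rc_2_2 lc_a_rc_0_1 lc_a_rc_28_0 lc_a_rc_2_2 lc_a_rc_5_2 lc_a_rc_5_2 lc_a_rc_29_0 lc_a_rc_29_0 lc_a_rc_0_1 lc_a_rc_0_0 lc_a_rc_2_2 lc_a_rc_0_0 lc_a_rc_2_2 lc_a_rc_29_0) (@D3.rec (fun _ => (Cert rels S Gen.a)) lc_a_rc_0_0 lc_a_rc_28_0 lc_a_rc_5_2 lc_a_rc_3_2 lc_a_rc_3_2 lc_a_rc_28_0 lc_a_rc_5_2 lc_a_rc_28_0 lc_a_rc_3_2 lc_a_rc_5_2 lc_a_rc_6_2 lc_a_rc_2_2 lc_a_rc_1_4 lc_a_Cert_tree lc_a_rc_28_0 lc_a_rc_29_0 lc_a_Cert_tree lc_a_rc_29_0) (@D3.rec (fun _ => (Cert rels S Gen.a)) lc_a_rc_0_0 lc_a_rc_0_0 lc_a_rc_2_2 lc_a_rc_6_2 lc_a_Cert_tree lc_a_rc_29_0 lc_a_rc_2_2 lc_a_rc_28_0 lc_a_rc_28_0 lc_a_rc_0_1 lc_a_rc_0_0 lc_a_Cert_tree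 lc_a_rc_29_0 lc_a_rc_28_0 lc_a_rc_0_0 lc_a_rc_28_0 lc_a_rc_28_0 lc_a_Cert_tree) (@D3.rec (fun _ => (Cert rels S Gen.a)) lc_a_rc_28_0 lc_a_rc_29_0 lc_a_rc_2_2 lc_a_rc_6_2 lc_a_Cert_tree lc_a_rc_28_0 lc_a_rc_0_0 lc_a_Cert_tree lc_a_rc_3_2 lc_a_rc_4_2 lc_a_rc_5_2 lc_a_rc_29_0 lc_a_rc_28_0 lc_a_rc_5_2 lc_a_Cert_tree lc_a_rc_28_0 lc_a_rc_29_0 lc_a_rc_28_0) (@D3.rec (fun _ => (Cert rels S Gen.a)) lc_a_rc_0_0 lc_a_rc_2_2 lc_a_rc_29_0 lc_a_Cert_tree lc_a_rc_0_0 lc_a_rc_2_2 lc_a_rc_6_2 lc_a_rc_29_0 lc_a_rc_2_2 lc_a_rc_6_2 lc_a_rc_3_2 lc_a_rc_6_2 lc_a_rc_0_0 lc_a_rc_29_0 lc_a_rc_3_2 lc_a_rc_5_2 lc_a_rc_28_0 lc_a_rc_28_0) (@D3.rec (fun _ => (Cert rels S Gen.a)) lc_a_Cert_tree lc_a_rc_0_0 lc_a_rc_5_0 lc_a_rc_29_0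 lc_a_rc_2_2 lc_a_Cert_tree lc_a_rc_0_0 lc_a_rc_2_2 lc_a_rc_1_2 lc_a_rc_0_0 lc_a_rc_2_2 lc_a_rc_29_0 lc_a_rc_0_1 lc_a_rc_3_2 lc_a_rc_6_2 lc_a_Cert_tree lc_a_rc_29_0 lc_a_rc_28_0) (@D3.rec (fun _ => (Cert rels S Gen.a)) lc_a_Cert_tree lc_a_rc_29_0 lc_a_rc_29_0 lc_a_Cert_tree lc_a_rc_0_0 lc_a_rc_2_2 lc_a_rc_29_0 lc_a_rc_3_2 lc_a_Cert_tree lc_a_rc_2_2 lc_a_rc_6_2 lc_a_rc_3_2 lc_a_rc_6_2 lc_a_rc_1_2 lc_a_rc_3_2 lc_a_rc_0_0 lc_a_rc_3_2 lc_a_rc_5_2)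
def ce_a_6 : D2 → D3 → (Cert rels S Gen.a) := @D2.rec (fun _ => D3 → (Cert rels S Gen.a)) (@D3.rec (fun _ => (Cert rels S Gen.a)) lc_a_rc_5_0 lc_a_rc_4_2 lc_a_rc_4_2 lc_a_rc_29_0 lc_a_Cert_tree lc_a_rc_28_0 lc_a_rc_0_0 lc_a_rc_5_2 lc_a_Cert_tree lc_a_rc_2_2 lc_a_rc_4_2 lc_a_rc_5_2 lc_a_rc_28_0 lc_a_rc_28_0 lc_a_rc_5_2 lc_a_rc_0_1 lc_a_rc_29_0 lc_a_rc_0_0) (@D3.rec (fun _ => (Cert rels S Gen.a)) lc_a_rc_29_0 lc_a_rc_29_0 lc_a_rc_28_0 lc_a_rc_28_0 lc_a_Cert_tree lc_a_rc_0_0 lc_a_rc_2_2 lc_a_rc_6_2 lc_a_rc_0_0 lc_a_rc_29_0 lc_a_rc_29_0 lc_a_rc_2_2 lc_a_rc_6_2 lc_a_rc_3_2 lc_a_rc_6_2 lc_a_rc_0_0 lc_a_rc_5_2 lc_a_rc_29_0) (@D3.rec (fun _ => (Cert rels S Gen.a)) lc_a_rc_3_2 lc_a_rc_28_0 lc_a_rc_28_0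 lc_a_Cert_tree lc_a_rc_28_0 lc_a_rc_5_2 lc_a_Cert_tree lc_a_rc_28_0 lc_a_rc_29_0 lc_a_rc_0_0 lc_a_rc_4_2 lc_a_rc_0_0 lc_a_rc_0_0 lc_a_rc_28_0 lc_a_rc_0_0 lc_a_rc_2_2 lc_a_rc_6_2 lc_a_Cert_tree) (@D3.rec (fun _ => (Cert rels S Gen.a)) lc_a_rc_2_2 lc_a_rc_6_2 lc_a_rc_28_0 lc_a_rc_28_0 lc_a_rc_28_0 lc_a_rc_0_0 lc_a_rc_2_2 lc_a_rc_0_1 lc_a_rc_0_0 lc_a_rc_2_2 lc_a_rc_4_2 lc_a_rc_28_0 lc_a_rc_2_2 lc_a_rc_5_2 lc_a_rc_28_0 lc_a_rc_28_0 lc_a_rc_30_12 lc_a_rc_3_2) (@D3.rec (fun _ => (Cert rels S Gen.a)) lc_a_rc_28_0 lc_a_Cert_tree lc_a_rc_0_0 lc_a_rc_2_2 lc_a_rc_29_0 lc_a_rc_1_4 lc_a_rc_2_2 lc_a_rc_28_0 lc_a_rc_3_2 lc_a_rc_2_2 lc_a_rc_28_0 lc_a_rc_2_2 lc_a_rc_5_2 lc_a_rc_4_2 lc_a_rc_28_0 lc_a_Cert_tree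 lc_a_rc_4_2 lc_a_rc_0_0) (@D3.rec (fun _ => (Cert rels S Gen.a)) lc_a_rc_28_0 lc_a_rc_0_0 lc_a_rc_28_0 lc_a_rc_28_0 lc_a_rc_0_0 lc_a_rc_0_1 lc_a_Cert_tree lc_a_rc_0_0 lc_a_rc_1_4 lc_a_rc_29_0 lc_a_rc_4_0 lc_a_rc_6_2 lc_a_rc_1_6 lc_a_rc_3_2 lc_a_rc_2_2 lc_a_rc_4_2 lc_a_rc_5_2 lc_a_rc_28_0) (@D3.rec (fun _ => (Cert rels S Gen.a)) lc_a_rc_3_2 lc_a_rc_2_2 lc_a_rc_28_0 lc_a_rc_28_0 lc_a_rc_4_0 lc_a_rc_28_0 lc_a_rc_2_2 lc_a_rc_28_0 lc_a_rc_30_16 lc_a_rc_29_0 lc_a_rc_28_0 lc_a_Cert_tree lc_a_rc_0_0 lc_a_rc_30_12 lc_a_rc_28_0 lc_a_rc_3_0 lc_a_rc_29_0 lc_a_rc_0_0) (@D3.rec (fun _ => (Cert rels S Gen.a)) lc_a_rc_2_2 lc_a_rc_0_1 lc_a_rc_29_0 lc_a_rc_0_1 lc_a_rc_28_0 lc_a_rc_2_2 lc_a_rc_5_0 lc_a_rc_2_2 lc_a_rc_1_6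 lc_a_rc_2_2 lc_a_rc_6_2 lc_a_rc_28_0 lc_a_rc_29_0 lc_a_rc_0_0 lc_a_rc_2_2 lc_a_rc_4_0 lc_a_rc_4_0 lc_a_rc_2_2) (@D3.rec (fun _ => (Cert rels S Gen.a)) lc_a_rc_0_0 lc_a_rc_3_2 lc_a_rc_4_0 lc_a_rc_2_2 lc_a_rc_3_2 lc_a_rc_2_2 lc_a_rc_28_0 lc_a_rc_4_0 lc_a_rc_3_2 lc_a_rc_5_2 lc_a_rc_0_0 lc_a_rc_1_8 lc_a_rc_0_0 lc_a_rc_29_0 lc_a_rc_2_2 lc_a_rc_29_0 lc_a_rc_28_0 lc_a_rc_3_2) (@D3.rec (fun _ => (Cert rels S Gen.a)) lc_a_rc_4_2 lc_a_rc_5_2 lc_a_Cert_tree lc_a_rc_28_0 lc_a_rc_2_2 lc_a_rc_5_2 lc_a_Cert_tree lc_a_rc_3_2 lc_a_rc_5_2 lc_a_rc_29_0 lc_a_rc_0_0 lc_a_rc_0_1 lc_a_rc_6_2 lc_a_Cert_tree lc_a_rc_29_0 lc_a_rc_29_0 lc_a_rc_5_2 lc_a_rc_29_0) (@D3.rec (fun _ => (Cert rels S Gen.a)) lc_a_rc_0_0 lc_a_rc_2_2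 lc_a_rc_3_2 lc_a_rc_29_0 lc_a_rc_0_0 lc_a_rc_2_2 lc_a_rc_29_0 lc_a_rc_0_0 lc_a_rc_5_2 lc_a_rc_2_2 lc_a_rc_6_2 lc_a_rc_28_0 lc_a_rc_0_0 lc_a_rc_0_0 lc_a_rc_28_0 lc_a_rc_0_0 lc_a_rc_30_8 lc_a_rc_2_2)
def ce_a_7 : D2 → D3 → (Cert rels S Gen.a) := @D2.rec (fun _ => D3 → (Cert rels S Gen.a)) (@D3.rec (fun _ => (Cert rels S Gen.a)) lc_a_rc_5_2 lc_a_rc_0_0 lc_a_rc_0_0 lc_a_rc_2_2 lc_a_rc_2_0 lc_a_rc_29_0 lc_a_rc_0_1 lc_a_rc_2_0 lc_a_rc_28_0 lc_a_rc_4_2 lc_a_rc_5_0 lc_a_rc_0_0 lc_a_rc_5_2 lc_a_rc_4_0 lc_a_rc_29_0 lc_a_rc_28_0 lc_a_rc_4_2 lc_a_rc_0_0) (@D3.rec (fun _ => (Cert rels S Gen.a)) lc_a_rc_29_0 lc_a_rc_29_0 lc_a_rc_1_4 lc_a_rc_3_2 lc_a_rc_0_0 lc_a_rc_2_2 lc_a_rc_6_2 lc_a_rc_0_0 lc_a_rc_3_0 lc_a_rc_29_0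 lc_a_rc_0_0 lc_a_rc_2_2 lc_a_rc_4_2 lc_a_rc_2_2 lc_a_rc_3_2 lc_a_rc_0_1 lc_a_rc_5_2 lc_a_rc_29_0) (@D3.rec (fun _ => (Cert rels S Gen.a)) lc_a_rc_29_0 lc_a_rc_29_0 lc_a_rc_0_1 lc_a_rc_2_2 lc_a_rc_28_0 lc_a_rc_2_2 lc_a_rc_28_0 lc_a_rc_29_0 lc_a_rc_5_2 lc_a_rc_0_1 lc_a_rc_28_0 lc_a_rc_28_0 lc_a_rc_29_0 lc_a_rc_2_2 lc_a_rc_2_2 lc_a_rc_0_1 lc_a_rc_0_0 lc_a_rc_0_0) (@D3.rec (fun _ => (Cert rels S Gen.a)) lc_a_rc_29_0 lc_a_rc_28_0 lc_a_rc_0_0 lc_a_rc_2_2 lc_a_rc_4_0 lc_a_rc_28_0 lc_a_rc_3_2 lc_a_rc_2_2 lc_a_rc_2_2 lc_a_rc_6_2 lc_a_Cert_tree lc_a_rc_2_0 lc_a_rc_0_0 lc_a_rc_29_0 lc_a_rc_29_0 lc_a_rc_0_0 lc_a_rc_0_1 lc_a_rc_29_0) (@D3.rec (fun _ => (Cert rels S Gen.a)) lc_a_rc_29_0 lc_a_rc_1_2 lc_a_rc_28_0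 lc_a_rc_0_0 lc_a_rc_0_1 lc_a_rc_4_0 lc_a_rc_29_0 lc_a_rc_0_0 lc_a_rc_29_0 lc_a_rc_0_0 lc_a_rc_1_6 lc_a_rc_29_0 lc_a_rc_5_0 lc_a_rc_4_2 lc_a_rc_3_2 lc_a_rc_0_0 lc_a_rc_29_0 lc_a_rc_28_0) (@D3.rec (fun _ => (Cert rels S Gen.a)) lc_a_rc_0_0 lc_a_rc_5_0 lc_a_rc_29_0 lc_a_rc_28_0 lc_a_rc_29_0 lc_a_rc_2_2 lc_a_rc_28_0 lc_a_rc_0_0 lc_a_rc_2_2 lc_a_rc_2_2 lc_a_rc_6_2 lc_a_rc_29_0 lc_a_rc_0_1 lc_a_rc_3_2 lc_a_rc_6_2 lc_a_rc_29_0 lc_a_rc_28_0 lc_a_rc_5_2) (@D3.rec (fun _ => (Cert rels S Gen.a)) lc_a_rc_28_0 lc_a_rc_29_0 lc_a_rc_4_2 lc_a_rc_28_0 lc_a_rc_28_0 lc_a_rc_0_0 lc_a_rc_0_0 lc_a_rc_29_0 lc_a_rc_0_0 lc_a_rc_0_1 lc_a_rc_0_0 lc_a_rc_29_0 lc_a_rc_0_0 lc_a_rc_28_0 lc_a_rc_4_0 lc_a_rc_2_2 lc_a_rc_3_2 lc_a_rc_29_0)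 (@D3.rec (fun _ => (Cert rels S Gen.a)) lc_a_rc_2_2 lc_a_rc_1_2 lc_a_rc_29_0 lc_a_rc_28_0 lc_a_rc_3_2 lc_a_Cert_tree lc_a_rc_0_0 lc_a_rc_29_0 lc_a_rc_30_12 lc_a_rc_0_0 lc_a_rc_0_1 lc_a_rc_0_0 lc_a_rc_3_2 lc_a_rc_2_2 lc_a_rc_29_0 lc_a_rc_0_0 lc_a_rc_2_2 lc_a_rc_0_1) (@D3.rec (fun _ => (Cert rels S Gen.a)) lc_a_rc_3_2 lc_a_rc_28_0 lc_a_rc_3_2 lc_a_rc_6_2 lc_a_rc_6_2 lc_a_rc_1_4 lc_a_rc_3_2 lc_a_rc_5_2 lc_a_rc_6_2 lc_a_rc_2_2 lc_a_rc_28_0 lc_a_rc_5_2 lc_a_rc_6_2 lc_a_rc_29_0 lc_a_rc_29_0 lc_a_rc_3_0 lc_a_rc_29_0 lc_a_rc_0_0) (@D3.rec (fun _ => (Cert rels S Gen.a)) lc_a_rc_28_0 lc_a_rc_28_0 lc_a_rc_5_2 lc_a_rc_0_1 lc_a_rc_29_0 lc_a_rc_0_0 lc_a_rc_5_2 lc_a_rc_0_1 lc_a_rc_6_0 lc_a_rc_28_0 lc_a_rc_0_1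 lc_a_rc_4_2 lc_a_rc_0_0 lc_a_rc_0_1 lc_a_rc_29_0 lc_a_rc_2_2 lc_a_rc_6_2 lc_a_rc_29_0) (@D3.rec (fun _ => (Cert rels S Gen.a)) lc_a_rc_6_2 lc_a_rc_30_12 lc_a_rc_3_2 lc_a_rc_6_2 lc_a_rc_2_2 lc_a_rc_3_2 lc_a_rc_30_12 lc_a_rc_1_8 lc_a_rc_0_0 lc_a_rc_3_2 lc_a_rc_2_2 lc_a_rc_6_2 lc_a_rc_0_0 lc_a_rc_3_0 lc_a_rc_2_2 lc_a_rc_6_2 lc_a_rc_29_0 lc_a_rc_0_0)
def ce_a_8 : D2 → D3 → (Cert rels S Gen.a) := @D2.rec (fun _ => D3 → (Cert rels S Gen.a)) (@D3.rec (fun _ => (Cert rels S Gen.a)) lc_a_rc_2_2 lc_a_rc_28_0 lc_a_rc_28_0 lc_a_rc_28_0 lc_a_rc_2_2 lc_a_rc_28_0 lc_a_rc_2_2 lc_a_rc_28_0 lc_a_rc_5_2 lc_a_rc_28_0 lc_a_rc_3_2 lc_a_rc_0_0 lc_a_rc_0_0 lc_a_rc_2_2 lc_a_rc_28_0 lc_a_rc_29_0 lc_a_rc_0_0 lc_a_rc_3_2)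 (@D3.rec (fun _ => (Cert rels S Gen.a)) lc_a_rc_29_0 lc_a_rc_0_0 lc_a_rc_2_2 lc_a_rc_29_0 lc_a_rc_6_2 lc_a_rc_5_2 lc_a_rc_3_0 lc_a_rc_3_2 lc_a_rc_2_2 lc_a_rc_28_0 lc_a_rc_28_0 lc_a_rc_4_0 lc_a_rc_29_0 lc_a_rc_28_0 lc_a_rc_0_0 lc_a_rc_2_2 lc_a_rc_28_0 lc_a_rc_28_0) (@D3.rec (fun _ => (Cert rels S Gen.a)) lc_a_rc_2_2 lc_a_rc_4_0 lc_a_rc_2_2 lc_a_rc_2_2 lc_a_rc_2_2 lc_a_rc_0_1 lc_a_rc_2_2 lc_a_rc_28_0 lc_a_rc_3_2 lc_a_rc_4_2 lc_a_Cert_tree lc_a_rc_29_0 lc_a_rc_30_8 lc_a_rc_28_0 lc_a_rc_28_0 lc_a_rc_1_6 lc_a_rc_2_0 lc_a_rc_28_0) (@D3.rec (fun _ => (Cert rels S Gen.a)) lc_a_rc_4_2 lc_a_rc_0_0 lc_a_rc_29_0 lc_a_rc_28_0 lc_a_rc_3_2 lc_a_rc_5_2 lc_a_rc_0_0 lc_a_rc_28_0 lc_a_rc_2_2 lc_a_rc_2_2 lc_a_rc_4_2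 lc_a_rc_5_2 lc_a_rc_29_0 lc_a_rc_28_0 lc_a_rc_28_0 lc_a_rc_6_2 lc_a_rc_1_6 lc_a_rc_0_0) (@D3.rec (fun _ => (Cert rels S Gen.a)) lc_a_rc_6_2 lc_a_rc_28_0 lc_a_rc_0_0 lc_a_rc_3_2 lc_a_rc_28_0 lc_a_rc_28_0 lc_a_rc_3_2 lc_a_rc_2_2 lc_a_rc_0_0 lc_a_rc_30_12 lc_a_rc_1_6 lc_a_rc_29_0 lc_a_rc_28_0 lc_a_rc_2_2 lc_a_rc_28_0 lc_a_rc_29_0 lc_a_rc_0_0 lc_a_rc_28_0) (@D3.rec (fun _ => (Cert rels S Gen.a)) lc_a_rc_2_2 lc_a_rc_0_0 lc_a_rc_28_0 lc_a_rc_28_0 lc_a_rc_2_2 lc_a_rc_28_0 lc_a_rc_29_0 lc_a_rc_3_2 lc_a_rc_28_0 lc_a_rc_28_0 lc_a_rc_1_4 lc_a_rc_0_1 lc_a_rc_4_2 lc_a_rc_28_0 lc_a_rc_28_0 lc_a_rc_28_0 lc_a_rc_29_0 lc_a_rc_2_2) (@D3.rec (fun _ => (Cert rels S Gen.a)) lc_a_rc_28_0 lc_a_rc_29_0 lc_a_rc_2_2 lc_a_rc_2_2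 lc_a_rc_28_0 lc_a_rc_29_0 lc_a_rc_3_0 lc_a_rc_5_2 lc_a_rc_28_0 lc_a_rc_0_0 lc_a_rc_28_0 lc_a_rc_28_0 lc_a_rc_6_2 lc_a_rc_1_6 lc_a_rc_29_0 lc_a_rc_0_0 lc_a_rc_28_0 lc_a_rc_29_0) (@D3.rec (fun _ => (Cert rels S Gen.a)) lc_a_rc_2_2 lc_a_rc_0_0 lc_a_rc_28_0 lc_a_rc_4_2 lc_a_rc_29_0 lc_a_rc_1_4 lc_a_rc_3_2 lc_a_rc_0_1 lc_a_rc_3_2 lc_a_rc_5_0 lc_a_rc_28_0 lc_a_rc_0_0 lc_a_rc_28_0 lc_a_rc_28_0 lc_a_rc_0_1 lc_a_rc_4_2 lc_a_rc_6_2 lc_a_rc_2_2) (@D3.rec (fun _ => (Cert rels S Gen.a)) lc_a_rc_5_2 lc_a_rc_6_2 lc_a_rc_28_0 lc_a_rc_28_0 lc_a_rc_6_2 lc_a_rc_29_0 lc_a_rc_0_0 lc_a_rc_29_0 lc_a_rc_28_0 lc_a_rc_28_0 lc_a_rc_6_2 lc_a_rc_2_2 lc_a_rc_3_2 lc_a_rc_2_2 lc_a_rc_3_2 lc_a_rc_6_2 lc_a_rc_3_2 lc_a_rc_0_0)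 (@D3.rec (fun _ => (Cert rels S Gen.a)) lc_a_rc_2_2 lc_a_rc_28_0 lc_a_rc_28_0 lc_a_rc_3_2 lc_a_rc_2_2 lc_a_rc_2_2 lc_a_rc_2_2 lc_a_rc_2_2 lc_a_rc_1_2 lc_a_rc_29_0 lc_a_rc_3_2 lc_a_rc_2_2 lc_a_rc_28_0 lc_a_rc_1_2 lc_a_rc_2_2 lc_a_rc_0_0 lc_a_rc_0_0 lc_a_rc_28_0) (@D3.rec (fun _ => (Cert rels S Gen.a)) lc_a_rc_28_0 lc_a_rc_2_2 lc_a_rc_4_2 lc_a_rc_5_2 lc_a_rc_28_0 lc_a_rc_28_0 lc_a_rc_4_2 lc_a_rc_28_0 lc_a_rc_6_2 lc_a_rc_1_4 lc_a_rc_29_0 lc_a_rc_1_2 lc_a_rc_28_0 lc_a_rc_2_2 lc_a_rc_28_0 lc_a_rc_29_0 lc_a_rc_1_4 lc_a_rc_1_4)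
def ce_a : Pt → (Cert rels S Gen.a) := @Pt.rec (fun _ => (Cert rels S Gen.a)) (@D1.rec (fun _ => D2 → D3 → (Cert rels S Gen.a)) ce_a_0 ce_a_1 ce_a_2 ce_a_3 ce_a_4 ce_a_5 ce_a_6 ce_a_7 ce_a_8)
def isSeed_a (p : Pt) : Bool := orB (beqPt p (Pt.mk D1.c0 D2.c0 D3.c6)) (false)

end

end Cfsg.Agent.Helper28.S1680
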