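import Cfsg.Agent.Lib.Helper28.S1680.Model

set_option autoImplicit false
set_option maxRecDepth 100000
set_option linter.all false

namespace Cfsg.Agent.Helper28.S1680

open Cfsg.Agent.Helper28
open Cfsg.Spor.Suz (Gen)

theorem relchk_0 : chkWordF allPts beqPt relF_0 = true := by decide +kernel
theorem relchk_1 : chkWordF allPts beqPt relF_1 = true := by decide +kernel
theorem relchk_2 : chkWordF allPts beqPt relF_2 = true := by decide +kernel
theorem relchk_3 : chkWordF allPts beqPt relF_3 = true := by decide +kernel
theorem relchk_4 : chkWordF allPts beqPt relF_4 = true := by decide +kernel
theorem relchk_5 : chkWordF allPts beqPt relF_5 = true := by decide +kernel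
theorem relchk_6 : chkWordF allPts beqPt relF_6 = true := by decide +kernel
theorem relchk_7 : chkWordF allPts beqPt relF_7 = true := by decide +kernel
theorem relchk_8 : chkWordF allPts beqPt relF_8 = true := by decide +kernel
theorem relchk_9 : chkWordF allPts beqPt relF_9 = true := by decide +kernel
theorem relchk_10 : chkWordF allPts beqPt relF_10 = true := by decide +kernel
theorem relchk_11 : chkWordF allPts beqPt relF_11 = true := by decide +kernel
theorem relchk_12 : chkWordF allPts beqPt relF_12 = true := by decide +kernel
theorem relchk_13 : chkWordF allPts beqPt relF_13 = true := by decide +kernel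
theorem relchk_14 : chkWordF allPts beqPt relF_14 = true := by decide +kernel
theorem relchk_15 : chkWordF allPts beqPt relF_15 = true := by decide +kernel
theorem relchk_16 : chkWordF allPts beqPt relF_16 = true := by decide +kernel
theorem relchk_17 : chkWordF allPts beqPt relF_17 = true := by decide +kernel
theorem relchk_18 : chkWordF allPts beqPt relF_18 = true := by decide +kernel
theorem relchk_19 : chkWordF allPts beqPt relF_19 = true := by decide +kernel
theorem relchk_20 : chkWordF allPts beqPt relF_20 = true := by decide +kernel
theorem relchk_21 : chkWordF allPts beqPt relF_21 = true := by decide +kernel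
theorem relchk_22 : chkWordF allPts beqPt relF_22 = true := by decide +kernel
theorem relchk_23 : chkWordF allPts beqPt relF_23 = true := by decide +kernel
theorem relchk_24 : chkWordF allPts beqPt relF_24 = true := by decide +kernel
theorem relchk_25 : chkWordF allPts beqPt relF_25 = true := by decide +kernel
theorem relchk_26 : chkWordF allPts beqPt relF_26 = true := by decide +kernel
theorem relchk_27 : chkWordF allPts beqPt relF_27 = true := by decide +kernel
theorem relchk_28 : chkWordF allPts beqPt relF_28 = true := by decide +kernel
theorem relchk_29 : chkWordF allPts beqPt relF_29 = true := by decide +kernel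
theorem relchk_30 : chkWordF allPts beqPt relF_30 = true := by decide +kernel
theorem relchk_31 : chkWordF allPts beqPt relF_31 = true := by decide +kernel
theorem relchk_32 : chkWordF allPts beqPt relF_32 = true := by decide +kernel

end Cfsg.Agent.Helper28.S1680
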