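import Cfsg.Agent.Lib.Helper28.S1680.SeedsPre

set_option autoImplicit false
set_option maxRecDepth 100000
set_option linter.all false

namespace Cfsg.Agent.Helper28.S1680

open Cfsg.Agent.Helper28
open Cfsg.Spor.Suz (Gen)

noncomputable section

section
variable (IH : ∀ y q, lvl y q < 16 → EntryOK rels S fwd inv o plet idx y q)
include IH

theorem s0_f1 : ed sl_bt sq0 = sq0 :=
  real_edge rels S fwd inv o lvl plet idx 16 IH Gen.b sp0 sp0 rfl rfl
theorem s0_f5 : ed sl_ft sq0 = sq0 :=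
  real_edge rels S fwd inv o lvl plet idx 16 IH Gen.f sp0 sp0 rfl rfl
theorem s0_f6 : ed sl_gt sq0 = sq1 :=
  real_edge rels S fwd inv o lvl plet idx 16 IH Gen.g sp0 sp1 rfl rfl
theorem s0_f8 : ed sl_bt sq1 = sq2 :=
  real_edge rels S fwd inv o lvl plet idx 16 IH Gen.b sp1 sp2 rfl rfl
theorem s0_f9 : ed sl_ct sq1 = sq1 :=
  real_edge rels S fwd inv o lvl plet idx 16 IH Gen.c sp1 sp1 rfl rfl
theorem s0_f10 : ed sl_dt sq1 = sq1 :=
  real_edge rels S fwd inv o lvl plet idx 16 IH Gen.d sp1 sp1 rfl rfl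
theorem s0_f12 : ed sl_ft sq1 = sq1 :=
  real_edge rels S fwd inv o lvl plet idx 16 IH Gen.f sp1 sp1 rfl rfl
theorem s0_f13 : ed sl_gt sq1 = sq0 :=
  real_edge rels S fwd inv o lvl plet idx 16 IH Gen.g sp1 sp0 rfl rfl
theorem s0_f14 : ed sl_at sq2 = sq3 :=
  real_edge rels S fwd inv o lvl plet idx 16 IH Gen.a sp2 sp3 rfl rfl
theorem s0_f15 : ed sl_bt sq2 = sq1 :=
  real_edge rels S fwd inv o lvl plet idx 16 IH Gen.b sp2 sp1 rfl rfl
theorem s0_f16 : ed sl_ct sq2 = sq4 :=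
  real_edge rels S fwd inv o lvl plet idx 16 IH Gen.c sp2 sp4 rfl rfl
theorem s0_f17 : ed sl_dt sq2 = sq2 :=
  real_edge rels S fwd inv o lvl plet idx 16 IH Gen.d sp2 sp2 rfl rfl
theorem s0_f19 : ed sl_ft sq2 = sq5 :=
  real_edge rels S fwd inv o lvl plet idx 16 IH Gen.f sp2 sp5 rfl rfl
theorem s0_f20 : ed sl_gt sq2 = sq2 :=
  real_edge rels S fwd inv o lvl plet idx 16 IH Gen.g sp2 sp2 rfl rfl
theorem s0_f21 : ed sl_at sq3 = sq2 :=
  real_edge rels S fwd inv o lvl plet idx 16 IH Gen.a sp3 sp2 rfl rfl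
theorem s0_f22 : ed sl_bt sq3 = sq6 :=
  real_edge rels S fwd inv o lvl plet idx 16 IH Gen.b sp3 sp6 rfl rfl
theorem s0_f26 : ed sl_ft sq3 = s0_v0 :=
  rfl
theorem s0_f27 : ed sl_ft sq5 = sq2 :=
  real_edge rels S fwd inv o lvl plet idx 16 IH Gen.f sp5 sp2 rfl rfl
theorem s0_f26r : ed sl_ff s0_v0 = sq3 :=
  edge_flip (s0_f26 IH)
theorem s0_f14r : ed sl_af sq3 = sq2 :=
  edge_flip (s0_f14 IH)
theorem s0_f27r : ed sl_ff sq2 = sq5 :=
  edge_flip (s0_f27 IH)
theorem s0_f28 : ed sl_af sq5 = s0_v0 :=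
  gap_rel s0_rot0 (path_edge (s0_f27r IH) (path_edge (s0_f14r IH) (path_edge (s0_f26r IH) (path_nil s0_v0))))
theorem s0_f29 : ed sl_bt sq6 = sq3 :=
  real_edge rels S fwd inv o lvl plet idx 16 IH Gen.b sp6 sp3 rfl rfl
theorem s0_f30 : ed sl_ct sq7 = sq3 :=
  real_edge rels S fwd inv o lvl plet idx 16 IH Gen.c sp7 sp3 rfl rfl
theorem s0_f31 : ed sl_ff sq3 = s0_v0 :=
  gap_rel s0_rot1 (path_edge (s0_f26r IH) (path_nil s0_v0))
theorem s0_f32 : ed sl_gt sq3 = sq3 :=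
  real_edge rels S fwd inv o lvl plet idx 16 IH Gen.g sp3 sp3 rfl rfl
theorem s0_f32r : ed sl_gf sq3 = sq3 :=
  edge_flip (s0_f32 IH)
theorem s0_f33 : ed sl_gf sq5 = s0_v0 :=
  gap_rel s0_rot2 (path_edge (s0_f27r IH) (path_edge (s0_f21 IH) (path_edge (s0_f32r IH) (path_edge (s0_f26r IH) (path_nil s0_v0)))))
theorem s0_f34 : ed sl_ct sq4 = sq2 :=
  real_edge rels S fwd inv o lvl plet idx 16 IH Gen.c sp4 sp2 rfl rfl
theorem s0_f35 : ed sl_ft sq9 = sq4 :=
  real_edge rels S fwd inv o lvl plet idx 16 IH Gen.f sp9 sp4 rfl rfl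
theorem s0_f36 : ed sl_bt sq5 = sq5 :=
  real_edge rels S fwd inv o lvl plet idx 16 IH Gen.b sp5 sp5 rfl rfl
theorem s0_f37 : ed sl_ct sq5 = sq9 :=
  real_edge rels S fwd inv o lvl plet idx 16 IH Gen.c sp5 sp9 rfl rfl
theorem s0_f38 : ed sl_dt sq5 = sq5 :=
  real_edge rels S fwd inv o lvl plet idx 16 IH Gen.d sp5 sp5 rfl rfl
theorem s0_f31r : ed sl_ft s0_v0 = sq3 :=
  edge_flip (s0_f31 IH)
theorem s0_f33r : ed sl_gt s0_v0 = sq5 :=
  edge_flip (s0_f33 IH)
theorem s0_f40 : ed sl_gt sq5 = s0_v0 :=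
  gap_rel s0_rot3 (path_edge (s0_f19 IH) (path_edge (s0_f20 IH) (path_edge (s0_f27 IH) (path_edge (s0_f33r IH) (path_edge (s0_f26 IH) (path_edge (s0_f32 IH) (path_edge (s0_f31r IH) (path_nil s0_v0))))))))
theorem s0_f41 : sq6 = s0_v0 :=
  (loop_rel s0_rot4 (path_edge (s0_f22 IH) (path_edge (s0_f31r IH) (path_edge (s0_f40 IH) (path_edge (s0_f36 IH) (path_edge (s0_f19 IH) (path_edge (s0_f20 IH) (path_edge (s0_f8 IH) (path_edge (s0_f12 IH) (path_edge (s0_f6 IH) (path_edge (s0_f1 IH) (path_edge (s0_f5 IH) (path_edge (s0_f13 IH) (path_edge (s0_f15 IH) (path_edge (s0_f27 IH) (path_edge (s0_f33r IH) (path_nil s0_v0))))))))))))))))).symm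
theorem s0_f28r : ed sl_at s0_v0 = sq5 :=
  edge_flip (s0_f28 IH)
theorem s0_f42 : ed sl_at sq6 = sq5 :=
  edge_of_path (path_edge (s0_f28r IH) (path_eq (s0_f41 IH) (path_nil sq6)))
theorem s0_f47 : ed sl_ct sq6 = sq10 :=
  real_edge rels S fwd inv o lvl plet idx 16 IH Gen.c sp6 sp10 rfl rfl
theorem s0_f48 : ed sl_ct sq10 = sq6 :=
  real_edge rels S fwd inv o lvl plet idx 16 IH Gen.c sp10 sp6 rfl rfl
theorem s0_f49 : ed sl_dt sq6 = sq6 :=
  real_edge rels S fwd inv o lvl plet idx 16 IH Gen.d sp6 sp6 rfl rfl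
theorem s0_f51 : ed sl_ct sq9 = sq5 :=
  real_edge rels S fwd inv o lvl plet idx 16 IH Gen.c sp9 sp5 rfl rfl
theorem s0_f47r : ed sl_cf sq10 = sq6 :=
  edge_flip (s0_f47 IH)
theorem s0_f40r : ed sl_gf s0_v0 = sq5 :=
  edge_flip (s0_f40 IH)
theorem s0_f51r : ed sl_cf sq5 = sq9 :=
  edge_flip (s0_f51 IH)
theorem s0_f52 : ed sl_gf sq9 = sq10 :=
  gap_rel s0_rot5 (path_edge (s0_f51r IH) (path_edge (s0_f40r IH) (path_eq (s0_f41 IH) (path_edge (s0_f47r IH) (path_nil sq10)))))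
theorem s0_f54 : ed sl_at sq5 = s0_v0 :=
  gap_rel s0_rot6 (path_edge (s0_f40r IH) (path_eq (s0_f41 IH) (path_eq (s0_f41 IH).symm (path_edge (s0_f31 IH) (path_edge (s0_f32r IH) (path_edge (s0_f26r IH) (path_nil s0_v0)))))))
theorem s0_f58 : ed sl_dt sq9 = sq15 :=
  real_edge rels S fwd inv o lvl plet idx 16 IH Gen.d sp9 sp15 rfl rfl
theorem s0_f59 : ed sl_ct sq15 = sq27 :=
  real_edge rels S fwd inv o lvl plet idx 16 IH Gen.c sp15 sp27 rfl rfl
theorem s0_f60 : ed sl_dt sq18 = sq10 :=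
  real_edge rels S fwd inv o lvl plet idx 16 IH Gen.d sp18 sp10 rfl rfl
theorem s0_f61 : ed sl_ct sq33 = sq18 :=
  real_edge rels S fwd inv o lvl plet idx 16 IH Gen.c sp33 sp18 rfl rfl
theorem s0_f54r : ed sl_af s0_v0 = sq5 :=
  edge_flip (s0_f54 IH)
theorem s0_f62 : ed sl_dt sq27 = sq33 :=
  gap_rel s0_rot7 (path_edge (s0_f59 IH) (path_edge (s0_f58 IH) (path_edge (s0_f37 IH) (path_edge (s0_f38 IH) (path_edge (s0_f54r IH) (path_eq (s0_f41 IH) (path_edge (s0_f48 IH) (path_edge (s0_f60 IH) (path_edge (s0_f61 IH) (path_nil sq33))))))))))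
theorem s0_f64 : ed sl_ft sq4 = sq9 :=
  real_edge rels S fwd inv o lvl plet idx 16 IH Gen.f sp4 sp9 rfl rfl
theorem s0_f67 : ed sl_ct sq17 = sq11 :=
  real_edge rels S fwd inv o lvl plet idx 16 IH Gen.c sp17 sp11 rfl rfl
theorem s0_f68 : ed sl_ft sq32 = sq17 :=
  real_edge rels S fwd inv o lvl plet idx 16 IH Gen.f sp32 sp17 rfl rfl
theorem s0_f69 : ed sl_bt sq7 = sq11 :=
  real_edge rels S fwd inv o lvl plet idx 16 IH Gen.b sp7 sp11 rfl rfl
theorem s0_f71 : ed sl_ft sq19 = sq36 :=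
  real_edge rels S fwd inv o lvl plet idx 16 IH Gen.f sp19 sp36 rfl rfl
theorem s0_f72 : ed sl_bt sq50 = sq27 :=
  real_edge rels S fwd inv o lvl plet idx 16 IH Gen.b sp50 sp27 rfl rfl
theorem s0_f73 : ed sl_bt sq33 = sq56 :=
  real_edge rels S fwd inv o lvl plet idx 16 IH Gen.b sp33 sp56 rfl rfl
theorem s0_f73r : ed sl_bf sq56 = sq33 :=
  edge_flip (s0_f73 IH)
theorem s0_f62r : ed sl_df sq33 = sq27 :=
  edge_flip (s0_f62 IH)
theorem s0_f72r : ed sl_bf sq27 = sq50 :=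
  edge_flip (s0_f72 IH)
theorem s0_f74 : ed sl_df sq50 = sq56 :=
  gap_rel s0_rot8 (path_edge (s0_f72r IH) (path_edge (s0_f62r IH) (path_edge (s0_f73r IH) (path_nil sq56))))
theorem s0_f76 : ed sl_dt sq15 = sq9 :=
  real_edge rels S fwd inv o lvl plet idx 16 IH Gen.d sp15 sp9 rfl rfl
theorem s0_f77 : ed sl_ct sq27 = sq15 :=
  real_edge rels S fwd inv o lvl plet idx 16 IH Gen.c sp27 sp15 rfl rfl
theorem s0_f78 : ed sl_dt sq10 = sq18 :=
  real_edge rels S fwd inv o lvl plet idx 16 IH Gen.d sp10 sp18 rfl rfl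
theorem s0_f79 : ed sl_ct sq18 = sq33 :=
  real_edge rels S fwd inv o lvl plet idx 16 IH Gen.c sp18 sp33 rfl rfl
theorem s0_f83 : ed sl_dt sq84 = sq49 :=
  real_edge rels S fwd inv o lvl plet idx 16 IH Gen.d sp84 sp49 rfl rfl
theorem s0_f85 : ed sl_dt sq57 = sq93 :=
  real_edge rels S fwd inv o lvl plet idx 16 IH Gen.d sp57 sp93 rfl rfl
theorem s0_f89 : ed sl_dt sq23 = sq13 :=
  real_edge rels S fwd inv o lvl plet idx 16 IH Gen.d sp23 sp13 rfl rfl
theorem s0_f79r : ed sl_cf sq33 = sq18 :=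
  edge_flip (s0_f79 IH)
theorem s0_f78r : ed sl_df sq18 = sq10 :=
  edge_flip (s0_f78 IH)
theorem s0_f49r : ed sl_df sq6 = sq6 :=
  edge_flip (s0_f49 IH)
theorem s0_f48r : ed sl_cf sq6 = sq10 :=
  edge_flip (s0_f48 IH)
theorem s0_f60r : ed sl_df sq10 = sq18 :=
  edge_flip (s0_f60 IH)
theorem s0_f61r : ed sl_cf sq18 = sq33 :=
  edge_flip (s0_f61 IH)
theorem s0_f92 : ed sl_at sq27 = sq33 :=
  gap_rel s0_rot9 (path_edge (s0_f62r IH) (path_edge (s0_f61r IH) (path_edge (s0_f60r IH) (path_edge (s0_f48r IH) (path_edge (s0_f49r IH) (path_edge (s0_f47r IH) (path_edge (s0_f78r IH) (path_edge (s0_f79r IH) (path_nil sq33)))))))))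
theorem s0_f59r : ed sl_cf sq27 = sq15 :=
  edge_flip (s0_f59 IH)
theorem s0_f58r : ed sl_df sq15 = sq9 :=
  edge_flip (s0_f58 IH)
theorem s0_f94 : ed sl_at sq9 = sq10 :=
  gap_rel s0_rot9 (path_edge (s0_f58r IH) (path_edge (s0_f59r IH) (path_edge (s0_f62r IH) (path_edge (s0_f61r IH) (path_edge (s0_f60r IH) (path_edge (s0_f48r IH) (path_edge (s0_f49r IH) (path_edge (s0_f47r IH) (path_nil sq10)))))))))
theorem s0_f37r : ed sl_cf sq9 = sq5 :=
  edge_flip (s0_f37 IH)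
theorem s0_f38r : ed sl_df sq5 = sq5 :=
  edge_flip (s0_f38 IH)
theorem s0_f76r : ed sl_df sq9 = sq15 :=
  edge_flip (s0_f76 IH)
theorem s0_f96 : ed sl_at sq15 = sq18 :=
  gap_rel s0_rot9 (path_edge (s0_f76r IH) (path_edge (s0_f51r IH) (path_edge (s0_f38r IH) (path_edge (s0_f37r IH) (path_edge (s0_f58r IH) (path_edge (s0_f59r IH) (path_edge (s0_f62r IH) (path_edge (s0_f61r IH) (path_nil sq18)))))))))
theorem s0_f98 : ed sl_bt sq85 = sq49 :=
  real_edge rels S fwd inv o lvl plet idx 16 IH Gen.b sp85 sp49 rfl rfl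
theorem s0_f100 : ed sl_ct sq12 = sq23 :=
  real_edge rels S fwd inv o lvl plet idx 16 IH Gen.c sp12 sp23 rfl rfl
theorem s0_f101 : ed sl_bt sq23 = sq42 :=
  real_edge rels S fwd inv o lvl plet idx 16 IH Gen.b sp23 sp42 rfl rfl
theorem s0_f102 : ed sl_dt sq42 = sq25 :=
  real_edge rels S fwd inv o lvl plet idx 16 IH Gen.d sp42 sp25 rfl rfl
theorem s0_f103 : ed sl_ct sq25 = sq25 :=
  real_edge rels S fwd inv o lvl plet idx 16 IH Gen.c sp25 sp25 rfl rfl
theorem s0_f104 : ed sl_dt sq25 = sq42 :=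
  real_edge rels S fwd inv o lvl plet idx 16 IH Gen.d sp25 sp42 rfl rfl
theorem s0_f105 : ed sl_ct sq42 = sq60 :=
  real_edge rels S fwd inv o lvl plet idx 16 IH Gen.c sp42 sp60 rfl rfl
theorem s0_f106 : ed sl_bt sq60 = sq37 :=
  real_edge rels S fwd inv o lvl plet idx 16 IH Gen.b sp60 sp37 rfl rfl
theorem s0_f107 : ed sl_dt sq37 = sq61 :=
  real_edge rels S fwd inv o lvl plet idx 16 IH Gen.d sp37 sp61 rfl rfl
theorem s0_f108 : ed sl_ct sq61 = sq100 :=
  real_edge rels S fwd inv o lvl plet idx 16 IH Gen.c sp61 sp100 rfl rfl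
theorem s0_f110 : ed sl_bt sq16 = sq9 :=
  real_edge rels S fwd inv o lvl plet idx 16 IH Gen.b sp16 sp9 rfl rfl
theorem s0_f111 : ed sl_ct sq16 = sq16 :=
  real_edge rels S fwd inv o lvl plet idx 16 IH Gen.c sp16 sp16 rfl rfl
theorem s0_f112 : ed sl_dt sq29 = sq16 :=
  real_edge rels S fwd inv o lvl plet idx 16 IH Gen.d sp29 sp16 rfl rfl
theorem s0_f113 : ed sl_ct sq52 = sq29 :=
  real_edge rels S fwd inv o lvl plet idx 16 IH Gen.c sp52 sp29 rfl rfl
theorem s0_f114 : ed sl_bt sq18 = sq31 :=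
  real_edge rels S fwd inv o lvl plet idx 16 IH Gen.b sp18 sp31 rfl rfl
theorem s0_f115 : ed sl_dt sq31 = sq17 :=
  real_edge rels S fwd inv o lvl plet idx 16 IH Gen.d sp31 sp17 rfl rfl
theorem s0_f116 : ed sl_dt sq11 = sq20 :=
  real_edge rels S fwd inv o lvl plet idx 16 IH Gen.d sp11 sp20 rfl rfl
theorem s0_f117 : ed sl_ct sq20 = sq37 :=
  real_edge rels S fwd inv o lvl plet idx 16 IH Gen.c sp20 sp37 rfl rfl
theorem s0_f118 : ed sl_bt sq37 = sq60 :=
  real_edge rels S fwd inv o lvl plet idx 16 IH Gen.b sp37 sp60 rfl rfl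
theorem s0_f119 : ed sl_dt sq60 = sq96 :=
  real_edge rels S fwd inv o lvl plet idx 16 IH Gen.d sp60 sp96 rfl rfl
theorem s0_f123 : ed sl_et sq42 = sq70 :=
  real_edge rels S fwd inv o lvl plet idx 16 IH Gen.e sp42 sp70 rfl rfl
theorem s0_f126 : ed sl_dt sq174 = sq269 :=
  real_edge rels S fwd inv o lvl plet idx 16 IH Gen.d sp174 sp269 rfl rfl
theorem s0_f127 : ed sl_ct sq269 = sq401 :=
  real_edge rels S fwd inv o lvl plet idx 16 IH Gen.c sp269 sp401 rfl rfl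
theorem s0_f129 : ed sl_dt sq595 = sq514 :=
  real_edge rels S fwd inv o lvl plet idx 16 IH Gen.d sp595 sp514 rfl rfl
theorem s0_f130 : ed sl_ct sq514 = sq746 :=
  real_edge rels S fwd inv o lvl plet idx 16 IH Gen.c sp514 sp746 rfl rfl
theorem s0_f131 : ed sl_dt sq746 = sq1081 :=
  real_edge rels S fwd inv o lvl plet idx 16 IH Gen.d sp746 sp1081 rfl rfl
theorem s0_f132 : ed sl_ct sq1081 = sq1431 :=
  real_edge rels S fwd inv o lvl plet idx 16 IH Gen.c sp1081 sp1431 rfl rfl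
theorem s0_f134 : ed sl_dt sq97 = sq150 :=
  real_edge rels S fwd inv o lvl plet idx 16 IH Gen.d sp97 sp150 rfl rfl
theorem s0_f135 : ed sl_ct sq150 = sq235 :=
  real_edge rels S fwd inv o lvl plet idx 16 IH Gen.c sp150 sp235 rfl rfl
theorem s0_f137 : ed sl_ct sq360 = sq390 :=
  real_edge rels S fwd inv o lvl plet idx 16 IH Gen.c sp360 sp390 rfl rfl
theorem s0_f138 : ed sl_bt sq390 = sq571 :=
  real_edge rels S fwd inv o lvl plet idx 16 IH Gen.b sp390 sp571 rfl rfl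
theorem s0_f139 : ed sl_dt sq571 = sq389 :=
  real_edge rels S fwd inv o lvl plet idx 16 IH Gen.d sp571 sp389 rfl rfl
theorem s0_f141 : ed sl_dt sq54 = sq54 :=
  real_edge rels S fwd inv o lvl plet idx 16 IH Gen.d sp54 sp54 rfl rfl
theorem s0_f142 : ed sl_ct sq54 = sq88 :=
  real_edge rels S fwd inv o lvl plet idx 16 IH Gen.c sp54 sp88 rfl rfl
theorem s0_f143 : ed sl_dt sq88 = sq136 :=
  real_edge rels S fwd inv o lvl plet idx 16 IH Gen.d sp88 sp136 rfl rfl
theorem s0_f144 : ed sl_ct sq136 = sq211 :=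
  real_edge rels S fwd inv o lvl plet idx 16 IH Gen.c sp136 sp211 rfl rfl
theorem s0_f148 : ed sl_bt sq29 = sq15 :=
  real_edge rels S fwd inv o lvl plet idx 16 IH Gen.b sp29 sp15 rfl rfl
theorem s0_f96r : ed sl_af sq18 = sq15 :=
  edge_flip (s0_f96 IH)
theorem s0_f77r : ed sl_cf sq15 = sq27 :=
  edge_flip (s0_f77 IH)
theorem s0_f149 : ed sl_af sq27 = sq33 :=
  gap_rel s0_rot10 (path_edge (s0_f77r IH) (path_edge (s0_f96r IH) (path_edge (s0_f79r IH) (path_nil sq33))))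
theorem s0_f151 : ed sl_et sq28 = sq15 :=
  real_edge rels S fwd inv o lvl plet idx 16 IH Gen.e sp28 sp15 rfl rfl
theorem s0_f152 : ed sl_et sq18 = sq34 :=
  real_edge rels S fwd inv o lvl plet idx 16 IH Gen.e sp18 sp34 rfl rfl
theorem s0_f155 : ed sl_ft sq8 = sq15 :=
  real_edge rels S fwd inv o lvl plet idx 16 IH Gen.f sp8 sp15 rfl rfl
theorem s0_f156 : ed sl_at sq12 = sq8 :=
  real_edge rels S fwd inv o lvl plet idx 16 IH Gen.a sp12 sp8 rfl rfl
theorem s0_f155r : ed sl_ff sq15 = sq8 :=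
  edge_flip (s0_f155 IH)
theorem s0_f156r : ed sl_af sq8 = sq12 :=
  edge_flip (s0_f156 IH)
theorem s0_f157 : ed sl_ff sq12 = sq18 :=
  gap_rel s0_rot11 (path_edge (s0_f156r IH) (path_edge (s0_f155r IH) (path_edge (s0_f96r IH) (path_nil sq18))))
theorem s0_f159 : ed sl_ft sq52 = sq52 :=
  real_edge rels S fwd inv o lvl plet idx 16 IH Gen.f sp52 sp52 rfl rfl
theorem s0_f160 : ed sl_at sq42 = sq69 :=
  real_edge rels S fwd inv o lvl plet idx 16 IH Gen.a sp42 sp69 rfl rfl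
theorem s0_f161 : ed sl_ft sq69 = sq111 :=
  real_edge rels S fwd inv o lvl plet idx 16 IH Gen.f sp69 sp111 rfl rfl
theorem s0_f162 : ed sl_ct sq111 = sq145 :=
  real_edge rels S fwd inv o lvl plet idx 16 IH Gen.c sp111 sp145 rfl rfl
theorem s0_f163 : ed sl_bt sq145 = sq227 :=
  real_edge rels S fwd inv o lvl plet idx 16 IH Gen.b sp145 sp227 rfl rfl
theorem s0_f164 : ed sl_bt sq12 = sq20 :=
  real_edge rels S fwd inv o lvl plet idx 16 IH Gen.b sp12 sp20 rfl rfl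
theorem s0_f165 : ed sl_ft sq20 = sq39 :=
  real_edge rels S fwd inv o lvl plet idx 16 IH Gen.f sp20 sp39 rfl rfl
theorem s0_f166 : ed sl_bt sq31 = sq18 :=
  real_edge rels S fwd inv o lvl plet idx 16 IH Gen.b sp31 sp18 rfl rfl
theorem s0_f167 : ed sl_ft sq55 = sq31 :=
  real_edge rels S fwd inv o lvl plet idx 16 IH Gen.f sp55 sp31 rfl rfl
theorem s0_f157r : ed sl_ft sq18 = sq12 :=
  edge_flip (s0_f157 IH)
theorem s0_f168 : ed sl_bt sq39 = sq55 :=
  gap_rel s0_rot12 (path_edge (s0_f165 IH) (path_edge (s0_f164 IH) (path_edge (s0_f157r IH) (path_edge (s0_f166 IH) (path_edge (s0_f167 IH) (path_nil sq55))))))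
theorem s0_f170 : ed sl_ft sq23 = sq33 :=
  gap_rel s0_rot13 (path_edge (s0_f100 IH) (path_edge (s0_f157r IH) (path_edge (s0_f61 IH) (path_nil sq33))))
theorem s0_f172 : ed sl_dt sq12 = sq7 :=
  real_edge rels S fwd inv o lvl plet idx 16 IH Gen.d sp12 sp7 rfl rfl
theorem s0_f173 : ed sl_ft sq7 = sq10 :=
  gap_rel s0_rot14 (path_edge (s0_f172 IH) (path_edge (s0_f157r IH) (path_edge (s0_f78 IH) (path_nil sq10))))
theorem s0_f175 : ed sl_et sq12 = sq24 :=
  real_edge rels S fwd inv o lvl plet idx 16 IH Gen.e sp12 sp24 rfl rfl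
theorem s0_f176 : ed sl_et sq34 = sq18 :=
  real_edge rels S fwd inv o lvl plet idx 16 IH Gen.e sp34 sp18 rfl rfl
theorem s0_f177 : ed sl_ft sq24 = sq34 :=
  gap_rel s0_rot15 (path_edge (s0_f175 IH) (path_edge (s0_f157r IH) (path_edge (s0_f176 IH) (path_nil sq34))))
theorem s0_f179 : ed sl_ft sq12 = sq18 :=
  gap_rel s0_rot16 (path_edge (s0_f157r IH) (path_nil sq18))
theorem s0_f181 : ed sl_gt sq12 = sq12 :=
  real_edge rels S fwd inv o lvl plet idx 16 IH Gen.g sp12 sp12 rfl rfl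
theorem s0_f182 : ed sl_at sq8 = sq12 :=
  real_edge rels S fwd inv o lvl plet idx 16 IH Gen.a sp8 sp12 rfl rfl
theorem s0_f183 : ed sl_gt sq8 = sq8 :=
  real_edge rels S fwd inv o lvl plet idx 16 IH Gen.g sp8 sp8 rfl rfl
theorem s0_f182r : ed sl_af sq12 = sq8 :=
  edge_flip (s0_f182 IH)
theorem s0_f184 : ed sl_gt sq15 = sq18 :=
  gap_rel s0_rot17 (path_edge (s0_f155 IH) (path_edge (s0_f183 IH) (path_edge (s0_f182r IH) (path_edge (s0_f157r IH) (path_nil sq18)))))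
theorem s0_f187 : ed sl_ft sq40 = sq67 :=
  real_edge rels S fwd inv o lvl plet idx 16 IH Gen.f sp40 sp67 rfl rfl
theorem s0_f188 : ed sl_bt sq67 = sq109 :=
  real_edge rels S fwd inv o lvl plet idx 16 IH Gen.b sp67 sp109 rfl rfl
theorem s0_f189 : ed sl_ft sq29 = sq29 :=
  real_edge rels S fwd inv o lvl plet idx 16 IH Gen.f sp29 sp29 rfl rfl
theorem s0_f184r : ed sl_gf sq18 = sq15 :=
  edge_flip (s0_f184 IH)
theorem s0_f190 : ed sl_gf sq27 = sq33 :=
  gap_rel s0_rot5 (path_edge (s0_f77r IH) (path_edge (s0_f184r IH) (path_edge (s0_f79r IH) (path_nil sq33))))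
theorem s0_f152r : ed sl_ef sq34 = sq18 :=
  edge_flip (s0_f152 IH)
theorem s0_f151r : ed sl_ef sq15 = sq28 :=
  edge_flip (s0_f151 IH)
theorem s0_f192 : ed sl_gf sq28 = sq34 :=
  gap_rel s0_rot18 (path_edge (s0_f151r IH) (path_edge (s0_f184r IH) (path_edge (s0_f152r IH) (path_nil sq34))))
theorem s0_f194 : ed sl_ft sq15 = sq8 :=
  real_edge rels S fwd inv o lvl plet idx 16 IH Gen.f sp15 sp8 rfl rfl
theorem s0_f179r : ed sl_ff sq18 = sq12 :=
  edge_flip (s0_f179 IH)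
theorem s0_f181r : ed sl_gf sq12 = sq12 :=
  edge_flip (s0_f181 IH)
theorem s0_f183r : ed sl_gf sq8 = sq8 :=
  edge_flip (s0_f183 IH)
theorem s0_f194r : ed sl_ff sq8 = sq15 :=
  edge_flip (s0_f194 IH)
theorem s0_f195 : ed sl_gf sq15 = sq18 :=
  gap_rel s0_rot19 (path_edge (s0_f194r IH) (path_edge (s0_f183r IH) (path_edge (s0_f155r IH) (path_edge (s0_f184r IH) (path_edge (s0_f157 IH) (path_edge (s0_f181r IH) (path_edge (s0_f179r IH) (path_nil sq18))))))))
theorem s0_f197 : ed sl_bt sq15 = sq29 :=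
  real_edge rels S fwd inv o lvl plet idx 16 IH Gen.b sp15 sp29 rfl rfl
theorem s0_f195r : ed sl_gt sq18 = sq15 :=
  edge_flip (s0_f195 IH)
theorem s0_f200 : ed sl_gt sq9 = sq10 :=
  gap_rel s0_rot20 (path_edge (s0_f76 IH) (path_edge (s0_f195r IH) (path_edge (s0_f78 IH) (path_nil sq10))))
theorem s0_f202 : ed sl_et sq15 = sq28 :=
  real_edge rels S fwd inv o lvl plet idx 16 IH Gen.e sp15 sp28 rfl rfl
theorem s0_f203 : ed sl_gt sq28 = sq34 :=
  gap_rel s0_rot21 (path_edge (s0_f202 IH) (path_edge (s0_f195r IH) (path_edge (s0_f176 IH) (path_nil sq34))))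
theorem s0_f205 : ed sl_bt sq8 = sq8 :=
  real_edge rels S fwd inv o lvl plet idx 16 IH Gen.b sp8 sp8 rfl rfl
theorem s0_f207 : ed sl_bt sq34 = sq54 :=
  real_edge rels S fwd inv o lvl plet idx 16 IH Gen.b sp34 sp54 rfl rfl
theorem s0_f208 : ed sl_ct sq49 = sq28 :=
  real_edge rels S fwd inv o lvl plet idx 16 IH Gen.c sp49 sp28 rfl rfl
theorem s0_f209 : ed sl_ct sq34 = sq57 :=
  real_edge rels S fwd inv o lvl plet idx 16 IH Gen.c sp34 sp57 rfl rfl
theorem s0_f209r : ed sl_cf sq57 = sq34 :=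
  edge_flip (s0_f209 IH)
theorem s0_f203r : ed sl_gf sq34 = sq28 :=
  edge_flip (s0_f203 IH)
theorem s0_f208r : ed sl_cf sq28 = sq49 :=
  edge_flip (s0_f208 IH)
theorem s0_f210 : ed sl_gf sq49 = sq57 :=
  gap_rel s0_rot5 (path_edge (s0_f208r IH) (path_edge (s0_f203r IH) (path_edge (s0_f209r IH) (path_nil sq57))))
theorem s0_f212 : ed sl_dt sq28 = sq28 :=
  real_edge rels S fwd inv o lvl plet idx 16 IH Gen.d sp28 sp28 rfl rfl
theorem s0_f213 : ed sl_dt sq34 = sq34 :=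
  real_edge rels S fwd inv o lvl plet idx 16 IH Gen.d sp34 sp34 rfl rfl
theorem s0_f214 : ed sl_ft sq14 = sq28 :=
  real_edge rels S fwd inv o lvl plet idx 16 IH Gen.f sp14 sp28 rfl rfl
theorem s0_f215 : ed sl_gt sq14 = sq14 :=
  real_edge rels S fwd inv o lvl plet idx 16 IH Gen.g sp14 sp14 rfl rfl
theorem s0_f216 : ed sl_ft sq28 = sq14 :=
  real_edge rels S fwd inv o lvl plet idx 16 IH Gen.f sp28 sp14 rfl rfl
theorem s0_f217 : ed sl_gt sq24 = sq24 :=
  real_edge rels S fwd inv o lvl plet idx 16 IH Gen.g sp24 sp24 rfl rfl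
theorem s0_f214r : ed sl_ff sq28 = sq14 :=
  edge_flip (s0_f214 IH)
theorem s0_f215r : ed sl_gf sq14 = sq14 :=
  edge_flip (s0_f215 IH)
theorem s0_f216r : ed sl_ff sq14 = sq28 :=
  edge_flip (s0_f216 IH)
theorem s0_f177r : ed sl_ff sq34 = sq24 :=
  edge_flip (s0_f177 IH)
theorem s0_f217r : ed sl_gf sq24 = sq24 :=
  edge_flip (s0_f217 IH)
theorem s0_f218 : ed sl_ff sq24 = sq34 :=
  gap_rel s0_rot22 (path_edge (s0_f217r IH) (path_edge (s0_f177r IH) (path_edge (s0_f192 IH) (path_edge (s0_f216r IH) (path_edge (s0_f215r IH) (path_edge (s0_f214r IH) (path_edge (s0_f203r IH) (path_nil sq34))))))))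
theorem s0_f220 : ed sl_at sq28 = sq34 :=
  gap_rel s0_rot6 (path_edge (s0_f203r IH) (path_edge (s0_f218 IH) (path_edge (s0_f217r IH) (path_edge (s0_f177r IH) (path_nil sq34)))))
theorem s0_f225 : ed sl_gt sq38 = sq66 :=
  real_edge rels S fwd inv o lvl plet idx 16 IH Gen.g sp38 sp66 rfl rfl
theorem s0_f227 : ed sl_bt sq108 = sq168 :=
  real_edge rels S fwd inv o lvl plet idx 16 IH Gen.b sp108 sp168 rfl rfl
theorem s0_f231 : ed sl_ct sq28 = sq49 :=
  real_edge rels S fwd inv o lvl plet idx 16 IH Gen.c sp28 sp49 rfl rfl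
theorem s0_f232 : ed sl_dt sq49 = sq84 :=
  real_edge rels S fwd inv o lvl plet idx 16 IH Gen.d sp49 sp84 rfl rfl
theorem s0_f233 : ed sl_ct sq84 = sq132 :=
  real_edge rels S fwd inv o lvl plet idx 16 IH Gen.c sp84 sp132 rfl rfl
theorem s0_f234 : ed sl_ct sq57 = sq34 :=
  real_edge rels S fwd inv o lvl plet idx 16 IH Gen.c sp57 sp34 rfl rfl
theorem s0_f235 : ed sl_dt sq93 = sq57 :=
  real_edge rels S fwd inv o lvl plet idx 16 IH Gen.d sp93 sp57 rfl rfl
theorem s0_f236 : ed sl_ct sq142 = sq93 :=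
  real_edge rels S fwd inv o lvl plet idx 16 IH Gen.c sp142 sp93 rfl rfl
theorem s0_f220r : ed sl_af sq34 = sq28 :=
  edge_flip (s0_f220 IH)
theorem s0_f237 : ed sl_dt sq132 = sq142 :=
  gap_rel s0_rot7 (path_edge (s0_f233 IH) (path_edge (s0_f232 IH) (path_edge (s0_f231 IH) (path_edge (s0_f212 IH) (path_edge (s0_f220r IH) (path_edge (s0_f234 IH) (path_edge (s0_f235 IH) (path_edge (s0_f236 IH) (path_nil sq142)))))))))
theorem s0_f241 : ed sl_ct sq24 = sq43 :=
  real_edge rels S fwd inv o lvl plet idx 16 IH Gen.c sp24 sp43 rfl rfl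
theorem s0_f242 : ed sl_bt sq43 = sq70 :=
  real_edge rels S fwd inv o lvl plet idx 16 IH Gen.b sp43 sp70 rfl rfl
theorem s0_f243 : ed sl_at sq70 = sq110 :=
  real_edge rels S fwd inv o lvl plet idx 16 IH Gen.a sp70 sp110 rfl rfl
theorem s0_f244 : ed sl_ft sq110 = sq171 :=
  real_edge rels S fwd inv o lvl plet idx 16 IH Gen.f sp110 sp171 rfl rfl
theorem s0_f245 : ed sl_ct sq171 = sq225 :=
  real_edge rels S fwd inv o lvl plet idx 16 IH Gen.c sp171 sp225 rfl rfl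
theorem s0_f246 : ed sl_bt sq225 = sq351 :=
  real_edge rels S fwd inv o lvl plet idx 16 IH Gen.b sp225 sp351 rfl rfl
theorem s0_f247 : ed sl_bt sq206 = sq132 :=
  real_edge rels S fwd inv o lvl plet idx 16 IH Gen.b sp206 sp132 rfl rfl
theorem s0_f248 : ed sl_bt sq142 = sq220 :=
  real_edge rels S fwd inv o lvl plet idx 16 IH Gen.b sp142 sp220 rfl rfl
theorem s0_f248r : ed sl_bf sq220 = sq142 :=
  edge_flip (s0_f248 IH)
theorem s0_f237r : ed sl_df sq142 = sq132 :=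
  edge_flip (s0_f237 IH)
theorem s0_f247r : ed sl_bf sq132 = sq206 :=
  edge_flip (s0_f247 IH)
theorem s0_f249 : ed sl_df sq206 = sq220 :=
  gap_rel s0_rot8 (path_edge (s0_f247r IH) (path_edge (s0_f237r IH) (path_edge (s0_f248r IH) (path_nil sq220))))
theorem s0_f251 : ed sl_ct sq132 = sq84 :=
  real_edge rels S fwd inv o lvl plet idx 16 IH Gen.c sp132 sp84 rfl rfl
theorem s0_f252 : ed sl_ct sq93 = sq142 :=
  real_edge rels S fwd inv o lvl plet idx 16 IH Gen.c sp93 sp142 rfl rfl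
theorem s0_f255 : ed sl_ft sq83 = sq132 :=
  real_edge rels S fwd inv o lvl plet idx 16 IH Gen.f sp83 sp132 rfl rfl
theorem s0_f213r : ed sl_df sq34 = sq34 :=
  edge_flip (s0_f213 IH)
theorem s0_f234r : ed sl_cf sq34 = sq57 :=
  edge_flip (s0_f234 IH)
theorem s0_f235r : ed sl_df sq57 = sq93 :=
  edge_flip (s0_f235 IH)
theorem s0_f236r : ed sl_cf sq93 = sq142 :=
  edge_flip (s0_f236 IH)
theorem s0_f233r : ed sl_cf sq132 = sq84 :=
  edge_flip (s0_f233 IH)
theorem s0_f232r : ed sl_df sq84 = sq49 :=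
  edge_flip (s0_f232 IH)
theorem s0_f261 : ed sl_at sq49 = sq57 :=
  gap_rel s0_rot9 (path_edge (s0_f232r IH) (path_edge (s0_f233r IH) (path_edge (s0_f237r IH) (path_edge (s0_f236r IH) (path_edge (s0_f235r IH) (path_edge (s0_f234r IH) (path_edge (s0_f213r IH) (path_edge (s0_f209r IH) (path_nil sq57)))))))))
theorem s0_f231r : ed sl_cf sq49 = sq28 :=
  edge_flip (s0_f231 IH)
theorem s0_f212r : ed sl_df sq28 = sq28 :=
  edge_flip (s0_f212 IH)
theorem s0_f83r : ed sl_df sq49 = sq84 :=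
  edge_flip (s0_f83 IH)
theorem s0_f263 : ed sl_at sq84 = sq93 :=
  gap_rel s0_rot9 (path_edge (s0_f83r IH) (path_edge (s0_f208r IH) (path_edge (s0_f212r IH) (path_edge (s0_f231r IH) (path_edge (s0_f232r IH) (path_edge (s0_f233r IH) (path_edge (s0_f237r IH) (path_edge (s0_f236r IH) (path_nil sq93)))))))))
theorem s0_f265 : ed sl_et sq27 = sq49 :=
  real_edge rels S fwd inv o lvl plet idx 16 IH Gen.e sp27 sp49 rfl rfl
theorem s0_f266 : ed sl_bt sq93 = sq139 :=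
  real_edge rels S fwd inv o lvl plet idx 16 IH Gen.b sp93 sp139 rfl rfl
theorem s0_f267 : ed sl_dt sq139 = sq91 :=
  real_edge rels S fwd inv o lvl plet idx 16 IH Gen.d sp139 sp91 rfl rfl
theorem s0_f268 : ed sl_ct sq91 = sq134 :=
  real_edge rels S fwd inv o lvl plet idx 16 IH Gen.c sp91 sp134 rfl rfl
theorem s0_f269 : ed sl_dt sq134 = sq208 :=
  real_edge rels S fwd inv o lvl plet idx 16 IH Gen.d sp134 sp208 rfl rfl
theorem s0_f270 : ed sl_ct sq208 = sq328 :=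
  real_edge rels S fwd inv o lvl plet idx 16 IH Gen.c sp208 sp328 rfl rfl
theorem s0_f271 : ed sl_bt sq328 = sq486 :=
  real_edge rels S fwd inv o lvl plet idx 16 IH Gen.b sp328 sp486 rfl rfl
theorem s0_f273 : ed sl_ct sq326 = sq206 :=
  real_edge rels S fwd inv o lvl plet idx 16 IH Gen.c sp326 sp206 rfl rfl
theorem s0_f274 : ed sl_et sq54 = sq31 :=
  real_edge rels S fwd inv o lvl plet idx 16 IH Gen.e sp54 sp31 rfl rfl
theorem s0_f252r : ed sl_cf sq142 = sq93 :=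
  edge_flip (s0_f252 IH)
theorem s0_f263r : ed sl_af sq93 = sq84 :=
  edge_flip (s0_f263 IH)
theorem s0_f251r : ed sl_cf sq84 = sq132 :=
  edge_flip (s0_f251 IH)
theorem s0_f278 : ed sl_af sq132 = sq142 :=
  gap_rel s0_rot10 (path_edge (s0_f251r IH) (path_edge (s0_f263r IH) (path_edge (s0_f252r IH) (path_nil sq142))))
theorem s0_f280 : ed sl_ft sq48 = sq84 :=
  real_edge rels S fwd inv o lvl plet idx 16 IH Gen.f sp48 sp84 rfl rfl
theorem s0_f281 : ed sl_at sq73 = sq48 :=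
  real_edge rels S fwd inv o lvl plet idx 16 IH Gen.a sp73 sp48 rfl rfl
theorem s0_f280r : ed sl_ff sq84 = sq48 :=
  edge_flip (s0_f280 IH)
theorem s0_f281r : ed sl_af sq48 = sq73 :=
  edge_flip (s0_f281 IH)
theorem s0_f282 : ed sl_ff sq73 = sq93 :=
  gap_rel s0_rot11 (path_edge (s0_f281r IH) (path_edge (s0_f280r IH) (path_edge (s0_f263r IH) (path_nil sq93))))
theorem s0_f285 : ed sl_ft sq306 = sq207 :=
  real_edge rels S fwd inv o lvl plet idx 16 IH Gen.f sp306 sp207 rfl rfl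
theorem s0_f286 : ed sl_ct sq73 = sq118 :=
  real_edge rels S fwd inv o lvl plet idx 16 IH Gen.c sp73 sp118 rfl rfl
theorem s0_f287 : ed sl_bt sq118 = sq181 :=
  real_edge rels S fwd inv o lvl plet idx 16 IH Gen.b sp118 sp181 rfl rfl
theorem s0_f291 : ed sl_bt sq73 = sq113 :=
  real_edge rels S fwd inv o lvl plet idx 16 IH Gen.b sp73 sp113 rfl rfl
theorem s0_f293 : ed sl_bt sq139 = sq93 :=
  real_edge rels S fwd inv o lvl plet idx 16 IH Gen.b sp139 sp93 rfl rfl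
theorem s0_f294 : ed sl_ft sq217 = sq139 :=
  real_edge rels S fwd inv o lvl plet idx 16 IH Gen.f sp217 sp139 rfl rfl
theorem s0_f299 : ed sl_dt sq73 = sq43 :=
  real_edge rels S fwd inv o lvl plet idx 16 IH Gen.d sp73 sp43 rfl rfl
theorem s0_f282r : ed sl_ft sq93 = sq73 :=
  edge_flip (s0_f282 IH)
theorem s0_f300 : ed sl_ft sq43 = sq57 :=
  gap_rel s0_rot14 (path_edge (s0_f299 IH) (path_edge (s0_f282r IH) (path_edge (s0_f85 IH) (path_nil sq57))))
theorem s0_f305 : ed sl_ft sq73 = sq93 :=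
  gap_rel s0_rot16 (path_edge (s0_f282r IH) (path_nil sq93))
theorem s0_f307 : ed sl_gt sq73 = sq73 :=
  real_edge rels S fwd inv o lvl plet idx 16 IH Gen.g sp73 sp73 rfl rfl
theorem s0_f308 : ed sl_at sq48 = sq73 :=
  real_edge rels S fwd inv o lvl plet idx 16 IH Gen.a sp48 sp73 rfl rfl
theorem s0_f309 : ed sl_gt sq48 = sq48 :=
  real_edge rels S fwd inv o lvl plet idx 16 IH Gen.g sp48 sp48 rfl rfl
theorem s0_f308r : ed sl_af sq73 = sq48 :=
  edge_flip (s0_f308 IH)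
theorem s0_f310 : ed sl_gt sq84 = sq93 :=
  gap_rel s0_rot17 (path_edge (s0_f280 IH) (path_edge (s0_f309 IH) (path_edge (s0_f308r IH) (path_edge (s0_f282r IH) (path_nil sq93)))))
theorem s0_f313 : ed sl_ft sq176 = sq273 :=
  real_edge rels S fwd inv o lvl plet idx 16 IH Gen.f sp176 sp273 rfl rfl
theorem s0_f314 : ed sl_bt sq273 = sq410 :=
  real_edge rels S fwd inv o lvl plet idx 16 IH Gen.b sp273 sp410 rfl rfl
theorem s0_f316 : ed sl_ft sq193 = sq133 :=
  real_edge rels S fwd inv o lvl plet idx 16 IH Gen.f sp193 sp133 rfl rfl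
theorem s0_f310r : ed sl_gf sq93 = sq84 :=
  edge_flip (s0_f310 IH)
theorem s0_f317 : ed sl_gf sq132 = sq142 :=
  gap_rel s0_rot5 (path_edge (s0_f251r IH) (path_edge (s0_f310r IH) (path_edge (s0_f252r IH) (path_nil sq142))))
theorem s0_f319 : ed sl_ft sq84 = sq48 :=
  real_edge rels S fwd inv o lvl plet idx 16 IH Gen.f sp84 sp48 rfl rfl
theorem s0_f305r : ed sl_ff sq93 = sq73 :=
  edge_flip (s0_f305 IH)
theorem s0_f307r : ed sl_gf sq73 = sq73 :=
  edge_flip (s0_f307 IH)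
theorem s0_f309r : ed sl_gf sq48 = sq48 :=
  edge_flip (s0_f309 IH)
theorem s0_f319r : ed sl_ff sq48 = sq84 :=
  edge_flip (s0_f319 IH)
theorem s0_f320 : ed sl_gf sq84 = sq93 :=
  gap_rel s0_rot19 (path_edge (s0_f319r IH) (path_edge (s0_f309r IH) (path_edge (s0_f280r IH) (path_edge (s0_f310r IH) (path_edge (s0_f282 IH) (path_edge (s0_f307r IH) (path_edge (s0_f305r IH) (path_nil sq93))))))))
theorem s0_f320r : ed sl_gt sq93 = sq84 :=
  edge_flip (s0_f320 IH)
theorem s0_f325 : ed sl_gt sq49 = sq57 :=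
  gap_rel s0_rot20 (path_edge (s0_f83 IH) (path_edge (s0_f320r IH) (path_edge (s0_f85 IH) (path_nil sq57))))
theorem s0_f327 : ed sl_bt sq48 = sq77 :=
  real_edge rels S fwd inv o lvl plet idx 16 IH Gen.b sp48 sp77 rfl rfl
theorem s0_f330 : ed sl_bt sq195 = sq308 :=
  real_edge rels S fwd inv o lvl plet idx 16 IH Gen.b sp195 sp308 rfl rfl
theorem s0_f334 : ed sl_bt sq57 = sq91 :=
  real_edge rels S fwd inv o lvl plet idx 16 IH Gen.b sp57 sp91 rfl rfl
theorem s0_f336 : ed sl_ft sq26 = sq49 :=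
  real_edge rels S fwd inv o lvl plet idx 16 IH Gen.f sp26 sp49 rfl rfl
theorem s0_f337 : ed sl_gt sq26 = sq26 :=
  real_edge rels S fwd inv o lvl plet idx 16 IH Gen.g sp26 sp26 rfl rfl
theorem s0_f338 : ed sl_ft sq49 = sq26 :=
  real_edge rels S fwd inv o lvl plet idx 16 IH Gen.f sp49 sp26 rfl rfl
theorem s0_f339 : ed sl_gt sq43 = sq43 :=
  real_edge rels S fwd inv o lvl plet idx 16 IH Gen.g sp43 sp43 rfl rfl
theorem s0_f325r : ed sl_gf sq57 = sq49 :=
  edge_flip (s0_f325 IH)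
theorem s0_f336r : ed sl_ff sq49 = sq26 :=
  edge_flip (s0_f336 IH)
theorem s0_f337r : ed sl_gf sq26 = sq26 :=
  edge_flip (s0_f337 IH)
theorem s0_f338r : ed sl_ff sq26 = sq49 :=
  edge_flip (s0_f338 IH)
theorem s0_f300r : ed sl_ff sq57 = sq43 :=
  edge_flip (s0_f300 IH)
theorem s0_f339r : ed sl_gf sq43 = sq43 :=
  edge_flip (s0_f339 IH)
theorem s0_f340 : ed sl_ff sq43 = sq57 :=
  gap_rel s0_rot22 (path_edge (s0_f339r IH) (path_edge (s0_f300r IH) (path_edge (s0_f210 IH) (path_edge (s0_f338r IH) (path_edge (s0_f337r IH) (path_edge (s0_f336r IH) (path_edge (s0_f325r IH) (path_nil sq57))))))))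
theorem s0_f342 : ed sl_at sq26 = sq43 :=
  real_edge rels S fwd inv o lvl plet idx 16 IH Gen.a sp26 sp43 rfl rfl
theorem s0_f343 : ed sl_ft sq126 = sq85 :=
  real_edge rels S fwd inv o lvl plet idx 16 IH Gen.f sp126 sp85 rfl rfl
theorem s0_f344 : ed sl_gt sq70 = sq115 :=
  real_edge rels S fwd inv o lvl plet idx 16 IH Gen.g sp70 sp115 rfl rfl
theorem s0_f345 : ed sl_ft sq115 = sq178 :=
  real_edge rels S fwd inv o lvl plet idx 16 IH Gen.f sp115 sp178 rfl rfl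
theorem s0_f346 : ed sl_bt sq178 = sq275 :=
  real_edge rels S fwd inv o lvl plet idx 16 IH Gen.b sp178 sp275 rfl rfl
theorem s0_f349 : ed sl_ft sq70 = sq114 :=
  real_edge rels S fwd inv o lvl plet idx 16 IH Gen.f sp70 sp114 rfl rfl
theorem s0_f350 : ed sl_bt sq91 = sq57 :=
  real_edge rels S fwd inv o lvl plet idx 16 IH Gen.b sp91 sp57 rfl rfl
theorem s0_f351 : ed sl_ft sq140 = sq91 :=
  real_edge rels S fwd inv o lvl plet idx 16 IH Gen.f sp140 sp91 rfl rfl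
theorem s0_f340r : ed sl_ft sq57 = sq43 :=
  edge_flip (s0_f340 IH)
theorem s0_f352 : ed sl_bt sq114 = sq140 :=
  gap_rel s0_rot12 (path_edge (s0_f349 IH) (path_edge (s0_f242 IH) (path_edge (s0_f340r IH) (path_edge (s0_f350 IH) (path_edge (s0_f351 IH) (path_nil sq140))))))
theorem s0_f355 : ed sl_dt sq43 = sq73 :=
  real_edge rels S fwd inv o lvl plet idx 16 IH Gen.d sp43 sp73 rfl rfl
theorem s0_f358 : ed sl_ft sq58 = sq94 :=
  real_edge rels S fwd inv o lvl plet idx 16 IH Gen.f sp58 sp94 rfl rfl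
theorem s0_f360 : ed sl_bt sq264 = sq171 :=
  real_edge rels S fwd inv o lvl plet idx 16 IH Gen.b sp264 sp171 rfl rfl
theorem s0_f367 : ed sl_bt sq209 = sq330 :=
  real_edge rels S fwd inv o lvl plet idx 16 IH Gen.b sp209 sp330 rfl rfl
theorem s0_f374 : ed sl_et sq71 = sq114 :=
  real_edge rels S fwd inv o lvl plet idx 16 IH Gen.e sp71 sp114 rfl rfl
theorem s0_f375 : ed sl_et sq140 = sq92 :=
  real_edge rels S fwd inv o lvl plet idx 16 IH Gen.e sp140 sp92 rfl rfl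
theorem s0_f375r : ed sl_ef sq92 = sq140 :=
  edge_flip (s0_f375 IH)
theorem s0_f352r : ed sl_bf sq140 = sq114 :=
  edge_flip (s0_f352 IH)
theorem s0_f374r : ed sl_ef sq114 = sq71 :=
  edge_flip (s0_f374 IH)
theorem s0_f376 : ed sl_bf sq71 = sq92 :=
  gap_rel s0_rot23 (path_edge (s0_f374r IH) (path_edge (s0_f352r IH) (path_edge (s0_f375r IH) (path_nil sq92))))
theorem s0_f378 : ed sl_gt sq177 = sq114 :=
  real_edge rels S fwd inv o lvl plet idx 16 IH Gen.g sp177 sp114 rfl rfl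
theorem s0_f379 : ed sl_bt sq274 = sq177 :=
  real_edge rels S fwd inv o lvl plet idx 16 IH Gen.b sp274 sp177 rfl rfl
theorem s0_f380 : ed sl_gt sq140 = sq218 :=
  real_edge rels S fwd inv o lvl plet idx 16 IH Gen.g sp140 sp218 rfl rfl
theorem s0_f381 : ed sl_bt sq218 = sq340 :=
  real_edge rels S fwd inv o lvl plet idx 16 IH Gen.b sp218 sp340 rfl rfl
theorem s0_f381r : ed sl_bf sq340 = sq218 :=
  edge_flip (s0_f381 IH)
theorem s0_f380r : ed sl_gf sq218 = sq140 :=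
  edge_flip (s0_f380 IH)
theorem s0_f378r : ed sl_gf sq114 = sq177 :=
  edge_flip (s0_f378 IH)
theorem s0_f379r : ed sl_bf sq177 = sq274 :=
  edge_flip (s0_f379 IH)
theorem s0_f382 : ed sl_gf sq274 = sq340 :=
  gap_rel s0_rot24 (path_edge (s0_f379r IH) (path_edge (s0_f378r IH) (path_edge (s0_f352r IH) (path_edge (s0_f380r IH) (path_edge (s0_f381r IH) (path_nil sq340))))))
theorem s0_f388 : ed sl_bt sq115 = sq115 :=
  real_edge rels S fwd inv o lvl plet idx 16 IH Gen.b sp115 sp115 rfl rfl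
theorem s0_f402 : ed sl_bt sq734 = sq1057 :=
  real_edge rels S fwd inv o lvl plet idx 16 IH Gen.b sp734 sp1057 rfl rfl
theorem s0_f405 : ed sl_dt sq274 = sq409 :=
  real_edge rels S fwd inv o lvl plet idx 16 IH Gen.d sp274 sp409 rfl rfl
theorem s0_f409 : ed sl_et sq274 = sq179 :=
  real_edge rels S fwd inv o lvl plet idx 16 IH Gen.e sp274 sp179 rfl rfl
theorem s0_f410 : ed sl_et sq219 = sq340 :=
  real_edge rels S fwd inv o lvl plet idx 16 IH Gen.e sp219 sp340 rfl rfl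
theorem s0_f382r : ed sl_gt sq340 = sq274 :=
  edge_flip (s0_f382 IH)
theorem s0_f411 : ed sl_gt sq179 = sq219 :=
  gap_rel s0_rot21 (path_edge (s0_f409 IH) (path_edge (s0_f382r IH) (path_edge (s0_f410 IH) (path_nil sq219))))
theorem s0_f413 : ed sl_gt sq274 = sq340 :=
  gap_rel s0_rot25 (path_edge (s0_f382r IH) (path_nil sq340))
theorem s0_f418 : ed sl_gt sq218 = sq140 :=
  real_edge rels S fwd inv o lvl plet idx 16 IH Gen.g sp218 sp140 rfl rfl
theorem s0_f420 : ed sl_ct sq412 = sq274 :=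
  real_edge rels S fwd inv o lvl plet idx 16 IH Gen.c sp412 sp274 rfl rfl
theorem s0_f421 : ed sl_dt sq409 = sq274 :=
  real_edge rels S fwd inv o lvl plet idx 16 IH Gen.d sp409 sp274 rfl rfl
theorem s0_f425 : ed sl_et sq179 = sq274 :=
  real_edge rels S fwd inv o lvl plet idx 16 IH Gen.e sp179 sp274 rfl rfl
theorem s0_f426 : ed sl_et sq340 = sq219 :=
  real_edge rels S fwd inv o lvl plet idx 16 IH Gen.e sp340 sp219 rfl rfl
theorem s0_f426r : ed sl_ef sq219 = sq340 :=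
  edge_flip (s0_f426 IH)
theorem s0_f413r : ed sl_gf sq340 = sq274 :=
  edge_flip (s0_f413 IH)
theorem s0_f425r : ed sl_ef sq274 = sq179 :=
  edge_flip (s0_f425 IH)
theorem s0_f427 : ed sl_gf sq179 = sq219 :=
  gap_rel s0_rot18 (path_edge (s0_f425r IH) (path_edge (s0_f413r IH) (path_edge (s0_f426r IH) (path_nil sq219))))
theorem s0_f430 : ed sl_gt sq110 = sq172 :=
  real_edge rels S fwd inv o lvl plet idx 16 IH Gen.g sp110 sp172 rfl rfl
theorem s0_f431 : ed sl_at sq179 = sq276 :=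
  real_edge rels S fwd inv o lvl plet idx 16 IH Gen.a sp179 sp276 rfl rfl
theorem s0_f432 : ed sl_bt sq179 = sq116 :=
  real_edge rels S fwd inv o lvl plet idx 16 IH Gen.b sp179 sp116 rfl rfl
theorem s0_f433 : ed sl_gt sq116 = sq71 :=
  real_edge rels S fwd inv o lvl plet idx 16 IH Gen.g sp116 sp71 rfl rfl
theorem s0_f434 : ed sl_bt sq141 = sq219 :=
  real_edge rels S fwd inv o lvl plet idx 16 IH Gen.b sp141 sp219 rfl rfl
theorem s0_f435 : ed sl_gt sq92 = sq141 :=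
  real_edge rels S fwd inv o lvl plet idx 16 IH Gen.g sp92 sp141 rfl rfl
theorem s0_f427r : ed sl_gt sq219 = sq179 :=
  edge_flip (s0_f427 IH)
theorem s0_f436 : ed sl_bt sq71 = sq92 :=
  gap_rel s0_rot26 (path_edge (s0_f433 IH) (path_edge (s0_f432 IH) (path_edge (s0_f427r IH) (path_edge (s0_f434 IH) (path_edge (s0_f435 IH) (path_nil sq92))))))
theorem s0_f438 : ed sl_ct sq179 = sq277 :=
  real_edge rels S fwd inv o lvl plet idx 16 IH Gen.c sp179 sp277 rfl rfl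
theorem s0_f440 : ed sl_at sq111 = sq71 :=
  real_edge rels S fwd inv o lvl plet idx 16 IH Gen.a sp111 sp71 rfl rfl
theorem s0_f441 : ed sl_bt sq173 = sq111 :=
  real_edge rels S fwd inv o lvl plet idx 16 IH Gen.b sp173 sp111 rfl rfl
theorem s0_f443 : ed sl_ct sq98 = sq71 :=
  real_edge rels S fwd inv o lvl plet idx 16 IH Gen.c sp98 sp71 rfl rfl
theorem s0_f444 : ed sl_bt sq153 = sq98 :=
  real_edge rels S fwd inv o lvl plet idx 16 IH Gen.b sp153 sp98 rfl rfl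
theorem s0_f445 : ed sl_ct sq92 = sq135 :=
  real_edge rels S fwd inv o lvl plet idx 16 IH Gen.c sp92 sp135 rfl rfl
theorem s0_f446 : ed sl_bt sq135 = sq210 :=
  real_edge rels S fwd inv o lvl plet idx 16 IH Gen.b sp135 sp210 rfl rfl
theorem s0_f446r : ed sl_bf sq210 = sq135 :=
  edge_flip (s0_f446 IH)
theorem s0_f445r : ed sl_cf sq135 = sq92 :=
  edge_flip (s0_f445 IH)
theorem s0_f436r : ed sl_bf sq92 = sq71 :=
  edge_flip (s0_f436 IH)
theorem s0_f443r : ed sl_cf sq71 = sq98 :=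
  edge_flip (s0_f443 IH)
theorem s0_f444r : ed sl_bf sq98 = sq153 :=
  edge_flip (s0_f444 IH)
theorem s0_f447 : ed sl_cf sq153 = sq210 :=
  gap_rel s0_rot27 (path_edge (s0_f444r IH) (path_edge (s0_f443r IH) (path_edge (s0_f436r IH) (path_edge (s0_f445r IH) (path_edge (s0_f446r IH) (path_nil sq210))))))
theorem s0_f449 : ed sl_dt sq46 = sq71 :=
  real_edge rels S fwd inv o lvl plet idx 16 IH Gen.d sp46 sp71 rfl rfl
theorem s0_f450 : ed sl_bt sq80 = sq46 :=
  real_edge rels S fwd inv o lvl plet idx 16 IH Gen.b sp80 sp46 rfl rfl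
theorem s0_f449r : ed sl_df sq71 = sq46 :=
  edge_flip (s0_f449 IH)
theorem s0_f450r : ed sl_bf sq46 = sq80 :=
  edge_flip (s0_f450 IH)
theorem s0_f451 : ed sl_df sq80 = sq92 :=
  gap_rel s0_rot8 (path_edge (s0_f450r IH) (path_edge (s0_f449r IH) (path_edge (s0_f436r IH) (path_nil sq92))))
theorem s0_f456 : ed sl_bt sq56 = sq33 :=
  real_edge rels S fwd inv o lvl plet idx 16 IH Gen.b sp56 sp33 rfl rfl
theorem s0_f457 : ed sl_ft sq92 = sq56 :=
  real_edge rels S fwd inv o lvl plet idx 16 IH Gen.f sp92 sp56 rfl rfl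
theorem s0_f459 : ed sl_at sq95 = sq60 :=
  real_edge rels S fwd inv o lvl plet idx 16 IH Gen.a sp95 sp60 rfl rfl
theorem s0_f460 : ed sl_bt sq143 = sq95 :=
  real_edge rels S fwd inv o lvl plet idx 16 IH Gen.b sp143 sp95 rfl rfl
theorem s0_f462 : ed sl_bt sq72 = sq72 :=
  real_edge rels S fwd inv o lvl plet idx 16 IH Gen.b sp72 sp72 rfl rfl
theorem s0_f466 : ed sl_ct sq135 = sq92 :=
  real_edge rels S fwd inv o lvl plet idx 16 IH Gen.c sp135 sp92 rfl rfl
theorem s0_f451r : ed sl_dt sq92 = sq80 :=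
  edge_flip (s0_f451 IH)
theorem s0_f467 : ed sl_dt sq80 = sq92 :=
  gap_rel s0_rot28 (path_edge (s0_f451r IH) (path_nil sq92))
theorem s0_f469 : ed sl_et sq80 = sq126 :=
  real_edge rels S fwd inv o lvl plet idx 16 IH Gen.e sp80 sp126 rfl rfl
theorem s0_f470 : ed sl_dt sq126 = sq193 :=
  real_edge rels S fwd inv o lvl plet idx 16 IH Gen.d sp126 sp193 rfl rfl
theorem s0_f474 : ed sl_ft sq80 = sq50 :=
  real_edge rels S fwd inv o lvl plet idx 16 IH Gen.f sp80 sp50 rfl rfl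
theorem s0_f475 : ed sl_ft sq56 = sq92 :=
  real_edge rels S fwd inv o lvl plet idx 16 IH Gen.f sp56 sp92 rfl rfl
theorem s0_f476 : ed sl_dt sq50 = sq56 :=
  gap_rel s0_rot29 (path_edge (s0_f474 IH) (path_edge (s0_f451r IH) (path_edge (s0_f475 IH) (path_nil sq56))))
theorem s0_f478 : ed sl_gt sq141 = sq92 :=
  real_edge rels S fwd inv o lvl plet idx 16 IH Gen.g sp141 sp92 rfl rfl
theorem s0_f479 : ed sl_bt sq27 = sq50 :=
  real_edge rels S fwd inv o lvl plet idx 16 IH Gen.b sp27 sp50 rfl rfl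
theorem s0_f480 : ed sl_ct sq56 = sq87 :=
  real_edge rels S fwd inv o lvl plet idx 16 IH Gen.c sp56 sp87 rfl rfl
theorem s0_f481 : ed sl_et sq85 = sq50 :=
  real_edge rels S fwd inv o lvl plet idx 16 IH Gen.e sp85 sp50 rfl rfl
theorem s0_f482 : ed sl_dt sq133 = sq85 :=
  real_edge rels S fwd inv o lvl plet idx 16 IH Gen.d sp133 sp85 rfl rfl
theorem s0_f483 : ed sl_et sq56 = sq91 :=
  real_edge rels S fwd inv o lvl plet idx 16 IH Gen.e sp56 sp91 rfl rfl
theorem s0_f484 : ed sl_dt sq91 = sq139 :=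
  real_edge rels S fwd inv o lvl plet idx 16 IH Gen.d sp91 sp139 rfl rfl
theorem s0_f484r : ed sl_df sq139 = sq91 :=
  edge_flip (s0_f484 IH)
theorem s0_f483r : ed sl_ef sq91 = sq56 :=
  edge_flip (s0_f483 IH)
theorem s0_f476r : ed sl_df sq56 = sq50 :=
  edge_flip (s0_f476 IH)
theorem s0_f481r : ed sl_ef sq50 = sq85 :=
  edge_flip (s0_f481 IH)
theorem s0_f482r : ed sl_df sq85 = sq133 :=
  edge_flip (s0_f482 IH)
theorem s0_f485 : ed sl_ef sq133 = sq139 :=
  gap_rel s0_rot30 (path_edge (s0_f482r IH) (path_edge (s0_f481r IH) (path_edge (s0_f476r IH) (path_edge (s0_f483r IH) (path_edge (s0_f484r IH) (path_nil sq139))))))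
theorem s0_f487 : ed sl_bt sq49 = sq85 :=
  real_edge rels S fwd inv o lvl plet idx 16 IH Gen.b sp49 sp85 rfl rfl
theorem s0_f488 : ed sl_bt sq87 = sq53 :=
  real_edge rels S fwd inv o lvl plet idx 16 IH Gen.b sp87 sp53 rfl rfl
theorem s0_f489 : ed sl_ct sq87 = sq56 :=
  real_edge rels S fwd inv o lvl plet idx 16 IH Gen.c sp87 sp56 rfl rfl
theorem s0_f491 : ed sl_dt sq208 = sq134 :=
  real_edge rels S fwd inv o lvl plet idx 16 IH Gen.d sp208 sp134 rfl rfl
theorem s0_f493 : ed sl_dt sq487 = sq328 :=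
  real_edge rels S fwd inv o lvl plet idx 16 IH Gen.d sp487 sp328 rfl rfl
theorem s0_f495 : ed sl_et sq53 = sq88 :=
  real_edge rels S fwd inv o lvl plet idx 16 IH Gen.e sp53 sp88 rfl rfl
theorem s0_f496 : ed sl_ct sq133 = sq207 :=
  real_edge rels S fwd inv o lvl plet idx 16 IH Gen.c sp133 sp207 rfl rfl
theorem s0_f497 : ed sl_ct sq216 = sq139 :=
  real_edge rels S fwd inv o lvl plet idx 16 IH Gen.c sp216 sp139 rfl rfl
theorem s0_f485r : ed sl_et sq139 = sq133 :=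
  edge_flip (s0_f485 IH)
theorem s0_f500 : ed sl_et sq133 = sq139 :=
  gap_rel s0_rot31 (path_edge (s0_f485r IH) (path_nil sq139))
theorem s0_f503 : ed sl_ct sq139 = sq216 :=
  real_edge rels S fwd inv o lvl plet idx 16 IH Gen.c sp139 sp216 rfl rfl
theorem s0_f506 : ed sl_dt sq85 = sq133 :=
  real_edge rels S fwd inv o lvl plet idx 16 IH Gen.d sp85 sp133 rfl rfl
theorem s0_f507 : ed sl_et sq50 = sq85 :=
  real_edge rels S fwd inv o lvl plet idx 16 IH Gen.e sp50 sp85 rfl rfl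
theorem s0_f508 : ed sl_et sq91 = sq56 :=
  real_edge rels S fwd inv o lvl plet idx 16 IH Gen.e sp91 sp56 rfl rfl
theorem s0_f509 : ed sl_ft sq139 = sq217 :=
  real_edge rels S fwd inv o lvl plet idx 16 IH Gen.f sp139 sp217 rfl rfl
theorem s0_f509r : ed sl_ff sq217 = sq139 :=
  edge_flip (s0_f509 IH)
theorem s0_f500r : ed sl_ef sq139 = sq133 :=
  edge_flip (s0_f500 IH)
theorem s0_f316r : ed sl_ff sq133 = sq193 :=
  edge_flip (s0_f316 IH)
theorem s0_f510 : ed sl_ef sq193 = sq217 :=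
  gap_rel s0_rot32 (path_edge (s0_f316r IH) (path_edge (s0_f500r IH) (path_edge (s0_f509r IH) (path_nil sq217))))
theorem s0_f514 : ed sl_ct sq193 = sq306 :=
  real_edge rels S fwd inv o lvl plet idx 16 IH Gen.c sp193 sp306 rfl rfl
theorem s0_f515 : ed sl_ct sq338 = sq217 :=
  real_edge rels S fwd inv o lvl plet idx 16 IH Gen.c sp338 sp217 rfl rfl
theorem s0_f510r : ed sl_et sq217 = sq193 :=
  edge_flip (s0_f510 IH)
theorem s0_f516 : ed sl_et sq306 = sq338 :=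
  gap_rel s0_rot33 (path_edge (s0_f514 IH) (path_edge (s0_f510r IH) (path_edge (s0_f515 IH) (path_nil sq338))))
theorem s0_f524 : ed sl_bt sq753 = sq515 :=
  real_edge rels S fwd inv o lvl plet idx 16 IH Gen.b sp753 sp515 rfl rfl
theorem s0_f516r : ed sl_ef sq338 = sq306 :=
  edge_flip (s0_f516 IH)
theorem s0_f529 : ed sl_ef sq306 = sq338 :=
  gap_rel s0_rot34 (path_edge (s0_f516r IH) (path_nil sq338))
theorem s0_f531 : ed sl_ft sq207 = sq306 :=
  real_edge rels S fwd inv o lvl plet idx 16 IH Gen.f sp207 sp306 rfl rfl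
theorem s0_f533 : ed sl_gt sq338 = sq504 :=
  real_edge rels S fwd inv o lvl plet idx 16 IH Gen.g sp338 sp504 rfl rfl
theorem s0_f537 : ed sl_bt sq306 = sq459 :=
  real_edge rels S fwd inv o lvl plet idx 16 IH Gen.b sp306 sp459 rfl rfl
theorem s0_f538 : ed sl_bt sq503 = sq338 :=
  real_edge rels S fwd inv o lvl plet idx 16 IH Gen.b sp503 sp338 rfl rfl
theorem s0_f529r : ed sl_et sq338 = sq306 :=
  edge_flip (s0_f529 IH)
theorem s0_f539 : ed sl_et sq459 = sq503 :=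
  gap_rel s0_rot35 (path_edge (s0_f537 IH) (path_edge (s0_f529r IH) (path_edge (s0_f538 IH) (path_nil sq503))))
theorem s0_f542 : ed sl_dt sq502 = sq338 :=
  real_edge rels S fwd inv o lvl plet idx 16 IH Gen.d sp502 sp338 rfl rfl
theorem s0_f553 : ed sl_ft sq664 = sq459 :=
  real_edge rels S fwd inv o lvl plet idx 16 IH Gen.f sp664 sp459 rfl rfl
theorem s0_f554 : ed sl_ft sq503 = sq730 :=
  real_edge rels S fwd inv o lvl plet idx 16 IH Gen.f sp503 sp730 rfl rfl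
theorem s0_f554r : ed sl_ff sq730 = sq503 :=
  edge_flip (s0_f554 IH)
theorem s0_f539r : ed sl_ef sq503 = sq459 :=
  edge_flip (s0_f539 IH)
theorem s0_f553r : ed sl_ff sq459 = sq664 :=
  edge_flip (s0_f553 IH)
theorem s0_f555 : ed sl_ef sq664 = sq730 :=
  gap_rel s0_rot32 (path_edge (s0_f553r IH) (path_edge (s0_f539r IH) (path_edge (s0_f554r IH) (path_nil sq730))))
theorem s0_f557 : ed sl_gt sq678 = sq459 :=
  real_edge rels S fwd inv o lvl plet idx 16 IH Gen.g sp678 sp459 rfl rfl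
theorem s0_f558 : ed sl_gt sq503 = sq737 :=
  real_edge rels S fwd inv o lvl plet idx 16 IH Gen.g sp503 sp737 rfl rfl
theorem s0_f558r : ed sl_gf sq737 = sq503 :=
  edge_flip (s0_f558 IH)
theorem s0_f557r : ed sl_gf sq459 = sq678 :=
  edge_flip (s0_f557 IH)
theorem s0_f559 : ed sl_ef sq678 = sq737 :=
  gap_rel s0_rot36 (path_edge (s0_f557r IH) (path_edge (s0_f539r IH) (path_edge (s0_f558r IH) (path_nil sq737))))
theorem s0_f566 : ed sl_bt sq1063 = sq737 :=
  real_edge rels S fwd inv o lvl plet idx 16 IH Gen.b sp1063 sp737 rfl rfl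
theorem s0_f574 : ed sl_ft sq678 = sq985 :=
  real_edge rels S fwd inv o lvl plet idx 16 IH Gen.f sp678 sp985 rfl rfl
theorem s0_f575 : ed sl_ft sq1064 = sq737 :=
  real_edge rels S fwd inv o lvl plet idx 16 IH Gen.f sp1064 sp737 rfl rfl
theorem s0_f559r : ed sl_et sq737 = sq678 :=
  edge_flip (s0_f559 IH)
theorem s0_f576 : ed sl_et sq985 = sq1064 :=
  gap_rel s0_rot37 (path_edge (s0_f574 IH) (path_edge (s0_f559r IH) (path_edge (s0_f575 IH) (path_nil sq1064))))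
theorem s0_f578 : ed sl_ct sq1415 = sq1063 :=
  real_edge rels S fwd inv o lvl plet idx 16 IH Gen.c sp1415 sp1063 rfl rfl
theorem s0_f590 : ed sl_gt sq967 = sq985 :=
  real_edge rels S fwd inv o lvl plet idx 16 IH Gen.g sp967 sp985 rfl rfl
theorem s0_f591 : ed sl_gt sq1064 = sq1052 :=
  real_edge rels S fwd inv o lvl plet idx 16 IH Gen.g sp1064 sp1052 rfl rfl
theorem s0_f591r : ed sl_gf sq1052 = sq1064 :=
  edge_flip (s0_f591 IH)
theorem s0_f576r : ed sl_ef sq1064 = sq985 :=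
  edge_flip (s0_f576 IH)
theorem s0_f590r : ed sl_gf sq985 = sq967 :=
  edge_flip (s0_f590 IH)
theorem s0_f592 : ed sl_ef sq967 = sq1052 :=
  gap_rel s0_rot36 (path_edge (s0_f590r IH) (path_edge (s0_f576r IH) (path_edge (s0_f591r IH) (path_nil sq1052))))
theorem s0_f603 : ed sl_et sq663 = sq872 :=
  real_edge rels S fwd inv o lvl plet idx 16 IH Gen.e sp663 sp872 rfl rfl
theorem s0_f609 : ed sl_ft sq967 = sq676 :=
  real_edge rels S fwd inv o lvl plet idx 16 IH Gen.f sp967 sp676 rfl rfl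
theorem s0_f610 : ed sl_ft sq736 = sq1052 :=
  real_edge rels S fwd inv o lvl plet idx 16 IH Gen.f sp736 sp1052 rfl rfl
theorem s0_f592r : ed sl_et sq1052 = sq967 :=
  edge_flip (s0_f592 IH)
theorem s0_f611 : ed sl_et sq676 = sq736 :=
  gap_rel s0_rot37 (path_edge (s0_f609 IH) (path_edge (s0_f592r IH) (path_edge (s0_f610 IH) (path_nil sq736))))
theorem s0_f624 : ed sl_gt sq984 = sq676 :=
  real_edge rels S fwd inv o lvl plet idx 16 IH Gen.g sp984 sp676 rfl rfl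
theorem s0_f625 : ed sl_gt sq736 = sq1062 :=
  real_edge rels S fwd inv o lvl plet idx 16 IH Gen.g sp736 sp1062 rfl rfl
theorem s0_f625r : ed sl_gf sq1062 = sq736 :=
  edge_flip (s0_f625 IH)
theorem s0_f611r : ed sl_ef sq736 = sq676 :=
  edge_flip (s0_f611 IH)
theorem s0_f624r : ed sl_gf sq676 = sq984 :=
  edge_flip (s0_f624 IH)
theorem s0_f626 : ed sl_ef sq984 = sq1062 :=
  gap_rel s0_rot36 (path_edge (s0_f624r IH) (path_edge (s0_f611r IH) (path_edge (s0_f625r IH) (path_nil sq1062))))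
theorem s0_f636 : ed sl_et sq677 = sq891 :=
  real_edge rels S fwd inv o lvl plet idx 16 IH Gen.e sp677 sp891 rfl rfl
theorem s0_f640 : ed sl_ft sq984 = sq968 :=
  real_edge rels S fwd inv o lvl plet idx 16 IH Gen.f sp984 sp968 rfl rfl
theorem s0_f641 : ed sl_ft sq1053 = sq1062 :=
  real_edge rels S fwd inv o lvl plet idx 16 IH Gen.f sp1053 sp1062 rfl rfl
theorem s0_f626r : ed sl_et sq1062 = sq984 :=
  edge_flip (s0_f626 IH)
theorem s0_f642 : ed sl_et sq968 = sq1053 :=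
  gap_rel s0_rot37 (path_edge (s0_f640 IH) (path_edge (s0_f626r IH) (path_edge (s0_f641 IH) (path_nil sq1053))))
theorem s0_f648 : ed sl_ct sq665 = sq968 :=
  real_edge rels S fwd inv o lvl plet idx 16 IH Gen.c sp665 sp968 rfl rfl
theorem s0_f649 : ed sl_et sq873 = sq665 :=
  real_edge rels S fwd inv o lvl plet idx 16 IH Gen.e sp873 sp665 rfl rfl
theorem s0_f642r : ed sl_ef sq1053 = sq968 :=
  edge_flip (s0_f642 IH)
theorem s0_f648r : ed sl_cf sq968 = sq665 :=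
  edge_flip (s0_f648 IH)
theorem s0_f649r : ed sl_ef sq665 = sq873 :=
  edge_flip (s0_f649 IH)
theorem s0_f650 : ed sl_cf sq873 = sq1053 :=
  gap_rel s0_rot38 (path_edge (s0_f649r IH) (path_edge (s0_f648r IH) (path_edge (s0_f642r IH) (path_nil sq1053))))
theorem s0_f664 : ed sl_gt sq873 = sq591 :=
  real_edge rels S fwd inv o lvl plet idx 16 IH Gen.g sp873 sp591 rfl rfl
theorem s0_f665 : ed sl_gt sq730 = sq1053 :=
  real_edge rels S fwd inv o lvl plet idx 16 IH Gen.g sp730 sp1053 rfl rfl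
theorem s0_f650r : ed sl_ct sq1053 = sq873 :=
  edge_flip (s0_f650 IH)
theorem s0_f666 : ed sl_ct sq591 = sq730 :=
  gap_rel s0_rot39 (path_edge (s0_f664 IH) (path_edge (s0_f650r IH) (path_edge (s0_f665 IH) (path_nil sq730))))
theorem s0_f666r : ed sl_cf sq730 = sq591 :=
  edge_flip (s0_f666 IH)
theorem s0_f679 : ed sl_cf sq591 = sq730 :=
  gap_rel s0_rot40 (path_edge (s0_f666r IH) (path_nil sq730))
theorem s0_f694 : ed sl_ct sq497 = sq341 :=
  real_edge rels S fwd inv o lvl plet idx 16 IH Gen.c sp497 sp341 rfl rfl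
theorem s0_f695 : ed sl_bt sq341 = sq506 :=
  real_edge rels S fwd inv o lvl plet idx 16 IH Gen.b sp341 sp506 rfl rfl
theorem s0_f696 : ed sl_at sq506 = sq740 :=
  real_edge rels S fwd inv o lvl plet idx 16 IH Gen.a sp506 sp740 rfl rfl
theorem s0_f709 : ed sl_bt sq591 = sq399 :=
  real_edge rels S fwd inv o lvl plet idx 16 IH Gen.b sp591 sp399 rfl rfl
theorem s0_f710 : ed sl_ct sq399 = sq281 :=
  real_edge rels S fwd inv o lvl plet idx 16 IH Gen.c sp399 sp281 rfl rfl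
theorem s0_f711 : ed sl_bt sq499 = sq730 :=
  real_edge rels S fwd inv o lvl plet idx 16 IH Gen.b sp499 sp730 rfl rfl
theorem s0_f712 : ed sl_ct sq342 = sq499 :=
  real_edge rels S fwd inv o lvl plet idx 16 IH Gen.c sp342 sp499 rfl rfl
theorem s0_f679r : ed sl_ct sq730 = sq591 :=
  edge_flip (s0_f679 IH)
theorem s0_f713 : ed sl_bt sq281 = sq342 :=
  gap_rel s0_rot41 (path_edge (s0_f710 IH) (path_edge (s0_f709 IH) (path_edge (s0_f679r IH) (path_edge (s0_f711 IH) (path_edge (s0_f712 IH) (path_nil sq342))))))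
theorem s0_f716 : ed sl_dt sq1049 = sq730 :=
  real_edge rels S fwd inv o lvl plet idx 16 IH Gen.d sp1049 sp730 rfl rfl
theorem s0_f719 : ed sl_ft sq591 = sq405 :=
  real_edge rels S fwd inv o lvl plet idx 16 IH Gen.f sp591 sp405 rfl rfl
theorem s0_f720 : ed sl_ct sq405 = sq503 :=
  gap_rel s0_rot42 (path_edge (s0_f719 IH) (path_edge (s0_f679r IH) (path_edge (s0_f554 IH) (path_nil sq503))))
theorem s0_f727 : ed sl_ct sq397 = sq280 :=
  real_edge rels S fwd inv o lvl plet idx 16 IH Gen.c sp397 sp280 rfl rfl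
theorem s0_f728 : ed sl_bt sq280 = sq417 :=
  real_edge rels S fwd inv o lvl plet idx 16 IH Gen.b sp280 sp417 rfl rfl
theorem s0_f733 : ed sl_bt sq728 = sq1049 :=
  real_edge rels S fwd inv o lvl plet idx 16 IH Gen.b sp728 sp1049 rfl rfl
theorem s0_f741 : ed sl_ct sq887 = sq601 :=
  real_edge rels S fwd inv o lvl plet idx 16 IH Gen.c sp887 sp601 rfl rfl
theorem s0_f744 : ed sl_gt sq606 = sq405 :=
  real_edge rels S fwd inv o lvl plet idx 16 IH Gen.g sp606 sp405 rfl rfl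
theorem s0_f720r : ed sl_cf sq503 = sq405 :=
  edge_flip (s0_f720 IH)
theorem s0_f744r : ed sl_gf sq405 = sq606 :=
  edge_flip (s0_f744 IH)
theorem s0_f745 : ed sl_cf sq606 = sq737 :=
  gap_rel s0_rot43 (path_edge (s0_f744r IH) (path_edge (s0_f720r IH) (path_edge (s0_f558r IH) (path_nil sq737))))
theorem s0_f760 : ed sl_bt sq227 = sq145 :=
  real_edge rels S fwd inv o lvl plet idx 16 IH Gen.b sp227 sp145 rfl rfl
theorem s0_f761 : ed sl_bt sq351 = sq225 :=
  real_edge rels S fwd inv o lvl plet idx 16 IH Gen.b sp351 sp225 rfl rfl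
theorem s0_f763 : ed sl_bt sq606 = sq892 :=
  real_edge rels S fwd inv o lvl plet idx 16 IH Gen.b sp606 sp892 rfl rfl
theorem s0_f764 : ed sl_ct sq892 = sq1251 :=
  real_edge rels S fwd inv o lvl plet idx 16 IH Gen.c sp892 sp1251 rfl rfl
theorem s0_f745r : ed sl_ct sq737 = sq606 :=
  edge_flip (s0_f745 IH)
theorem s0_f765 : ed sl_bt sq1251 = sq1415 :=
  gap_rel s0_rot41 (path_edge (s0_f764 IH) (path_edge (s0_f763 IH) (path_edge (s0_f745r IH) (path_edge (s0_f566 IH) (path_edge (s0_f578 IH) (path_nil sq1415))))))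
theorem s0_f765r : ed sl_bf sq1415 = sq1251 :=
  edge_flip (s0_f765 IH)
theorem s0_f783 : ed sl_bf sq1251 = sq1415 :=
  gap_rel s0_rot44 (path_edge (s0_f765r IH) (path_nil sq1415))
theorem s0_f790 : ed sl_gt sq895 = sq1251 :=
  real_edge rels S fwd inv o lvl plet idx 16 IH Gen.g sp895 sp1251 rfl rfl
theorem s0_f791 : ed sl_bt sq609 = sq895 :=
  real_edge rels S fwd inv o lvl plet idx 16 IH Gen.b sp609 sp895 rfl rfl
theorem s0_f792 : ed sl_gt sq1415 = sq1066 :=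
  real_edge rels S fwd inv o lvl plet idx 16 IH Gen.g sp1415 sp1066 rfl rfl
theorem s0_f793 : ed sl_bt sq1066 = sq739 :=
  real_edge rels S fwd inv o lvl plet idx 16 IH Gen.b sp1066 sp739 rfl rfl
theorem s0_f793r : ed sl_bf sq739 = sq1066 :=
  edge_flip (s0_f793 IH)
theorem s0_f792r : ed sl_gf sq1066 = sq1415 :=
  edge_flip (s0_f792 IH)
theorem s0_f790r : ed sl_gf sq1251 = sq895 :=
  edge_flip (s0_f790 IH)
theorem s0_f791r : ed sl_bf sq895 = sq609 :=
  edge_flip (s0_f791 IH)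
theorem s0_f794 : ed sl_gf sq609 = sq739 :=
  gap_rel s0_rot24 (path_edge (s0_f791r IH) (path_edge (s0_f790r IH) (path_edge (s0_f765r IH) (path_edge (s0_f792r IH) (path_edge (s0_f793r IH) (path_nil sq739))))))
theorem s0_f797 : ed sl_ft sq1066 = sq1419 :=
  real_edge rels S fwd inv o lvl plet idx 16 IH Gen.f sp1066 sp1419 rfl rfl
theorem s0_f803 : ed sl_dt sq609 = sq898 :=
  real_edge rels S fwd inv o lvl plet idx 16 IH Gen.d sp609 sp898 rfl rfl
theorem s0_f804 : ed sl_dt sq1068 = sq739 :=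
  real_edge rels S fwd inv o lvl plet idx 16 IH Gen.d sp1068 sp739 rfl rfl
theorem s0_f794r : ed sl_gt sq739 = sq609 :=
  edge_flip (s0_f794 IH)
theorem s0_f805 : ed sl_gt sq898 = sq1068 :=
  gap_rel s0_rot20 (path_edge (s0_f803 IH) (path_edge (s0_f794r IH) (path_edge (s0_f804 IH) (path_nil sq1068))))
theorem s0_f808 : ed sl_ft sq609 = sq899 :=
  real_edge rels S fwd inv o lvl plet idx 16 IH Gen.f sp609 sp899 rfl rfl
theorem s0_f809 : ed sl_gt sq609 = sq739 :=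
  gap_rel s0_rot25 (path_edge (s0_f794r IH) (path_nil sq739))
theorem s0_f812 : ed sl_ft sq1419 = sq1066 :=
  real_edge rels S fwd inv o lvl plet idx 16 IH Gen.f sp1419 sp1066 rfl rfl
theorem s0_f817 : ed sl_bt sq739 = sq1066 :=
  real_edge rels S fwd inv o lvl plet idx 16 IH Gen.b sp739 sp1066 rfl rfl
theorem s0_f818 : ed sl_ct sq409 = sq609 :=
  real_edge rels S fwd inv o lvl plet idx 16 IH Gen.c sp409 sp609 rfl rfl
theorem s0_f820 : ed sl_dt sq898 = sq609 :=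
  real_edge rels S fwd inv o lvl plet idx 16 IH Gen.d sp898 sp609 rfl rfl
theorem s0_f821 : ed sl_dt sq739 = sq1068 :=
  real_edge rels S fwd inv o lvl plet idx 16 IH Gen.d sp739 sp1068 rfl rfl
theorem s0_f821r : ed sl_df sq1068 = sq739 :=
  edge_flip (s0_f821 IH)
theorem s0_f809r : ed sl_gf sq739 = sq609 :=
  edge_flip (s0_f809 IH)
theorem s0_f820r : ed sl_df sq609 = sq898 :=
  edge_flip (s0_f820 IH)
theorem s0_f822 : ed sl_gf sq898 = sq1068 :=
  gap_rel s0_rot45 (path_edge (s0_f820r IH) (path_edge (s0_f809r IH) (path_edge (s0_f821r IH) (path_nil sq1068))))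
theorem s0_f824 : ed sl_et sq463 = sq609 :=
  real_edge rels S fwd inv o lvl plet idx 16 IH Gen.e sp463 sp609 rfl rfl
theorem s0_f834 : ed sl_ft sq898 = sq1260 :=
  real_edge rels S fwd inv o lvl plet idx 16 IH Gen.f sp898 sp1260 rfl rfl
theorem s0_f835 : ed sl_bt sq1260 = sq1594 :=
  real_edge rels S fwd inv o lvl plet idx 16 IH Gen.b sp1260 sp1594 rfl rfl
theorem s0_f837 : ed sl_at sq1259 = sq898 :=
  real_edge rels S fwd inv o lvl plet idx 16 IH Gen.a sp1259 sp898 rfl rfl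
theorem s0_f838 : ed sl_bt sq1256 = sq898 :=
  real_edge rels S fwd inv o lvl plet idx 16 IH Gen.b sp1256 sp898 rfl rfl
theorem s0_f842 : ed sl_ft sq1260 = sq898 :=
  real_edge rels S fwd inv o lvl plet idx 16 IH Gen.f sp1260 sp898 rfl rfl
theorem s0_f849 : ed sl_et sq1251 = sq987 :=
  real_edge rels S fwd inv o lvl plet idx 16 IH Gen.e sp1251 sp987 rfl rfl
theorem s0_f852 : ed sl_dt sq987 = sq1336 :=
  real_edge rels S fwd inv o lvl plet idx 16 IH Gen.d sp987 sp1336 rfl rfl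
theorem s0_f858 : ed sl_bt sq507 = sq743 :=
  real_edge rels S fwd inv o lvl plet idx 16 IH Gen.b sp507 sp743 rfl rfl
theorem s0_f859 : ed sl_dt sq204 = sq281 :=
  real_edge rels S fwd inv o lvl plet idx 16 IH Gen.d sp204 sp281 rfl rfl
theorem s0_f860 : ed sl_bt sq322 = sq204 :=
  real_edge rels S fwd inv o lvl plet idx 16 IH Gen.b sp322 sp204 rfl rfl
theorem s0_f713r : ed sl_bf sq342 = sq281 :=
  edge_flip (s0_f713 IH)
theorem s0_f859r : ed sl_df sq281 = sq204 :=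
  edge_flip (s0_f859 IH)
theorem s0_f860r : ed sl_bf sq204 = sq322 :=
  edge_flip (s0_f860 IH)
theorem s0_f861 : ed sl_df sq322 = sq342 :=
  gap_rel s0_rot8 (path_edge (s0_f860r IH) (path_edge (s0_f859r IH) (path_edge (s0_f713r IH) (path_nil sq342))))
theorem s0_f863 : ed sl_et sq204 = sq281 :=
  real_edge rels S fwd inv o lvl plet idx 16 IH Gen.e sp204 sp281 rfl rfl
theorem s0_f863r : ed sl_ef sq281 = sq204 :=
  edge_flip (s0_f863 IH)
theorem s0_f864 : ed sl_ef sq322 = sq342 :=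
  gap_rel s0_rot46 (path_edge (s0_f860r IH) (path_edge (s0_f863r IH) (path_edge (s0_f713r IH) (path_nil sq342))))
theorem s0_f867 : ed sl_bt sq220 = sq142 :=
  real_edge rels S fwd inv o lvl plet idx 16 IH Gen.b sp220 sp142 rfl rfl
theorem s0_f868 : ed sl_ft sq342 = sq220 :=
  real_edge rels S fwd inv o lvl plet idx 16 IH Gen.f sp342 sp220 rfl rfl
theorem s0_f869 : ed sl_gt sq420 = sq281 :=
  real_edge rels S fwd inv o lvl plet idx 16 IH Gen.g sp420 sp281 rfl rfl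
theorem s0_f870 : ed sl_bt sq619 = sq420 :=
  real_edge rels S fwd inv o lvl plet idx 16 IH Gen.b sp619 sp420 rfl rfl
theorem s0_f871 : ed sl_gt sq342 = sq508 :=
  real_edge rels S fwd inv o lvl plet idx 16 IH Gen.g sp342 sp508 rfl rfl
theorem s0_f872 : ed sl_bt sq508 = sq744 :=
  real_edge rels S fwd inv o lvl plet idx 16 IH Gen.b sp508 sp744 rfl rfl
theorem s0_f872r : ed sl_bf sq744 = sq508 :=
  edge_flip (s0_f872 IH)
theorem s0_f871r : ed sl_gf sq508 = sq342 :=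
  edge_flip (s0_f871 IH)
theorem s0_f869r : ed sl_gf sq281 = sq420 :=
  edge_flip (s0_f869 IH)
theorem s0_f870r : ed sl_bf sq420 = sq619 :=
  edge_flip (s0_f870 IH)
theorem s0_f873 : ed sl_gf sq619 = sq744 :=
  gap_rel s0_rot24 (path_edge (s0_f870r IH) (path_edge (s0_f869r IH) (path_edge (s0_f713r IH) (path_edge (s0_f871r IH) (path_edge (s0_f872r IH) (path_nil sq744))))))
theorem s0_f877 : ed sl_bt sq583 = sq397 :=
  real_edge rels S fwd inv o lvl plet idx 16 IH Gen.b sp583 sp397 rfl rfl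
theorem s0_f878 : ed sl_ct sq860 = sq583 :=
  real_edge rels S fwd inv o lvl plet idx 16 IH Gen.c sp860 sp583 rfl rfl
theorem s0_f880 : ed sl_ct sq341 = sq497 :=
  real_edge rels S fwd inv o lvl plet idx 16 IH Gen.c sp341 sp497 rfl rfl
theorem s0_f881 : ed sl_bt sq497 = sq724 :=
  real_edge rels S fwd inv o lvl plet idx 16 IH Gen.b sp497 sp724 rfl rfl
theorem s0_f882 : ed sl_at sq724 = sq1045 :=
  real_edge rels S fwd inv o lvl plet idx 16 IH Gen.a sp724 sp1045 rfl rfl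
theorem s0_f885 : ed sl_bt sq282 = sq282 :=
  real_edge rels S fwd inv o lvl plet idx 16 IH Gen.b sp282 sp282 rfl rfl
theorem s0_f886 : ed sl_ft sq421 = sq282 :=
  real_edge rels S fwd inv o lvl plet idx 16 IH Gen.f sp421 sp282 rfl rfl
theorem s0_f892 : ed sl_at sq1075 = sq744 :=
  real_edge rels S fwd inv o lvl plet idx 16 IH Gen.a sp1075 sp744 rfl rfl
theorem s0_f873r : ed sl_gt sq744 = sq619 :=
  edge_flip (s0_f873 IH)
theorem s0_f902 : ed sl_gt sq619 = sq744 :=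
  gap_rel s0_rot25 (path_edge (s0_f873r IH) (path_nil sq744))
theorem s0_f904 : ed sl_at sq744 = sq1075 :=
  real_edge rels S fwd inv o lvl plet idx 16 IH Gen.a sp744 sp1075 rfl rfl
theorem s0_f906 : ed sl_at sq907 = sq619 :=
  real_edge rels S fwd inv o lvl plet idx 16 IH Gen.a sp907 sp619 rfl rfl
theorem s0_f904r : ed sl_af sq1075 = sq744 :=
  edge_flip (s0_f904 IH)
theorem s0_f902r : ed sl_gf sq744 = sq619 :=
  edge_flip (s0_f902 IH)
theorem s0_f906r : ed sl_af sq619 = sq907 :=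
  edge_flip (s0_f906 IH)
theorem s0_f907 : ed sl_gf sq907 = sq1075 :=
  gap_rel s0_rot47 (path_edge (s0_f906r IH) (path_edge (s0_f902r IH) (path_edge (s0_f904r IH) (path_nil sq1075))))
theorem s0_f911 : ed sl_gt sq508 = sq342 :=
  real_edge rels S fwd inv o lvl plet idx 16 IH Gen.g sp508 sp342 rfl rfl
theorem s0_f912 : ed sl_bt sq744 = sq508 :=
  real_edge rels S fwd inv o lvl plet idx 16 IH Gen.b sp744 sp508 rfl rfl
theorem s0_f947 : ed sl_dt sq701 = sq907 :=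
  real_edge rels S fwd inv o lvl plet idx 16 IH Gen.d sp701 sp907 rfl rfl
theorem s0_f957 : ed sl_ft sq322 = sq206 :=
  real_edge rels S fwd inv o lvl plet idx 16 IH Gen.f sp322 sp206 rfl rfl
theorem s0_f958 : ed sl_ft sq220 = sq342 :=
  real_edge rels S fwd inv o lvl plet idx 16 IH Gen.f sp220 sp342 rfl rfl
theorem s0_f864r : ed sl_et sq342 = sq322 :=
  edge_flip (s0_f864 IH)
theorem s0_f959 : ed sl_et sq206 = sq220 :=
  gap_rel s0_rot37 (path_edge (s0_f957 IH) (path_edge (s0_f864r IH) (path_edge (s0_f958 IH) (path_nil sq220))))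
theorem s0_f961 : ed sl_at sq325 = sq206 :=
  real_edge rels S fwd inv o lvl plet idx 16 IH Gen.a sp325 sp206 rfl rfl
theorem s0_f962 : ed sl_at sq220 = sq341 :=
  real_edge rels S fwd inv o lvl plet idx 16 IH Gen.a sp220 sp341 rfl rfl
theorem s0_f965 : ed sl_bt sq132 = sq206 :=
  real_edge rels S fwd inv o lvl plet idx 16 IH Gen.b sp132 sp206 rfl rfl
theorem s0_f968 : ed sl_ct sq220 = sq336 :=
  real_edge rels S fwd inv o lvl plet idx 16 IH Gen.c sp220 sp336 rfl rfl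
theorem s0_f973 : ed sl_gt sq327 = sq206 :=
  real_edge rels S fwd inv o lvl plet idx 16 IH Gen.g sp327 sp206 rfl rfl
theorem s0_f974 : ed sl_gt sq220 = sq343 :=
  real_edge rels S fwd inv o lvl plet idx 16 IH Gen.g sp220 sp343 rfl rfl
theorem s0_f974r : ed sl_gf sq343 = sq220 :=
  edge_flip (s0_f974 IH)
theorem s0_f959r : ed sl_ef sq220 = sq206 :=
  edge_flip (s0_f959 IH)
theorem s0_f973r : ed sl_gf sq206 = sq327 :=
  edge_flip (s0_f973 IH)
theorem s0_f975 : ed sl_ef sq327 = sq343 :=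
  gap_rel s0_rot36 (path_edge (s0_f973r IH) (path_edge (s0_f959r IH) (path_edge (s0_f974r IH) (path_nil sq343))))
theorem s0_f977 : ed sl_ct sq206 = sq326 :=
  real_edge rels S fwd inv o lvl plet idx 16 IH Gen.c sp206 sp326 rfl rfl
theorem s0_f984 : ed sl_ft sq327 = sq485 :=
  real_edge rels S fwd inv o lvl plet idx 16 IH Gen.f sp327 sp485 rfl rfl
theorem s0_f985 : ed sl_ft sq509 = sq343 :=
  real_edge rels S fwd inv o lvl plet idx 16 IH Gen.f sp509 sp343 rfl rfl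
theorem s0_f975r : ed sl_et sq343 = sq327 :=
  edge_flip (s0_f975 IH)
theorem s0_f986 : ed sl_et sq485 = sq509 :=
  gap_rel s0_rot37 (path_edge (s0_f984 IH) (path_edge (s0_f975r IH) (path_edge (s0_f985 IH) (path_nil sq509))))
theorem s0_f999 : ed sl_gt sq479 = sq485 :=
  real_edge rels S fwd inv o lvl plet idx 16 IH Gen.g sp479 sp485 rfl rfl
theorem s0_f1000 : ed sl_gt sq509 = sq507 :=
  real_edge rels S fwd inv o lvl plet idx 16 IH Gen.g sp509 sp507 rfl rfl
theorem s0_f1000r : ed sl_gf sq507 = sq509 :=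
  edge_flip (s0_f1000 IH)
theorem s0_f986r : ed sl_ef sq509 = sq485 :=
  edge_flip (s0_f986 IH)
theorem s0_f999r : ed sl_gf sq485 = sq479 :=
  edge_flip (s0_f999 IH)
theorem s0_f1001 : ed sl_ef sq479 = sq507 :=
  gap_rel s0_rot36 (path_edge (s0_f999r IH) (path_edge (s0_f986r IH) (path_edge (s0_f1000r IH) (path_nil sq507))))
theorem s0_f1007 : ed sl_bt sq479 = sq699 :=
  real_edge rels S fwd inv o lvl plet idx 16 IH Gen.b sp479 sp699 rfl rfl
theorem s0_f1008 : ed sl_bt sq743 = sq507 :=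
  real_edge rels S fwd inv o lvl plet idx 16 IH Gen.b sp743 sp507 rfl rfl
theorem s0_f1001r : ed sl_et sq507 = sq479 :=
  edge_flip (s0_f1001 IH)
theorem s0_f1009 : ed sl_et sq699 = sq743 :=
  gap_rel s0_rot35 (path_edge (s0_f1007 IH) (path_edge (s0_f1001r IH) (path_edge (s0_f1008 IH) (path_nil sq743))))
theorem s0_f1011 : ed sl_ct sq479 = sq700 :=
  real_edge rels S fwd inv o lvl plet idx 16 IH Gen.c sp479 sp700 rfl rfl
theorem s0_f1012 : ed sl_ct sq726 = sq507 :=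
  real_edge rels S fwd inv o lvl plet idx 16 IH Gen.c sp726 sp507 rfl rfl
theorem s0_f1015 : ed sl_ft sq479 = sq325 :=
  real_edge rels S fwd inv o lvl plet idx 16 IH Gen.f sp479 sp325 rfl rfl
theorem s0_f1016 : ed sl_ft sq341 = sq507 :=
  real_edge rels S fwd inv o lvl plet idx 16 IH Gen.f sp341 sp507 rfl rfl
theorem s0_f1017 : ed sl_et sq325 = sq341 :=
  gap_rel s0_rot37 (path_edge (s0_f1015 IH) (path_edge (s0_f1001r IH) (path_edge (s0_f1016 IH) (path_nil sq341))))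
theorem s0_f1019 : ed sl_ct sq1074 = sq743 :=
  real_edge rels S fwd inv o lvl plet idx 16 IH Gen.c sp1074 sp743 rfl rfl
theorem s0_f1020 : ed sl_dt sq1424 = sq1074 :=
  real_edge rels S fwd inv o lvl plet idx 16 IH Gen.d sp1424 sp1074 rfl rfl
theorem s0_f1021 : ed sl_ct sq1685 = sq1424 :=
  real_edge rels S fwd inv o lvl plet idx 16 IH Gen.c sp1685 sp1424 rfl rfl
theorem s0_f1024 : ed sl_bt sq482 = sq325 :=
  real_edge rels S fwd inv o lvl plet idx 16 IH Gen.b sp482 sp325 rfl rfl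
theorem s0_f1027 : ed sl_ct sq483 = sq325 :=
  real_edge rels S fwd inv o lvl plet idx 16 IH Gen.c sp483 sp325 rfl rfl
theorem s0_f880r : ed sl_cf sq497 = sq341 :=
  edge_flip (s0_f880 IH)
theorem s0_f1017r : ed sl_ef sq341 = sq325 :=
  edge_flip (s0_f1017 IH)
theorem s0_f1027r : ed sl_cf sq325 = sq483 :=
  edge_flip (s0_f1027 IH)
theorem s0_f1028 : ed sl_ef sq483 = sq497 :=
  gap_rel s0_rot48 (path_edge (s0_f1027r IH) (path_edge (s0_f1017r IH) (path_edge (s0_f880r IH) (path_nil sq497))))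
theorem s0_f1030 : ed sl_ct sq705 = sq482 :=
  real_edge rels S fwd inv o lvl plet idx 16 IH Gen.c sp705 sp482 rfl rfl
theorem s0_f1032 : ed sl_at sq336 = sq497 :=
  real_edge rels S fwd inv o lvl plet idx 16 IH Gen.a sp336 sp497 rfl rfl
theorem s0_f1035 : ed sl_bt sq483 = sq707 :=
  real_edge rels S fwd inv o lvl plet idx 16 IH Gen.b sp483 sp707 rfl rfl
theorem s0_f1036 : ed sl_bt sq724 = sq497 :=
  real_edge rels S fwd inv o lvl plet idx 16 IH Gen.b sp724 sp497 rfl rfl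
theorem s0_f1028r : ed sl_et sq497 = sq483 :=
  edge_flip (s0_f1028 IH)
theorem s0_f1037 : ed sl_et sq707 = sq724 :=
  gap_rel s0_rot35 (path_edge (s0_f1035 IH) (path_edge (s0_f1028r IH) (path_edge (s0_f1036 IH) (path_nil sq724))))
theorem s0_f1039 : ed sl_dt sq725 = sq497 :=
  real_edge rels S fwd inv o lvl plet idx 16 IH Gen.d sp725 sp497 rfl rfl
theorem s0_f1040 : ed sl_et sq483 = sq497 :=
  gap_rel s0_rot31 (path_edge (s0_f1028r IH) (path_nil sq497))
theorem s0_f1043 : ed sl_at sq326 = sq483 :=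
  real_edge rels S fwd inv o lvl plet idx 16 IH Gen.a sp326 sp483 rfl rfl
theorem s0_f1048 : ed sl_ct sq325 = sq483 :=
  real_edge rels S fwd inv o lvl plet idx 16 IH Gen.c sp325 sp483 rfl rfl
theorem s0_f1049 : ed sl_dt sq497 = sq725 :=
  real_edge rels S fwd inv o lvl plet idx 16 IH Gen.d sp497 sp725 rfl rfl
theorem s0_f1050 : ed sl_ft sq700 = sq483 :=
  real_edge rels S fwd inv o lvl plet idx 16 IH Gen.f sp700 sp483 rfl rfl
theorem s0_f1051 : ed sl_ft sq497 = sq726 :=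
  real_edge rels S fwd inv o lvl plet idx 16 IH Gen.f sp497 sp726 rfl rfl
theorem s0_f1051r : ed sl_ff sq726 = sq497 :=
  edge_flip (s0_f1051 IH)
theorem s0_f1040r : ed sl_ef sq497 = sq483 :=
  edge_flip (s0_f1040 IH)
theorem s0_f1050r : ed sl_ff sq483 = sq700 :=
  edge_flip (s0_f1050 IH)
theorem s0_f1052 : ed sl_ef sq700 = sq726 :=
  gap_rel s0_rot32 (path_edge (s0_f1050r IH) (path_edge (s0_f1040r IH) (path_edge (s0_f1051r IH) (path_nil sq726))))
theorem s0_f1056 : ed sl_bt sq700 = sq1011 :=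
  real_edge rels S fwd inv o lvl plet idx 16 IH Gen.b sp700 sp1011 rfl rfl
theorem s0_f1057 : ed sl_bt sq1048 = sq726 :=
  real_edge rels S fwd inv o lvl plet idx 16 IH Gen.b sp1048 sp726 rfl rfl
theorem s0_f1052r : ed sl_et sq726 = sq700 :=
  edge_flip (s0_f1052 IH)
theorem s0_f1058 : ed sl_et sq1011 = sq1048 :=
  gap_rel s0_rot35 (path_edge (s0_f1056 IH) (path_edge (s0_f1052r IH) (path_edge (s0_f1057 IH) (path_nil sq1048))))
theorem s0_f1062 : ed sl_dt sq1047 = sq726 :=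
  real_edge rels S fwd inv o lvl plet idx 16 IH Gen.d sp1047 sp726 rfl rfl
theorem s0_f1063 : ed sl_gt sq700 = sq708 :=
  real_edge rels S fwd inv o lvl plet idx 16 IH Gen.g sp700 sp708 rfl rfl
theorem s0_f1064 : ed sl_gt sq732 = sq726 :=
  real_edge rels S fwd inv o lvl plet idx 16 IH Gen.g sp732 sp726 rfl rfl
theorem s0_f1065 : ed sl_et sq708 = sq732 :=
  gap_rel s0_rot49 (path_edge (s0_f1063 IH) (path_edge (s0_f1052r IH) (path_edge (s0_f1064 IH) (path_nil sq732))))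
theorem s0_f1067 : ed sl_ct sq1401 = sq1048 :=
  real_edge rels S fwd inv o lvl plet idx 16 IH Gen.c sp1401 sp1048 rfl rfl
theorem s0_f1069 : ed sl_bt sq1021 = sq708 :=
  real_edge rels S fwd inv o lvl plet idx 16 IH Gen.b sp1021 sp708 rfl rfl
theorem s0_f1070 : ed sl_bt sq732 = sq1055 :=
  real_edge rels S fwd inv o lvl plet idx 16 IH Gen.b sp732 sp1055 rfl rfl
theorem s0_f1070r : ed sl_bf sq1055 = sq732 :=
  edge_flip (s0_f1070 IH)
theorem s0_f1065r : ed sl_ef sq732 = sq708 :=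
  edge_flip (s0_f1065 IH)
theorem s0_f1069r : ed sl_bf sq708 = sq1021 :=
  edge_flip (s0_f1069 IH)
theorem s0_f1071 : ed sl_ef sq1021 = sq1055 :=
  gap_rel s0_rot46 (path_edge (s0_f1069r IH) (path_edge (s0_f1065r IH) (path_edge (s0_f1070r IH) (path_nil sq1055))))
theorem s0_f1088 : ed sl_bt sq1055 = sq732 :=
  real_edge rels S fwd inv o lvl plet idx 16 IH Gen.b sp1055 sp732 rfl rfl
theorem s0_f1089 : ed sl_at sq1360 = sq1011 :=
  real_edge rels S fwd inv o lvl plet idx 16 IH Gen.a sp1360 sp1011 rfl rfl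
theorem s0_f1090 : ed sl_ct sq1356 = sq1011 :=
  real_edge rels S fwd inv o lvl plet idx 16 IH Gen.c sp1356 sp1011 rfl rfl
theorem s0_f1058r : ed sl_ef sq1048 = sq1011 :=
  edge_flip (s0_f1058 IH)
theorem s0_f1094 : ed sl_ef sq1011 = sq1048 :=
  gap_rel s0_rot34 (path_edge (s0_f1058r IH) (path_nil sq1048))
theorem s0_f1096 : ed sl_ft sq1361 = sq1011 :=
  real_edge rels S fwd inv o lvl plet idx 16 IH Gen.f sp1361 sp1011 rfl rfl
theorem s0_f1097 : ed sl_ft sq1048 = sq1399 :=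
  real_edge rels S fwd inv o lvl plet idx 16 IH Gen.f sp1048 sp1399 rfl rfl
theorem s0_f1097r : ed sl_ff sq1399 = sq1048 :=
  edge_flip (s0_f1097 IH)
theorem s0_f1096r : ed sl_ff sq1011 = sq1361 :=
  edge_flip (s0_f1096 IH)
theorem s0_f1098 : ed sl_ef sq1361 = sq1399 :=
  gap_rel s0_rot32 (path_edge (s0_f1096r IH) (path_edge (s0_f1058r IH) (path_edge (s0_f1097r IH) (path_nil sq1399))))
theorem s0_f1101 : ed sl_gt sq1048 = sq1402 :=
  real_edge rels S fwd inv o lvl plet idx 16 IH Gen.g sp1048 sp1402 rfl rfl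
theorem s0_f1113 : ed sl_gt sq1402 = sq1048 :=
  real_edge rels S fwd inv o lvl plet idx 16 IH Gen.g sp1402 sp1048 rfl rfl
theorem s0_f1118 : ed sl_ct sq1675 = sq1399 :=
  real_edge rels S fwd inv o lvl plet idx 16 IH Gen.c sp1675 sp1399 rfl rfl
theorem s0_f1098r : ed sl_et sq1399 = sq1361 :=
  edge_flip (s0_f1098 IH)
theorem s0_f1119 : ed sl_et sq1361 = sq1399 :=
  gap_rel s0_rot31 (path_edge (s0_f1098r IH) (path_nil sq1399))
theorem s0_f1121 : ed sl_gt sq1676 = sq1399 :=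
  real_edge rels S fwd inv o lvl plet idx 16 IH Gen.g sp1676 sp1399 rfl rfl
theorem s0_f1122 : ed sl_bt sq1019 = sq1361 :=
  real_edge rels S fwd inv o lvl plet idx 16 IH Gen.b sp1019 sp1361 rfl rfl
theorem s0_f1123 : ed sl_bt sq1399 = sq1046 :=
  real_edge rels S fwd inv o lvl plet idx 16 IH Gen.b sp1399 sp1046 rfl rfl
theorem s0_f1123r : ed sl_bf sq1046 = sq1399 :=
  edge_flip (s0_f1123 IH)
theorem s0_f1119r : ed sl_ef sq1399 = sq1361 :=
  edge_flip (s0_f1119 IH)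
theorem s0_f1122r : ed sl_bf sq1361 = sq1019 :=
  edge_flip (s0_f1122 IH)
theorem s0_f1124 : ed sl_ef sq1019 = sq1046 :=
  gap_rel s0_rot46 (path_edge (s0_f1122r IH) (path_edge (s0_f1119r IH) (path_edge (s0_f1123r IH) (path_nil sq1046))))
theorem s0_f1128 : ed sl_ft sq1399 = sq1048 :=
  real_edge rels S fwd inv o lvl plet idx 16 IH Gen.f sp1399 sp1048 rfl rfl
theorem s0_f1129 : ed sl_gt sq1399 = sq1676 :=
  real_edge rels S fwd inv o lvl plet idx 16 IH Gen.g sp1399 sp1676 rfl rfl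
theorem s0_f1131 : ed sl_at sq1019 = sq1366 :=
  real_edge rels S fwd inv o lvl plet idx 16 IH Gen.a sp1019 sp1366 rfl rfl
theorem s0_f1132 : ed sl_at sq1398 = sq1046 :=
  real_edge rels S fwd inv o lvl plet idx 16 IH Gen.a sp1398 sp1046 rfl rfl
theorem s0_f1124r : ed sl_et sq1046 = sq1019 :=
  edge_flip (s0_f1124 IH)
theorem s0_f1133 : ed sl_et sq1366 = sq1398 :=
  gap_rel s0_rot50 (path_edge (s0_f1131 IH) (path_edge (s0_f1124r IH) (path_edge (s0_f1132 IH) (path_nil sq1398))))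
theorem s0_f1136 : ed sl_ft sq1019 = sq707 :=
  real_edge rels S fwd inv o lvl plet idx 16 IH Gen.f sp1019 sp707 rfl rfl
theorem s0_f1151 : ed sl_ft sq1018 = sq1366 :=
  real_edge rels S fwd inv o lvl plet idx 16 IH Gen.f sp1018 sp1366 rfl rfl
theorem s0_f1152 : ed sl_ft sq1398 = sq1045 :=
  real_edge rels S fwd inv o lvl plet idx 16 IH Gen.f sp1398 sp1045 rfl rfl
theorem s0_f1152r : ed sl_ff sq1045 = sq1398 :=
  edge_flip (s0_f1152 IH)
theorem s0_f1133r : ed sl_ef sq1398 = sq1366 :=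
  edge_flip (s0_f1133 IH)
theorem s0_f1151r : ed sl_ff sq1366 = sq1018 :=
  edge_flip (s0_f1151 IH)
theorem s0_f1153 : ed sl_ef sq1018 = sq1045 :=
  gap_rel s0_rot32 (path_edge (s0_f1151r IH) (path_edge (s0_f1133r IH) (path_edge (s0_f1152r IH) (path_nil sq1045))))
theorem s0_f1156 : ed sl_at sq1018 = sq707 :=
  real_edge rels S fwd inv o lvl plet idx 16 IH Gen.a sp1018 sp707 rfl rfl
theorem s0_f1153r : ed sl_et sq1045 = sq1018 :=
  edge_flip (s0_f1153 IH)
theorem s0_f1157 : ed sl_et sq1018 = sq1045 :=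
  gap_rel s0_rot31 (path_edge (s0_f1153r IH) (path_nil sq1045))
theorem s0_f1170 : ed sl_bt sq726 = sq1048 :=
  real_edge rels S fwd inv o lvl plet idx 16 IH Gen.b sp726 sp1048 rfl rfl
theorem s0_f1171 : ed sl_ct sq1011 = sq1356 :=
  real_edge rels S fwd inv o lvl plet idx 16 IH Gen.c sp1011 sp1356 rfl rfl
theorem s0_f1094r : ed sl_et sq1048 = sq1011 :=
  edge_flip (s0_f1094 IH)
theorem s0_f1172 : ed sl_et sq1356 = sq1401 :=
  gap_rel s0_rot33 (path_edge (s0_f1171 IH) (path_edge (s0_f1094r IH) (path_edge (s0_f1067 IH) (path_nil sq1401))))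
theorem s0_f1174 : ed sl_at sq1644 = sq1356 :=
  real_edge rels S fwd inv o lvl plet idx 16 IH Gen.a sp1644 sp1356 rfl rfl
theorem s0_f1175 : ed sl_bt sq1008 = sq1356 :=
  real_edge rels S fwd inv o lvl plet idx 16 IH Gen.b sp1008 sp1356 rfl rfl
theorem s0_f1176 : ed sl_bt sq1401 = sq1074 :=
  real_edge rels S fwd inv o lvl plet idx 16 IH Gen.b sp1401 sp1074 rfl rfl
theorem s0_f1176r : ed sl_bf sq1074 = sq1401 :=
  edge_flip (s0_f1176 IH)
theorem s0_f1172r : ed sl_ef sq1401 = sq1356 :=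
  edge_flip (s0_f1172 IH)
theorem s0_f1175r : ed sl_bf sq1356 = sq1008 :=
  edge_flip (s0_f1175 IH)
theorem s0_f1177 : ed sl_ef sq1008 = sq1074 :=
  gap_rel s0_rot46 (path_edge (s0_f1175r IH) (path_edge (s0_f1172r IH) (path_edge (s0_f1176r IH) (path_nil sq1074))))
theorem s0_f1179 : ed sl_dt sq1645 = sq1356 :=
  real_edge rels S fwd inv o lvl plet idx 16 IH Gen.d sp1645 sp1356 rfl rfl

end

end

end Cfsg.Agent.Helper28.S1680
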