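import Cfsg.Agent.Lib.Helper28.S1680.Seeds0

set_option autoImplicit false
set_option maxRecDepth 100000
set_option linter.all false

namespace Cfsg.Agent.Helper28.S1680

open Cfsg.Agent.Helper28
open Cfsg.Spor.Suz (Gen)

noncomputable section

section
variable (IH : ∀ y q, lvl y q < 16 → EntryOK rels S fwd inv o plet idx y q)
include IH

theorem s0_f1182 : ed sl_ct sq699 = sq1008 :=
  real_edge rels S fwd inv o lvl plet idx 16 IH Gen.c sp699 sp1008 rfl rfl
theorem s0_f1185 : ed sl_ct sq743 = sq1074 :=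
  real_edge rels S fwd inv o lvl plet idx 16 IH Gen.c sp743 sp1074 rfl rfl
theorem s0_f1177r : ed sl_et sq1074 = sq1008 :=
  edge_flip (s0_f1177 IH)
theorem s0_f1191 : ed sl_et sq1008 = sq1074 :=
  gap_rel s0_rot31 (path_edge (s0_f1177r IH) (path_nil sq1074))
theorem s0_f1193 : ed sl_ft sq1008 = sq1358 :=
  real_edge rels S fwd inv o lvl plet idx 16 IH Gen.f sp1008 sp1358 rfl rfl
theorem s0_f1194 : ed sl_ft sq1423 = sq1074 :=
  real_edge rels S fwd inv o lvl plet idx 16 IH Gen.f sp1423 sp1074 rfl rfl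
theorem s0_f1195 : ed sl_et sq1358 = sq1423 :=
  gap_rel s0_rot37 (path_edge (s0_f1193 IH) (path_edge (s0_f1177r IH) (path_edge (s0_f1194 IH) (path_nil sq1423))))
theorem s0_f1198 : ed sl_ct sq1357 = sq1647 :=
  real_edge rels S fwd inv o lvl plet idx 16 IH Gen.c sp1357 sp1647 rfl rfl
theorem s0_f1199 : ed sl_dt sq1647 = sq1769 :=
  real_edge rels S fwd inv o lvl plet idx 16 IH Gen.d sp1647 sp1769 rfl rfl
theorem s0_f1206 : ed sl_ct sq1423 = sq1072 :=
  real_edge rels S fwd inv o lvl plet idx 16 IH Gen.c sp1423 sp1072 rfl rfl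
theorem s0_f1195r : ed sl_ef sq1423 = sq1358 :=
  edge_flip (s0_f1195 IH)
theorem s0_f1211 : ed sl_ef sq1358 = sq1423 :=
  gap_rel s0_rot34 (path_edge (s0_f1195r IH) (path_nil sq1423))
theorem s0_f1213 : ed sl_ct sq1365 = sq1651 :=
  real_edge rels S fwd inv o lvl plet idx 16 IH Gen.c sp1365 sp1651 rfl rfl
theorem s0_f1214 : ed sl_at sq1358 = sq1643 :=
  real_edge rels S fwd inv o lvl plet idx 16 IH Gen.a sp1358 sp1643 rfl rfl
theorem s0_f1215 : ed sl_bt sq1358 = sq1651 :=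
  real_edge rels S fwd inv o lvl plet idx 16 IH Gen.b sp1358 sp1651 rfl rfl
theorem s0_f1219 : ed sl_ct sq1358 = sq1009 :=
  real_edge rels S fwd inv o lvl plet idx 16 IH Gen.c sp1358 sp1009 rfl rfl
theorem s0_f1220 : ed sl_ct sq1072 = sq1423 :=
  real_edge rels S fwd inv o lvl plet idx 16 IH Gen.c sp1072 sp1423 rfl rfl
theorem s0_f1211r : ed sl_et sq1423 = sq1358 :=
  edge_flip (s0_f1211 IH)
theorem s0_f1221 : ed sl_et sq1009 = sq1072 :=
  gap_rel s0_rot33 (path_edge (s0_f1219 IH) (path_edge (s0_f1211r IH) (path_edge (s0_f1220 IH) (path_nil sq1072))))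
theorem s0_f1226 : ed sl_ft sq1074 = sq1423 :=
  real_edge rels S fwd inv o lvl plet idx 16 IH Gen.f sp1074 sp1423 rfl rfl
theorem s0_f1229 : ed sl_bt sq706 = sq1009 :=
  real_edge rels S fwd inv o lvl plet idx 16 IH Gen.b sp706 sp1009 rfl rfl
theorem s0_f1230 : ed sl_bt sq1072 = sq742 :=
  real_edge rels S fwd inv o lvl plet idx 16 IH Gen.b sp1072 sp742 rfl rfl
theorem s0_f1230r : ed sl_bf sq742 = sq1072 :=
  edge_flip (s0_f1230 IH)
theorem s0_f1221r : ed sl_ef sq1072 = sq1009 :=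
  edge_flip (s0_f1221 IH)
theorem s0_f1229r : ed sl_bf sq1009 = sq706 :=
  edge_flip (s0_f1229 IH)
theorem s0_f1231 : ed sl_ef sq706 = sq742 :=
  gap_rel s0_rot46 (path_edge (s0_f1229r IH) (path_edge (s0_f1221r IH) (path_edge (s0_f1230r IH) (path_nil sq742))))
theorem s0_f1233 : ed sl_ft sq699 = sq1009 :=
  real_edge rels S fwd inv o lvl plet idx 16 IH Gen.f sp699 sp1009 rfl rfl
theorem s0_f1234 : ed sl_ft sq1072 = sq743 :=
  real_edge rels S fwd inv o lvl plet idx 16 IH Gen.f sp1072 sp743 rfl rfl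
theorem s0_f1240 : ed sl_gt sq699 = sq1010 :=
  real_edge rels S fwd inv o lvl plet idx 16 IH Gen.g sp699 sp1010 rfl rfl
theorem s0_f1248 : ed sl_ft sq706 = sq482 :=
  real_edge rels S fwd inv o lvl plet idx 16 IH Gen.f sp706 sp482 rfl rfl
theorem s0_f1249 : ed sl_ft sq506 = sq742 :=
  real_edge rels S fwd inv o lvl plet idx 16 IH Gen.f sp506 sp742 rfl rfl
theorem s0_f1231r : ed sl_et sq742 = sq706 :=
  edge_flip (s0_f1231 IH)
theorem s0_f1250 : ed sl_et sq482 = sq506 :=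
  gap_rel s0_rot37 (path_edge (s0_f1248 IH) (path_edge (s0_f1231r IH) (path_edge (s0_f1249 IH) (path_nil sq506))))
theorem s0_f1253 : ed sl_at sq704 = sq482 :=
  real_edge rels S fwd inv o lvl plet idx 16 IH Gen.a sp704 sp482 rfl rfl
theorem s0_f1257 : ed sl_bt sq506 = sq341 :=
  real_edge rels S fwd inv o lvl plet idx 16 IH Gen.b sp506 sp341 rfl rfl
theorem s0_f1258 : ed sl_ct sq506 = sq741 :=
  real_edge rels S fwd inv o lvl plet idx 16 IH Gen.c sp506 sp741 rfl rfl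
theorem s0_f1258r : ed sl_cf sq741 = sq506 :=
  edge_flip (s0_f1258 IH)
theorem s0_f1250r : ed sl_ef sq506 = sq482 :=
  edge_flip (s0_f1250 IH)
theorem s0_f1030r : ed sl_cf sq482 = sq705 :=
  edge_flip (s0_f1030 IH)
theorem s0_f1259 : ed sl_ef sq705 = sq741 :=
  gap_rel s0_rot48 (path_edge (s0_f1030r IH) (path_edge (s0_f1250r IH) (path_edge (s0_f1258r IH) (path_nil sq741))))
theorem s0_f1261 : ed sl_at sq705 = sq1015 :=
  real_edge rels S fwd inv o lvl plet idx 16 IH Gen.a sp705 sp1015 rfl rfl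
theorem s0_f1262 : ed sl_at sq1069 = sq741 :=
  real_edge rels S fwd inv o lvl plet idx 16 IH Gen.a sp1069 sp741 rfl rfl
theorem s0_f1265 : ed sl_bt sq705 = sq1016 :=
  real_edge rels S fwd inv o lvl plet idx 16 IH Gen.b sp705 sp1016 rfl rfl
theorem s0_f1259r : ed sl_et sq741 = sq705 :=
  edge_flip (s0_f1259 IH)
theorem s0_f1266 : ed sl_et sq705 = sq741 :=
  gap_rel s0_rot31 (path_edge (s0_f1259r IH) (path_nil sq741))
theorem s0_f1268 : ed sl_ft sq705 = sq1017 :=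
  real_edge rels S fwd inv o lvl plet idx 16 IH Gen.f sp705 sp1017 rfl rfl
theorem s0_f1274 : ed sl_bt sq1016 = sq705 :=
  real_edge rels S fwd inv o lvl plet idx 16 IH Gen.b sp1016 sp705 rfl rfl
theorem s0_f1275 : ed sl_ct sq482 = sq705 :=
  real_edge rels S fwd inv o lvl plet idx 16 IH Gen.c sp482 sp705 rfl rfl
theorem s0_f1276 : ed sl_ct sq741 = sq506 :=
  real_edge rels S fwd inv o lvl plet idx 16 IH Gen.c sp741 sp506 rfl rfl
theorem s0_f1277 : ed sl_ft sq1017 = sq705 :=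
  real_edge rels S fwd inv o lvl plet idx 16 IH Gen.f sp1017 sp705 rfl rfl
theorem s0_f1281 : ed sl_ct sq707 = sq1016 :=
  real_edge rels S fwd inv o lvl plet idx 16 IH Gen.c sp707 sp1016 rfl rfl
theorem s0_f1290 : ed sl_ct sq1651 = sq1365 :=
  real_edge rels S fwd inv o lvl plet idx 16 IH Gen.c sp1651 sp1365 rfl rfl
theorem s0_f1293 : ed sl_bt sq1365 = sq1017 :=
  real_edge rels S fwd inv o lvl plet idx 16 IH Gen.b sp1365 sp1017 rfl rfl
theorem s0_f1295 : ed sl_ct sq1015 = sq704 :=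
  real_edge rels S fwd inv o lvl plet idx 16 IH Gen.c sp1015 sp704 rfl rfl
theorem s0_f1296 : ed sl_ct sq740 = sq1069 :=
  real_edge rels S fwd inv o lvl plet idx 16 IH Gen.c sp740 sp1069 rfl rfl
theorem s0_f1300 : ed sl_at sq482 = sq704 :=
  real_edge rels S fwd inv o lvl plet idx 16 IH Gen.a sp482 sp704 rfl rfl
theorem s0_f1301 : ed sl_at sq740 = sq506 :=
  real_edge rels S fwd inv o lvl plet idx 16 IH Gen.a sp740 sp506 rfl rfl
theorem s0_f1302 : ed sl_ct sq704 = sq1015 :=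
  real_edge rels S fwd inv o lvl plet idx 16 IH Gen.c sp704 sp1015 rfl rfl
theorem s0_f1303 : ed sl_ct sq1069 = sq740 :=
  real_edge rels S fwd inv o lvl plet idx 16 IH Gen.c sp1069 sp740 rfl rfl
theorem s0_f1305 : ed sl_ft sq1070 = sq740 :=
  real_edge rels S fwd inv o lvl plet idx 16 IH Gen.f sp1070 sp740 rfl rfl
theorem s0_f1306 : ed sl_at sq742 = sq1070 :=
  real_edge rels S fwd inv o lvl plet idx 16 IH Gen.a sp742 sp1070 rfl rfl
theorem s0_f1309 : ed sl_ft sq482 = sq706 :=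
  real_edge rels S fwd inv o lvl plet idx 16 IH Gen.f sp482 sp706 rfl rfl
theorem s0_f1310 : ed sl_ft sq742 = sq506 :=
  real_edge rels S fwd inv o lvl plet idx 16 IH Gen.f sp742 sp506 rfl rfl
theorem s0_f1315 : ed sl_at sq1009 = sq1355 :=
  real_edge rels S fwd inv o lvl plet idx 16 IH Gen.a sp1009 sp1355 rfl rfl
theorem s0_f1316 : ed sl_ft sq1009 = sq699 :=
  real_edge rels S fwd inv o lvl plet idx 16 IH Gen.f sp1009 sp699 rfl rfl
theorem s0_f1318 : ed sl_dt sq1651 = sq1771 :=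
  real_edge rels S fwd inv o lvl plet idx 16 IH Gen.d sp1651 sp1771 rfl rfl
theorem s0_f1319 : ed sl_at sq1354 = sq1008 :=
  real_edge rels S fwd inv o lvl plet idx 16 IH Gen.a sp1354 sp1008 rfl rfl
theorem s0_f1320 : ed sl_bt sq1356 = sq1008 :=
  real_edge rels S fwd inv o lvl plet idx 16 IH Gen.b sp1356 sp1008 rfl rfl
theorem s0_f1324 : ed sl_dt sq1074 = sq1424 :=
  real_edge rels S fwd inv o lvl plet idx 16 IH Gen.d sp1074 sp1424 rfl rfl
theorem s0_f1334 : ed sl_bt sq1645 = sq1357 :=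
  real_edge rels S fwd inv o lvl plet idx 16 IH Gen.b sp1645 sp1357 rfl rfl
theorem s0_f1337 : ed sl_ft sq1675 = sq1401 :=
  real_edge rels S fwd inv o lvl plet idx 16 IH Gen.f sp1675 sp1401 rfl rfl
theorem s0_f1341 : ed sl_bt sq207 = sq326 :=
  real_edge rels S fwd inv o lvl plet idx 16 IH Gen.b sp207 sp326 rfl rfl
theorem s0_f1343 : ed sl_ct sq336 = sq220 :=
  real_edge rels S fwd inv o lvl plet idx 16 IH Gen.c sp336 sp220 rfl rfl
theorem s0_f1344 : ed sl_dt sq336 = sq498 :=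
  real_edge rels S fwd inv o lvl plet idx 16 IH Gen.d sp336 sp498 rfl rfl
theorem s0_f1349 : ed sl_ct sq498 = sq727 :=
  real_edge rels S fwd inv o lvl plet idx 16 IH Gen.c sp498 sp727 rfl rfl
theorem s0_f1351 : ed sl_at sq726 = sq499 :=
  real_edge rels S fwd inv o lvl plet idx 16 IH Gen.a sp726 sp499 rfl rfl
theorem s0_f1359 : ed sl_at sq1007 = sq699 :=
  real_edge rels S fwd inv o lvl plet idx 16 IH Gen.a sp1007 sp699 rfl rfl
theorem s0_f1362 : ed sl_bt sq485 = sq709 :=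
  real_edge rels S fwd inv o lvl plet idx 16 IH Gen.b sp485 sp709 rfl rfl
theorem s0_f1390 : ed sl_bt sq1010 = sq1024 :=
  real_edge rels S fwd inv o lvl plet idx 16 IH Gen.b sp1010 sp1024 rfl rfl
theorem s0_f1395 : ed sl_gt sq709 = sq1024 :=
  real_edge rels S fwd inv o lvl plet idx 16 IH Gen.g sp709 sp1024 rfl rfl
theorem s0_f1441 : ed sl_gt sq206 = sq327 :=
  real_edge rels S fwd inv o lvl plet idx 16 IH Gen.g sp206 sp327 rfl rfl
theorem s0_f1450 : ed sl_ct sq88 = sq54 :=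
  real_edge rels S fwd inv o lvl plet idx 16 IH Gen.c sp88 sp54 rfl rfl
theorem s0_f1451 : ed sl_dt sq136 = sq88 :=
  real_edge rels S fwd inv o lvl plet idx 16 IH Gen.d sp136 sp88 rfl rfl
theorem s0_f1452 : ed sl_ct sq211 = sq136 :=
  real_edge rels S fwd inv o lvl plet idx 16 IH Gen.c sp211 sp136 rfl rfl
theorem s0_f1457 : ed sl_bt sq326 = sq207 :=
  real_edge rels S fwd inv o lvl plet idx 16 IH Gen.b sp326 sp207 rfl rfl
theorem s0_f1458 : ed sl_bt sq216 = sq336 :=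
  real_edge rels S fwd inv o lvl plet idx 16 IH Gen.b sp216 sp336 rfl rfl
theorem s0_f1459 : ed sl_dt sq498 = sq336 :=
  real_edge rels S fwd inv o lvl plet idx 16 IH Gen.d sp498 sp336 rfl rfl
theorem s0_f1461 : ed sl_ft sq499 = sq336 :=
  real_edge rels S fwd inv o lvl plet idx 16 IH Gen.f sp499 sp336 rfl rfl
theorem s0_f1463 : ed sl_ft sq132 = sq83 :=
  real_edge rels S fwd inv o lvl plet idx 16 IH Gen.f sp132 sp83 rfl rfl
theorem s0_f1465 : ed sl_ct sq727 = sq498 :=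
  real_edge rels S fwd inv o lvl plet idx 16 IH Gen.c sp727 sp498 rfl rfl
theorem s0_f861r : ed sl_dt sq342 = sq322 :=
  edge_flip (s0_f861 IH)
theorem s0_f1482 : ed sl_dt sq206 = sq220 :=
  gap_rel s0_rot29 (path_edge (s0_f957 IH) (path_edge (s0_f861r IH) (path_edge (s0_f958 IH) (path_nil sq220))))
theorem s0_f962r : ed sl_af sq341 = sq220 :=
  edge_flip (s0_f962 IH)
theorem s0_f1482r : ed sl_df sq220 = sq206 :=
  edge_flip (s0_f1482 IH)
theorem s0_f961r : ed sl_af sq206 = sq325 :=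
  edge_flip (s0_f961 IH)
theorem s0_f1486 : ed sl_df sq325 = sq341 :=
  gap_rel s0_rot51 (path_edge (s0_f961r IH) (path_edge (s0_f1482r IH) (path_edge (s0_f962r IH) (path_nil sq341))))
theorem s0_f1488 : ed sl_df sq327 = sq343 :=
  gap_rel s0_rot52 (path_edge (s0_f973r IH) (path_edge (s0_f1482r IH) (path_edge (s0_f974r IH) (path_nil sq343))))
theorem s0_f1490 : ed sl_dt sq216 = sq337 :=
  real_edge rels S fwd inv o lvl plet idx 16 IH Gen.d sp216 sp337 rfl rfl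
theorem s0_f1491 : ed sl_ct sq337 = sq501 :=
  real_edge rels S fwd inv o lvl plet idx 16 IH Gen.c sp337 sp501 rfl rfl
theorem s0_f1488r : ed sl_dt sq343 = sq327 :=
  edge_flip (s0_f1488 IH)
theorem s0_f1494 : ed sl_dt sq485 = sq509 :=
  gap_rel s0_rot29 (path_edge (s0_f984 IH) (path_edge (s0_f1488r IH) (path_edge (s0_f985 IH) (path_nil sq509))))
theorem s0_f1494r : ed sl_df sq509 = sq485 :=
  edge_flip (s0_f1494 IH)
theorem s0_f1500 : ed sl_df sq479 = sq507 :=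
  gap_rel s0_rot52 (path_edge (s0_f999r IH) (path_edge (s0_f1494r IH) (path_edge (s0_f1000r IH) (path_nil sq507))))
theorem s0_f1500r : ed sl_dt sq507 = sq479 :=
  edge_flip (s0_f1500 IH)
theorem s0_f1505 : ed sl_dt sq325 = sq341 :=
  gap_rel s0_rot29 (path_edge (s0_f1015 IH) (path_edge (s0_f1500r IH) (path_edge (s0_f1016 IH) (path_nil sq341))))
theorem s0_f695r : ed sl_bf sq506 = sq341 :=
  edge_flip (s0_f695 IH)
theorem s0_f1505r : ed sl_df sq341 = sq325 :=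
  edge_flip (s0_f1505 IH)
theorem s0_f1024r : ed sl_bf sq325 = sq482 :=
  edge_flip (s0_f1024 IH)
theorem s0_f1508 : ed sl_df sq482 = sq506 :=
  gap_rel s0_rot8 (path_edge (s0_f1024r IH) (path_edge (s0_f1505r IH) (path_edge (s0_f695r IH) (path_nil sq506))))
theorem s0_f1508r : ed sl_dt sq506 = sq482 :=
  edge_flip (s0_f1508 IH)
theorem s0_f1510 : ed sl_dt sq704 = sq740 :=
  gap_rel s0_rot53 (path_edge (s0_f1300 IH) (path_edge (s0_f1508r IH) (path_edge (s0_f1301 IH) (path_nil sq740))))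
theorem s0_f1512 : ed sl_dt sq482 = sq506 :=
  gap_rel s0_rot28 (path_edge (s0_f1508r IH) (path_nil sq506))
theorem s0_f1514 : ed sl_dt sq706 = sq742 :=
  gap_rel s0_rot29 (path_edge (s0_f1309 IH) (path_edge (s0_f1508r IH) (path_edge (s0_f1310 IH) (path_nil sq742))))
theorem s0_f1514r : ed sl_df sq742 = sq706 :=
  edge_flip (s0_f1514 IH)
theorem s0_f1518 : ed sl_df sq706 = sq742 :=
  gap_rel s0_rot54 (path_edge (s0_f1514r IH) (path_nil sq742))
theorem s0_f1518r : ed sl_dt sq742 = sq706 :=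
  edge_flip (s0_f1518 IH)
theorem s0_f1520 : ed sl_dt sq1009 = sq1072 :=
  gap_rel s0_rot55 (path_edge (s0_f1229 IH) (path_edge (s0_f1518r IH) (path_edge (s0_f1230 IH) (path_nil sq1072))))
theorem s0_f1234r : ed sl_ff sq743 = sq1072 :=
  edge_flip (s0_f1234 IH)
theorem s0_f1520r : ed sl_df sq1072 = sq1009 :=
  edge_flip (s0_f1520 IH)
theorem s0_f1233r : ed sl_ff sq1009 = sq699 :=
  edge_flip (s0_f1233 IH)
theorem s0_f1523 : ed sl_df sq699 = sq743 :=
  gap_rel s0_rot56 (path_edge (s0_f1233r IH) (path_edge (s0_f1520r IH) (path_edge (s0_f1234r IH) (path_nil sq743))))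
theorem s0_f1525 : ed sl_ct sq1643 = sq1355 :=
  real_edge rels S fwd inv o lvl plet idx 16 IH Gen.c sp1643 sp1355 rfl rfl
theorem s0_f1529 : ed sl_dt sq1354 = sq1642 :=
  real_edge rels S fwd inv o lvl plet idx 16 IH Gen.d sp1354 sp1642 rfl rfl
theorem s0_f1530 : ed sl_ct sq1642 = sq1765 :=
  real_edge rels S fwd inv o lvl plet idx 16 IH Gen.c sp1642 sp1765 rfl rfl
theorem s0_f1523r : ed sl_dt sq743 = sq699 :=
  edge_flip (s0_f1523 IH)
theorem s0_f1319r : ed sl_af sq1008 = sq1354 :=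
  edge_flip (s0_f1319 IH)
theorem s0_f1531 : ed sl_dt sq1765 = sq1685 :=
  gap_rel s0_rot57 (path_edge (s0_f1530 IH) (path_edge (s0_f1529 IH) (path_edge (s0_f1319r IH) (path_edge (s0_f1182 IH) (path_edge (s0_f1523r IH) (path_edge (s0_f1019 IH) (path_edge (s0_f1020 IH) (path_edge (s0_f1021 IH) (path_nil sq1685)))))))))
theorem s0_f1533 : ed sl_at sq1765 = sq1647 :=
  real_edge rels S fwd inv o lvl plet idx 16 IH Gen.a sp1765 sp1647 rfl rfl
theorem s0_f1534 : ed sl_bt sq1647 = sq1768 :=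
  real_edge rels S fwd inv o lvl plet idx 16 IH Gen.b sp1647 sp1768 rfl rfl
theorem s0_f1531r : ed sl_df sq1685 = sq1765 :=
  edge_flip (s0_f1531 IH)
theorem s0_f1539 : ed sl_df sq1765 = sq1685 :=
  gap_rel s0_rot54 (path_edge (s0_f1531r IH) (path_nil sq1685))
theorem s0_f1539r : ed sl_dt sq1685 = sq1765 :=
  edge_flip (s0_f1539 IH)
theorem s0_f1542 : ed sl_at sq1769 = sq1685 :=
  gap_rel s0_rot58 (path_edge (s0_f1199 IH) (path_edge (s0_f1533 IH) (path_edge (s0_f1539r IH) (path_nil sq1685))))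
theorem s0_f696r : ed sl_af sq740 = sq506 :=
  edge_flip (s0_f696 IH)
theorem s0_f1512r : ed sl_df sq506 = sq482 :=
  edge_flip (s0_f1512 IH)
theorem s0_f1253r : ed sl_af sq482 = sq704 :=
  edge_flip (s0_f1253 IH)
theorem s0_f1549 : ed sl_df sq704 = sq740 :=
  gap_rel s0_rot51 (path_edge (s0_f1253r IH) (path_edge (s0_f1512r IH) (path_edge (s0_f696r IH) (path_nil sq740))))
theorem s0_f1569 : ed sl_bt sq418 = sq617 :=
  real_edge rels S fwd inv o lvl plet idx 16 IH Gen.b sp418 sp617 rfl rfl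
theorem s0_f1570 : ed sl_at sq617 = sq902 :=
  real_edge rels S fwd inv o lvl plet idx 16 IH Gen.a sp617 sp902 rfl rfl
theorem s0_f1574 : ed sl_ft sq418 = sq280 :=
  real_edge rels S fwd inv o lvl plet idx 16 IH Gen.f sp418 sp280 rfl rfl
theorem s0_f1575 : ed sl_ct sq280 = sq397 :=
  real_edge rels S fwd inv o lvl plet idx 16 IH Gen.c sp280 sp397 rfl rfl
theorem s0_f1585 : ed sl_ft sq872 = sq605 :=
  real_edge rels S fwd inv o lvl plet idx 16 IH Gen.f sp872 sp605 rfl rfl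
theorem s0_f1593 : ed sl_ct sq676 = sq458 :=
  real_edge rels S fwd inv o lvl plet idx 16 IH Gen.c sp676 sp458 rfl rfl
theorem s0_f1594 : ed sl_gt sq891 = sq605 :=
  real_edge rels S fwd inv o lvl plet idx 16 IH Gen.g sp891 sp605 rfl rfl
theorem s0_f1626 : ed sl_bt sq605 = sq890 :=
  real_edge rels S fwd inv o lvl plet idx 16 IH Gen.b sp605 sp890 rfl rfl
theorem s0_f1666 : ed sl_ft sq676 = sq967 :=
  real_edge rels S fwd inv o lvl plet idx 16 IH Gen.f sp676 sp967 rfl rfl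
theorem s0_f1667 : ed sl_gt sq985 = sq967 :=
  real_edge rels S fwd inv o lvl plet idx 16 IH Gen.g sp985 sp967 rfl rfl
theorem s0_f1676 : ed sl_gt sq968 = sq664 :=
  real_edge rels S fwd inv o lvl plet idx 16 IH Gen.g sp968 sp664 rfl rfl
theorem s0_f1677 : ed sl_ft sq985 = sq678 :=
  real_edge rels S fwd inv o lvl plet idx 16 IH Gen.f sp985 sp678 rfl rfl
theorem s0_f1680 : ed sl_ft sq968 = sq984 :=
  real_edge rels S fwd inv o lvl plet idx 16 IH Gen.f sp968 sp984 rfl rfl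
theorem s0_f1681 : ed sl_gt sq459 = sq678 :=
  real_edge rels S fwd inv o lvl plet idx 16 IH Gen.g sp459 sp678 rfl rfl
theorem s0_f1690 : ed sl_gt sq676 = sq984 :=
  real_edge rels S fwd inv o lvl plet idx 16 IH Gen.g sp676 sp984 rfl rfl
theorem s0_f1703 : ed sl_bt sq183 = sq287 :=
  real_edge rels S fwd inv o lvl plet idx 16 IH Gen.b sp183 sp287 rfl rfl
theorem s0_f1707 : ed sl_ct sq734 = sq502 :=
  real_edge rels S fwd inv o lvl plet idx 16 IH Gen.c sp734 sp502 rfl rfl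
theorem s0_f1709 : ed sl_ct sq403 = sq597 :=
  real_edge rels S fwd inv o lvl plet idx 16 IH Gen.c sp403 sp597 rfl rfl
theorem s0_f1716 : ed sl_bt sq489 = sq329 :=
  real_edge rels S fwd inv o lvl plet idx 16 IH Gen.b sp489 sp329 rfl rfl
theorem s0_f1718 : ed sl_dt sq1030 = sq714 :=
  real_edge rels S fwd inv o lvl plet idx 16 IH Gen.d sp1030 sp714 rfl rfl
theorem s0_f1719 : ed sl_dt sq337 = sq216 :=
  real_edge rels S fwd inv o lvl plet idx 16 IH Gen.d sp337 sp216 rfl rfl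
theorem s0_f1720 : ed sl_bt sq337 = sq498 :=
  real_edge rels S fwd inv o lvl plet idx 16 IH Gen.b sp337 sp498 rfl rfl
theorem s0_f1721 : ed sl_ct sq501 = sq337 :=
  real_edge rels S fwd inv o lvl plet idx 16 IH Gen.c sp501 sp337 rfl rfl
theorem s0_f1722 : ed sl_bt sq124 = sq193 :=
  real_edge rels S fwd inv o lvl plet idx 16 IH Gen.b sp124 sp193 rfl rfl
theorem s0_f1732 : ed sl_dt sq209 = sq329 :=
  real_edge rels S fwd inv o lvl plet idx 16 IH Gen.d sp209 sp329 rfl rfl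
theorem s0_f1735 : ed sl_dt sq713 = sq1026 :=
  real_edge rels S fwd inv o lvl plet idx 16 IH Gen.d sp713 sp1026 rfl rfl
theorem s0_f1736 : ed sl_bt sq46 = sq80 :=
  real_edge rels S fwd inv o lvl plet idx 16 IH Gen.b sp46 sp80 rfl rfl
theorem s0_f1738 : ed sl_ft sq50 = sq80 :=
  real_edge rels S fwd inv o lvl plet idx 16 IH Gen.f sp50 sp80 rfl rfl
theorem s0_f1739 : ed sl_bt sq78 = sq126 :=
  real_edge rels S fwd inv o lvl plet idx 16 IH Gen.b sp78 sp126 rfl rfl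
theorem s0_f1748 : ed sl_dt sq330 = sq489 :=
  real_edge rels S fwd inv o lvl plet idx 16 IH Gen.d sp330 sp489 rfl rfl
theorem s0_f447r : ed sl_ct sq210 = sq153 :=
  edge_flip (s0_f447 IH)
theorem s0_f1752 : ed sl_ct sq153 = sq210 :=
  gap_rel s0_rot59 (path_edge (s0_f447r IH) (path_nil sq210))
theorem s0_f1755 : ed sl_et sq153 = sq238 :=
  real_edge rels S fwd inv o lvl plet idx 16 IH Gen.e sp153 sp238 rfl rfl
theorem s0_f1756 : ed sl_et sq330 = sq210 :=
  real_edge rels S fwd inv o lvl plet idx 16 IH Gen.e sp330 sp210 rfl rfl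
theorem s0_f1757 : ed sl_ct sq238 = sq330 :=
  gap_rel s0_rot60 (path_edge (s0_f1755 IH) (path_edge (s0_f447r IH) (path_edge (s0_f1756 IH) (path_nil sq330))))
theorem s0_f1759 : ed sl_ft sq153 = sq106 :=
  real_edge rels S fwd inv o lvl plet idx 16 IH Gen.f sp153 sp106 rfl rfl
theorem s0_f1760 : ed sl_ft sq138 = sq210 :=
  real_edge rels S fwd inv o lvl plet idx 16 IH Gen.f sp138 sp210 rfl rfl
theorem s0_f1761 : ed sl_ct sq106 = sq138 :=
  gap_rel s0_rot42 (path_edge (s0_f1759 IH) (path_edge (s0_f447r IH) (path_edge (s0_f1760 IH) (path_nil sq138))))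
theorem s0_f1765 : ed sl_ft sq145 = sq95 :=
  real_edge rels S fwd inv o lvl plet idx 16 IH Gen.f sp145 sp95 rfl rfl
theorem s0_f1766 : ed sl_ct sq95 = sq69 :=
  real_edge rels S fwd inv o lvl plet idx 16 IH Gen.c sp95 sp69 rfl rfl
theorem s0_f1779 : ed sl_at sq165 = sq106 :=
  real_edge rels S fwd inv o lvl plet idx 16 IH Gen.a sp165 sp106 rfl rfl
theorem s0_f1783 : ed sl_bt sq63 = sq106 :=
  real_edge rels S fwd inv o lvl plet idx 16 IH Gen.b sp63 sp106 rfl rfl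
theorem s0_f1784 : ed sl_ct sq39 = sq63 :=
  real_edge rels S fwd inv o lvl plet idx 16 IH Gen.c sp39 sp63 rfl rfl
theorem s0_f1785 : ed sl_bt sq138 = sq89 :=
  real_edge rels S fwd inv o lvl plet idx 16 IH Gen.b sp138 sp89 rfl rfl
theorem s0_f1786 : ed sl_ct sq89 = sq55 :=
  real_edge rels S fwd inv o lvl plet idx 16 IH Gen.c sp89 sp55 rfl rfl
theorem s0_f1786r : ed sl_cf sq55 = sq89 :=
  edge_flip (s0_f1786 IH)
theorem s0_f1785r : ed sl_bf sq89 = sq138 :=
  edge_flip (s0_f1785 IH)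
theorem s0_f1761r : ed sl_cf sq138 = sq106 :=
  edge_flip (s0_f1761 IH)
theorem s0_f1783r : ed sl_bf sq106 = sq63 :=
  edge_flip (s0_f1783 IH)
theorem s0_f1784r : ed sl_cf sq63 = sq39 :=
  edge_flip (s0_f1784 IH)
theorem s0_f1787 : ed sl_bf sq39 = sq55 :=
  gap_rel s0_rot61 (path_edge (s0_f1784r IH) (path_edge (s0_f1783r IH) (path_edge (s0_f1761r IH) (path_edge (s0_f1785r IH) (path_edge (s0_f1786r IH) (path_nil sq55))))))
theorem s0_f1792 : ed sl_ct sq246 = sq159 :=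
  real_edge rels S fwd inv o lvl plet idx 16 IH Gen.c sp246 sp159 rfl rfl
theorem s0_f1797 : ed sl_gt sq166 = sq106 :=
  real_edge rels S fwd inv o lvl plet idx 16 IH Gen.g sp166 sp106 rfl rfl
theorem s0_f1798 : ed sl_gt sq138 = sq215 :=
  real_edge rels S fwd inv o lvl plet idx 16 IH Gen.g sp138 sp215 rfl rfl
theorem s0_f1798r : ed sl_gf sq215 = sq138 :=
  edge_flip (s0_f1798 IH)
theorem s0_f1797r : ed sl_gf sq106 = sq166 :=
  edge_flip (s0_f1797 IH)
theorem s0_f1799 : ed sl_cf sq166 = sq215 :=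
  gap_rel s0_rot43 (path_edge (s0_f1797r IH) (path_edge (s0_f1761r IH) (path_edge (s0_f1798r IH) (path_nil sq215))))
theorem s0_f1804 : ed sl_et sq89 = sq137 :=
  real_edge rels S fwd inv o lvl plet idx 16 IH Gen.e sp89 sp137 rfl rfl
theorem s0_f1805 : ed sl_dt sq137 = sq212 :=
  real_edge rels S fwd inv o lvl plet idx 16 IH Gen.d sp137 sp212 rfl rfl
theorem s0_f1806 : ed sl_ct sq212 = sq332 :=
  real_edge rels S fwd inv o lvl plet idx 16 IH Gen.c sp212 sp332 rfl rfl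
theorem s0_f1809 : ed sl_et sq166 = sq253 :=
  real_edge rels S fwd inv o lvl plet idx 16 IH Gen.e sp166 sp253 rfl rfl
theorem s0_f1810 : ed sl_et sq335 = sq215 :=
  real_edge rels S fwd inv o lvl plet idx 16 IH Gen.e sp335 sp215 rfl rfl
theorem s0_f1799r : ed sl_ct sq215 = sq166 :=
  edge_flip (s0_f1799 IH)
theorem s0_f1811 : ed sl_ct sq253 = sq335 :=
  gap_rel s0_rot60 (path_edge (s0_f1809 IH) (path_edge (s0_f1799r IH) (path_edge (s0_f1810 IH) (path_nil sq335))))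
theorem s0_f1811r : ed sl_cf sq335 = sq253 :=
  edge_flip (s0_f1811 IH)
theorem s0_f1814 : ed sl_cf sq253 = sq335 :=
  gap_rel s0_rot40 (path_edge (s0_f1811r IH) (path_nil sq335))
theorem s0_f1817 : ed sl_ct sq564 = sq381 :=
  real_edge rels S fwd inv o lvl plet idx 16 IH Gen.c sp564 sp381 rfl rfl
theorem s0_f1820 : ed sl_ct sq496 = sq723 :=
  real_edge rels S fwd inv o lvl plet idx 16 IH Gen.c sp496 sp723 rfl rfl
theorem s0_f1821 : ed sl_dt sq723 = sq1043 :=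
  real_edge rels S fwd inv o lvl plet idx 16 IH Gen.d sp723 sp1043 rfl rfl
theorem s0_f1825 : ed sl_bt sq723 = sq1044 :=
  real_edge rels S fwd inv o lvl plet idx 16 IH Gen.b sp723 sp1044 rfl rfl
theorem s0_f1829 : ed sl_bt sq1545 = sq1191 :=
  real_edge rels S fwd inv o lvl plet idx 16 IH Gen.b sp1545 sp1191 rfl rfl
theorem s0_f1836 : ed sl_ct sq723 = sq496 :=
  real_edge rels S fwd inv o lvl plet idx 16 IH Gen.c sp723 sp496 rfl rfl
theorem s0_f1837 : ed sl_dt sq1043 = sq723 :=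
  real_edge rels S fwd inv o lvl plet idx 16 IH Gen.d sp1043 sp723 rfl rfl
theorem s0_f1841 : ed sl_gt sq253 = sq163 :=
  real_edge rels S fwd inv o lvl plet idx 16 IH Gen.g sp253 sp163 rfl rfl
theorem s0_f1842 : ed sl_gt sq213 = sq335 :=
  real_edge rels S fwd inv o lvl plet idx 16 IH Gen.g sp213 sp335 rfl rfl
theorem s0_f1814r : ed sl_ct sq335 = sq253 :=
  edge_flip (s0_f1814 IH)
theorem s0_f1843 : ed sl_ct sq163 = sq213 :=
  gap_rel s0_rot39 (path_edge (s0_f1841 IH) (path_edge (s0_f1814r IH) (path_edge (s0_f1842 IH) (path_nil sq213))))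
theorem s0_f1850 : ed sl_et sq1395 = sq1043 :=
  real_edge rels S fwd inv o lvl plet idx 16 IH Gen.e sp1395 sp1043 rfl rfl
theorem s0_f1855 : ed sl_bt sq104 = sq163 :=
  real_edge rels S fwd inv o lvl plet idx 16 IH Gen.b sp104 sp163 rfl rfl
theorem s0_f1856 : ed sl_ct sq65 = sq104 :=
  real_edge rels S fwd inv o lvl plet idx 16 IH Gen.c sp65 sp104 rfl rfl
theorem s0_f1857 : ed sl_bt sq213 = sq137 :=
  real_edge rels S fwd inv o lvl plet idx 16 IH Gen.b sp213 sp137 rfl rfl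
theorem s0_f1858 : ed sl_ct sq137 = sq90 :=
  real_edge rels S fwd inv o lvl plet idx 16 IH Gen.c sp137 sp90 rfl rfl
theorem s0_f1858r : ed sl_cf sq90 = sq137 :=
  edge_flip (s0_f1858 IH)
theorem s0_f1857r : ed sl_bf sq137 = sq213 :=
  edge_flip (s0_f1857 IH)
theorem s0_f1843r : ed sl_cf sq213 = sq163 :=
  edge_flip (s0_f1843 IH)
theorem s0_f1855r : ed sl_bf sq163 = sq104 :=
  edge_flip (s0_f1855 IH)
theorem s0_f1856r : ed sl_cf sq104 = sq65 :=
  edge_flip (s0_f1856 IH)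
theorem s0_f1859 : ed sl_bf sq65 = sq90 :=
  gap_rel s0_rot61 (path_edge (s0_f1856r IH) (path_edge (s0_f1855r IH) (path_edge (s0_f1843r IH) (path_edge (s0_f1857r IH) (path_edge (s0_f1858r IH) (path_nil sq90))))))
theorem s0_f1861 : ed sl_dt sq250 = sq163 :=
  real_edge rels S fwd inv o lvl plet idx 16 IH Gen.d sp250 sp163 rfl rfl
theorem s0_f1862 : ed sl_ct sq380 = sq250 :=
  real_edge rels S fwd inv o lvl plet idx 16 IH Gen.c sp380 sp250 rfl rfl
theorem s0_f1863 : ed sl_dt sq563 = sq380 :=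
  real_edge rels S fwd inv o lvl plet idx 16 IH Gen.d sp563 sp380 rfl rfl
theorem s0_f1864 : ed sl_ct sq828 = sq563 :=
  real_edge rels S fwd inv o lvl plet idx 16 IH Gen.c sp828 sp563 rfl rfl
theorem s0_f1865 : ed sl_dt sq213 = sq333 :=
  real_edge rels S fwd inv o lvl plet idx 16 IH Gen.d sp213 sp333 rfl rfl
theorem s0_f1866 : ed sl_ct sq333 = sq495 :=
  real_edge rels S fwd inv o lvl plet idx 16 IH Gen.c sp333 sp495 rfl rfl
theorem s0_f1867 : ed sl_dt sq495 = sq722 :=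
  real_edge rels S fwd inv o lvl plet idx 16 IH Gen.d sp495 sp722 rfl rfl
theorem s0_f1869 : ed sl_et sq213 = sq138 :=
  real_edge rels S fwd inv o lvl plet idx 16 IH Gen.e sp213 sp138 rfl rfl
theorem s0_f1871 : ed sl_ft sq213 = sq330 :=
  real_edge rels S fwd inv o lvl plet idx 16 IH Gen.f sp213 sp330 rfl rfl
theorem s0_f1872 : ed sl_at sq334 = sq213 :=
  real_edge rels S fwd inv o lvl plet idx 16 IH Gen.a sp334 sp213 rfl rfl
theorem s0_f1873 : ed sl_dt sq334 = sq494 :=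
  real_edge rels S fwd inv o lvl plet idx 16 IH Gen.d sp334 sp494 rfl rfl
theorem s0_f1874 : ed sl_ct sq494 = sq721 :=
  real_edge rels S fwd inv o lvl plet idx 16 IH Gen.c sp494 sp721 rfl rfl
theorem s0_f1874r : ed sl_cf sq721 = sq494 :=
  edge_flip (s0_f1874 IH)
theorem s0_f1873r : ed sl_df sq494 = sq334 :=
  edge_flip (s0_f1873 IH)
theorem s0_f1861r : ed sl_df sq163 = sq250 :=
  edge_flip (s0_f1861 IH)
theorem s0_f1862r : ed sl_cf sq250 = sq380 :=
  edge_flip (s0_f1862 IH)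
theorem s0_f1863r : ed sl_df sq380 = sq563 :=
  edge_flip (s0_f1863 IH)
theorem s0_f1864r : ed sl_cf sq563 = sq828 :=
  edge_flip (s0_f1864 IH)
theorem s0_f1875 : ed sl_df sq828 = sq721 :=
  gap_rel s0_rot62 (path_edge (s0_f1864r IH) (path_edge (s0_f1863r IH) (path_edge (s0_f1862r IH) (path_edge (s0_f1861r IH) (path_edge (s0_f1843r IH) (path_edge (s0_f1872 IH) (path_edge (s0_f1873r IH) (path_edge (s0_f1874r IH) (path_nil sq721)))))))))
theorem s0_f1877 : ed sl_at sq250 = sq379 :=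
  real_edge rels S fwd inv o lvl plet idx 16 IH Gen.a sp250 sp379 rfl rfl
theorem s0_f1878 : ed sl_ct sq562 = sq379 :=
  real_edge rels S fwd inv o lvl plet idx 16 IH Gen.c sp562 sp379 rfl rfl
theorem s0_f1879 : ed sl_dt sq827 = sq562 :=
  real_edge rels S fwd inv o lvl plet idx 16 IH Gen.d sp827 sp562 rfl rfl
theorem s0_f1867r : ed sl_df sq722 = sq495 :=
  edge_flip (s0_f1867 IH)
theorem s0_f1866r : ed sl_cf sq495 = sq333 :=
  edge_flip (s0_f1866 IH)
theorem s0_f1865r : ed sl_df sq333 = sq213 :=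
  edge_flip (s0_f1865 IH)
theorem s0_f1878r : ed sl_cf sq379 = sq562 :=
  edge_flip (s0_f1878 IH)
theorem s0_f1879r : ed sl_df sq562 = sq827 :=
  edge_flip (s0_f1879 IH)
theorem s0_f1880 : ed sl_cf sq827 = sq722 :=
  gap_rel s0_rot63 (path_edge (s0_f1879r IH) (path_edge (s0_f1878r IH) (path_edge (s0_f1877 IH) (path_edge (s0_f1861r IH) (path_edge (s0_f1843r IH) (path_edge (s0_f1865r IH) (path_edge (s0_f1866r IH) (path_edge (s0_f1867r IH) (path_nil sq722)))))))))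
theorem s0_f1883 : ed sl_at sq721 = sq495 :=
  real_edge rels S fwd inv o lvl plet idx 16 IH Gen.a sp721 sp495 rfl rfl
theorem s0_f1884 : ed sl_at sq366 = sq238 :=
  real_edge rels S fwd inv o lvl plet idx 16 IH Gen.a sp366 sp238 rfl rfl
theorem s0_f1887 : ed sl_ct sq370 = sq244 :=
  real_edge rels S fwd inv o lvl plet idx 16 IH Gen.c sp370 sp244 rfl rfl
theorem s0_f1888 : ed sl_dt sq544 = sq370 :=
  real_edge rels S fwd inv o lvl plet idx 16 IH Gen.d sp544 sp370 rfl rfl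
theorem s0_f1894 : ed sl_bt sq161 = sq250 :=
  real_edge rels S fwd inv o lvl plet idx 16 IH Gen.b sp161 sp250 rfl rfl
theorem s0_f1898 : ed sl_at sq827 = sq563 :=
  real_edge rels S fwd inv o lvl plet idx 16 IH Gen.a sp827 sp563 rfl rfl
theorem s0_f1899 : ed sl_ct sq563 = sq828 :=
  real_edge rels S fwd inv o lvl plet idx 16 IH Gen.c sp563 sp828 rfl rfl
theorem s0_f1880r : ed sl_ct sq722 = sq827 :=
  edge_flip (s0_f1880 IH)
theorem s0_f1900 : ed sl_at sq828 = sq722 :=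
  gap_rel s0_rot64 (path_edge (s0_f1899 IH) (path_edge (s0_f1898 IH) (path_edge (s0_f1880r IH) (path_nil sq722))))
theorem s0_f1914 : ed sl_et sq1042 = sq722 :=
  real_edge rels S fwd inv o lvl plet idx 16 IH Gen.e sp1042 sp722 rfl rfl
theorem s0_f1917 : ed sl_ft sq827 = sq1124 :=
  real_edge rels S fwd inv o lvl plet idx 16 IH Gen.f sp827 sp1124 rfl rfl
theorem s0_f1918 : ed sl_ft sq1030 = sq722 :=
  real_edge rels S fwd inv o lvl plet idx 16 IH Gen.f sp1030 sp722 rfl rfl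
theorem s0_f1919 : ed sl_ct sq1124 = sq1030 :=
  gap_rel s0_rot42 (path_edge (s0_f1917 IH) (path_edge (s0_f1880r IH) (path_edge (s0_f1918 IH) (path_nil sq1030))))
theorem s0_f1922 : ed sl_at sq495 = sq721 :=
  real_edge rels S fwd inv o lvl plet idx 16 IH Gen.a sp495 sp721 rfl rfl
theorem s0_f1925 : ed sl_et sq1186 = sq1540 :=
  real_edge rels S fwd inv o lvl plet idx 16 IH Gen.e sp1186 sp1540 rfl rfl
theorem s0_f1927 : ed sl_ct sq90 = sq137 :=
  real_edge rels S fwd inv o lvl plet idx 16 IH Gen.c sp90 sp137 rfl rfl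
theorem s0_f1929 : ed sl_dt sq212 = sq137 :=
  real_edge rels S fwd inv o lvl plet idx 16 IH Gen.d sp212 sp137 rfl rfl
theorem s0_f1930 : ed sl_bt sq333 = sq212 :=
  real_edge rels S fwd inv o lvl plet idx 16 IH Gen.b sp333 sp212 rfl rfl
theorem s0_f1936 : ed sl_bt sq379 = sq561 :=
  real_edge rels S fwd inv o lvl plet idx 16 IH Gen.b sp379 sp561 rfl rfl
theorem s0_f1937 : ed sl_bt sq719 = sq495 :=
  real_edge rels S fwd inv o lvl plet idx 16 IH Gen.b sp719 sp495 rfl rfl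
theorem s0_f1938 : ed sl_ct sq493 = sq719 :=
  real_edge rels S fwd inv o lvl plet idx 16 IH Gen.c sp493 sp719 rfl rfl
theorem s0_f1940 : ed sl_ct sq826 = sq1183 :=
  real_edge rels S fwd inv o lvl plet idx 16 IH Gen.c sp826 sp1183 rfl rfl
theorem s0_f1943 : ed sl_ct sq55 = sq89 :=
  real_edge rels S fwd inv o lvl plet idx 16 IH Gen.c sp55 sp89 rfl rfl
theorem s0_f1944 : ed sl_dt sq32 = sq55 :=
  real_edge rels S fwd inv o lvl plet idx 16 IH Gen.d sp32 sp55 rfl rfl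
theorem s0_f1946 : ed sl_dt sq39 = sq21 :=
  real_edge rels S fwd inv o lvl plet idx 16 IH Gen.d sp39 sp21 rfl rfl
theorem s0_f1947 : ed sl_at sq784 = sq1124 :=
  real_edge rels S fwd inv o lvl plet idx 16 IH Gen.a sp784 sp1124 rfl rfl
theorem s0_f1953 : ed sl_ct sq537 = sq783 :=
  real_edge rels S fwd inv o lvl plet idx 16 IH Gen.c sp537 sp783 rfl rfl
theorem s0_f1959 : ed sl_et sq1471 = sq1124 :=
  real_edge rels S fwd inv o lvl plet idx 16 IH Gen.e sp1471 sp1124 rfl rfl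
theorem s0_f1960 : ed sl_et sq1030 = sq1382 :=
  real_edge rels S fwd inv o lvl plet idx 16 IH Gen.e sp1030 sp1382 rfl rfl
theorem s0_f1960r : ed sl_ef sq1382 = sq1030 :=
  edge_flip (s0_f1960 IH)
theorem s0_f1919r : ed sl_cf sq1030 = sq1124 :=
  edge_flip (s0_f1919 IH)
theorem s0_f1959r : ed sl_ef sq1124 = sq1471 :=
  edge_flip (s0_f1959 IH)
theorem s0_f1961 : ed sl_cf sq1471 = sq1382 :=
  gap_rel s0_rot38 (path_edge (s0_f1959r IH) (path_edge (s0_f1919r IH) (path_edge (s0_f1960r IH) (path_nil sq1382))))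
theorem s0_f1963 : ed sl_gt sq1193 = sq1124 :=
  real_edge rels S fwd inv o lvl plet idx 16 IH Gen.g sp1193 sp1124 rfl rfl
theorem s0_f1961r : ed sl_ct sq1382 = sq1471 :=
  edge_flip (s0_f1961 IH)
theorem s0_f1973 : ed sl_ct sq1471 = sq1382 :=
  gap_rel s0_rot59 (path_edge (s0_f1961r IH) (path_nil sq1382))
theorem s0_f1986 : ed sl_ft sq1189 = sq1471 :=
  real_edge rels S fwd inv o lvl plet idx 16 IH Gen.f sp1189 sp1471 rfl rfl
theorem s0_f1987 : ed sl_ft sq1382 = sq1042 :=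
  real_edge rels S fwd inv o lvl plet idx 16 IH Gen.f sp1382 sp1042 rfl rfl
theorem s0_f1987r : ed sl_ff sq1042 = sq1382 :=
  edge_flip (s0_f1987 IH)
theorem s0_f1973r : ed sl_cf sq1382 = sq1471 :=
  edge_flip (s0_f1973 IH)
theorem s0_f1986r : ed sl_ff sq1471 = sq1189 :=
  edge_flip (s0_f1986 IH)
theorem s0_f1988 : ed sl_cf sq1189 = sq1042 :=
  gap_rel s0_rot65 (path_edge (s0_f1986r IH) (path_edge (s0_f1973r IH) (path_edge (s0_f1987r IH) (path_nil sq1042))))
theorem s0_f1993 : ed sl_at sq1189 = sq829 :=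
  real_edge rels S fwd inv o lvl plet idx 16 IH Gen.a sp1189 sp829 rfl rfl
theorem s0_f1994 : ed sl_ct sq829 = sq1190 :=
  real_edge rels S fwd inv o lvl plet idx 16 IH Gen.c sp829 sp1190 rfl rfl
theorem s0_f1988r : ed sl_ct sq1042 = sq1189 :=
  edge_flip (s0_f1988 IH)
theorem s0_f1995 : ed sl_at sq1190 = sq1042 :=
  gap_rel s0_rot64 (path_edge (s0_f1994 IH) (path_edge (s0_f1993 IH) (path_edge (s0_f1988r IH) (path_nil sq1042))))
theorem s0_f1997 : ed sl_bt sq1189 = sq1540 :=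
  real_edge rels S fwd inv o lvl plet idx 16 IH Gen.b sp1189 sp1540 rfl rfl
theorem s0_f2002 : ed sl_gt sq1395 = sq1042 :=
  real_edge rels S fwd inv o lvl plet idx 16 IH Gen.g sp1395 sp1042 rfl rfl
theorem s0_f1995r : ed sl_af sq1042 = sq1190 :=
  edge_flip (s0_f1995 IH)
theorem s0_f2005 : ed sl_af sq1190 = sq1042 :=
  gap_rel s0_rot66 (path_edge (s0_f1995r IH) (path_nil sq1042))
theorem s0_f2008 : ed sl_et sq828 = sq1190 :=
  real_edge rels S fwd inv o lvl plet idx 16 IH Gen.e sp828 sp1190 rfl rfl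
theorem s0_f1914r : ed sl_ef sq722 = sq1042 :=
  edge_flip (s0_f1914 IH)
theorem s0_f2008r : ed sl_ef sq1190 = sq828 :=
  edge_flip (s0_f2008 IH)
theorem s0_f2009 : ed sl_af sq828 = sq722 :=
  gap_rel s0_rot67 (path_edge (s0_f2008r IH) (path_edge (s0_f1995r IH) (path_edge (s0_f1914r IH) (path_nil sq722))))
theorem s0_f2009r : ed sl_at sq722 = sq828 :=
  edge_flip (s0_f2009 IH)
theorem s0_f2012 : ed sl_dt sq828 = sq721 :=
  gap_rel s0_rot53 (path_edge (s0_f2009r IH) (path_edge (s0_f1867 IH) (path_edge (s0_f1883 IH) (path_nil sq721))))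
theorem s0_f2017 : ed sl_dt sq333 = sq213 :=
  real_edge rels S fwd inv o lvl plet idx 16 IH Gen.d sp333 sp213 rfl rfl
theorem s0_f2018 : ed sl_gt sq722 = sq1043 :=
  real_edge rels S fwd inv o lvl plet idx 16 IH Gen.g sp722 sp1043 rfl rfl
theorem s0_f2022 : ed sl_ct sq721 = sq494 :=
  real_edge rels S fwd inv o lvl plet idx 16 IH Gen.c sp721 sp494 rfl rfl
theorem s0_f2027 : ed sl_bt sq252 = sq383 :=
  real_edge rels S fwd inv o lvl plet idx 16 IH Gen.b sp252 sp383 rfl rfl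
theorem s0_f2028 : ed sl_dt sq383 = sq561 :=
  real_edge rels S fwd inv o lvl plet idx 16 IH Gen.d sp383 sp561 rfl rfl
theorem s0_f2029 : ed sl_ct sq561 = sq825 :=
  real_edge rels S fwd inv o lvl plet idx 16 IH Gen.c sp561 sp825 rfl rfl
theorem s0_f2030 : ed sl_dt sq825 = sq1184 :=
  real_edge rels S fwd inv o lvl plet idx 16 IH Gen.d sp825 sp1184 rfl rfl
theorem s0_f2031 : ed sl_et sq546 = sq380 :=
  real_edge rels S fwd inv o lvl plet idx 16 IH Gen.e sp546 sp380 rfl rfl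
theorem s0_f2040 : ed sl_dt sq1147 = sq829 :=
  real_edge rels S fwd inv o lvl plet idx 16 IH Gen.d sp1147 sp829 rfl rfl
theorem s0_f2047 : ed sl_dt sq363 = sq238 :=
  real_edge rels S fwd inv o lvl plet idx 16 IH Gen.d sp363 sp238 rfl rfl
theorem s0_f2049 : ed sl_dt sq784 = sq538 :=
  real_edge rels S fwd inv o lvl plet idx 16 IH Gen.d sp784 sp538 rfl rfl
theorem s0_f2052 : ed sl_gt sq1124 = sq1193 :=
  real_edge rels S fwd inv o lvl plet idx 16 IH Gen.g sp1124 sp1193 rfl rfl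
theorem s0_f2053 : ed sl_at sq363 = sq537 :=
  real_edge rels S fwd inv o lvl plet idx 16 IH Gen.a sp363 sp537 rfl rfl
theorem s0_f2055 : ed sl_bt sq735 = sq502 :=
  real_edge rels S fwd inv o lvl plet idx 16 IH Gen.b sp735 sp502 rfl rfl
theorem s0_f2067 : ed sl_ft sq366 = sq252 :=
  real_edge rels S fwd inv o lvl plet idx 16 IH Gen.f sp366 sp252 rfl rfl
theorem s0_f2069 : ed sl_at sq238 = sq366 :=
  real_edge rels S fwd inv o lvl plet idx 16 IH Gen.a sp238 sp366 rfl rfl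
theorem s0_f2070 : ed sl_bt sq151 = sq238 :=
  real_edge rels S fwd inv o lvl plet idx 16 IH Gen.b sp151 sp238 rfl rfl
theorem s0_f2075 : ed sl_dt sq1184 = sq825 :=
  real_edge rels S fwd inv o lvl plet idx 16 IH Gen.d sp1184 sp825 rfl rfl
theorem s0_f2082 : ed sl_at sq494 = sq333 :=
  real_edge rels S fwd inv o lvl plet idx 16 IH Gen.a sp494 sp333 rfl rfl
theorem s0_f2083 : ed sl_bt sq255 = sq165 :=
  real_edge rels S fwd inv o lvl plet idx 16 IH Gen.b sp255 sp165 rfl rfl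
theorem s0_f2094 : ed sl_dt sq826 = sq1186 :=
  real_edge rels S fwd inv o lvl plet idx 16 IH Gen.d sp826 sp1186 rfl rfl
theorem s0_f2095 : ed sl_bt sq563 = sq816 :=
  real_edge rels S fwd inv o lvl plet idx 16 IH Gen.b sp563 sp816 rfl rfl
theorem s0_f2096 : ed sl_et sq816 = sq1168 :=
  real_edge rels S fwd inv o lvl plet idx 16 IH Gen.e sp816 sp1168 rfl rfl
theorem s0_f2101 : ed sl_dt sq244 = sq158 :=
  real_edge rels S fwd inv o lvl plet idx 16 IH Gen.d sp244 sp158 rfl rfl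
theorem s0_f2105 : ed sl_ct sq104 = sq65 :=
  real_edge rels S fwd inv o lvl plet idx 16 IH Gen.c sp104 sp65 rfl rfl
theorem s0_f1859r : ed sl_bt sq90 = sq65 :=
  edge_flip (s0_f1859 IH)
theorem s0_f2111 : ed sl_bt sq65 = sq90 :=
  gap_rel s0_rot68 (path_edge (s0_f1859r IH) (path_nil sq90))
theorem s0_f2113 : ed sl_et sq65 = sq39 :=
  real_edge rels S fwd inv o lvl plet idx 16 IH Gen.e sp65 sp39 rfl rfl
theorem s0_f2114 : ed sl_et sq55 = sq90 :=
  real_edge rels S fwd inv o lvl plet idx 16 IH Gen.e sp55 sp90 rfl rfl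
theorem s0_f2115 : ed sl_ft sq65 = sq38 :=
  real_edge rels S fwd inv o lvl plet idx 16 IH Gen.f sp65 sp38 rfl rfl
theorem s0_f2116 : ed sl_bt sq38 = sq24 :=
  real_edge rels S fwd inv o lvl plet idx 16 IH Gen.b sp38 sp24 rfl rfl
theorem s0_f2120 : ed sl_ct sq332 = sq212 :=
  real_edge rels S fwd inv o lvl plet idx 16 IH Gen.c sp332 sp212 rfl rfl
theorem s0_f2121 : ed sl_dt sq104 = sq161 :=
  real_edge rels S fwd inv o lvl plet idx 16 IH Gen.d sp104 sp161 rfl rfl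
theorem s0_f2122 : ed sl_ct sq161 = sq248 :=
  real_edge rels S fwd inv o lvl plet idx 16 IH Gen.c sp161 sp248 rfl rfl
theorem s0_f2131 : ed sl_ft sq38 = sq65 :=
  real_edge rels S fwd inv o lvl plet idx 16 IH Gen.f sp38 sp65 rfl rfl
theorem s0_f2132 : ed sl_ft sq90 = sq54 :=
  real_edge rels S fwd inv o lvl plet idx 16 IH Gen.f sp90 sp54 rfl rfl
theorem s0_f2134 : ed sl_gt sq66 = sq38 :=
  real_edge rels S fwd inv o lvl plet idx 16 IH Gen.g sp66 sp38 rfl rfl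
theorem s0_f2135 : ed sl_bt sq66 = sq66 :=
  real_edge rels S fwd inv o lvl plet idx 16 IH Gen.b sp66 sp66 rfl rfl
theorem s0_f2136 : ed sl_ft sq108 = sq66 :=
  real_edge rels S fwd inv o lvl plet idx 16 IH Gen.f sp108 sp66 rfl rfl
theorem s0_f2137 : ed sl_gt sq94 = sq108 :=
  real_edge rels S fwd inv o lvl plet idx 16 IH Gen.g sp94 sp108 rfl rfl
theorem s0_f2141 : ed sl_bt sq332 = sq493 :=
  real_edge rels S fwd inv o lvl plet idx 16 IH Gen.b sp332 sp493 rfl rfl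
theorem s0_f2149 : ed sl_bt sq98 = sq153 :=
  real_edge rels S fwd inv o lvl plet idx 16 IH Gen.b sp98 sp153 rfl rfl
theorem s0_f2152 : ed sl_ft sq256 = sq166 :=
  real_edge rels S fwd inv o lvl plet idx 16 IH Gen.f sp256 sp166 rfl rfl
theorem s0_f2156 : ed sl_ft sq330 = sq213 :=
  real_edge rels S fwd inv o lvl plet idx 16 IH Gen.f sp330 sp213 rfl rfl
theorem s0_f2157 : ed sl_et sq104 = sq63 :=
  real_edge rels S fwd inv o lvl plet idx 16 IH Gen.e sp104 sp63 rfl rfl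
theorem s0_f2165 : ed sl_bt sq106 = sq63 :=
  real_edge rels S fwd inv o lvl plet idx 16 IH Gen.b sp106 sp63 rfl rfl
theorem s0_f2166 : ed sl_ct sq63 = sq39 :=
  real_edge rels S fwd inv o lvl plet idx 16 IH Gen.c sp63 sp39 rfl rfl
theorem s0_f2167 : ed sl_ft sq106 = sq153 :=
  real_edge rels S fwd inv o lvl plet idx 16 IH Gen.f sp106 sp153 rfl rfl
theorem s0_f2170 : ed sl_at sq39 = sq59 :=
  real_edge rels S fwd inv o lvl plet idx 16 IH Gen.a sp39 sp59 rfl rfl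
theorem s0_f1787r : ed sl_bt sq55 = sq39 :=
  edge_flip (s0_f1787 IH)
theorem s0_f2171 : ed sl_bt sq21 = sq32 :=
  gap_rel s0_rot69 (path_edge (s0_f1946 IH) (path_edge (s0_f1787r IH) (path_edge (s0_f1944 IH) (path_nil sq32))))
theorem s0_f2173 : ed sl_ft sq39 = sq20 :=
  real_edge rels S fwd inv o lvl plet idx 16 IH Gen.f sp39 sp20 rfl rfl
theorem s0_f2174 : ed sl_bt sq20 = sq12 :=
  real_edge rels S fwd inv o lvl plet idx 16 IH Gen.b sp20 sp12 rfl rfl
theorem s0_f2178 : ed sl_at sq36 = sq21 :=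
  real_edge rels S fwd inv o lvl plet idx 16 IH Gen.a sp36 sp21 rfl rfl
theorem s0_f2171r : ed sl_bf sq32 = sq21 :=
  edge_flip (s0_f2171 IH)
theorem s0_f2179 : ed sl_bf sq21 = sq32 :=
  gap_rel s0_rot44 (path_edge (s0_f2171r IH) (path_nil sq32))
theorem s0_f2183 : ed sl_ft sq11 = sq21 :=
  real_edge rels S fwd inv o lvl plet idx 16 IH Gen.f sp11 sp21 rfl rfl
theorem s0_f2184 : ed sl_bt sq17 = sq10 :=
  real_edge rels S fwd inv o lvl plet idx 16 IH Gen.b sp17 sp10 rfl rfl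
theorem s0_f2184r : ed sl_bf sq10 = sq17 :=
  edge_flip (s0_f2184 IH)
theorem s0_f68r : ed sl_ff sq17 = sq32 :=
  edge_flip (s0_f68 IH)
theorem s0_f2183r : ed sl_ff sq21 = sq11 :=
  edge_flip (s0_f2183 IH)
theorem s0_f69r : ed sl_bf sq11 = sq7 :=
  edge_flip (s0_f69 IH)
theorem s0_f2185 : ed sl_ff sq7 = sq10 :=
  gap_rel s0_rot70 (path_edge (s0_f69r IH) (path_edge (s0_f2183r IH) (path_edge (s0_f2171r IH) (path_edge (s0_f68r IH) (path_edge (s0_f2184r IH) (path_nil sq10))))))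
theorem s0_f2187 : ed sl_ft sq17 = sq32 :=
  real_edge rels S fwd inv o lvl plet idx 16 IH Gen.f sp17 sp32 rfl rfl
theorem s0_f2188 : ed sl_gt sq22 = sq11 :=
  real_edge rels S fwd inv o lvl plet idx 16 IH Gen.g sp22 sp11 rfl rfl
theorem s0_f2189 : ed sl_bt sq22 = sq22 :=
  real_edge rels S fwd inv o lvl plet idx 16 IH Gen.b sp22 sp22 rfl rfl
theorem s0_f2190 : ed sl_ft sq41 = sq22 :=
  real_edge rels S fwd inv o lvl plet idx 16 IH Gen.f sp41 sp22 rfl rfl
theorem s0_f2191 : ed sl_gt sq36 = sq41 :=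
  real_edge rels S fwd inv o lvl plet idx 16 IH Gen.g sp36 sp41 rfl rfl
theorem s0_f2195 : ed sl_gt sq4 = sq4 :=
  real_edge rels S fwd inv o lvl plet idx 16 IH Gen.g sp4 sp4 rfl rfl
theorem s0_f2196 : ed sl_at sq4 = sq7 :=
  real_edge rels S fwd inv o lvl plet idx 16 IH Gen.a sp4 sp7 rfl rfl
theorem s0_f2197 : ed sl_bt sq4 = sq4 :=
  real_edge rels S fwd inv o lvl plet idx 16 IH Gen.b sp4 sp4 rfl rfl
theorem s0_f2198 : ed sl_bt sq9 = sq16 :=
  real_edge rels S fwd inv o lvl plet idx 16 IH Gen.b sp9 sp16 rfl rfl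
theorem s0_f2199 : ed sl_ft sq16 = sq16 :=
  real_edge rels S fwd inv o lvl plet idx 16 IH Gen.f sp16 sp16 rfl rfl
theorem s0_f2185r : ed sl_ft sq10 = sq7 :=
  edge_flip (s0_f2185 IH)
theorem s0_f2200 : ed sl_at sq16 = sq16 :=
  gap_rel s0_rot71 (path_edge (s0_f2198 IH) (path_edge (s0_f37 IH) (path_edge (s0_f19 IH) (path_edge (s0_f21 IH) (path_edge (s0_f29 IH) (path_edge (s0_f48 IH) (path_edge (s0_f173 IH) (path_edge (s0_f2196 IH) (path_edge (s0_f2197 IH) (path_edge (s0_f16 IH) (path_edge (s0_f27 IH) (path_edge (s0_f28r IH) (path_eq (s0_f41 IH) (path_edge (s0_f22 IH) (path_edge (s0_f30 IH) (path_edge (s0_f2185r IH) (path_edge (s0_f94 IH) (path_edge (s0_f110 IH) (path_edge (s0_f111 IH) (path_edge (s0_f2199 IH) (path_nil sq16)))))))))))))))))))))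
theorem s0_f2202 : ed sl_gt sq11 = sq22 :=
  real_edge rels S fwd inv o lvl plet idx 16 IH Gen.g sp11 sp22 rfl rfl
theorem s0_f2203 : ed sl_ft sq22 = sq41 :=
  real_edge rels S fwd inv o lvl plet idx 16 IH Gen.f sp22 sp41 rfl rfl
theorem s0_f2204 : ed sl_bt sq41 = sq68 :=
  real_edge rels S fwd inv o lvl plet idx 16 IH Gen.b sp41 sp68 rfl rfl
theorem s0_f2205 : ed sl_gt sq30 = sq16 :=
  real_edge rels S fwd inv o lvl plet idx 16 IH Gen.g sp30 sp16 rfl rfl
theorem s0_f2206 : ed sl_bt sq10 = sq17 :=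
  real_edge rels S fwd inv o lvl plet idx 16 IH Gen.b sp10 sp17 rfl rfl
theorem s0_f2207 : ed sl_dt sq16 = sq29 :=
  real_edge rels S fwd inv o lvl plet idx 16 IH Gen.d sp16 sp29 rfl rfl
theorem s0_f2207r : ed sl_df sq29 = sq16 :=
  edge_flip (s0_f2207 IH)
theorem s0_f2200r : ed sl_af sq16 = sq16 :=
  edge_flip (s0_f2200 IH)
theorem s0_f112r : ed sl_df sq16 = sq29 :=
  edge_flip (s0_f112 IH)
theorem s0_f2208 : ed sl_af sq29 = sq29 :=
  gap_rel s0_rot72 (path_edge (s0_f112r IH) (path_edge (s0_f2200r IH) (path_edge (s0_f2207r IH) (path_nil sq29))))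
theorem s0_f2211 : ed sl_gt sq16 = sq30 :=
  real_edge rels S fwd inv o lvl plet idx 16 IH Gen.g sp16 sp30 rfl rfl
theorem s0_f2214 : ed sl_ct sq29 = sq52 :=
  real_edge rels S fwd inv o lvl plet idx 16 IH Gen.c sp29 sp52 rfl rfl
theorem s0_f2215 : ed sl_ft sq30 = sq30 :=
  gap_rel s0_rot73 (path_edge (s0_f2211 IH) (path_edge (s0_f2200r IH) (path_edge (s0_f2199 IH) (path_edge (s0_f2205 IH) (path_nil sq30)))))
theorem s0_f2208r : ed sl_at sq29 = sq29 :=
  edge_flip (s0_f2208 IH)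
theorem s0_f2219 : ed sl_at sq52 = sq52 :=
  gap_rel s0_rot64 (path_edge (s0_f2214 IH) (path_edge (s0_f2208r IH) (path_edge (s0_f113 IH) (path_nil sq52))))
theorem s0_f2226 : ed sl_bt sq42 = sq23 :=
  real_edge rels S fwd inv o lvl plet idx 16 IH Gen.b sp42 sp23 rfl rfl
theorem s0_f2227 : ed sl_ct sq60 = sq42 :=
  real_edge rels S fwd inv o lvl plet idx 16 IH Gen.c sp60 sp42 rfl rfl
theorem s0_f2238 : ed sl_at sq21 = sq36 :=
  real_edge rels S fwd inv o lvl plet idx 16 IH Gen.a sp21 sp36 rfl rfl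
theorem s0_f2240 : ed sl_ft sq36 = sq19 :=
  real_edge rels S fwd inv o lvl plet idx 16 IH Gen.f sp36 sp19 rfl rfl
theorem s0_f2241 : ed sl_at sq19 = sq11 :=
  real_edge rels S fwd inv o lvl plet idx 16 IH Gen.a sp19 sp11 rfl rfl
theorem s0_f2242 : ed sl_dt sq102 = sq63 :=
  real_edge rels S fwd inv o lvl plet idx 16 IH Gen.d sp102 sp63 rfl rfl
theorem s0_f2246 : ed sl_ct sq372 = sq245 :=
  real_edge rels S fwd inv o lvl plet idx 16 IH Gen.c sp372 sp245 rfl rfl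
theorem s0_f2248 : ed sl_ct sq803 = sq547 :=
  real_edge rels S fwd inv o lvl plet idx 16 IH Gen.c sp803 sp547 rfl rfl
theorem s0_f2250 : ed sl_bt sq165 = sq255 :=
  real_edge rels S fwd inv o lvl plet idx 16 IH Gen.b sp165 sp255 rfl rfl
theorem s0_f2251 : ed sl_ft sq165 = sq241 :=
  real_edge rels S fwd inv o lvl plet idx 16 IH Gen.f sp165 sp241 rfl rfl
theorem s0_f2277 : ed sl_et sq238 = sq153 :=
  real_edge rels S fwd inv o lvl plet idx 16 IH Gen.e sp238 sp153 rfl rfl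
theorem s0_f2280 : ed sl_bt sq148 = sq232 :=
  real_edge rels S fwd inv o lvl plet idx 16 IH Gen.b sp148 sp232 rfl rfl
theorem s0_f2281 : ed sl_et sq135 = sq209 :=
  real_edge rels S fwd inv o lvl plet idx 16 IH Gen.e sp135 sp209 rfl rfl
theorem s0_f2283 : ed sl_bt sq409 = sq272 :=
  real_edge rels S fwd inv o lvl plet idx 16 IH Gen.b sp409 sp272 rfl rfl
theorem s0_f2284 : ed sl_gt sq272 = sq175 :=
  real_edge rels S fwd inv o lvl plet idx 16 IH Gen.g sp272 sp175 rfl rfl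
theorem s0_f2287 : ed sl_ft sq409 = sq610 :=
  real_edge rels S fwd inv o lvl plet idx 16 IH Gen.f sp409 sp610 rfl rfl
theorem s0_f2288 : ed sl_at sq276 = sq179 :=
  real_edge rels S fwd inv o lvl plet idx 16 IH Gen.a sp276 sp179 rfl rfl
theorem s0_f2289 : ed sl_bt sq116 = sq179 :=
  real_edge rels S fwd inv o lvl plet idx 16 IH Gen.b sp116 sp179 rfl rfl
theorem s0_f2291 : ed sl_bt sq219 = sq141 :=
  real_edge rels S fwd inv o lvl plet idx 16 IH Gen.b sp219 sp141 rfl rfl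
theorem s0_f2292 : ed sl_ct sq277 = sq179 :=
  real_edge rels S fwd inv o lvl plet idx 16 IH Gen.c sp277 sp179 rfl rfl
theorem s0_f2293 : ed sl_dt sq129 = sq179 :=
  real_edge rels S fwd inv o lvl plet idx 16 IH Gen.d sp129 sp179 rfl rfl
theorem s0_f2294 : ed sl_ft sq112 = sq116 :=
  real_edge rels S fwd inv o lvl plet idx 16 IH Gen.f sp112 sp116 rfl rfl
theorem s0_f2295 : ed sl_gt sq69 = sq112 :=
  real_edge rels S fwd inv o lvl plet idx 16 IH Gen.g sp69 sp112 rfl rfl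
theorem s0_f2300 : ed sl_ft sq610 = sq409 :=
  real_edge rels S fwd inv o lvl plet idx 16 IH Gen.f sp610 sp409 rfl rfl
theorem s0_f2303 : ed sl_at sq71 = sq111 :=
  real_edge rels S fwd inv o lvl plet idx 16 IH Gen.a sp71 sp111 rfl rfl
theorem s0_f2304 : ed sl_bt sq111 = sq173 :=
  real_edge rels S fwd inv o lvl plet idx 16 IH Gen.b sp111 sp173 rfl rfl
theorem s0_f2305 : ed sl_at sq173 = sq265 :=
  real_edge rels S fwd inv o lvl plet idx 16 IH Gen.a sp173 sp265 rfl rfl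
theorem s0_f2306 : ed sl_ft sq71 = sq42 :=
  real_edge rels S fwd inv o lvl plet idx 16 IH Gen.f sp71 sp42 rfl rfl
theorem s0_f2307 : ed sl_ft sq111 = sq69 :=
  real_edge rels S fwd inv o lvl plet idx 16 IH Gen.f sp111 sp69 rfl rfl
theorem s0_f2308 : ed sl_ct sq69 = sq95 :=
  real_edge rels S fwd inv o lvl plet idx 16 IH Gen.c sp69 sp95 rfl rfl
theorem s0_f2309 : ed sl_bt sq95 = sq143 :=
  real_edge rels S fwd inv o lvl plet idx 16 IH Gen.b sp95 sp143 rfl rfl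
theorem s0_f2310 : ed sl_ft sq87 = sq135 :=
  real_edge rels S fwd inv o lvl plet idx 16 IH Gen.f sp87 sp135 rfl rfl
theorem s0_f2311 : ed sl_ft sq116 = sq112 :=
  real_edge rels S fwd inv o lvl plet idx 16 IH Gen.f sp116 sp112 rfl rfl
theorem s0_f2313 : ed sl_bt sq597 = sq881 :=
  real_edge rels S fwd inv o lvl plet idx 16 IH Gen.b sp597 sp881 rfl rfl
theorem s0_f2317 : ed sl_at sq393 = sq579 :=
  real_edge rels S fwd inv o lvl plet idx 16 IH Gen.a sp393 sp579 rfl rfl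
theorem s0_f2318 : ed sl_ft sq175 = sq113 :=
  real_edge rels S fwd inv o lvl plet idx 16 IH Gen.f sp175 sp113 rfl rfl
theorem s0_f2319 : ed sl_bt sq113 = sq73 :=
  real_edge rels S fwd inv o lvl plet idx 16 IH Gen.b sp113 sp73 rfl rfl
theorem s0_f2321 : ed sl_ct sq170 = sq261 :=
  real_edge rels S fwd inv o lvl plet idx 16 IH Gen.c sp170 sp261 rfl rfl
theorem s0_f2322 : ed sl_bt sq261 = sq389 :=
  real_edge rels S fwd inv o lvl plet idx 16 IH Gen.b sp261 sp389 rfl rfl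
theorem s0_f2324 : ed sl_ft sq570 = sq836 :=
  real_edge rels S fwd inv o lvl plet idx 16 IH Gen.f sp570 sp836 rfl rfl
theorem s0_f2325 : ed sl_ft sq272 = sq263 :=
  real_edge rels S fwd inv o lvl plet idx 16 IH Gen.f sp272 sp263 rfl rfl
theorem s0_f2331 : ed sl_bt sq361 = sq533 :=
  real_edge rels S fwd inv o lvl plet idx 16 IH Gen.b sp361 sp533 rfl rfl
theorem s0_f2338 : ed sl_ft sq225 = sq144 :=
  real_edge rels S fwd inv o lvl plet idx 16 IH Gen.f sp225 sp144 rfl rfl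
theorem s0_f2339 : ed sl_ct sq144 = sq110 :=
  real_edge rels S fwd inv o lvl plet idx 16 IH Gen.c sp144 sp110 rfl rfl
theorem s0_f2343 : ed sl_bt sq329 = sq489 :=
  real_edge rels S fwd inv o lvl plet idx 16 IH Gen.b sp329 sp489 rfl rfl
theorem s0_f2345 : ed sl_dt sq712 = sq488 :=
  real_edge rels S fwd inv o lvl plet idx 16 IH Gen.d sp712 sp488 rfl rfl
theorem s0_f2350 : ed sl_bt sq171 = sq264 :=
  real_edge rels S fwd inv o lvl plet idx 16 IH Gen.b sp171 sp264 rfl rfl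
theorem s0_f2351 : ed sl_at sq264 = sq394 :=
  real_edge rels S fwd inv o lvl plet idx 16 IH Gen.a sp264 sp394 rfl rfl
theorem s0_f2353 : ed sl_ft sq91 = sq140 :=
  real_edge rels S fwd inv o lvl plet idx 16 IH Gen.f sp91 sp140 rfl rfl
theorem s0_f2356 : ed sl_bt sq144 = sq221 :=
  real_edge rels S fwd inv o lvl plet idx 16 IH Gen.b sp144 sp221 rfl rfl
theorem s0_f2357 : ed sl_ft sq134 = sq209 :=
  real_edge rels S fwd inv o lvl plet idx 16 IH Gen.f sp134 sp209 rfl rfl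
theorem s0_f2359 : ed sl_bt sq1026 = sq712 :=
  real_edge rels S fwd inv o lvl plet idx 16 IH Gen.b sp1026 sp712 rfl rfl
theorem s0_f2362 : ed sl_gt sq83 = sq83 :=
  real_edge rels S fwd inv o lvl plet idx 16 IH Gen.g sp83 sp83 rfl rfl
theorem s0_f2366 : ed sl_ft sq282 = sq421 :=
  real_edge rels S fwd inv o lvl plet idx 16 IH Gen.f sp282 sp421 rfl rfl
theorem s0_f2400 : ed sl_bt sq83 = sq131 :=
  real_edge rels S fwd inv o lvl plet idx 16 IH Gen.b sp83 sp131 rfl rfl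
theorem s0_f2401 : ed sl_gt sq131 = sq205 :=
  real_edge rels S fwd inv o lvl plet idx 16 IH Gen.g sp131 sp205 rfl rfl
theorem s0_f2402 : ed sl_ft sq205 = sq324 :=
  real_edge rels S fwd inv o lvl plet idx 16 IH Gen.f sp205 sp324 rfl rfl
theorem s0_f2403 : ed sl_ct sq118 = sq73 :=
  real_edge rels S fwd inv o lvl plet idx 16 IH Gen.c sp118 sp73 rfl rfl
theorem s0_f2405 : ed sl_bt sq77 = sq48 :=
  real_edge rels S fwd inv o lvl plet idx 16 IH Gen.b sp77 sp48 rfl rfl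
theorem s0_f2406 : ed sl_ct sq123 = sq77 :=
  real_edge rels S fwd inv o lvl plet idx 16 IH Gen.c sp123 sp77 rfl rfl
theorem s0_f2410 : ed sl_bt sq501 = sq733 :=
  real_edge rels S fwd inv o lvl plet idx 16 IH Gen.b sp501 sp733 rfl rfl
theorem s0_f2412 : ed sl_bt sq45 = sq26 :=
  real_edge rels S fwd inv o lvl plet idx 16 IH Gen.b sp45 sp26 rfl rfl
theorem s0_f2413 : ed sl_ct sq45 = sq45 :=
  real_edge rels S fwd inv o lvl plet idx 16 IH Gen.c sp45 sp45 rfl rfl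
theorem s0_f2416 : ed sl_bt sq185 = sq120 :=
  real_edge rels S fwd inv o lvl plet idx 16 IH Gen.b sp185 sp120 rfl rfl
theorem s0_f2417 : ed sl_ct sq289 = sq185 :=
  real_edge rels S fwd inv o lvl plet idx 16 IH Gen.c sp289 sp185 rfl rfl
theorem s0_f2418 : ed sl_dt sq83 = sq118 :=
  real_edge rels S fwd inv o lvl plet idx 16 IH Gen.d sp83 sp118 rfl rfl
theorem s0_f2419 : ed sl_bt sq131 = sq83 :=
  real_edge rels S fwd inv o lvl plet idx 16 IH Gen.b sp131 sp83 rfl rfl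
theorem s0_f2420 : ed sl_ct sq189 = sq131 :=
  real_edge rels S fwd inv o lvl plet idx 16 IH Gen.c sp189 sp131 rfl rfl
theorem s0_f2435 : ed sl_ct sq83 = sq48 :=
  real_edge rels S fwd inv o lvl plet idx 16 IH Gen.c sp83 sp48 rfl rfl
theorem s0_f2436 : ed sl_at sq77 = sq119 :=
  real_edge rels S fwd inv o lvl plet idx 16 IH Gen.a sp77 sp119 rfl rfl
theorem s0_f2437 : ed sl_ft sq119 = sq183 :=
  real_edge rels S fwd inv o lvl plet idx 16 IH Gen.f sp119 sp183 rfl rfl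
theorem s0_f2438 : ed sl_ct sq183 = sq285 :=
  real_edge rels S fwd inv o lvl plet idx 16 IH Gen.c sp183 sp285 rfl rfl
theorem s0_f2439 : ed sl_bt sq285 = sq429 :=
  real_edge rels S fwd inv o lvl plet idx 16 IH Gen.b sp285 sp429 rfl rfl
theorem s0_f2440 : ed sl_at sq429 = sq635 :=
  real_edge rels S fwd inv o lvl plet idx 16 IH Gen.a sp429 sp635 rfl rfl
theorem s0_f2441 : ed sl_ft sq635 = sq920 :=
  real_edge rels S fwd inv o lvl plet idx 16 IH Gen.f sp635 sp920 rfl rfl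
theorem s0_f2444 : ed sl_ct sq48 = sq83 :=
  real_edge rels S fwd inv o lvl plet idx 16 IH Gen.c sp48 sp83 rfl rfl
theorem s0_f2448 : ed sl_at sq113 = sq170 :=
  real_edge rels S fwd inv o lvl plet idx 16 IH Gen.a sp113 sp170 rfl rfl
theorem s0_f2451 : ed sl_bt sq391 = sq577 :=
  real_edge rels S fwd inv o lvl plet idx 16 IH Gen.b sp391 sp577 rfl rfl
theorem s0_f2452 : ed sl_at sq577 = sq850 :=
  real_edge rels S fwd inv o lvl plet idx 16 IH Gen.a sp577 sp850 rfl rfl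
theorem s0_f2453 : ed sl_ft sq850 = sq1205 :=
  real_edge rels S fwd inv o lvl plet idx 16 IH Gen.f sp850 sp1205 rfl rfl
theorem s0_f2455 : ed sl_ct sq53 = sq31 :=
  real_edge rels S fwd inv o lvl plet idx 16 IH Gen.c sp53 sp31 rfl rfl
theorem s0_f2456 : ed sl_ct sq26 = sq14 :=
  real_edge rels S fwd inv o lvl plet idx 16 IH Gen.c sp26 sp14 rfl rfl
theorem s0_f2458 : ed sl_ft sq209 = sq134 :=
  real_edge rels S fwd inv o lvl plet idx 16 IH Gen.f sp209 sp134 rfl rfl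
theorem s0_f2459 : ed sl_dt sq24 = sq24 :=
  real_edge rels S fwd inv o lvl plet idx 16 IH Gen.d sp24 sp24 rfl rfl
theorem s0_f2461 : ed sl_bt sq26 = sq45 :=
  real_edge rels S fwd inv o lvl plet idx 16 IH Gen.b sp26 sp45 rfl rfl
theorem s0_f2467 : ed sl_ft sq27 = sq13 :=
  real_edge rels S fwd inv o lvl plet idx 16 IH Gen.f sp27 sp13 rfl rfl
theorem s0_f2469 : ed sl_at sq13 = sq23 :=
  real_edge rels S fwd inv o lvl plet idx 16 IH Gen.a sp13 sp23 rfl rfl
theorem s0_f2472 : ed sl_bt sq117 = sq180 :=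
  real_edge rels S fwd inv o lvl plet idx 16 IH Gen.b sp117 sp180 rfl rfl
theorem s0_f2473 : ed sl_gt sq180 = sq279 :=
  real_edge rels S fwd inv o lvl plet idx 16 IH Gen.g sp180 sp279 rfl rfl
theorem s0_f2474 : ed sl_bt sq13 = sq25 :=
  real_edge rels S fwd inv o lvl plet idx 16 IH Gen.b sp13 sp25 rfl rfl
theorem s0_f2475 : ed sl_gt sq25 = sq47 :=
  real_edge rels S fwd inv o lvl plet idx 16 IH Gen.g sp25 sp47 rfl rfl
theorem s0_f2476 : ed sl_ft sq47 = sq82 :=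
  real_edge rels S fwd inv o lvl plet idx 16 IH Gen.f sp47 sp82 rfl rfl
theorem s0_f2477 : ed sl_bt sq82 = sq130 :=
  real_edge rels S fwd inv o lvl plet idx 16 IH Gen.b sp82 sp130 rfl rfl
theorem s0_f2478 : ed sl_gt sq130 = sq202 :=
  real_edge rels S fwd inv o lvl plet idx 16 IH Gen.g sp130 sp202 rfl rfl
theorem s0_f2479 : ed sl_ct sq23 = sq12 :=
  real_edge rels S fwd inv o lvl plet idx 16 IH Gen.c sp23 sp12 rfl rfl
theorem s0_f2480 : ed sl_ct sq13 = sq8 :=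
  real_edge rels S fwd inv o lvl plet idx 16 IH Gen.c sp13 sp8 rfl rfl
theorem s0_f2481 : ed sl_ft sq135 = sq87 :=
  real_edge rels S fwd inv o lvl plet idx 16 IH Gen.f sp135 sp87 rfl rfl
theorem s0_f2482 : ed sl_dt sq13 = sq23 :=
  real_edge rels S fwd inv o lvl plet idx 16 IH Gen.d sp13 sp23 rfl rfl
theorem s0_f2483 : ed sl_bt sq25 = sq13 :=
  real_edge rels S fwd inv o lvl plet idx 16 IH Gen.b sp25 sp13 rfl rfl
theorem s0_f2484 : ed sl_ft sq46 = sq25 :=
  real_edge rels S fwd inv o lvl plet idx 16 IH Gen.f sp46 sp25 rfl rfl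
theorem s0_f2485 : ed sl_at sq75 = sq46 :=
  real_edge rels S fwd inv o lvl plet idx 16 IH Gen.a sp75 sp46 rfl rfl
theorem s0_f2486 : ed sl_bt sq122 = sq75 :=
  real_edge rels S fwd inv o lvl plet idx 16 IH Gen.b sp122 sp75 rfl rfl
theorem s0_f2487 : ed sl_ct sq187 = sq122 :=
  real_edge rels S fwd inv o lvl plet idx 16 IH Gen.c sp187 sp122 rfl rfl
theorem s0_f2488 : ed sl_at sq59 = sq39 :=
  real_edge rels S fwd inv o lvl plet idx 16 IH Gen.a sp59 sp39 rfl rfl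
theorem s0_f2489 : ed sl_ft sq37 = sq63 :=
  real_edge rels S fwd inv o lvl plet idx 16 IH Gen.f sp37 sp63 rfl rfl
theorem s0_f2490 : ed sl_gt sq40 = sq20 :=
  real_edge rels S fwd inv o lvl plet idx 16 IH Gen.g sp40 sp20 rfl rfl
theorem s0_f2491 : ed sl_bt sq40 = sq40 :=
  real_edge rels S fwd inv o lvl plet idx 16 IH Gen.b sp40 sp40 rfl rfl
theorem s0_f2492 : ed sl_ft sq67 = sq40 :=
  real_edge rels S fwd inv o lvl plet idx 16 IH Gen.f sp67 sp40 rfl rfl
theorem s0_f2493 : ed sl_gt sq59 = sq67 :=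
  real_edge rels S fwd inv o lvl plet idx 16 IH Gen.g sp59 sp67 rfl rfl
theorem s0_f2494 : ed sl_ct sq14 = sq26 :=
  real_edge rels S fwd inv o lvl plet idx 16 IH Gen.c sp14 sp26 rfl rfl
theorem s0_f2499 : ed sl_at sq185 = sq288 :=
  real_edge rels S fwd inv o lvl plet idx 16 IH Gen.a sp185 sp288 rfl rfl
theorem s0_f2501 : ed sl_ct sq8 = sq13 :=
  real_edge rels S fwd inv o lvl plet idx 16 IH Gen.c sp8 sp13 rfl rfl
theorem s0_f2503 : ed sl_ft sq44 = sq75 :=
  real_edge rels S fwd inv o lvl plet idx 16 IH Gen.f sp44 sp75 rfl rfl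
theorem s0_f2505 : ed sl_bt sq75 = sq122 :=
  real_edge rels S fwd inv o lvl plet idx 16 IH Gen.b sp75 sp122 rfl rfl
theorem s0_f2506 : ed sl_at sq122 = sq186 :=
  real_edge rels S fwd inv o lvl plet idx 16 IH Gen.a sp122 sp186 rfl rfl
theorem s0_f2507 : ed sl_ft sq89 = sq53 :=
  real_edge rels S fwd inv o lvl plet idx 16 IH Gen.f sp89 sp53 rfl rfl
theorem s0_f2508 : ed sl_at sq20 = sq35 :=
  real_edge rels S fwd inv o lvl plet idx 16 IH Gen.a sp20 sp35 rfl rfl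
theorem s0_f2509 : ed sl_ft sq35 = sq59 :=
  real_edge rels S fwd inv o lvl plet idx 16 IH Gen.f sp35 sp59 rfl rfl
theorem s0_f2510 : ed sl_ct sq11 = sq17 :=
  real_edge rels S fwd inv o lvl plet idx 16 IH Gen.c sp11 sp17 rfl rfl
theorem s0_f2511 : ed sl_dt sq20 = sq11 :=
  real_edge rels S fwd inv o lvl plet idx 16 IH Gen.d sp20 sp11 rfl rfl
theorem s0_f2512 : ed sl_ct sq37 = sq20 :=
  real_edge rels S fwd inv o lvl plet idx 16 IH Gen.c sp37 sp20 rfl rfl
theorem s0_f2513 : ed sl_dt sq61 = sq37 :=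
  real_edge rels S fwd inv o lvl plet idx 16 IH Gen.d sp61 sp37 rfl rfl
theorem s0_f2515 : ed sl_et sq101 = sq61 :=
  real_edge rels S fwd inv o lvl plet idx 16 IH Gen.e sp101 sp61 rfl rfl
theorem s0_f2516 : ed sl_bt sq147 = sq101 :=
  real_edge rels S fwd inv o lvl plet idx 16 IH Gen.b sp147 sp101 rfl rfl
theorem s0_f2517 : ed sl_dt sq96 = sq60 :=
  real_edge rels S fwd inv o lvl plet idx 16 IH Gen.d sp96 sp60 rfl rfl
theorem s0_f2518 : ed sl_bt sq61 = sq96 :=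
  real_edge rels S fwd inv o lvl plet idx 16 IH Gen.b sp61 sp96 rfl rfl
theorem s0_f2519 : ed sl_ct sq100 = sq61 :=
  real_edge rels S fwd inv o lvl plet idx 16 IH Gen.c sp100 sp61 rfl rfl
theorem s0_f2520 : ed sl_et sq147 = sq96 :=
  real_edge rels S fwd inv o lvl plet idx 16 IH Gen.e sp147 sp96 rfl rfl
theorem s0_f2521 : ed sl_bt sq101 = sq147 :=
  real_edge rels S fwd inv o lvl plet idx 16 IH Gen.b sp101 sp147 rfl rfl
theorem s0_f2522 : ed sl_ct sq156 = sq101 :=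
  real_edge rels S fwd inv o lvl plet idx 16 IH Gen.c sp156 sp101 rfl rfl
theorem s0_f2524 : ed sl_ct sq367 = sq242 :=
  real_edge rels S fwd inv o lvl plet idx 16 IH Gen.c sp367 sp242 rfl rfl
theorem s0_f2525 : ed sl_et sq26 = sq13 :=
  real_edge rels S fwd inv o lvl plet idx 16 IH Gen.e sp26 sp13 rfl rfl
theorem s0_f2526 : ed sl_dt sq77 = sq45 :=
  real_edge rels S fwd inv o lvl plet idx 16 IH Gen.d sp77 sp45 rfl rfl
theorem s0_f2527 : ed sl_dt sq190 = sq123 :=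
  real_edge rels S fwd inv o lvl plet idx 16 IH Gen.d sp190 sp123 rfl rfl
theorem s0_f2528 : ed sl_bt sq296 = sq190 :=
  real_edge rels S fwd inv o lvl plet idx 16 IH Gen.b sp296 sp190 rfl rfl
theorem s0_f2529 : ed sl_ct sq444 = sq296 :=
  real_edge rels S fwd inv o lvl plet idx 16 IH Gen.c sp444 sp296 rfl rfl
theorem s0_f2530 : ed sl_dt sq17 = sq31 :=
  real_edge rels S fwd inv o lvl plet idx 16 IH Gen.d sp17 sp31 rfl rfl
theorem s0_f2531 : ed sl_ct sq31 = sq53 :=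
  real_edge rels S fwd inv o lvl plet idx 16 IH Gen.c sp31 sp53 rfl rfl
theorem s0_f2533 : ed sl_dt sq4 = sq8 :=
  real_edge rels S fwd inv o lvl plet idx 16 IH Gen.d sp4 sp8 rfl rfl
theorem s0_f2535 : ed sl_dt sq8 = sq4 :=
  real_edge rels S fwd inv o lvl plet idx 16 IH Gen.d sp8 sp4 rfl rfl
theorem s0_f2538 : ed sl_et sq13 = sq26 :=
  real_edge rels S fwd inv o lvl plet idx 16 IH Gen.e sp13 sp26 rfl rfl
theorem s0_f2539 : ed sl_dt sq14 = sq14 :=
  real_edge rels S fwd inv o lvl plet idx 16 IH Gen.d sp14 sp14 rfl rfl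
theorem s0_f2541 : ed sl_at sq17 = s0_v1 :=
  rfl
theorem s0_f2541r : ed sl_af s0_v1 = sq17 :=
  edge_flip (s0_f2541 IH)
theorem s0_f2542 : ed sl_af sq17 = s0_v1 :=
  gap_rel s0_rot66 (path_edge (s0_f2541r IH) (path_nil s0_v1))
theorem s0_f2510r : ed sl_cf sq17 = sq11 :=
  edge_flip (s0_f2510 IH)
theorem s0_f2241r : ed sl_af sq11 = sq19 :=
  edge_flip (s0_f2241 IH)
theorem s0_f2544 : ed sl_cf sq19 = s0_v1 :=
  gap_rel s0_rot74 (path_edge (s0_f2241r IH) (path_edge (s0_f2510r IH) (path_edge (s0_f2541r IH) (path_nil s0_v1))))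
theorem s0_f2548 : ed sl_dt sq35 = sq19 :=
  real_edge rels S fwd inv o lvl plet idx 16 IH Gen.d sp35 sp19 rfl rfl
theorem s0_f2549 : ed sl_at sq35 = sq20 :=
  real_edge rels S fwd inv o lvl plet idx 16 IH Gen.a sp35 sp20 rfl rfl
theorem s0_f2551 : ed sl_dt sq19 = sq35 :=
  real_edge rels S fwd inv o lvl plet idx 16 IH Gen.d sp19 sp35 rfl rfl
theorem s0_f2552 : ed sl_gt sq17 = s0_v2 :=
  rfl
theorem s0_f2552r : ed sl_gf s0_v2 = sq17 :=
  edge_flip (s0_f2552 IH)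
theorem s0_f2206r : ed sl_bf sq17 = sq10 :=
  edge_flip (s0_f2206 IH)
theorem s0_f200r : ed sl_gf sq10 = sq9 :=
  edge_flip (s0_f200 IH)
theorem s0_f110r : ed sl_bf sq9 = sq16 :=
  edge_flip (s0_f110 IH)
theorem s0_f2205r : ed sl_gf sq16 = sq30 :=
  edge_flip (s0_f2205 IH)
theorem s0_f2553 : ed sl_bf sq30 = s0_v2 :=
  gap_rel s0_rot75 (path_edge (s0_f2205r IH) (path_edge (s0_f110r IH) (path_edge (s0_f200r IH) (path_edge (s0_f2206r IH) (path_edge (s0_f2552r IH) (path_nil s0_v2))))))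
theorem s0_f2188r : ed sl_gf sq11 = sq22 :=
  edge_flip (s0_f2188 IH)
theorem s0_f2554 : ed sl_cf sq22 = s0_v2 :=
  gap_rel s0_rot43 (path_edge (s0_f2188r IH) (path_edge (s0_f2510r IH) (path_edge (s0_f2552r IH) (path_nil s0_v2))))
theorem s0_f2555 : ed sl_gf sq17 = s0_v2 :=
  gap_rel s0_rot76 (path_edge (s0_f2552r IH) (path_nil s0_v2))
theorem s0_f2555r : ed sl_gt s0_v2 = sq17 :=
  edge_flip (s0_f2555 IH)
theorem s0_f52r : ed sl_gt sq10 = sq9 :=
  edge_flip (s0_f52 IH)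
theorem s0_f2556 : ed sl_bt sq30 = s0_v2 :=
  gap_rel s0_rot26 (path_edge (s0_f2211 IH) (path_edge (s0_f2198 IH) (path_edge (s0_f52r IH) (path_edge (s0_f2184 IH) (path_edge (s0_f2555r IH) (path_nil s0_v2))))))
theorem s0_f2179r : ed sl_bt sq32 = sq21 :=
  edge_flip (s0_f2179 IH)
theorem s0_f2559 : ed sl_gt sq21 = sq32 :=
  gap_rel s0_rot77 (path_edge (s0_f2179r IH) (path_edge (s0_f2187 IH) (path_edge (s0_f2555r IH) (path_edge (s0_f2556 IH) (path_edge (s0_f2215 IH) (path_edge (s0_f2211 IH) (path_edge (s0_f2198 IH) (path_edge (s0_f64 IH) (path_edge (s0_f2195 IH) (path_edge (s0_f2197 IH) (path_edge (s0_f35 IH) (path_edge (s0_f52r IH) (path_edge (s0_f2184 IH) (path_edge (s0_f68 IH) (path_nil sq32)))))))))))))))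
theorem s0_f2560 : ed sl_gt sq21 = sq32 :=
  edge_of_path (path_edge (s0_f2559 IH) (path_nil sq21))
theorem s0_f2561 : ed sl_gt sq41 = sq36 :=
  real_edge rels S fwd inv o lvl plet idx 16 IH Gen.g sp41 sp36 rfl rfl
theorem s0_f2559r : ed sl_gf sq32 = sq21 :=
  edge_flip (s0_f2559 IH)
theorem s0_f2178r : ed sl_af sq21 = sq36 :=
  edge_flip (s0_f2178 IH)
theorem s0_f2561r : ed sl_gf sq36 = sq41 :=
  edge_flip (s0_f2561 IH)
theorem s0_f2562 : ed sl_af sq41 = sq32 :=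
  gap_rel s0_rot78 (path_edge (s0_f2561r IH) (path_edge (s0_f2178r IH) (path_edge (s0_f2559r IH) (path_nil sq32))))
theorem s0_f2190r : ed sl_ff sq22 = sq41 :=
  edge_flip (s0_f2190 IH)
theorem s0_f2191r : ed sl_gf sq41 = sq36 :=
  edge_flip (s0_f2191 IH)
theorem s0_f71r : ed sl_ff sq36 = sq19 :=
  edge_flip (s0_f71 IH)
theorem s0_f2568 : sq19 = s0_v2 :=
  (loop_rel s0_rot22 (path_edge (s0_f71r IH) (path_edge (s0_f2191r IH) (path_edge (s0_f2190r IH) (path_edge (s0_f2188r IH) (path_edge (s0_f2183r IH) (path_edge (s0_f2559r IH) (path_edge (s0_f68r IH) (path_edge (s0_f2552r IH) (path_nil s0_v2)))))))))).symm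
theorem s0_f2542r : ed sl_at s0_v1 = sq17 :=
  edge_flip (s0_f2542 IH)
theorem s0_f2573 : sq22 = s0_v1 :=
  (loop_rel s0_rot79 (path_edge (s0_f2188r IH) (path_edge (s0_f2183r IH) (path_edge (s0_f2559r IH) (path_edge (s0_f68r IH) (path_edge (s0_f2542r IH) (path_nil s0_v1))))))).symm
theorem s0_f2577 : ed sl_dt sq22 = sq40 :=
  real_edge rels S fwd inv o lvl plet idx 16 IH Gen.d sp22 sp40 rfl rfl
theorem s0_f2578 : ed sl_dt sq40 = sq22 :=
  real_edge rels S fwd inv o lvl plet idx 16 IH Gen.d sp40 sp22 rfl rfl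
theorem s0_f2581 : ed sl_bt sq68 = sq41 :=
  real_edge rels S fwd inv o lvl plet idx 16 IH Gen.b sp68 sp41 rfl rfl
theorem s0_f2582 : ed sl_ft sq68 = sq68 :=
  real_edge rels S fwd inv o lvl plet idx 16 IH Gen.f sp68 sp68 rfl rfl
theorem s0_f2204r : ed sl_bf sq68 = sq41 :=
  edge_flip (s0_f2204 IH)
theorem s0_f2203r : ed sl_ff sq41 = sq22 :=
  edge_flip (s0_f2203 IH)
theorem s0_f2202r : ed sl_gf sq22 = sq11 :=
  edge_flip (s0_f2202 IH)
theorem s0_f2199r : ed sl_ff sq16 = sq16 :=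
  edge_flip (s0_f2199 IH)
theorem s0_f2240r : ed sl_ff sq19 = sq36 :=
  edge_flip (s0_f2240 IH)
theorem s0_f2581r : ed sl_bf sq41 = sq68 :=
  edge_flip (s0_f2581 IH)
theorem s0_f2582r : ed sl_ff sq68 = sq68 :=
  edge_flip (s0_f2582 IH)
theorem s0_f2583 : ed sl_gf sq68 = sq68 :=
  gap_rel s0_rot80 (path_edge (s0_f2582r IH) (path_edge (s0_f2581r IH) (path_edge (s0_f2561r IH) (path_edge (s0_f2240r IH) (path_eq (s0_f2568 IH).symm (path_edge (s0_f2553 IH) (path_edge (s0_f2205r IH) (path_edge (s0_f2199r IH) (path_edge (s0_f110r IH) (path_edge (s0_f200r IH) (path_edge (s0_f2185 IH) (path_edge (s0_f69r IH) (path_edge (s0_f2202r IH) (path_edge (s0_f2203r IH) (path_edge (s0_f2204r IH) (path_nil sq68))))))))))))))))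
theorem s0_f2583r : ed sl_gt sq68 = sq68 :=
  edge_flip (s0_f2583 IH)
theorem s0_f2585 : ed sl_bt sq36 = sq36 :=
  gap_rel s0_rot26 (path_edge (s0_f2561 IH) (path_edge (s0_f2581 IH) (path_edge (s0_f2583r IH) (path_edge (s0_f2204 IH) (path_edge (s0_f2191 IH) (path_nil sq36))))))
theorem s0_f2587 : ed sl_dt sq68 = sq109 :=
  real_edge rels S fwd inv o lvl plet idx 16 IH Gen.d sp68 sp109 rfl rfl
theorem s0_f2588 : ed sl_dt sq109 = sq68 :=
  real_edge rels S fwd inv o lvl plet idx 16 IH Gen.d sp109 sp68 rfl rfl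
theorem s0_f2592 : ed sl_af sq68 = sq68 :=
  gap_rel s0_rot81 (path_edge (s0_f2582 IH) (path_edge (s0_f2583r IH) (path_edge (s0_f2582 IH) (path_edge (s0_f2583r IH) (path_nil sq68)))))
theorem s0_f2562r : ed sl_at sq32 = sq41 :=
  edge_flip (s0_f2562 IH)
theorem s0_f2592r : ed sl_at sq68 = sq68 :=
  edge_flip (s0_f2592 IH)
theorem s0_f2594 : ed sl_at sq41 = sq32 :=
  gap_rel s0_rot82 (path_edge (s0_f2581 IH) (path_edge (s0_f2592r IH) (path_edge (s0_f2204 IH) (path_edge (s0_f2562r IH) (path_edge (s0_f2171 IH) (path_edge (s0_f2178 IH) (path_edge (s0_f2585 IH) (path_edge (s0_f2238 IH) (path_edge (s0_f2179r IH) (path_nil sq32))))))))))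
theorem s0_f2596 : ed sl_at sq109 = sq109 :=
  gap_rel s0_rot58 (path_edge (s0_f2587 IH) (path_edge (s0_f2592r IH) (path_edge (s0_f2588 IH) (path_nil sq109))))
theorem s0_f2600 : ed sl_bt sq109 = sq67 :=
  real_edge rels S fwd inv o lvl plet idx 16 IH Gen.b sp109 sp67 rfl rfl
theorem s0_f2610 : ed sl_ct sq107 = sq67 :=
  real_edge rels S fwd inv o lvl plet idx 16 IH Gen.c sp107 sp67 rfl rfl
theorem s0_f2612 : ed sl_bt sq169 = sq258 :=
  real_edge rels S fwd inv o lvl plet idx 16 IH Gen.b sp169 sp258 rfl rfl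
theorem s0_f2613 : ed sl_at sq258 = sq387 :=
  real_edge rels S fwd inv o lvl plet idx 16 IH Gen.a sp258 sp387 rfl rfl
theorem s0_f2614 : ed sl_bt sq168 = sq108 :=
  real_edge rels S fwd inv o lvl plet idx 16 IH Gen.b sp168 sp108 rfl rfl
theorem s0_f2615 : ed sl_ct sq168 = sq259 :=
  real_edge rels S fwd inv o lvl plet idx 16 IH Gen.c sp168 sp259 rfl rfl
theorem s0_f2616 : ed sl_ct sq259 = sq168 :=
  real_edge rels S fwd inv o lvl plet idx 16 IH Gen.c sp259 sp168 rfl rfl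
theorem s0_f2621 : ed sl_bt sq259 = sq386 :=
  real_edge rels S fwd inv o lvl plet idx 16 IH Gen.b sp259 sp386 rfl rfl
theorem s0_f2622 : ed sl_at sq386 = sq568 :=
  real_edge rels S fwd inv o lvl plet idx 16 IH Gen.a sp386 sp568 rfl rfl
theorem s0_f2623 : ed sl_ct sq164 = sq108 :=
  real_edge rels S fwd inv o lvl plet idx 16 IH Gen.c sp164 sp108 rfl rfl
theorem s0_f2624 : ed sl_ft sq105 = sq164 :=
  real_edge rels S fwd inv o lvl plet idx 16 IH Gen.f sp105 sp164 rfl rfl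
theorem s0_f2625 : ed sl_bt sq386 = sq259 :=
  real_edge rels S fwd inv o lvl plet idx 16 IH Gen.b sp386 sp259 rfl rfl
theorem s0_f2626 : ed sl_at sq568 = sq386 :=
  real_edge rels S fwd inv o lvl plet idx 16 IH Gen.a sp568 sp386 rfl rfl
theorem s0_f2629 : ed sl_ft sq259 = sq259 :=
  real_edge rels S fwd inv o lvl plet idx 16 IH Gen.f sp259 sp259 rfl rfl
theorem s0_f2630 : ed sl_ct sq254 = sq386 :=
  real_edge rels S fwd inv o lvl plet idx 16 IH Gen.c sp254 sp386 rfl rfl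
theorem s0_f2631 : ed sl_bt sq258 = sq169 :=
  real_edge rels S fwd inv o lvl plet idx 16 IH Gen.b sp258 sp169 rfl rfl
theorem s0_f2632 : ed sl_at sq387 = sq258 :=
  real_edge rels S fwd inv o lvl plet idx 16 IH Gen.a sp387 sp258 rfl rfl
theorem s0_f2635 : ed sl_ft sq169 = sq169 :=
  real_edge rels S fwd inv o lvl plet idx 16 IH Gen.f sp169 sp169 rfl rfl
theorem s0_f2644 : ed sl_dt sq67 = sq41 :=
  real_edge rels S fwd inv o lvl plet idx 16 IH Gen.d sp67 sp41 rfl rfl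
theorem s0_f1944r : ed sl_df sq55 = sq32 :=
  edge_flip (s0_f1944 IH)
theorem s0_f2594r : ed sl_af sq32 = sq41 :=
  edge_flip (s0_f2594 IH)
theorem s0_f2644r : ed sl_df sq41 = sq67 :=
  edge_flip (s0_f2644 IH)
theorem s0_f2645 : ed sl_af sq67 = sq55 :=
  gap_rel s0_rot72 (path_edge (s0_f2644r IH) (path_edge (s0_f2594r IH) (path_edge (s0_f1944r IH) (path_nil sq55))))
theorem s0_f2649 : ed sl_ct sq67 = sq107 :=
  real_edge rels S fwd inv o lvl plet idx 16 IH Gen.c sp67 sp107 rfl rfl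
theorem s0_f2658 : ed sl_dt sq251 = sq164 :=
  real_edge rels S fwd inv o lvl plet idx 16 IH Gen.d sp251 sp164 rfl rfl
theorem s0_f2659 : ed sl_ct sq378 = sq251 :=
  real_edge rels S fwd inv o lvl plet idx 16 IH Gen.c sp378 sp251 rfl rfl
theorem s0_f2660 : ed sl_dt sq382 = sq254 :=
  real_edge rels S fwd inv o lvl plet idx 16 IH Gen.d sp382 sp254 rfl rfl
theorem s0_f2661 : ed sl_ct sq567 = sq382 :=
  real_edge rels S fwd inv o lvl plet idx 16 IH Gen.c sp567 sp382 rfl rfl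
theorem s0_f2667 : ed sl_dt sq108 = sq108 :=
  real_edge rels S fwd inv o lvl plet idx 16 IH Gen.d sp108 sp108 rfl rfl
theorem s0_f2668 : ed sl_ct sq108 = sq164 :=
  real_edge rels S fwd inv o lvl plet idx 16 IH Gen.c sp108 sp164 rfl rfl
theorem s0_f2669 : ed sl_dt sq164 = sq251 :=
  real_edge rels S fwd inv o lvl plet idx 16 IH Gen.d sp164 sp251 rfl rfl
theorem s0_f2670 : ed sl_ct sq251 = sq378 :=
  real_edge rels S fwd inv o lvl plet idx 16 IH Gen.c sp251 sp378 rfl rfl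
theorem s0_f2671 : ed sl_bt sq378 = sq560 :=
  real_edge rels S fwd inv o lvl plet idx 16 IH Gen.b sp378 sp560 rfl rfl
theorem s0_f2645r : ed sl_at sq55 = sq67 :=
  edge_flip (s0_f2645 IH)
theorem s0_f2674 : ed sl_at sq67 = sq55 :=
  gap_rel s0_rot83 (path_edge (s0_f2645r IH) (path_nil sq55))
theorem s0_f2676 : ed sl_bt sq59 = sq59 :=
  gap_rel s0_rot84 (path_edge (s0_f2170 IH) (path_edge (s0_f1787r IH) (path_edge (s0_f2674 IH) (path_edge (s0_f2600 IH) (path_edge (s0_f2596 IH) (path_edge (s0_f188 IH) (path_edge (s0_f2645r IH) (path_edge (s0_f168 IH) (path_edge (s0_f2488 IH) (path_nil sq59))))))))))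
theorem s0_f2678 : ed sl_at sq107 = sq89 :=
  gap_rel s0_rot64 (path_edge (s0_f2649 IH) (path_edge (s0_f2645r IH) (path_edge (s0_f1786 IH) (path_nil sq89))))
theorem s0_f2684 : ed sl_gt sq67 = sq59 :=
  real_edge rels S fwd inv o lvl plet idx 16 IH Gen.g sp67 sp59 rfl rfl
theorem s0_f2685 : ed sl_gt sq39 = sq55 :=
  gap_rel s0_rot85 (path_edge (s0_f2488 IH) (path_edge (s0_f2684 IH) (path_edge (s0_f2645r IH) (path_nil sq55))))
theorem s0_f2687 : ed sl_ct sq40 = sq64 :=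
  real_edge rels S fwd inv o lvl plet idx 16 IH Gen.c sp40 sp64 rfl rfl
theorem s0_f1943r : ed sl_cf sq89 = sq55 :=
  edge_flip (s0_f1943 IH)
theorem s0_f2685r : ed sl_gf sq55 = sq39 :=
  edge_flip (s0_f2685 IH)
theorem s0_f2166r : ed sl_cf sq39 = sq63 :=
  edge_flip (s0_f2166 IH)
theorem s0_f2688 : ed sl_gf sq63 = sq89 :=
  gap_rel s0_rot5 (path_edge (s0_f2166r IH) (path_edge (s0_f2685r IH) (path_edge (s0_f1943r IH) (path_nil sq89))))
theorem s0_f2114r : ed sl_ef sq90 = sq55 :=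
  edge_flip (s0_f2114 IH)
theorem s0_f2113r : ed sl_ef sq39 = sq65 :=
  edge_flip (s0_f2113 IH)
theorem s0_f2690 : ed sl_gf sq65 = sq90 :=
  gap_rel s0_rot18 (path_edge (s0_f2113r IH) (path_edge (s0_f2685r IH) (path_edge (s0_f2114r IH) (path_nil sq90))))
theorem s0_f167r : ed sl_ff sq31 = sq55 :=
  edge_flip (s0_f167 IH)
theorem s0_f165r : ed sl_ff sq39 = sq20 :=
  edge_flip (s0_f165 IH)
theorem s0_f2490r : ed sl_gf sq20 = sq40 :=
  edge_flip (s0_f2490 IH)
theorem s0_f2492r : ed sl_ff sq40 = sq67 :=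
  edge_flip (s0_f2492 IH)
theorem s0_f2493r : ed sl_gf sq67 = sq59 :=
  edge_flip (s0_f2493 IH)
theorem s0_f2509r : ed sl_ff sq59 = sq35 :=
  edge_flip (s0_f2509 IH)
theorem s0_f2692 : ed sl_gf sq35 = sq31 :=
  gap_rel s0_rot19 (path_edge (s0_f2509r IH) (path_edge (s0_f2493r IH) (path_edge (s0_f2492r IH) (path_edge (s0_f2490r IH) (path_edge (s0_f165r IH) (path_edge (s0_f2685r IH) (path_edge (s0_f167r IH) (path_nil sq31))))))))
theorem s0_f2692r : ed sl_gt sq31 = sq35 :=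
  edge_flip (s0_f2692 IH)
theorem s0_f2697 : ed sl_gt sq35 = sq31 :=
  gap_rel s0_rot25 (path_edge (s0_f2692r IH) (path_nil sq31))
theorem s0_f2699 : ed sl_af sq40 = sq31 :=
  gap_rel s0_rot81 (path_edge (s0_f2492 IH) (path_edge (s0_f2493 IH) (path_edge (s0_f2509 IH) (path_edge (s0_f2692r IH) (path_nil sq31)))))
theorem s0_f2699r : ed sl_at sq31 = sq40 :=
  edge_flip (s0_f2699 IH)
theorem s0_f2701 : ed sl_at sq64 = sq53 :=
  gap_rel s0_rot64 (path_edge (s0_f2687 IH) (path_edge (s0_f2699r IH) (path_edge (s0_f2455 IH) (path_nil sq53))))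
theorem s0_f2703 : ed sl_et sq40 = sq66 :=
  real_edge rels S fwd inv o lvl plet idx 16 IH Gen.e sp40 sp66 rfl rfl
theorem s0_f2704 : ed sl_at sq66 = sq54 :=
  gap_rel s0_rot86 (path_edge (s0_f2703 IH) (path_edge (s0_f2699r IH) (path_edge (s0_f274 IH) (path_nil sq54))))
theorem s0_f2706 : ed sl_ct sq64 = sq40 :=
  real_edge rels S fwd inv o lvl plet idx 16 IH Gen.c sp64 sp40 rfl rfl
theorem s0_f108r : ed sl_cf sq100 = sq61 :=
  edge_flip (s0_f108 IH)
theorem s0_f107r : ed sl_df sq61 = sq37 :=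
  edge_flip (s0_f107 IH)
theorem s0_f117r : ed sl_cf sq37 = sq20 :=
  edge_flip (s0_f117 IH)
theorem s0_f116r : ed sl_df sq20 = sq11 :=
  edge_flip (s0_f116 IH)
theorem s0_f67r : ed sl_cf sq11 = sq17 :=
  edge_flip (s0_f67 IH)
theorem s0_f115r : ed sl_df sq17 = sq31 :=
  edge_flip (s0_f115 IH)
theorem s0_f2706r : ed sl_cf sq40 = sq64 :=
  edge_flip (s0_f2706 IH)
theorem s0_f2707 : ed sl_df sq64 = sq100 :=
  gap_rel s0_rot87 (path_edge (s0_f2706r IH) (path_edge (s0_f2699r IH) (path_edge (s0_f115r IH) (path_edge (s0_f67r IH) (path_edge (s0_f116r IH) (path_edge (s0_f117r IH) (path_edge (s0_f107r IH) (path_edge (s0_f108r IH) (path_nil sq100)))))))))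
theorem s0_f2709 : ed sl_bt sq107 = sq167 :=
  real_edge rels S fwd inv o lvl plet idx 16 IH Gen.b sp107 sp167 rfl rfl
theorem s0_f2710 : ed sl_at sq167 = sq257 :=
  real_edge rels S fwd inv o lvl plet idx 16 IH Gen.a sp167 sp257 rfl rfl
theorem s0_f2707r : ed sl_dt sq100 = sq64 :=
  edge_flip (s0_f2707 IH)
theorem s0_f2711 : ed sl_dt sq64 = sq100 :=
  gap_rel s0_rot28 (path_edge (s0_f2707r IH) (path_nil sq100))
theorem s0_f2713 : ed sl_et sq64 = sq105 :=
  real_edge rels S fwd inv o lvl plet idx 16 IH Gen.e sp64 sp105 rfl rfl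
theorem s0_f2714 : ed sl_dt sq105 = sq162 :=
  real_edge rels S fwd inv o lvl plet idx 16 IH Gen.d sp105 sp162 rfl rfl
theorem s0_f2715 : ed sl_et sq156 = sq100 :=
  real_edge rels S fwd inv o lvl plet idx 16 IH Gen.e sp156 sp100 rfl rfl
theorem s0_f2718 : ed sl_gt sq64 = sq37 :=
  real_edge rels S fwd inv o lvl plet idx 16 IH Gen.g sp64 sp37 rfl rfl
theorem s0_f2719 : ed sl_gt sq61 = sq100 :=
  gap_rel s0_rot20 (path_edge (s0_f107 IH) (path_edge (s0_f2718 IH) (path_edge (s0_f2707r IH) (path_nil sq100))))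
theorem s0_f2721 : ed sl_dt sq66 = sq66 :=
  real_edge rels S fwd inv o lvl plet idx 16 IH Gen.d sp66 sp66 rfl rfl
theorem s0_f2722 : ed sl_ct sq66 = sq105 :=
  real_edge rels S fwd inv o lvl plet idx 16 IH Gen.c sp66 sp105 rfl rfl
theorem s0_f2723 : ed sl_ct sq162 = sq249 :=
  real_edge rels S fwd inv o lvl plet idx 16 IH Gen.c sp162 sp249 rfl rfl
theorem s0_f2724 : ed sl_bt sq249 = sq377 :=
  real_edge rels S fwd inv o lvl plet idx 16 IH Gen.b sp249 sp377 rfl rfl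
theorem s0_f2730 : ed sl_bt sq514 = sq348 :=
  real_edge rels S fwd inv o lvl plet idx 16 IH Gen.b sp514 sp348 rfl rfl
theorem s0_f2731 : ed sl_ct sq746 = sq514 :=
  real_edge rels S fwd inv o lvl plet idx 16 IH Gen.c sp746 sp514 rfl rfl
theorem s0_f2732 : ed sl_dt sq1081 = sq746 :=
  real_edge rels S fwd inv o lvl plet idx 16 IH Gen.d sp1081 sp746 rfl rfl
theorem s0_f2733 : ed sl_ct sq1431 = sq1081 :=
  real_edge rels S fwd inv o lvl plet idx 16 IH Gen.c sp1431 sp1081 rfl rfl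
theorem s0_f2736 : ed sl_ct sq70 = sq97 :=
  real_edge rels S fwd inv o lvl plet idx 16 IH Gen.c sp70 sp97 rfl rfl
theorem s0_f2737 : ed sl_dt sq113 = sq70 :=
  real_edge rels S fwd inv o lvl plet idx 16 IH Gen.d sp113 sp70 rfl rfl
theorem s0_f2739 : ed sl_ct sq587 = sq398 :=
  real_edge rels S fwd inv o lvl plet idx 16 IH Gen.c sp587 sp398 rfl rfl
theorem s0_f2740 : ed sl_dt sq650 = sq587 :=
  real_edge rels S fwd inv o lvl plet idx 16 IH Gen.d sp650 sp587 rfl rfl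
theorem s0_f2741 : ed sl_ct sq441 = sq650 :=
  real_edge rels S fwd inv o lvl plet idx 16 IH Gen.c sp441 sp650 rfl rfl
theorem s0_f2742 : ed sl_dt sq295 = sq441 :=
  real_edge rels S fwd inv o lvl plet idx 16 IH Gen.d sp295 sp441 rfl rfl
theorem s0_f2744 : ed sl_ct sq646 = sq440 :=
  real_edge rels S fwd inv o lvl plet idx 16 IH Gen.c sp646 sp440 rfl rfl
theorem s0_f2745 : ed sl_gt sq149 = sq96 :=
  real_edge rels S fwd inv o lvl plet idx 16 IH Gen.g sp149 sp96 rfl rfl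
theorem s0_f2746 : ed sl_et sq100 = sq156 :=
  real_edge rels S fwd inv o lvl plet idx 16 IH Gen.e sp100 sp156 rfl rfl
theorem s0_f2746r : ed sl_ef sq156 = sq100 :=
  edge_flip (s0_f2746 IH)
theorem s0_f2719r : ed sl_gf sq100 = sq61 :=
  edge_flip (s0_f2719 IH)
theorem s0_f2515r : ed sl_ef sq61 = sq101 :=
  edge_flip (s0_f2515 IH)
theorem s0_f2747 : ed sl_gf sq101 = sq156 :=
  gap_rel s0_rot18 (path_edge (s0_f2515r IH) (path_edge (s0_f2719r IH) (path_edge (s0_f2746r IH) (path_nil sq156))))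
theorem s0_f2750 : ed sl_gf sq61 = sq100 :=
  gap_rel s0_rot76 (path_edge (s0_f2719r IH) (path_nil sq100))
theorem s0_f2753 : ed sl_gt sq233 = sq148 :=
  real_edge rels S fwd inv o lvl plet idx 16 IH Gen.g sp233 sp148 rfl rfl

end

end

end Cfsg.Agent.Helper28.S1680
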