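import Cfsg.Agent.Lib.Helper28.S1680.Seeds9

set_option autoImplicit false
set_option maxRecDepth 100000
set_option linter.all false

namespace Cfsg.Agent.Helper28.S1680

open Cfsg.Agent.Helper28
open Cfsg.Spor.Suz (Gen)

noncomputable section

section
variable (IH : ∀ y q, lvl y q < 16 → EntryOK rels S fwd inv o plet idx y q)
include IH

theorem s0_f18015r : ed sl_bt sq565 = s0_v1077 :=
  edge_flip (s0_f18015 IH)
theorem s0_f18019 : ed sl_bt s0_v1077 = sq565 :=
  gap_rel s0_rot68 (path_edge (s0_f18015r IH) (path_nil sq565))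
theorem s0_f18021 : ed sl_bt sq1196 = sq832 :=
  real_edge rels S fwd inv o lvl plet idx 16 IH Gen.b sp1196 sp832 rfl rfl
theorem s0_f3113r : ed sl_bt sq496 = sq381 :=
  edge_flip (s0_f3113 IH)
theorem s0_f18022 : ed sl_ft sq640 = sq496 :=
  gap_rel s0_rot116 (path_edge (s0_f5179 IH) (path_eq (s0_f16692 IH) (path_edge (s0_f11359 IH) (path_edge (s0_f18015r IH) (path_edge (s0_f3204 IH) (path_edge (s0_f3113r IH) (path_nil sq496)))))))
theorem s0_f11310r : ed sl_gt s0_v1075 = sq582 :=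
  edge_flip (s0_f11310 IH)
theorem s0_f18024 : ed sl_bt sq582 = sq537 :=
  gap_rel s0_rot26 (path_edge (s0_f11310r IH) (path_edge (s0_f11302 IH) (path_edge (s0_f11325r IH) (path_edge (s0_f18015r IH) (path_edge (s0_f3122 IH) (path_nil sq537))))))
theorem s0_f18024r : ed sl_bf sq537 = sq582 :=
  edge_flip (s0_f18024 IH)
theorem s0_f18033 : ed sl_ef sq565 = sq537 :=
  gap_rel s0_rot46 (path_edge (s0_f18015 IH) (path_eq (s0_f16669 IH).symm (path_eq (s0_f16790 IH) (path_edge (s0_f10896 IH) (path_edge (s0_f18024r IH) (path_nil sq537))))))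
theorem s0_f6204r : ed sl_ff sq525 = sq355 :=
  edge_flip (s0_f6204 IH)
theorem s0_f2769r : ed sl_gf sq355 = sq229 :=
  edge_flip (s0_f2769 IH)
theorem s0_f2768r : ed sl_bf sq229 = sq157 :=
  edge_flip (s0_f2768 IH)
theorem s0_f2789r : ed sl_ff sq157 = sq244 :=
  edge_flip (s0_f2789 IH)
theorem s0_f1716r : ed sl_bf sq329 = sq489 :=
  edge_flip (s0_f1716 IH)
theorem s0_f3123r : ed sl_ff sq489 = sq333 :=
  edge_flip (s0_f3123 IH)
theorem s0_f3104r : ed sl_gf sq333 = sq496 :=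
  edge_flip (s0_f3104 IH)
theorem s0_f3120r : ed sl_ff sq381 = sq565 :=
  edge_flip (s0_f3120 IH)
theorem s0_f3122r : ed sl_gf sq565 = sq537 :=
  edge_flip (s0_f3122 IH)
theorem s0_f18036 : ed sl_gf sq579 = sq610 :=
  gap_rel s0_rot80 (path_edge (s0_f3706 IH) (path_edge (s0_f18024r IH) (path_edge (s0_f3122r IH) (path_edge (s0_f3120r IH) (path_edge (s0_f3105r IH) (path_edge (s0_f3104r IH) (path_edge (s0_f3123r IH) (path_edge (s0_f1716r IH) (path_edge (s0_f9785r IH) (path_eq (s0_f16180 IH) (path_edge (s0_f2789r IH) (path_edge (s0_f2768r IH) (path_edge (s0_f2769r IH) (path_edge (s0_f6204r IH) (path_eq (s0_f16517 IH) (path_edge (s0_f12350 IH) (path_nil sq610)))))))))))))))))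
theorem s0_f18036r : ed sl_gt sq610 = sq579 :=
  edge_flip (s0_f18036 IH)
theorem s0_f18042 : ed sl_gt sq579 = sq610 :=
  gap_rel s0_rot25 (path_edge (s0_f18036r IH) (path_nil sq610))
theorem s0_f11311r : ed sl_ft s0_v1075 = sq581 :=
  edge_flip (s0_f11311 IH)
theorem s0_f18044 : ed sl_af sq581 = sq610 :=
  gap_rel s0_rot81 (path_edge (s0_f11311r IH) (path_edge (s0_f11309 IH) (path_edge (s0_f3706r IH) (path_edge (s0_f18036r IH) (path_nil sq610)))))
theorem s0_f803r : ed sl_df sq898 = sq609 :=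
  edge_flip (s0_f803 IH)
theorem s0_f818r : ed sl_cf sq609 = sq409 :=
  edge_flip (s0_f818 IH)
theorem s0_f405r : ed sl_df sq409 = sq274 :=
  edge_flip (s0_f405 IH)
theorem s0_f420r : ed sl_cf sq274 = sq412 :=
  edge_flip (s0_f420 IH)
theorem s0_f6968r : ed sl_df s0_v462 = sq610 :=
  edge_flip (s0_f6968 IH)
theorem s0_f18044r : ed sl_at sq610 = sq581 :=
  edge_flip (s0_f18044 IH)
theorem s0_f7385r : ed sl_cf sq581 = sq857 :=
  edge_flip (s0_f7385 IH)
theorem s0_f7386r : ed sl_df sq857 = sq1225 :=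
  edge_flip (s0_f7386 IH)
theorem s0_f18048 : ed sl_cf sq1225 = sq898 :=
  gap_rel s0_rot63 (path_edge (s0_f7386r IH) (path_edge (s0_f7385r IH) (path_edge (s0_f18044r IH) (path_edge (s0_f6968r IH) (path_eq (s0_f15492 IH).symm (path_edge (s0_f420r IH) (path_edge (s0_f405r IH) (path_edge (s0_f818r IH) (path_edge (s0_f803r IH) (path_nil sq898))))))))))
theorem s0_f18050 : ed sl_bt sq1225 = sq1573 :=
  real_edge rels S fwd inv o lvl plet idx 16 IH Gen.b sp1225 sp1573 rfl rfl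
theorem s0_f18057 : ed sl_gt sq1225 = sq856 :=
  real_edge rels S fwd inv o lvl plet idx 16 IH Gen.g sp1225 sp856 rfl rfl
theorem s0_f822r : ed sl_gt sq1068 = sq898 :=
  edge_flip (s0_f822 IH)
theorem s0_f18048r : ed sl_ct sq898 = sq1225 :=
  edge_flip (s0_f18048 IH)
theorem s0_f18058 : ed sl_ct sq856 = sq1068 :=
  gap_rel s0_rot39 (path_edge (s0_f18057 IH) (path_edge (s0_f18048r IH) (path_edge (s0_f822r IH) (path_nil sq1068))))
theorem s0_f10658r : ed sl_dt s0_v1021 = sq412 :=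
  edge_flip (s0_f10658 IH)
theorem s0_f18060 : ed sl_af sq1225 = sq1260 :=
  gap_rel s0_rot89 (path_edge (s0_f18048r IH) (path_edge (s0_f803 IH) (path_edge (s0_f818 IH) (path_edge (s0_f405 IH) (path_edge (s0_f420 IH) (path_edge (s0_f10658r IH) (path_eq (s0_f15883 IH) (path_edge (s0_f6972 IH) (path_edge (s0_f6973 IH) (path_nil sq1260))))))))))
theorem s0_f18060r : ed sl_at sq1260 = sq1225 :=
  edge_flip (s0_f18060 IH)
theorem s0_f18067 : ed sl_gt sq1224 = sq1260 :=
  gap_rel s0_rot85 (path_edge (s0_f3733 IH) (path_edge (s0_f18057 IH) (path_edge (s0_f18060r IH) (path_nil sq1260))))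
theorem s0_f6973r : ed sl_df sq899 = sq1260 :=
  edge_flip (s0_f6973 IH)
theorem s0_f18067r : ed sl_gf sq1260 = sq1224 :=
  edge_flip (s0_f18067 IH)
theorem s0_f18069 : ed sl_gf sq855 = sq899 :=
  gap_rel s0_rot45 (path_edge (s0_f3727r IH) (path_edge (s0_f18067r IH) (path_edge (s0_f6973r IH) (path_nil sq899))))
theorem s0_f18071 : ed sl_gf sq1224 = sq1260 :=
  gap_rel s0_rot76 (path_edge (s0_f18067r IH) (path_nil sq1260))
theorem s0_f842r : ed sl_ff sq898 = sq1260 :=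
  edge_flip (s0_f842 IH)
theorem s0_f3736r : ed sl_ff sq1224 = sq1228 :=
  edge_flip (s0_f3736 IH)
theorem s0_f18075 : ed sl_gf sq1228 = sq1259 :=
  gap_rel s0_rot79 (path_edge (s0_f3736r IH) (path_edge (s0_f18067r IH) (path_edge (s0_f842r IH) (path_edge (s0_f837 IH) (path_nil sq1259)))))
theorem s0_f18075r : ed sl_gt sq1259 = sq1228 :=
  edge_flip (s0_f18075 IH)
theorem s0_f18081 : ed sl_gt sq858 = sq897 :=
  gap_rel s0_rot20 (path_edge (s0_f3726 IH) (path_edge (s0_f18075r IH) (path_edge (s0_f6989 IH) (path_nil sq897))))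
theorem s0_f18083 : ed sl_gt sq1228 = sq1259 :=
  gap_rel s0_rot25 (path_edge (s0_f18075r IH) (path_nil sq1259))
theorem s0_f10635r : ed sl_df sq897 = sq1259 :=
  edge_flip (s0_f10635 IH)
theorem s0_f18083r : ed sl_gf sq1259 = sq1228 :=
  edge_flip (s0_f18083 IH)
theorem s0_f3742r : ed sl_df sq1228 = sq858 :=
  edge_flip (s0_f3742 IH)
theorem s0_f18087 : ed sl_gf sq858 = sq897 :=
  gap_rel s0_rot45 (path_edge (s0_f3742r IH) (path_edge (s0_f18083r IH) (path_edge (s0_f10635r IH) (path_nil sq897))))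
theorem s0_f18089 : ed sl_ff sq1225 = sq1259 :=
  gap_rel s0_rot126 (path_edge (s0_f18060r IH) (path_edge (s0_f18071 IH) (path_edge (s0_f3728 IH) (path_edge (s0_f18083r IH) (path_nil sq1259)))))
theorem s0_f18071r : ed sl_gt sq1260 = sq1224 :=
  edge_flip (s0_f18071 IH)
theorem s0_f18089r : ed sl_ft sq1259 = sq1225 :=
  edge_flip (s0_f18089 IH)
theorem s0_f18093 : ed sl_ft sq856 = sq1068 :=
  gap_rel s0_rot97 (path_edge (s0_f18057 IH) (path_edge (s0_f18089r IH) (path_edge (s0_f18083 IH) (path_edge (s0_f3728r IH) (path_edge (s0_f18071r IH) (path_edge (s0_f834 IH) (path_edge (s0_f822r IH) (path_nil sq1068))))))))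
theorem s0_f804r : ed sl_df sq739 = sq1068 :=
  edge_flip (s0_f804 IH)
theorem s0_f18093r : ed sl_ff sq1068 = sq856 :=
  edge_flip (s0_f18093 IH)
theorem s0_f4743r : ed sl_df sq856 = sq580 :=
  edge_flip (s0_f4743 IH)
theorem s0_f18096 : ed sl_ff sq580 = sq739 :=
  gap_rel s0_rot100 (path_edge (s0_f4743r IH) (path_edge (s0_f18093r IH) (path_edge (s0_f804r IH) (path_nil sq739))))
theorem s0_f18096r : ed sl_ft sq739 = sq580 :=
  edge_flip (s0_f18096 IH)
theorem s0_f18103 : ed sl_ft sq580 = sq739 :=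
  gap_rel s0_rot16 (path_edge (s0_f18096r IH) (path_nil sq739))
theorem s0_f18109 : ed sl_ft sq1206 = sq851 :=
  real_edge rels S fwd inv o lvl plet idx 16 IH Gen.f sp1206 sp851 rfl rfl
theorem s0_f797r : ed sl_ff sq1419 = sq1066 :=
  edge_flip (s0_f797 IH)
theorem s0_f817r : ed sl_bf sq1066 = sq739 :=
  edge_flip (s0_f817 IH)
theorem s0_f18103r : ed sl_ff sq739 = sq580 :=
  edge_flip (s0_f18103 IH)
theorem s0_f3749r : ed sl_bf sq580 = sq851 :=
  edge_flip (s0_f3749 IH)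
theorem s0_f18109r : ed sl_ff sq851 = sq1206 :=
  edge_flip (s0_f18109 IH)
theorem s0_f18110 : ed sl_bf sq1206 = sq1419 :=
  gap_rel s0_rot104 (path_edge (s0_f18109r IH) (path_edge (s0_f3749r IH) (path_edge (s0_f18103r IH) (path_edge (s0_f817r IH) (path_edge (s0_f797r IH) (path_nil sq1419))))))
theorem s0_f18112 : ed sl_gt sq857 = sq580 :=
  real_edge rels S fwd inv o lvl plet idx 16 IH Gen.g sp857 sp580 rfl rfl
theorem s0_f18081r : ed sl_gf sq897 = sq858 :=
  edge_flip (s0_f18081 IH)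
theorem s0_f808r : ed sl_ff sq899 = sq609 :=
  edge_flip (s0_f808 IH)
theorem s0_f18112r : ed sl_gf sq580 = sq857 :=
  edge_flip (s0_f18112 IH)
theorem s0_f18113 : ed sl_ff sq857 = sq897 :=
  gap_rel s0_rot22 (path_edge (s0_f18112r IH) (path_edge (s0_f18103r IH) (path_edge (s0_f794 IH) (path_edge (s0_f808r IH) (path_edge (s0_f18069 IH) (path_edge (s0_f3703 IH) (path_edge (s0_f18081r IH) (path_nil sq897))))))))
theorem s0_f18116 : ed sl_et sq857 = sq642 :=
  real_edge rels S fwd inv o lvl plet idx 16 IH Gen.e sp857 sp642 rfl rfl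
theorem s0_f18117 : ed sl_et sq684 = sq897 :=
  real_edge rels S fwd inv o lvl plet idx 16 IH Gen.e sp684 sp897 rfl rfl
theorem s0_f18069r : ed sl_gt sq899 = sq855 :=
  edge_flip (s0_f18069 IH)
theorem s0_f3703r : ed sl_ft sq855 = sq858 :=
  edge_flip (s0_f3703 IH)
theorem s0_f18113r : ed sl_ft sq897 = sq857 :=
  edge_flip (s0_f18113 IH)
theorem s0_f18120 : ed sl_af sq857 = sq899 :=
  gap_rel s0_rot81 (path_edge (s0_f18113r IH) (path_edge (s0_f18081 IH) (path_edge (s0_f3703r IH) (path_edge (s0_f18069r IH) (path_nil sq899)))))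
theorem s0_f18124 : ed sl_at sq1595 = sq1261 :=
  real_edge rels S fwd inv o lvl plet idx 16 IH Gen.a sp1595 sp1261 rfl rfl
theorem s0_f18125 : ed sl_et sq685 = sq899 :=
  real_edge rels S fwd inv o lvl plet idx 16 IH Gen.e sp685 sp899 rfl rfl
theorem s0_f18120r : ed sl_at sq899 = sq857 :=
  edge_flip (s0_f18120 IH)
theorem s0_f18126 : ed sl_at sq642 = sq685 :=
  gap_rel s0_rot86 (path_edge (s0_f18116 IH) (path_edge (s0_f18120r IH) (path_edge (s0_f18125 IH) (path_nil sq685))))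
theorem s0_f18126r : ed sl_af sq685 = sq642 :=
  edge_flip (s0_f18126 IH)
theorem s0_f18128 : ed sl_af sq642 = sq685 :=
  gap_rel s0_rot66 (path_edge (s0_f18126r IH) (path_nil sq685))
theorem s0_f11328r : ed sl_af sq684 = sq463 :=
  edge_flip (s0_f11328 IH)
theorem s0_f7293r : ed sl_ff sq463 = sq685 :=
  edge_flip (s0_f7293 IH)
theorem s0_f18132 : ed sl_ff sq642 = sq684 :=
  gap_rel s0_rot11 (path_edge (s0_f18126r IH) (path_edge (s0_f7293r IH) (path_edge (s0_f11328r IH) (path_nil sq684))))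
theorem s0_f10925r : ed sl_gf sq642 = sq432 :=
  edge_flip (s0_f10925 IH)
theorem s0_f7171r : ed sl_af sq432 = sq641 :=
  edge_flip (s0_f7171 IH)
theorem s0_f18134 : ed sl_gf sq641 = sq685 :=
  gap_rel s0_rot47 (path_edge (s0_f7171r IH) (path_edge (s0_f10925r IH) (path_edge (s0_f18126r IH) (path_nil sq685))))
theorem s0_f18134r : ed sl_gt sq685 = sq641 :=
  edge_flip (s0_f18134 IH)
theorem s0_f18137 : ed sl_gt sq641 = sq685 :=
  gap_rel s0_rot25 (path_edge (s0_f18134r IH) (path_nil sq685))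
theorem s0_f16911r : ed sl_af sq833 = sq567 :=
  edge_flip (s0_f16911 IH)
theorem s0_f18139 : ed sl_ft sq641 = sq833 :=
  gap_rel s0_rot107 (path_edge (s0_f18134r IH) (path_edge (s0_f7898 IH) (path_edge (s0_f11348r IH) (path_eq (s0_f16957 IH).symm (path_edge (s0_f16911r IH) (path_nil sq833))))))
theorem s0_f18132r : ed sl_ft sq684 = sq642 :=
  edge_flip (s0_f18132 IH)
theorem s0_f18141 : ed sl_gt sq833 = sq684 :=
  gap_rel s0_rot17 (path_edge (s0_f18139 IH) (path_edge (s0_f18134r IH) (path_edge (s0_f18128 IH) (path_edge (s0_f18132r IH) (path_nil sq684)))))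
theorem s0_f18117r : ed sl_ef sq897 = sq684 :=
  edge_flip (s0_f18117 IH)
theorem s0_f18141r : ed sl_gf sq684 = sq833 :=
  edge_flip (s0_f18141 IH)
theorem s0_f18144 : ed sl_ef sq833 = sq858 :=
  gap_rel s0_rot36 (path_edge (s0_f18141r IH) (path_edge (s0_f18117r IH) (path_edge (s0_f18087 IH) (path_nil sq858))))
theorem s0_f18144r : ed sl_et sq858 = sq833 :=
  edge_flip (s0_f18144 IH)
theorem s0_f18146 : ed sl_et sq833 = sq858 :=
  gap_rel s0_rot31 (path_edge (s0_f18144r IH) (path_nil sq858))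
theorem s0_f18151 : ed sl_at sq920 = sq627 :=
  real_edge rels S fwd inv o lvl plet idx 16 IH Gen.a sp920 sp627 rfl rfl
theorem s0_f18152 : ed sl_at sq800 = sq1142 :=
  real_edge rels S fwd inv o lvl plet idx 16 IH Gen.a sp800 sp1142 rfl rfl
theorem s0_f18153 : ed sl_ft sq1142 = sq1481 :=
  real_edge rels S fwd inv o lvl plet idx 16 IH Gen.f sp1142 sp1481 rfl rfl
theorem s0_f18154 : ed sl_ct sq1481 = sq1134 :=
  real_edge rels S fwd inv o lvl plet idx 16 IH Gen.c sp1481 sp1134 rfl rfl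
theorem s0_f18110r : ed sl_bt sq1419 = sq1206 :=
  edge_flip (s0_f18110 IH)
theorem s0_f18160 : ed sl_ct sq572 = sq786 :=
  gap_rel s0_rot127 (path_edge (s0_f17371 IH) (path_edge (s0_f17372 IH) (path_edge (s0_f18110r IH) (path_edge (s0_f17674 IH) (path_edge (s0_f17680 IH) (path_nil sq786))))))
theorem s0_f18160r : ed sl_cf sq786 = sq572 :=
  edge_flip (s0_f18160 IH)
theorem s0_f18175 : ed sl_cf sq572 = sq786 :=
  gap_rel s0_rot40 (path_edge (s0_f18160r IH) (path_nil sq786))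
theorem s0_f18175r : ed sl_ct sq786 = sq572 :=
  edge_flip (s0_f18175 IH)
theorem s0_f18183 : ed sl_ct sq836 = sq1126 :=
  gap_rel s0_rot115 (path_edge (s0_f17370 IH) (path_edge (s0_f18175r IH) (path_edge (s0_f2867 IH) (path_nil sq1126))))
theorem s0_f2873r : ed sl_ff sq785 = sq1126 :=
  edge_flip (s0_f2873 IH)
theorem s0_f18183r : ed sl_cf sq1126 = sq836 :=
  edge_flip (s0_f18183 IH)
theorem s0_f2324r : ed sl_ff sq836 = sq570 :=
  edge_flip (s0_f2324 IH)
theorem s0_f18196 : ed sl_cf sq570 = sq785 :=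
  gap_rel s0_rot65 (path_edge (s0_f2324r IH) (path_edge (s0_f18183r IH) (path_edge (s0_f2873r IH) (path_nil sq785))))
theorem s0_f18198 : ed sl_gt sq845 = sq836 :=
  real_edge rels S fwd inv o lvl plet idx 16 IH Gen.g sp845 sp836 rfl rfl
theorem s0_f18212 : ed sl_ft sq845 = sq573 :=
  real_edge rels S fwd inv o lvl plet idx 16 IH Gen.f sp845 sp573 rfl rfl
theorem s0_f18223 : ed sl_bt sq573 = sq844 :=
  real_edge rels S fwd inv o lvl plet idx 16 IH Gen.b sp573 sp844 rfl rfl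
theorem s0_f18227 : ed sl_bt sq924 = sq630 :=
  real_edge rels S fwd inv o lvl plet idx 16 IH Gen.b sp924 sp630 rfl rfl
theorem s0_f18233 : ed sl_gt sq622 = sq630 :=
  real_edge rels S fwd inv o lvl plet idx 16 IH Gen.g sp622 sp630 rfl rfl
theorem s0_f18246 : ed sl_et sq924 = sq1209 :=
  real_edge rels S fwd inv o lvl plet idx 16 IH Gen.e sp924 sp1209 rfl rfl
theorem s0_f18248 : ed sl_et sq836 = sq622 :=
  real_edge rels S fwd inv o lvl plet idx 16 IH Gen.e sp836 sp622 rfl rfl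
theorem s0_f18257 : ed sl_bt sq1209 = sq845 :=
  real_edge rels S fwd inv o lvl plet idx 16 IH Gen.b sp1209 sp845 rfl rfl
theorem s0_f18196r : ed sl_ct sq785 = sq570 :=
  edge_flip (s0_f18196 IH)
theorem s0_f18279 : ed sl_ct sq570 = sq785 :=
  gap_rel s0_rot59 (path_edge (s0_f18196r IH) (path_nil sq785))
theorem s0_f18282 : ed sl_et sq834 = sq620 :=
  real_edge rels S fwd inv o lvl plet idx 16 IH Gen.e sp834 sp620 rfl rfl
theorem s0_f18288 : ed sl_bt sq836 = sq1200 :=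
  real_edge rels S fwd inv o lvl plet idx 16 IH Gen.b sp836 sp1200 rfl rfl
theorem s0_f18328 : ed sl_bt sq1248 = sq1462 :=
  real_edge rels S fwd inv o lvl plet idx 16 IH Gen.b sp1248 sp1462 rfl rfl
theorem s0_f18033r : ed sl_et sq537 = sq565 :=
  edge_flip (s0_f18033 IH)
theorem s0_f18333 : ed sl_et sq565 = sq537 :=
  gap_rel s0_rot31 (path_edge (s0_f18033r IH) (path_nil sq537))
theorem s0_f1953r : ed sl_cf sq783 = sq537 :=
  edge_flip (s0_f1953 IH)
theorem s0_f18333r : ed sl_ef sq537 = sq565 :=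
  edge_flip (s0_f18333 IH)
theorem s0_f9851r : ed sl_cf sq565 = sq832 :=
  edge_flip (s0_f9851 IH)
theorem s0_f18335 : ed sl_ef sq832 = sq783 :=
  gap_rel s0_rot48 (path_edge (s0_f9851r IH) (path_edge (s0_f18333r IH) (path_edge (s0_f1953r IH) (path_nil sq783))))
theorem s0_f18337 : ed sl_et sq766 = sq538 :=
  real_edge rels S fwd inv o lvl plet idx 16 IH Gen.e sp766 sp538 rfl rfl
theorem s0_f18335r : ed sl_et sq783 = sq832 :=
  edge_flip (s0_f18335 IH)
theorem s0_f18338 : ed sl_at sq832 = sq766 :=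
  gap_rel s0_rot86 (path_edge (s0_f18335r IH) (path_edge (s0_f9798 IH) (path_edge (s0_f18337 IH) (path_nil sq766))))
theorem s0_f18345 : ed sl_et sq564 = sq562 :=
  gap_rel s0_rot37 (path_edge (s0_f3121 IH) (path_edge (s0_f18335r IH) (path_edge (s0_f17746 IH) (path_nil sq562))))
theorem s0_f18345r : ed sl_ef sq562 = sq564 :=
  edge_flip (s0_f18345 IH)
theorem s0_f10389r : ed sl_gf sq564 = sq380 :=
  edge_flip (s0_f10389 IH)
theorem s0_f2031r : ed sl_ef sq380 = sq546 :=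
  edge_flip (s0_f2031 IH)
theorem s0_f18356 : ed sl_gf sq546 = sq562 :=
  gap_rel s0_rot18 (path_edge (s0_f2031r IH) (path_edge (s0_f10389r IH) (path_edge (s0_f18345r IH) (path_nil sq562))))
theorem s0_f18356r : ed sl_gt sq562 = sq546 :=
  edge_flip (s0_f18356 IH)
theorem s0_f18367 : ed sl_gt sq546 = sq562 :=
  gap_rel s0_rot25 (path_edge (s0_f18356r IH) (path_nil sq562))
theorem s0_f18379 : ed sl_gt sq783 = sq832 :=
  real_edge rels S fwd inv o lvl plet idx 16 IH Gen.g sp783 sp832 rfl rfl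
theorem s0_f10388r : ed sl_ff sq538 = sq380 :=
  edge_flip (s0_f10388 IH)
theorem s0_f16470r : ed sl_gf sq380 = sq564 :=
  edge_flip (s0_f16470 IH)
theorem s0_f3121r : ed sl_ff sq564 = sq832 :=
  edge_flip (s0_f3121 IH)
theorem s0_f18379r : ed sl_gf sq832 = sq783 :=
  edge_flip (s0_f18379 IH)
theorem s0_f17746r : ed sl_ff sq783 = sq562 :=
  edge_flip (s0_f17746 IH)
theorem s0_f18367r : ed sl_gf sq562 = sq546 :=
  edge_flip (s0_f18367 IH)
theorem s0_f6730r : ed sl_ff sq546 = sq766 :=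
  edge_flip (s0_f6730 IH)
theorem s0_f18380 : ed sl_gf sq766 = sq538 :=
  gap_rel s0_rot19 (path_edge (s0_f6730r IH) (path_edge (s0_f18367r IH) (path_edge (s0_f17746r IH) (path_edge (s0_f18379r IH) (path_edge (s0_f3121r IH) (path_edge (s0_f16470r IH) (path_edge (s0_f10388r IH) (path_nil sq538))))))))
theorem s0_f18380r : ed sl_gt sq538 = sq766 :=
  edge_flip (s0_f18380 IH)
theorem s0_f18387 : ed sl_gt sq1105 = sq784 :=
  gap_rel s0_rot20 (path_edge (s0_f4725 IH) (path_edge (s0_f18380r IH) (path_edge (s0_f2049 IH) (path_nil sq784))))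
theorem s0_f2052r : ed sl_gf sq1193 = sq1124 :=
  edge_flip (s0_f2052 IH)
theorem s0_f1947r : ed sl_af sq1124 = sq784 :=
  edge_flip (s0_f1947 IH)
theorem s0_f18387r : ed sl_gf sq784 = sq1105 :=
  edge_flip (s0_f18387 IH)
theorem s0_f18390 : ed sl_af sq1105 = sq1193 :=
  gap_rel s0_rot78 (path_edge (s0_f18387r IH) (path_edge (s0_f1947r IH) (path_edge (s0_f2052r IH) (path_nil sq1193))))
theorem s0_f18395 : ed sl_ft sq802 = sq1105 :=
  real_edge rels S fwd inv o lvl plet idx 16 IH Gen.f sp802 sp1105 rfl rfl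
theorem s0_f18396 : ed sl_ft sq830 = sq1193 :=
  real_edge rels S fwd inv o lvl plet idx 16 IH Gen.f sp830 sp1193 rfl rfl
theorem s0_f18397 : ed sl_gt sq563 = sq830 :=
  real_edge rels S fwd inv o lvl plet idx 16 IH Gen.g sp563 sp830 rfl rfl
theorem s0_f18398 : ed sl_ft sq784 = sq563 :=
  real_edge rels S fwd inv o lvl plet idx 16 IH Gen.f sp784 sp563 rfl rfl
theorem s0_f18396r : ed sl_ff sq1193 = sq830 :=
  edge_flip (s0_f18396 IH)
theorem s0_f18397r : ed sl_gf sq830 = sq563 :=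
  edge_flip (s0_f18397 IH)
theorem s0_f18398r : ed sl_ff sq563 = sq784 :=
  edge_flip (s0_f18398 IH)
theorem s0_f18401 : ed sl_at sq1105 = sq1193 :=
  gap_rel s0_rot6 (path_edge (s0_f18387r IH) (path_edge (s0_f18398r IH) (path_edge (s0_f18397r IH) (path_edge (s0_f18396r IH) (path_nil sq1193)))))
theorem s0_f18401r : ed sl_af sq1193 = sq1105 :=
  edge_flip (s0_f18401 IH)
theorem s0_f18409 : ed sl_ct sq1184 = sq1193 :=
  gap_rel s0_rot101 (path_edge (s0_f2030 IH) (path_edge (s0_f2029 IH) (path_edge (s0_f2028 IH) (path_eq (s0_f16476 IH) (path_eq (s0_f15814 IH).symm (path_eq (s0_f16099 IH) (path_edge (s0_f10130 IH) (path_edge (s0_f10125 IH) (path_edge (s0_f6541 IH) (path_edge (s0_f6542 IH) (path_edge (s0_f18401r IH) (path_nil sq1193))))))))))))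
theorem s0_f1963r : ed sl_gf sq1124 = sq1193 :=
  edge_flip (s0_f1963 IH)
theorem s0_f18409r : ed sl_cf sq1193 = sq1184 :=
  edge_flip (s0_f18409 IH)
theorem s0_f18415 : ed sl_gf sq1184 = sq1030 :=
  gap_rel s0_rot5 (path_edge (s0_f18409r IH) (path_edge (s0_f1963r IH) (path_edge (s0_f1919r IH) (path_nil sq1030))))
theorem s0_f10957r : ed sl_cf sq939 = sq640 :=
  edge_flip (s0_f10957 IH)
theorem s0_f6916r : ed sl_df sq640 = sq434 :=
  edge_flip (s0_f6916 IH)
theorem s0_f9848r : ed sl_cf s0_v934 = sq384 :=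
  edge_flip (s0_f9848 IH)
theorem s0_f6658r : ed sl_df sq384 = sq565 :=
  edge_flip (s0_f6658 IH)
theorem s0_f9852r : ed sl_df sq832 = sq1193 :=
  edge_flip (s0_f9852 IH)
theorem s0_f2030r : ed sl_df sq1184 = sq825 :=
  edge_flip (s0_f2030 IH)
theorem s0_f18417 : ed sl_at sq825 = sq939 :=
  gap_rel s0_rot9 (path_edge (s0_f2030r IH) (path_edge (s0_f18409r IH) (path_edge (s0_f9852r IH) (path_edge (s0_f9851r IH) (path_edge (s0_f6658r IH) (path_edge (s0_f9848r IH) (path_eq (s0_f16189 IH).symm (path_eq (s0_f15761 IH) (path_edge (s0_f6916r IH) (path_edge (s0_f10957r IH) (path_nil sq939)))))))))))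
theorem s0_f18419 : ed sl_bt sq1183 = sq825 :=
  real_edge rels S fwd inv o lvl plet idx 16 IH Gen.b sp1183 sp825 rfl rfl
theorem s0_f18417r : ed sl_af sq939 = sq825 :=
  edge_flip (s0_f18417 IH)
theorem s0_f18420 : ed sl_af sq825 = sq939 :=
  gap_rel s0_rot66 (path_edge (s0_f18417r IH) (path_nil sq939))
theorem s0_f10958r : ed sl_df sq1291 = sq939 :=
  edge_flip (s0_f10958 IH)
theorem s0_f2075r : ed sl_df sq825 = sq1184 :=
  edge_flip (s0_f2075 IH)
theorem s0_f18424 : ed sl_af sq1184 = sq1291 :=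
  gap_rel s0_rot72 (path_edge (s0_f2075r IH) (path_edge (s0_f18417r IH) (path_edge (s0_f10958r IH) (path_nil sq1291))))
theorem s0_f18424r : ed sl_at sq1291 = sq1184 :=
  edge_flip (s0_f18424 IH)
theorem s0_f18427 : ed sl_at sq1184 = sq1291 :=
  gap_rel s0_rot83 (path_edge (s0_f18424r IH) (path_nil sq1291))
theorem s0_f18390r : ed sl_at sq1193 = sq1105 :=
  edge_flip (s0_f18390 IH)
theorem s0_f18429 : ed sl_ct sq1105 = sq1291 :=
  gap_rel s0_rot115 (path_edge (s0_f18390r IH) (path_edge (s0_f18409 IH) (path_edge (s0_f18424r IH) (path_nil sq1291))))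
theorem s0_f18415r : ed sl_gt sq1030 = sq1184 :=
  edge_flip (s0_f18415 IH)
theorem s0_f18438 : ed sl_gt sq1184 = sq1030 :=
  gap_rel s0_rot25 (path_edge (s0_f18415r IH) (path_nil sq1030))
theorem s0_f1718r : ed sl_df sq714 = sq1030 :=
  edge_flip (s0_f1718 IH)
theorem s0_f18438r : ed sl_gf sq1030 = sq1184 :=
  edge_flip (s0_f18438 IH)
theorem s0_f18440 : ed sl_gf sq825 = sq714 :=
  gap_rel s0_rot45 (path_edge (s0_f2030r IH) (path_edge (s0_f18438r IH) (path_edge (s0_f1718r IH) (path_nil sq714))))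
theorem s0_f2018r : ed sl_gf sq1043 = sq722 :=
  edge_flip (s0_f2018 IH)
theorem s0_f1918r : ed sl_ff sq722 = sq1030 :=
  edge_flip (s0_f1918 IH)
theorem s0_f18442 : ed sl_ff sq1291 = sq1043 :=
  gap_rel s0_rot126 (path_edge (s0_f18427 IH) (path_edge (s0_f18438r IH) (path_edge (s0_f1918r IH) (path_edge (s0_f2018r IH) (path_nil sq1043)))))
theorem s0_f18442r : ed sl_ft sq1043 = sq1291 :=
  edge_flip (s0_f18442 IH)
theorem s0_f18447 : ed sl_ft sq939 = sq723 :=
  gap_rel s0_rot14 (path_edge (s0_f6910 IH) (path_edge (s0_f18442r IH) (path_edge (s0_f1821 IH) (path_nil sq723))))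
theorem s0_f18449 : ed sl_ft sq1291 = sq1043 :=
  gap_rel s0_rot16 (path_edge (s0_f18442r IH) (path_nil sq1043))
theorem s0_f18449r : ed sl_ff sq1043 = sq1291 :=
  edge_flip (s0_f18449 IH)
theorem s0_f18429r : ed sl_cf sq1291 = sq1105 :=
  edge_flip (s0_f18429 IH)
theorem s0_f18395r : ed sl_ff sq1105 = sq802 :=
  edge_flip (s0_f18395 IH)
theorem s0_f18451 : ed sl_cf sq802 = sq1043 :=
  gap_rel s0_rot65 (path_edge (s0_f18395r IH) (path_edge (s0_f18429r IH) (path_edge (s0_f18449r IH) (path_nil sq1043))))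
theorem s0_f1837r : ed sl_df sq723 = sq1043 :=
  edge_flip (s0_f1837 IH)
theorem s0_f18453 : ed sl_ff sq939 = sq723 :=
  gap_rel s0_rot100 (path_edge (s0_f10958r IH) (path_edge (s0_f18449r IH) (path_edge (s0_f1837r IH) (path_nil sq723))))
theorem s0_f18462 : ed sl_et sq802 = sq1147 :=
  real_edge rels S fwd inv o lvl plet idx 16 IH Gen.e sp802 sp1147 rfl rfl
theorem s0_f18451r : ed sl_ct sq1043 = sq802 :=
  edge_flip (s0_f18451 IH)
theorem s0_f18463 : ed sl_ct sq1147 = sq1395 :=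
  gap_rel s0_rot60 (path_edge (s0_f18462 IH) (path_edge (s0_f18451r IH) (path_edge (s0_f1850 IH) (path_nil sq1395))))
theorem s0_f18465 : ed sl_af sq803 = sq723 :=
  gap_rel s0_rot89 (path_edge (s0_f6754 IH) (path_edge (s0_f6753 IH) (path_edge (s0_f4887 IH) (path_edge (s0_f6738 IH) (path_edge (s0_f4884 IH) (path_edge (s0_f4885 IH) (path_edge (s0_f18451r IH) (path_edge (s0_f1821 IH) (path_nil sq723)))))))))
theorem s0_f18465r : ed sl_at sq723 = sq803 :=
  edge_flip (s0_f18465 IH)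
theorem s0_f18475 : ed sl_ft sq803 = sq825 :=
  gap_rel s0_rot118 (path_edge (s0_f18465r IH) (path_edge (s0_f18447 IH) (path_edge (s0_f18417 IH) (path_nil sq825))))
theorem s0_f18477 : ed sl_gt sq803 = sq721 :=
  gap_rel s0_rot85 (path_edge (s0_f18465r IH) (path_edge (s0_f16936 IH) (path_edge (s0_f1883 IH) (path_nil sq721))))
theorem s0_f9776r : ed sl_ff sq714 = sq495 :=
  edge_flip (s0_f9776 IH)
theorem s0_f16937r : ed sl_gf sq495 = sq723 :=
  edge_flip (s0_f16937 IH)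
theorem s0_f18479 : ed sl_ff sq803 = sq825 :=
  gap_rel s0_rot126 (path_edge (s0_f18465r IH) (path_edge (s0_f16937r IH) (path_edge (s0_f9776r IH) (path_edge (s0_f18440 IH) (path_nil sq825)))))
theorem s0_f18479r : ed sl_ft sq825 = sq803 :=
  edge_flip (s0_f18479 IH)
theorem s0_f18484 : ed sl_ft sq1148 = sq1184 :=
  gap_rel s0_rot14 (path_edge (s0_f6755 IH) (path_edge (s0_f18479r IH) (path_edge (s0_f2075 IH) (path_nil sq1184))))
theorem s0_f18484r : ed sl_ff sq1184 = sq1148 :=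
  edge_flip (s0_f18484 IH)
theorem s0_f18492 : ed sl_gf sq1148 = sq828 :=
  gap_rel s0_rot79 (path_edge (s0_f18484r IH) (path_edge (s0_f18438r IH) (path_edge (s0_f1918r IH) (path_edge (s0_f1900 IH) (path_nil sq828)))))
theorem s0_f18492r : ed sl_gt sq828 = sq1148 :=
  edge_flip (s0_f18492 IH)
theorem s0_f18498 : ed sl_gt sq1148 = sq828 :=
  gap_rel s0_rot25 (path_edge (s0_f18492r IH) (path_nil sq828))
theorem s0_f2012r : ed sl_df sq721 = sq828 :=
  edge_flip (s0_f2012 IH)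
theorem s0_f18498r : ed sl_gf sq828 = sq1148 :=
  edge_flip (s0_f18498 IH)
theorem s0_f6755r : ed sl_df sq1148 = sq803 :=
  edge_flip (s0_f6755 IH)
theorem s0_f18500 : ed sl_gf sq803 = sq721 :=
  gap_rel s0_rot45 (path_edge (s0_f6755r IH) (path_edge (s0_f18498r IH) (path_edge (s0_f2012r IH) (path_nil sq721))))
theorem s0_f17788r : ed sl_ef sq1148 = sq1496 :=
  edge_flip (s0_f17788 IH)
theorem s0_f18502 : ed sl_gf sq1496 = sq1190 :=
  gap_rel s0_rot18 (path_edge (s0_f17788r IH) (path_edge (s0_f18498r IH) (path_edge (s0_f2008r IH) (path_nil sq1190))))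
theorem s0_f2005r : ed sl_at sq1042 = sq1190 :=
  edge_flip (s0_f2005 IH)
theorem s0_f18502r : ed sl_gt sq1190 = sq1496 :=
  edge_flip (s0_f18502 IH)
theorem s0_f18504 : ed sl_at sq1496 = sq1395 :=
  gap_rel s0_rot96 (path_edge (s0_f18502r IH) (path_edge (s0_f2005r IH) (path_edge (s0_f2002 IH) (path_nil sq1395))))
theorem s0_f18506 : ed sl_gt sq1191 = sq829 :=
  real_edge rels S fwd inv o lvl plet idx 16 IH Gen.g sp1191 sp829 rfl rfl
theorem s0_f18507 : ed sl_ct sq1496 = sq1191 :=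
  gap_rel s0_rot39 (path_edge (s0_f18502r IH) (path_edge (s0_f1994 IH) (path_edge (s0_f18506 IH) (path_nil sq1191))))
theorem s0_f18514 : ed sl_gt sq829 = sq1191 :=
  real_edge rels S fwd inv o lvl plet idx 16 IH Gen.g sp829 sp1191 rfl rfl
theorem s0_f18504r : ed sl_af sq1395 = sq1496 :=
  edge_flip (s0_f18504 IH)
theorem s0_f18515 : ed sl_af sq1496 = sq1395 :=
  gap_rel s0_rot66 (path_edge (s0_f18504r IH) (path_nil sq1395))
theorem s0_f18515r : ed sl_at sq1395 = sq1496 :=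
  edge_flip (s0_f18515 IH)
theorem s0_f18517 : ed sl_at sq1191 = sq1147 :=
  gap_rel s0_rot64 (path_edge (s0_f18507 IH) (path_edge (s0_f18515r IH) (path_edge (s0_f18463 IH) (path_nil sq1147))))
theorem s0_f18517r : ed sl_af sq1147 = sq1191 :=
  edge_flip (s0_f18517 IH)
theorem s0_f18514r : ed sl_gf sq1191 = sq829 :=
  edge_flip (s0_f18514 IH)
theorem s0_f1993r : ed sl_af sq829 = sq1189 :=
  edge_flip (s0_f1993 IH)
theorem s0_f18527 : ed sl_gf sq1189 = sq1147 :=
  gap_rel s0_rot47 (path_edge (s0_f1993r IH) (path_edge (s0_f18514r IH) (path_edge (s0_f18517r IH) (path_nil sq1147))))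
theorem s0_f18527r : ed sl_gt sq1147 = sq1189 :=
  edge_flip (s0_f18527 IH)
theorem s0_f18537 : ed sl_gt sq1189 = sq1147 :=
  gap_rel s0_rot25 (path_edge (s0_f18527r IH) (path_nil sq1147))
theorem s0_f2040r : ed sl_df sq829 = sq1147 :=
  edge_flip (s0_f2040 IH)
theorem s0_f18537r : ed sl_gf sq1147 = sq1189 :=
  edge_flip (s0_f18537 IH)
theorem s0_f18543 : ed sl_df sq1189 = sq1191 :=
  gap_rel s0_rot52 (path_edge (s0_f18537r IH) (path_edge (s0_f2040r IH) (path_edge (s0_f18514r IH) (path_nil sq1191))))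
theorem s0_f18543r : ed sl_dt sq1191 = sq1189 :=
  edge_flip (s0_f18543 IH)
theorem s0_f18550 : ed sl_dt sq1540 = sq1545 :=
  gap_rel s0_rot55 (path_edge (s0_f1997 IH) (path_edge (s0_f18543r IH) (path_edge (s0_f1829 IH) (path_nil sq1545))))
theorem s0_f3189r : ed sl_df sq831 = sq1192 :=
  edge_flip (s0_f3189 IH)
theorem s0_f3193r : ed sl_ef sq1192 = sq1545 :=
  edge_flip (s0_f3193 IH)
theorem s0_f18550r : ed sl_df sq1545 = sq1540 :=
  edge_flip (s0_f18550 IH)
theorem s0_f1925r : ed sl_ef sq1540 = sq1186 :=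
  edge_flip (s0_f1925 IH)
theorem s0_f2094r : ed sl_df sq1186 = sq826 :=
  edge_flip (s0_f2094 IH)
theorem s0_f18557 : ed sl_ef sq826 = sq831 :=
  gap_rel s0_rot30 (path_edge (s0_f2094r IH) (path_edge (s0_f1925r IH) (path_edge (s0_f18550r IH) (path_edge (s0_f3193r IH) (path_edge (s0_f3189r IH) (path_nil sq831))))))
theorem s0_f3116r : ed sl_ct sq1044 = sq831 :=
  edge_flip (s0_f3116 IH)
theorem s0_f18557r : ed sl_et sq831 = sq826 :=
  edge_flip (s0_f18557 IH)
theorem s0_f18562 : ed sl_et sq1183 = sq1044 :=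
  gap_rel s0_rot33 (path_edge (s0_f1940 IH) (path_edge (s0_f18557r IH) (path_edge (s0_f3116r IH) (path_nil sq1044))))
theorem s0_f18562r : ed sl_ef sq1044 = sq1183 :=
  edge_flip (s0_f18562 IH)
theorem s0_f18672 : ed sl_ef sq1183 = sq1044 :=
  gap_rel s0_rot34 (path_edge (s0_f18562r IH) (path_nil sq1044))
theorem s0_f18672r : ed sl_et sq1044 = sq1183 :=
  edge_flip (s0_f18672 IH)
theorem s0_f18674 : ed sl_et sq825 = sq723 :=
  gap_rel s0_rot35 (path_edge (s0_f18419 IH) (path_edge (s0_f18672r IH) (path_edge (s0_f1825 IH) (path_nil sq723))))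
theorem s0_f18674r : ed sl_ef sq723 = sq825 :=
  edge_flip (s0_f18674 IH)
theorem s0_f18676 : ed sl_ef sq939 = sq803 :=
  gap_rel s0_rot102 (path_edge (s0_f18420 IH) (path_edge (s0_f18674r IH) (path_edge (s0_f18465 IH) (path_nil sq803))))
theorem s0_f1836r : ed sl_cf sq496 = sq723 :=
  edge_flip (s0_f1836 IH)
theorem s0_f2029r : ed sl_cf sq825 = sq561 :=
  edge_flip (s0_f2029 IH)
theorem s0_f18678 : ed sl_ef sq561 = sq496 :=
  gap_rel s0_rot48 (path_edge (s0_f2029r IH) (path_edge (s0_f18674r IH) (path_edge (s0_f1836r IH) (path_nil sq496))))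
theorem s0_f18475r : ed sl_ff sq825 = sq803 :=
  edge_flip (s0_f18475 IH)
theorem s0_f18680 : ed sl_ef sq803 = sq939 :=
  gap_rel s0_rot32 (path_edge (s0_f18475r IH) (path_edge (s0_f18674r IH) (path_edge (s0_f18453 IH) (path_nil sq939))))
theorem s0_f18680r : ed sl_et sq939 = sq803 :=
  edge_flip (s0_f18680 IH)
theorem s0_f18682 : ed sl_et sq547 = sq640 :=
  gap_rel s0_rot33 (path_edge (s0_f2248 IH) (path_edge (s0_f18680r IH) (path_edge (s0_f10957 IH) (path_nil sq640))))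
theorem s0_f3716r : ed sl_ef sq579 = sq431 :=
  edge_flip (s0_f3716 IH)
theorem s0_f5173r : ed sl_bf sq431 = sq640 :=
  edge_flip (s0_f5173 IH)
theorem s0_f18682r : ed sl_ef sq640 = sq547 :=
  edge_flip (s0_f18682 IH)
theorem s0_f18684 : ed sl_bf sq547 = sq579 :=
  gap_rel s0_rot23 (path_edge (s0_f18682r IH) (path_edge (s0_f5173r IH) (path_edge (s0_f3716r IH) (path_nil sq579))))
theorem s0_f18022r : ed sl_ff sq496 = sq640 :=
  edge_flip (s0_f18022 IH)
theorem s0_f18688 : ed sl_ff sq547 = sq561 :=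
  gap_rel s0_rot99 (path_edge (s0_f18682r IH) (path_edge (s0_f18022r IH) (path_edge (s0_f18678 IH) (path_nil sq561))))
theorem s0_f18688r : ed sl_ft sq561 = sq547 :=
  edge_flip (s0_f18688 IH)
theorem s0_f18692 : ed sl_bt sq547 = sq579 :=
  gap_rel s0_rot12 (path_edge (s0_f18688r IH) (path_edge (s0_f1936 IH) (path_edge (s0_f10183 IH) (path_edge (s0_f18024 IH) (path_edge (s0_f3706r IH) (path_nil sq579))))))
theorem s0_f18694 : ed sl_gt sq489 = sq561 :=
  gap_rel s0_rot77 (path_edge (s0_f2343 IH) (path_edge (s0_f6144 IH) (path_eq (s0_f16002 IH) (path_edge (s0_f4675 IH) (path_edge (s0_f266 IH) (path_edge (s0_f305 IH) (path_edge (s0_f307 IH) (path_edge (s0_f2319 IH) (path_edge (s0_f2318 IH) (path_edge (s0_f2284 IH) (path_edge (s0_f2283 IH) (path_edge (s0_f2300 IH) (path_edge (s0_f18042 IH) (path_edge (s0_f18692 IH) (path_edge (s0_f18688r IH) (path_nil sq561))))))))))))))))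
theorem s0_f18694r : ed sl_gf sq561 = sq489 :=
  edge_flip (s0_f18694 IH)
theorem s0_f18702 : ed sl_at sq496 = sq547 :=
  gap_rel s0_rot6 (path_edge (s0_f3104r IH) (path_edge (s0_f3123r IH) (path_edge (s0_f18694r IH) (path_edge (s0_f18688 IH) (path_nil sq547)))))
theorem s0_f18702r : ed sl_af sq547 = sq496 :=
  edge_flip (s0_f18702 IH)
theorem s0_f3206r : ed sl_gf sq496 = sq333 :=
  edge_flip (s0_f3206 IH)
theorem s0_f2082r : ed sl_af sq333 = sq494 :=
  edge_flip (s0_f2082 IH)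
theorem s0_f18704 : ed sl_gf sq494 = sq547 :=
  gap_rel s0_rot47 (path_edge (s0_f2082r IH) (path_edge (s0_f3206r IH) (path_edge (s0_f18702r IH) (path_nil sq547))))
theorem s0_f5081r : ed sl_bt s0_v176 = sq184 :=
  edge_flip (s0_f5081 IH)
theorem s0_f10947r : ed sl_bt s0_v1044 = sq608 :=
  edge_flip (s0_f10947 IH)
theorem s0_f18684r : ed sl_bt sq579 = sq547 :=
  edge_flip (s0_f18684 IH)
theorem s0_f18704r : ed sl_gt sq547 = sq494 :=
  edge_flip (s0_f18704 IH)
theorem s0_f18710 : ed sl_ft sq494 = sq517 :=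
  gap_rel s0_rot128 (path_edge (s0_f18704r IH) (path_edge (s0_f18684r IH) (path_edge (s0_f3699 IH) (path_edge (s0_f11310r IH) (path_eq (s0_f16796 IH).symm (path_edge (s0_f10947r IH) (path_eq (s0_f16990 IH).symm (path_edge (s0_f11316r IH) (path_eq (s0_f16844 IH).symm (path_edge (s0_f5097 IH) (path_edge (s0_f1703 IH) (path_edge (s0_f2437 IH) (path_edge (s0_f4187 IH) (path_edge (s0_f5081r IH) (path_eq (s0_f16237 IH).symm (path_edge (s0_f6633 IH) (path_edge (s0_f6638 IH) (path_edge (s0_f6639 IH) (path_nil sq517)))))))))))))))))))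
theorem s0_f9928r : ed sl_ff sq511 = sq344 :=
  edge_flip (s0_f9928 IH)
theorem s0_f3594r : ed sl_bf sq344 = sq224 :=
  edge_flip (s0_f3594 IH)
theorem s0_f6451r : ed sl_ff sq224 = sq349 :=
  edge_flip (s0_f6451 IH)
theorem s0_f6639r : ed sl_bf sq349 = sq517 :=
  edge_flip (s0_f6639 IH)
theorem s0_f18710r : ed sl_ff sq517 = sq494 :=
  edge_flip (s0_f18710 IH)
theorem s0_f18712 : ed sl_bf sq494 = sq511 :=
  gap_rel s0_rot104 (path_edge (s0_f18710r IH) (path_edge (s0_f6639r IH) (path_edge (s0_f6451r IH) (path_edge (s0_f3594r IH) (path_edge (s0_f9928r IH) (path_nil sq511))))))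
theorem s0_f18720 : ed sl_at sq489 = sq517 :=
  gap_rel s0_rot6 (path_edge (s0_f18694r IH) (path_edge (s0_f18688 IH) (path_edge (s0_f18704 IH) (path_edge (s0_f18710r IH) (path_nil sq517)))))
theorem s0_f18720r : ed sl_af sq517 = sq489 :=
  edge_flip (s0_f18720 IH)
theorem s0_f18724 : ed sl_ef sq494 = sq517 :=
  gap_rel s0_rot102 (path_edge (s0_f2082r IH) (path_edge (s0_f9821r IH) (path_eq (s0_f15842 IH).symm (path_edge (s0_f18720r IH) (path_nil sq517)))))
theorem s0_f18724r : ed sl_et sq517 = sq494 :=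
  edge_flip (s0_f18724 IH)
theorem s0_f18728 : ed sl_et sq494 = sq517 :=
  gap_rel s0_rot31 (path_edge (s0_f18724r IH) (path_nil sq517))
theorem s0_f5129r : ed sl_cf sq754 = sq517 :=
  edge_flip (s0_f5129 IH)
theorem s0_f18728r : ed sl_ef sq517 = sq494 :=
  edge_flip (s0_f18728 IH)
theorem s0_f2022r : ed sl_cf sq494 = sq721 :=
  edge_flip (s0_f2022 IH)
theorem s0_f18730 : ed sl_ef sq721 = sq754 :=
  gap_rel s0_rot48 (path_edge (s0_f2022r IH) (path_edge (s0_f18728r IH) (path_edge (s0_f5129r IH) (path_nil sq754))))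
theorem s0_f18730r : ed sl_et sq754 = sq721 :=
  edge_flip (s0_f18730 IH)
theorem s0_f18500r : ed sl_gt sq721 = sq803 :=
  edge_flip (s0_f18500 IH)
theorem s0_f18676r : ed sl_et sq803 = sq939 :=
  edge_flip (s0_f18676 IH)
theorem s0_f18734 : ed sl_gt sq939 = sq754 :=
  gap_rel s0_rot21 (path_edge (s0_f18676r IH) (path_edge (s0_f18500r IH) (path_edge (s0_f18730r IH) (path_nil sq754))))
theorem s0_f18734r : ed sl_gf sq754 = sq939 :=
  edge_flip (s0_f18734 IH)
theorem s0_f18736 : ed sl_gf sq939 = sq754 :=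
  gap_rel s0_rot76 (path_edge (s0_f18734r IH) (path_nil sq754))
theorem s0_f18736r : ed sl_gt sq754 = sq939 :=
  edge_flip (s0_f18736 IH)
theorem s0_f18440r : ed sl_gt sq714 = sq825 :=
  edge_flip (s0_f18440 IH)
theorem s0_f18738 : ed sl_ft sq721 = sq754 :=
  gap_rel s0_rot97 (path_edge (s0_f18477 IH) (path_edge (s0_f18479r IH) (path_edge (s0_f18440r IH) (path_edge (s0_f9776 IH) (path_edge (s0_f16937 IH) (path_edge (s0_f18447 IH) (path_edge (s0_f18736r IH) (path_nil sq754))))))))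
theorem s0_f17546r : ed sl_ff sq1499 = sq1153 :=
  edge_flip (s0_f17546 IH)
theorem s0_f17448r : ed sl_af sq1153 = sq807 :=
  edge_flip (s0_f17448 IH)
theorem s0_f17282r : ed sl_bf sq807 = sq549 :=
  edge_flip (s0_f17282 IH)
theorem s0_f10334r : ed sl_cf sq549 = sq768 :=
  edge_flip (s0_f10334 IH)
theorem s0_f17322r : ed sl_ff sq768 = sq526 :=
  edge_flip (s0_f17322 IH)
theorem s0_f10163r : ed sl_af sq526 = sq359 :=
  edge_flip (s0_f10163 IH)
theorem s0_f2990r : ed sl_bf sq359 = sq235 :=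
  edge_flip (s0_f2990 IH)
theorem s0_f135r : ed sl_cf sq235 = sq150 :=
  edge_flip (s0_f135 IH)
theorem s0_f6624r : ed sl_ff sq150 = sq236 :=
  edge_flip (s0_f6624 IH)
theorem s0_f10022r : ed sl_af sq236 = sq349 :=
  edge_flip (s0_f10022 IH)
theorem s0_f10032r : ed sl_cf sq517 = sq754 :=
  edge_flip (s0_f10032 IH)
theorem s0_f18738r : ed sl_ff sq754 = sq721 :=
  edge_flip (s0_f18738 IH)
theorem s0_f1922r : ed sl_af sq721 = sq495 :=
  edge_flip (s0_f1922 IH)
theorem s0_f1937r : ed sl_bf sq495 = sq719 :=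
  edge_flip (s0_f1937 IH)
theorem s0_f1938r : ed sl_cf sq719 = sq493 :=
  edge_flip (s0_f1938 IH)
theorem s0_f3086r : ed sl_ff sq493 = sq716 :=
  edge_flip (s0_f3086 IH)
theorem s0_f3330r : ed sl_af sq716 = sq1032 :=
  edge_flip (s0_f3330 IH)
theorem s0_f3227r : ed sl_bf sq1032 = sq1384 :=
  edge_flip (s0_f3227 IH)
theorem s0_f18740 : ed sl_cf sq1384 = sq1499 :=
  gap_rel s0_rot129 (path_edge (s0_f3227r IH) (path_edge (s0_f3330r IH) (path_edge (s0_f3086r IH) (path_edge (s0_f1938r IH) (path_edge (s0_f1937r IH) (path_edge (s0_f1922r IH) (path_edge (s0_f18738r IH) (path_edge (s0_f10032r IH) (path_edge (s0_f6639r IH) (path_edge (s0_f10022r IH) (path_edge (s0_f6624r IH) (path_edge (s0_f135r IH) (path_edge (s0_f2990r IH) (path_edge (s0_f10163r IH) (path_edge (s0_f17322r IH) (path_edge (s0_f10334r IH) (path_edge (s0_f17282r IH) (path_edge (s0_f17448r IH) (path_edge (s0_f17546r IH) (path_nil sq1499))))))))))))))))))))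
theorem s0_f18740r : ed sl_ct sq1499 = sq1384 :=
  edge_flip (s0_f18740 IH)
theorem s0_f18744 : ed sl_ct sq1384 = sq1499 :=
  gap_rel s0_rot59 (path_edge (s0_f18740r IH) (path_nil sq1499))
theorem s0_f17497r : ed sl_cf sq1500 = sq1152 :=
  edge_flip (s0_f17497 IH)
theorem s0_f17481r : ed sl_af sq1152 = sq1499 :=
  edge_flip (s0_f17481 IH)
theorem s0_f18744r : ed sl_cf sq1499 = sq1384 :=
  edge_flip (s0_f18744 IH)
theorem s0_f18750 : ed sl_af sq1384 = sq1500 :=
  gap_rel s0_rot10 (path_edge (s0_f18744r IH) (path_edge (s0_f17481r IH) (path_edge (s0_f17497r IH) (path_nil sq1500))))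
theorem s0_f18750r : ed sl_at sq1500 = sq1384 :=
  edge_flip (s0_f18750 IH)
theorem s0_f3393r : ed sl_dt sq1384 = sq1524 :=
  edge_flip (s0_f3393 IH)
theorem s0_f18752 : ed sl_at sq1524 = sq1716 :=
  gap_rel s0_rot58 (path_edge (s0_f3393r IH) (path_edge (s0_f18750r IH) (path_edge (s0_f17486 IH) (path_nil sq1716))))
theorem s0_f18754 : ed sl_ft sq1154 = sq1500 :=
  real_edge rels S fwd inv o lvl plet idx 16 IH Gen.f sp1154 sp1500 rfl rfl
theorem s0_f18757 : ed sl_ft sq1716 = sq1503 :=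
  real_edge rels S fwd inv o lvl plet idx 16 IH Gen.f sp1716 sp1503 rfl rfl
theorem s0_f11367r : ed sl_gf sq686 = sq465 :=
  edge_flip (s0_f11367 IH)
theorem s0_f16985r : ed sl_gf sq611 = sq900 :=
  edge_flip (s0_f16985 IH)
theorem s0_f18863 : ed sl_af sq900 = sq686 :=
  gap_rel s0_rot78 (path_edge (s0_f16985r IH) (path_eq (s0_f16980 IH) (path_edge (s0_f11361 IH) (path_edge (s0_f11367r IH) (path_nil sq686)))))
theorem s0_f18875 : ed sl_at sq533 = sq777 :=
  real_edge rels S fwd inv o lvl plet idx 16 IH Gen.a sp533 sp777 rfl rfl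
theorem s0_f10986r : ed sl_at s0_v1050 = s0_v477 :=
  edge_flip (s0_f10986 IH)
theorem s0_f18878 : ed sl_gf s0_v1088 = s0_v1050 :=
  gap_rel s0_rot79 (path_edge (s0_f11412 IH) (path_edge (s0_f12669r IH) (path_eq (s0_f16962 IH).symm (path_eq (s0_f16923 IH) (path_edge (s0_f12484 IH) (path_edge (s0_f10986r IH) (path_nil s0_v1050)))))))
theorem s0_f18878r : ed sl_gt s0_v1050 = s0_v1088 :=
  edge_flip (s0_f18878 IH)
theorem s0_f18880 : ed sl_gt s0_v1088 = s0_v1050 :=
  gap_rel s0_rot25 (path_edge (s0_f18878r IH) (path_nil s0_v1050))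
theorem s0_f11010r : ed sl_gf s0_v1053 = s0_v477 :=
  edge_flip (s0_f11010 IH)
theorem s0_f18880r : ed sl_gf s0_v1050 = s0_v1088 :=
  edge_flip (s0_f18880 IH)
theorem s0_f18881 : ed sl_af s0_v1088 = s0_v1053 :=
  gap_rel s0_rot78 (path_edge (s0_f18880r IH) (path_edge (s0_f10986 IH) (path_edge (s0_f11010r IH) (path_nil s0_v1053))))
theorem s0_f18881r : ed sl_at s0_v1053 = s0_v1088 :=
  edge_flip (s0_f18881 IH)
theorem s0_f18882 : ed sl_ft s0_v1085 = s0_v1053 :=
  gap_rel s0_rot118 (path_edge (s0_f11393 IH) (path_edge (s0_f11412r IH) (path_edge (s0_f18881r IH) (path_nil s0_v1053))))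
theorem s0_f18884 : ed sl_bt sq1301 = sq950 :=
  real_edge rels S fwd inv o lvl plet idx 16 IH Gen.b sp1301 sp950 rfl rfl
theorem s0_f18908 : ed sl_bt sq621 = sq911 :=
  real_edge rels S fwd inv o lvl plet idx 16 IH Gen.b sp621 sp911 rfl rfl
theorem s0_f18917 : ed sl_ft sq679 = sq988 :=
  real_edge rels S fwd inv o lvl plet idx 16 IH Gen.f sp679 sp988 rfl rfl
theorem s0_f18920 : ed sl_bt sq645 = sq910 :=
  real_edge rels S fwd inv o lvl plet idx 16 IH Gen.b sp645 sp910 rfl rfl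
theorem s0_f18937 : ed sl_ft sq576 = sq602 :=
  real_edge rels S fwd inv o lvl plet idx 16 IH Gen.f sp576 sp602 rfl rfl
theorem s0_f18944 : ed sl_at sq576 = sq404 :=
  real_edge rels S fwd inv o lvl plet idx 16 IH Gen.a sp576 sp404 rfl rfl
theorem s0_f18946 : ed sl_et sq598 = sq880 :=
  real_edge rels S fwd inv o lvl plet idx 16 IH Gen.e sp598 sp880 rfl rfl
theorem s0_f18998 : ed sl_ft sq991 = sq681 :=
  real_edge rels S fwd inv o lvl plet idx 16 IH Gen.f sp991 sp681 rfl rfl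
theorem s0_f19002 : ed sl_gt sq665 = sq448 :=
  real_edge rels S fwd inv o lvl plet idx 16 IH Gen.g sp665 sp448 rfl rfl
theorem s0_f19003 : ed sl_ft sq629 = sq923 :=
  real_edge rels S fwd inv o lvl plet idx 16 IH Gen.f sp629 sp923 rfl rfl
theorem s0_f10207r : ed sl_bf sq782 = sq536 :=
  edge_flip (s0_f10207 IH)
theorem s0_f4862r : ed sl_cf sq536 = sq365 :=
  edge_flip (s0_f4862 IH)
theorem s0_f7896r : ed sl_cf sq464 = sq685 :=
  edge_flip (s0_f7896 IH)
theorem s0_f7897r : ed sl_bf sq685 = sq994 :=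
  edge_flip (s0_f7897 IH)
theorem s0_f19008 : ed sl_cf sq994 = sq782 :=
  gap_rel s0_rot27 (path_edge (s0_f7897r IH) (path_edge (s0_f7896r IH) (path_eq (s0_f16522 IH) (path_edge (s0_f10201 IH) (path_edge (s0_f4862r IH) (path_edge (s0_f10207r IH) (path_nil sq782)))))))
theorem s0_f19008r : ed sl_ct sq782 = sq994 :=
  edge_flip (s0_f19008 IH)
theorem s0_f19010 : ed sl_ct sq994 = sq782 :=
  gap_rel s0_rot59 (path_edge (s0_f19008r IH) (path_nil sq782))
theorem s0_f10015r : ed sl_ff sq765 = sq522 :=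
  edge_flip (s0_f10015 IH)
theorem s0_f10014r : ed sl_gf sq522 = sq353 :=
  edge_flip (s0_f10014 IH)
theorem s0_f15743r : ed sl_ff sq510 = sq748 :=
  edge_flip (s0_f15743 IH)
theorem s0_f19025 : ed sl_gf sq748 = sq765 :=
  gap_rel s0_rot2 (path_edge (s0_f15743r IH) (path_eq (s0_f15737 IH) (path_edge (s0_f10006 IH) (path_edge (s0_f10014r IH) (path_edge (s0_f10015r IH) (path_nil sq765))))))
theorem s0_f19025r : ed sl_gt sq765 = sq748 :=
  edge_flip (s0_f19025 IH)
theorem s0_f19036 : ed sl_gt sq748 = sq765 :=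
  gap_rel s0_rot25 (path_edge (s0_f19025r IH) (path_nil sq765))
theorem s0_f10116r : ed sl_ff sq522 = sq765 :=
  edge_flip (s0_f10116 IH)
theorem s0_f19036r : ed sl_gf sq765 = sq748 :=
  edge_flip (s0_f19036 IH)
theorem s0_f15742r : ed sl_ff sq748 = sq510 :=
  edge_flip (s0_f15742 IH)
theorem s0_f15745r : ed sl_gf sq510 = sq749 :=
  edge_flip (s0_f15745 IH)
theorem s0_f19046 : ed sl_at sq749 = sq522 :=
  gap_rel s0_rot6 (path_edge (s0_f15745r IH) (path_edge (s0_f15742r IH) (path_edge (s0_f19036r IH) (path_edge (s0_f10116r IH) (path_nil sq522)))))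
theorem s0_f10172r : ed sl_af sq516 = sq362 :=
  edge_flip (s0_f10172 IH)
theorem s0_f6888r : ed sl_ef sq362 = sq522 :=
  edge_flip (s0_f6888 IH)
theorem s0_f19046r : ed sl_af sq522 = sq749 :=
  edge_flip (s0_f19046 IH)
theorem s0_f19050 : ed sl_ef sq749 = sq516 :=
  gap_rel s0_rot102 (path_edge (s0_f19046r IH) (path_edge (s0_f6888r IH) (path_edge (s0_f10172r IH) (path_nil sq516))))
theorem s0_f19050r : ed sl_et sq516 = sq749 :=
  edge_flip (s0_f19050 IH)
theorem s0_f19054 : ed sl_et sq749 = sq516 :=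
  gap_rel s0_rot31 (path_edge (s0_f19050r IH) (path_nil sq516))
theorem s0_f11250r : ed sl_df sq1237 = sq880 :=
  edge_flip (s0_f11250 IH)
theorem s0_f18946r : ed sl_ef sq880 = sq598 :=
  edge_flip (s0_f18946 IH)
theorem s0_f6510r : ed sl_df sq598 = sq516 :=
  edge_flip (s0_f6510 IH)
theorem s0_f19054r : ed sl_ef sq516 = sq749 :=
  edge_flip (s0_f19054 IH)
theorem s0_f6334r : ed sl_df sq749 = sq1084 :=
  edge_flip (s0_f6334 IH)
theorem s0_f19056 : ed sl_ef sq1084 = sq1237 :=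
  gap_rel s0_rot30 (path_edge (s0_f6334r IH) (path_edge (s0_f19054r IH) (path_edge (s0_f6510r IH) (path_edge (s0_f18946r IH) (path_edge (s0_f11250r IH) (path_nil sq1237))))))
theorem s0_f19062 : ed sl_gt sq878 = sq1237 :=
  real_edge rels S fwd inv o lvl plet idx 16 IH Gen.g sp878 sp1237 rfl rfl
theorem s0_f19056r : ed sl_et sq1237 = sq1084 :=
  edge_flip (s0_f19056 IH)
theorem s0_f19063 : ed sl_et sq747 = sq878 :=
  gap_rel s0_rot49 (path_edge (s0_f6307 IH) (path_edge (s0_f19056r IH) (path_edge (s0_f19062 IH) (path_nil sq878))))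
theorem s0_f19065 : ed sl_at sq878 = sq759 :=
  real_edge rels S fwd inv o lvl plet idx 16 IH Gen.a sp878 sp759 rfl rfl
theorem s0_f4783r : ed sl_ef sq520 = sq759 :=
  edge_flip (s0_f4783 IH)
theorem s0_f19065r : ed sl_af sq759 = sq878 :=
  edge_flip (s0_f19065 IH)
theorem s0_f19063r : ed sl_ef sq878 = sq747 :=
  edge_flip (s0_f19063 IH)
theorem s0_f19066 : ed sl_af sq747 = sq520 :=
  gap_rel s0_rot67 (path_edge (s0_f19063r IH) (path_edge (s0_f19065r IH) (path_edge (s0_f4783r IH) (path_nil sq520))))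
theorem s0_f11119r : ed sl_bf sq1235 = sq878 :=
  edge_flip (s0_f11119 IH)
theorem s0_f6290r : ed sl_bf sq747 = sq1081 :=
  edge_flip (s0_f6290 IH)
theorem s0_f19068 : ed sl_ef sq1081 = sq1235 :=
  gap_rel s0_rot46 (path_edge (s0_f6290r IH) (path_edge (s0_f19063r IH) (path_edge (s0_f11119r IH) (path_nil sq1235))))
theorem s0_f4203r : ed sl_cf sq878 = sq878 :=
  edge_flip (s0_f4203 IH)
theorem s0_f19070 : ed sl_ef sq747 = sq878 :=
  gap_rel s0_rot48 (path_edge (s0_f6291 IH) (path_edge (s0_f19063r IH) (path_edge (s0_f4203r IH) (path_nil sq878))))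
theorem s0_f19081 : ed sl_et sq597 = sq879 :=
  real_edge rels S fwd inv o lvl plet idx 16 IH Gen.e sp597 sp879 rfl rfl
theorem s0_f19070r : ed sl_et sq878 = sq747 :=
  edge_flip (s0_f19070 IH)
theorem s0_f3269r : ed sl_dt sq331 = sq377 :=
  edge_flip (s0_f3269 IH)
theorem s0_f19113 : ed sl_dt sq1431 = sq1579 :=
  gap_rel s0_rot130 (path_edge (s0_f132 IH) (path_edge (s0_f131 IH) (path_edge (s0_f6284 IH) (path_edge (s0_f3788 IH) (path_edge (s0_f3787 IH) (path_eq (s0_f15123 IH) (path_eq (s0_f15112 IH).symm (path_edge (s0_f4779 IH) (path_edge (s0_f4777 IH) (path_edge (s0_f2768 IH) (path_edge (s0_f2780 IH) (path_edge (s0_f2977 IH) (path_eq (s0_f16551 IH).symm (path_edge (s0_f9860 IH) (path_edge (s0_f3277 IH) (path_edge (s0_f3276 IH) (path_edge (s0_f3266 IH) (path_edge (s0_f3259 IH) (path_eq (s0_f16619 IH) (path_edge (s0_f7095 IH) (path_edge (s0_f4040 IH) (path_edge (s0_f4039 IH) (path_edge (s0_f3825 IH) (path_edge (s0_f3824 IH) (path_edge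 (s0_f3853 IH) (path_edge (s0_f3596 IH) (path_edge (s0_f3545 IH) (path_edge (s0_f2474 IH) (path_edge (s0_f2501 IH) (path_edge (s0_f2533 IH) (path_edge (s0_f16 IH) (path_edge (s0_f17 IH) (path_edge (s0_f8 IH) (path_edge (s0_f9 IH) (path_edge (s0_f10 IH) (path_edge (s0_f9 IH) (path_edge (s0_f10 IH) (path_edge (s0_f15 IH) (path_edge (s0_f34 IH) (path_edge (s0_f2535 IH) (path_edge (s0_f2480 IH) (path_edge (s0_f89 IH) (path_edge (s0_f2226 IH) (path_edge (s0_f2227 IH) (path_edge (s0_f2517 IH) (path_eq (s0_f15091 IH) (path_eq (s0_f15023 IH) (path_edge (s0_f4696 IH) (path_eq (s0_f14949 IH) (path_eq (s0_f14943 IH).symm (path_edge (s0_f4032 IH) (path_edge (s0_f460 IH) (path_eq (s0_f14949 IH) (path_eq (s0_f14943 IH).symm (path_edge (s0_f4042 IH) (path_edge (s0_f119 IH) (path_edge (s0_f105 IH) (path_edge (s0_f104 IH) (path_edge (s0_f3597 IH) (path_edge (s0_f2461 IH) (path_edge (s0_f2494 IH) (path_edge (s0_f2539 IH) (path_edge (s0_f2456 IH)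 (path_edge (s0_f3607 IH) (path_edge (s0_f2405 IH) (path_edge (s0_f2406 IH) (path_edge (s0_f2527 IH) (path_edge (s0_f3586 IH) (path_edge (s0_f3585 IH) (path_edge (s0_f4049 IH) (path_eq (s0_f16887 IH) (path_edge (s0_f10375 IH) (path_edge (s0_f3269r IH) (path_edge (s0_f3264 IH) (path_edge (s0_f3265 IH) (path_edge (s0_f3487 IH) (path_eq (s0_f16173 IH) (path_edge (s0_f10244 IH) (path_edge (s0_f2972 IH) (path_edge (s0_f2770 IH) (path_edge (s0_f2784 IH) (path_edge (s0_f2516 IH) (path_eq (s0_f15325 IH) (path_eq (s0_f15212 IH) (path_edge (s0_f6279 IH) (path_edge (s0_f3595 IH) (path_edge (s0_f6288 IH) (path_edge (s0_f6289 IH) (path_edge (s0_f19070r IH) (path_edge (s0_f7108 IH) (path_edge (s0_f7109 IH) (path_nil sq1579))))))))))))))))))))))))))))))))))))))))))))))))))))))))))))))))))))))))))))))))))))))))))))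
theorem s0_f19117 : ed sl_bt sq1579 = sq1579 :=
  real_edge rels S fwd inv o lvl plet idx 16 IH Gen.b sp1579 sp1579 rfl rfl
theorem s0_f19117r : ed sl_bf sq1579 = sq1579 :=
  edge_flip (s0_f19117 IH)
theorem s0_f19113r : ed sl_df sq1579 = sq1431 :=
  edge_flip (s0_f19113 IH)
theorem s0_f6300r : ed sl_bf sq1431 = sq1431 :=
  edge_flip (s0_f6300 IH)
theorem s0_f19118 : ed sl_df sq1431 = sq1579 :=
  gap_rel s0_rot8 (path_edge (s0_f6300r IH) (path_edge (s0_f19113r IH) (path_edge (s0_f19117r IH) (path_nil sq1579))))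
theorem s0_f7109r : ed sl_cf sq1235 = sq1579 :=
  edge_flip (s0_f7109 IH)
theorem s0_f132r : ed sl_cf sq1431 = sq1081 :=
  edge_flip (s0_f132 IH)
theorem s0_f131r : ed sl_df sq1081 = sq746 :=
  edge_flip (s0_f131 IH)
theorem s0_f130r : ed sl_cf sq746 = sq514 :=
  edge_flip (s0_f130 IH)
theorem s0_f129r : ed sl_df sq514 = sq595 :=
  edge_flip (s0_f129 IH)
theorem s0_f4147r : ed sl_cf sq595 = sq864 :=
  edge_flip (s0_f4147 IH)
theorem s0_f4148r : ed sl_df sq864 = sq949 :=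
  edge_flip (s0_f4148 IH)
theorem s0_f19124 : ed sl_at sq949 = sq1235 :=
  gap_rel s0_rot9 (path_edge (s0_f4148r IH) (path_edge (s0_f4147r IH) (path_edge (s0_f129r IH) (path_edge (s0_f130r IH) (path_edge (s0_f131r IH) (path_edge (s0_f132r IH) (path_edge (s0_f19113r IH) (path_edge (s0_f7109r IH) (path_nil sq1235)))))))))
theorem s0_f19124r : ed sl_af sq1235 = sq949 :=
  edge_flip (s0_f19124 IH)
theorem s0_f6327r : ed sl_ef sq949 = sq1301 :=
  edge_flip (s0_f6327 IH)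
theorem s0_f19131 : ed sl_af sq1301 = sq1081 :=
  gap_rel s0_rot67 (path_edge (s0_f6327r IH) (path_edge (s0_f19124r IH) (path_edge (s0_f19068 IH) (path_nil sq1081))))
theorem s0_f19138 : ed sl_at sq950 = sq655 :=
  real_edge rels S fwd inv o lvl plet idx 16 IH Gen.a sp950 sp655 rfl rfl
theorem s0_f19139 : ed sl_bt sq655 = sq915 :=
  real_edge rels S fwd inv o lvl plet idx 16 IH Gen.b sp655 sp915 rfl rfl
theorem s0_f19140 : ed sl_at sq915 = sq1271 :=
  real_edge rels S fwd inv o lvl plet idx 16 IH Gen.a sp915 sp1271 rfl rfl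
theorem s0_f19066r : ed sl_at sq520 = sq747 :=
  edge_flip (s0_f19066 IH)
theorem s0_f19131r : ed sl_at sq1081 = sq1301 :=
  edge_flip (s0_f19131 IH)
theorem s0_f19141 : ed sl_bt sq1271 = sq1088 :=
  gap_rel s0_rot84 (path_edge (s0_f19140 IH) (path_edge (s0_f19139 IH) (path_edge (s0_f19138 IH) (path_edge (s0_f18884 IH) (path_edge (s0_f19131r IH) (path_edge (s0_f6299 IH) (path_edge (s0_f19066r IH) (path_edge (s0_f4784 IH) (path_edge (s0_f17331 IH) (path_nil sq1088))))))))))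
theorem s0_f19145 : ed sl_at sq1080 = sq746 :=
  real_edge rels S fwd inv o lvl plet idx 16 IH Gen.a sp1080 sp746 rfl rfl
theorem s0_f19146 : ed sl_dt sq1301 = sq1080 :=
  gap_rel s0_rot53 (path_edge (s0_f19131r IH) (path_edge (s0_f131 IH) (path_edge (s0_f19145 IH) (path_nil sq1080))))
theorem s0_f3649r : ed sl_df sq1611 = sq1295 :=
  edge_flip (s0_f3649 IH)
theorem s0_f3648r : ed sl_cf sq1295 = sq949 :=
  edge_flip (s0_f3648 IH)
theorem s0_f3647r : ed sl_df sq949 = sq864 :=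
  edge_flip (s0_f3647 IH)
theorem s0_f4215r : ed sl_cf sq864 = sq595 :=
  edge_flip (s0_f4215 IH)
theorem s0_f4214r : ed sl_df sq595 = sq514 :=
  edge_flip (s0_f4214 IH)
theorem s0_f2731r : ed sl_cf sq514 = sq746 :=
  edge_flip (s0_f2731 IH)
theorem s0_f2732r : ed sl_df sq746 = sq1081 :=
  edge_flip (s0_f2732 IH)
theorem s0_f19148 : ed sl_cf sq1301 = sq1611 :=
  gap_rel s0_rot131 (path_edge (s0_f19131r IH) (path_edge (s0_f2732r IH) (path_edge (s0_f2731r IH) (path_edge (s0_f4214r IH) (path_edge (s0_f4215r IH) (path_edge (s0_f3647r IH) (path_edge (s0_f3648r IH) (path_edge (s0_f3649r IH) (path_nil sq1611)))))))))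
theorem s0_f19150 : ed sl_ct sq950 = sq651 :=
  real_edge rels S fwd inv o lvl plet idx 16 IH Gen.c sp950 sp651 rfl rfl
theorem s0_f19154 : ed sl_ct sq1080 = sq751 :=
  real_edge rels S fwd inv o lvl plet idx 16 IH Gen.c sp1080 sp751 rfl rfl
theorem s0_f19155 : ed sl_dt sq751 = sq875 :=
  real_edge rels S fwd inv o lvl plet idx 16 IH Gen.d sp751 sp875 rfl rfl
theorem s0_f19118r : ed sl_dt sq1579 = sq1431 :=
  edge_flip (s0_f19118 IH)
theorem s0_f19148r : ed sl_ct sq1611 = sq1301 :=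
  edge_flip (s0_f19148 IH)
theorem s0_f19156 : ed sl_ct sq875 = sq876 :=
  gap_rel s0_rot110 (path_edge (s0_f19155 IH) (path_edge (s0_f19154 IH) (path_edge (s0_f19146 IH) (path_edge (s0_f19148r IH) (path_edge (s0_f3649 IH) (path_edge (s0_f3648 IH) (path_edge (s0_f3647 IH) (path_edge (s0_f4215 IH) (path_edge (s0_f4214 IH) (path_edge (s0_f2731 IH) (path_edge (s0_f2732 IH) (path_edge (s0_f2733 IH) (path_edge (s0_f19118r IH) (path_edge (s0_f17379 IH) (path_edge (s0_f17378 IH) (path_nil sq876))))))))))))))))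
theorem s0_f19167 : ed sl_ct sq973 = sq1323 :=
  real_edge rels S fwd inv o lvl plet idx 16 IH Gen.c sp973 sp1323 rfl rfl
theorem s0_f19208 : ed sl_ft sq514 = sq752 :=
  real_edge rels S fwd inv o lvl plet idx 16 IH Gen.f sp514 sp752 rfl rfl
theorem s0_f19213 : ed sl_ct sq752 = sq1082 :=
  real_edge rels S fwd inv o lvl plet idx 16 IH Gen.c sp752 sp1082 rfl rfl
theorem s0_f19217 : ed sl_ft sq746 = sq1082 :=
  real_edge rels S fwd inv o lvl plet idx 16 IH Gen.f sp746 sp1082 rfl rfl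
theorem s0_f19279 : ed sl_bt sq956 = sq1304 :=
  real_edge rels S fwd inv o lvl plet idx 16 IH Gen.b sp956 sp1304 rfl rfl
theorem s0_f19281 : ed sl_dt sq651 = sq862 :=
  real_edge rels S fwd inv o lvl plet idx 16 IH Gen.d sp651 sp862 rfl rfl
theorem s0_f19294 : ed sl_et sq859 = sq645 :=
  real_edge rels S fwd inv o lvl plet idx 16 IH Gen.e sp859 sp645 rfl rfl
theorem s0_f10019r : ed sl_bf sq1087 = sq755 :=
  edge_flip (s0_f10019 IH)
theorem s0_f17316r : ed sl_df sq755 = sq1088 :=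
  edge_flip (s0_f17316 IH)
theorem s0_f19141r : ed sl_bf sq1088 = sq1271 :=
  edge_flip (s0_f19141 IH)
theorem s0_f19308 : ed sl_df sq1271 = sq1087 :=
  gap_rel s0_rot8 (path_edge (s0_f19141r IH) (path_edge (s0_f17316r IH) (path_edge (s0_f10019r IH) (path_nil sq1087))))
theorem s0_f19310 : ed sl_et sq912 = sq1271 :=
  real_edge rels S fwd inv o lvl plet idx 16 IH Gen.e sp912 sp1271 rfl rfl
theorem s0_f19310r : ed sl_ef sq1271 = sq912 :=
  edge_flip (s0_f19310 IH)
theorem s0_f19311 : ed sl_bf sq912 = sq1131 :=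
  gap_rel s0_rot23 (path_edge (s0_f19310r IH) (path_edge (s0_f19141r IH) (path_edge (s0_f17320 IH) (path_nil sq1131))))
theorem s0_f19311r : ed sl_bt sq1131 = sq912 :=
  edge_flip (s0_f19311 IH)
theorem s0_f19319 : ed sl_bt sq1269 = sq1479 :=
  gap_rel s0_rot41 (path_edge (s0_f10798 IH) (path_edge (s0_f18908 IH) (path_edge (s0_f7102 IH) (path_edge (s0_f19311r IH) (path_edge (s0_f4874 IH) (path_nil sq1479))))))
theorem s0_f17337r : ed sl_df sq1435 = sq1479 :=
  edge_flip (s0_f17337 IH)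
theorem s0_f19319r : ed sl_bf sq1479 = sq1269 :=
  edge_flip (s0_f19319 IH)
theorem s0_f10790r : ed sl_df sq1269 = sq1598 :=
  edge_flip (s0_f10790 IH)
theorem s0_f19326 : ed sl_bf sq1598 = sq1435 :=
  gap_rel s0_rot103 (path_edge (s0_f10790r IH) (path_edge (s0_f19319r IH) (path_edge (s0_f17337r IH) (path_nil sq1435))))
theorem s0_f19340 : ed sl_dt sq911 = sq620 :=
  real_edge rels S fwd inv o lvl plet idx 16 IH Gen.d sp911 sp620 rfl rfl
theorem s0_f19346 : ed sl_dt sq913 = sq1198 :=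
  real_edge rels S fwd inv o lvl plet idx 16 IH Gen.d sp913 sp1198 rfl rfl
theorem s0_f19347 : ed sl_ct sq1271 = sq913 :=
  real_edge rels S fwd inv o lvl plet idx 16 IH Gen.c sp1271 sp913 rfl rfl
theorem s0_f19361 : ed sl_et sq835 = sq1198 :=
  real_edge rels S fwd inv o lvl plet idx 16 IH Gen.e sp835 sp1198 rfl rfl
theorem s0_f19374 : ed sl_at sq1323 = sq974 :=
  real_edge rels S fwd inv o lvl plet idx 16 IH Gen.a sp1323 sp974 rfl rfl
theorem s0_f19387 : ed sl_bt sq1447 = sq1099 :=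
  real_edge rels S fwd inv o lvl plet idx 16 IH Gen.b sp1447 sp1099 rfl rfl
theorem s0_f19394 : ed sl_ct sq991 = sq1341 :=
  real_edge rels S fwd inv o lvl plet idx 16 IH Gen.c sp991 sp1341 rfl rfl
theorem s0_f19465 : ed sl_ct sq1239 = sq882 :=
  real_edge rels S fwd inv o lvl plet idx 16 IH Gen.c sp1239 sp882 rfl rfl
theorem s0_f19468 : ed sl_ft sq604 = sq404 :=
  real_edge rels S fwd inv o lvl plet idx 16 IH Gen.f sp604 sp404 rfl rfl
theorem s0_f19472 : ed sl_at sq859 = sq583 :=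
  real_edge rels S fwd inv o lvl plet idx 16 IH Gen.a sp859 sp583 rfl rfl
theorem s0_f19490 : ed sl_bt sq777 = sq1117 :=
  real_edge rels S fwd inv o lvl plet idx 16 IH Gen.b sp777 sp1117 rfl rfl
theorem s0_f19491 : ed sl_at sq486 = s0_v1719 :=
  rfl
theorem s0_f19491r : ed sl_af s0_v1719 = sq486 :=
  edge_flip (s0_f19491 IH)
theorem s0_f19492 : ed sl_af sq486 = s0_v1719 :=
  gap_rel s0_rot66 (path_edge (s0_f19491r IH) (path_nil s0_v1719))
theorem s0_f3303r : ed sl_af sq331 = sq490 :=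
  edge_flip (s0_f3303 IH)
theorem s0_f19494 : ed sl_ef sq490 = s0_v1719 :=
  gap_rel s0_rot102 (path_edge (s0_f3303r IH) (path_edge (s0_f9806r IH) (path_eq (s0_f16169 IH).symm (path_edge (s0_f19491r IH) (path_nil s0_v1719)))))
theorem s0_f19494r : ed sl_et s0_v1719 = sq490 :=
  edge_flip (s0_f19494 IH)
theorem s0_f19495 : ed sl_et sq490 = s0_v1719 :=
  gap_rel s0_rot31 (path_edge (s0_f19494r IH) (path_nil s0_v1719))
theorem s0_f19497 : ed sl_gt sq486 = s0_v1720 :=
  rfl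
theorem s0_f19497r : ed sl_gf s0_v1720 = sq486 :=
  edge_flip (s0_f19497 IH)
theorem s0_f19501 : ed sl_gf sq486 = s0_v1720 :=
  gap_rel s0_rot76 (path_edge (s0_f19497r IH) (path_nil s0_v1720))
theorem s0_f19501r : ed sl_gt s0_v1720 = sq486 :=
  edge_flip (s0_f19501 IH)
theorem s0_f19504 : ed sl_et sq492 = s0_v1720 :=
  gap_rel s0_rot49 (path_edge (s0_f3100 IH) (path_edge (s0_f9808r IH) (path_eq (s0_f16169 IH).symm (path_edge (s0_f19501r IH) (path_nil s0_v1720)))))
theorem s0_f19505 : ed sl_bt sq490 = s0_v1721 :=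
  rfl
theorem s0_f19505r : ed sl_bf s0_v1721 = sq490 :=
  edge_flip (s0_f19505 IH)
theorem s0_f19506 : ed sl_bf sq490 = s0_v1721 :=
  gap_rel s0_rot44 (path_edge (s0_f19505r IH) (path_nil s0_v1721))
theorem s0_f19648 : ed sl_dt sq567 = s0_v1741 :=
  rfl
theorem s0_f19648r : ed sl_df s0_v1741 = sq567 :=
  edge_flip (s0_f19648 IH)
theorem s0_f19650 : ed sl_df sq567 = s0_v1741 :=
  gap_rel s0_rot54 (path_edge (s0_f19648r IH) (path_nil s0_v1741))
theorem s0_f19651 : ed sl_ff s0_v1042 = s0_v1741 :=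
  gap_rel s0_rot100 (path_edge (s0_f10917 IH) (path_edge (s0_f10930r IH) (path_eq (s0_f16908 IH).symm (path_edge (s0_f19648r IH) (path_nil s0_v1741)))))
theorem s0_f19652 : ed sl_gf s0_v1078 = s0_v1741 :=
  gap_rel s0_rot45 (path_edge (s0_f11332 IH) (path_edge (s0_f11344r IH) (path_eq (s0_f16957 IH).symm (path_edge (s0_f19648r IH) (path_nil s0_v1741)))))
theorem s0_f19652r : ed sl_gt s0_v1741 = s0_v1078 :=
  edge_flip (s0_f19652 IH)
theorem s0_f11331r : ed sl_bt s0_v1078 = sq992 :=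
  edge_flip (s0_f11331 IH)
theorem s0_f17730r : ed sl_bt sq1336 = sq1534 :=
  edge_flip (s0_f17730 IH)
theorem s0_f19653 : ed sl_bt sq1181 = s0_v1741 :=
  gap_rel s0_rot26 (path_edge (s0_f17734 IH) (path_edge (s0_f17730r IH) (path_edge (s0_f11343 IH) (path_edge (s0_f11331r IH) (path_edge (s0_f19652r IH) (path_nil s0_v1741))))))
theorem s0_f19654 : ed sl_gt s0_v1078 = s0_v1741 :=
  gap_rel s0_rot25 (path_edge (s0_f19652r IH) (path_nil s0_v1741))
theorem s0_f19651r : ed sl_ft s0_v1741 = s0_v1042 :=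
  edge_flip (s0_f19651 IH)
theorem s0_f19655 : ed sl_ft s0_v1042 = s0_v1741 :=
  gap_rel s0_rot16 (path_edge (s0_f19651r IH) (path_nil s0_v1741))
theorem s0_f19656 : ed sl_dt sq568 = s0_v1742 :=
  rfl
theorem s0_f19656r : ed sl_df s0_v1742 = sq568 :=
  edge_flip (s0_f19656 IH)
theorem s0_f2622r : ed sl_af sq568 = sq386 :=
  edge_flip (s0_f2622 IH)
theorem s0_f19657 : ed sl_af s0_v1000 = s0_v1742 :=
  gap_rel s0_rot72 (path_edge (s0_f10449 IH) (path_edge (s0_f2622r IH) (path_edge (s0_f19656r IH) (path_nil s0_v1742))))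
theorem s0_f19658 : ed sl_bf s0_v1050 = s0_v1742 :=
  gap_rel s0_rot103 (path_edge (s0_f10987 IH) (path_edge (s0_f10981r IH) (path_eq (s0_f16661 IH).symm (path_edge (s0_f19656r IH) (path_nil s0_v1742)))))
theorem s0_f19661 : ed sl_gf s0_v1085 = s0_v1742 :=
  gap_rel s0_rot45 (path_edge (s0_f11392 IH) (path_edge (s0_f11402r IH) (path_eq (s0_f16432 IH).symm (path_eq (s0_f16661 IH).symm (path_edge (s0_f19656r IH) (path_nil s0_v1742))))))
theorem s0_f19661r : ed sl_gt s0_v1742 = s0_v1085 :=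
  edge_flip (s0_f19661 IH)
theorem s0_f11391r : ed sl_at s0_v1085 = s0_v501 :=
  edge_flip (s0_f11391 IH)
theorem s0_f19662 : ed sl_at s0_v1324 = s0_v1742 :=
  gap_rel s0_rot96 (path_edge (s0_f12669 IH) (path_edge (s0_f11391r IH) (path_edge (s0_f19661r IH) (path_nil s0_v1742))))
theorem s0_f19663 : ed sl_ft s0_v1050 = s0_v1742 :=
  gap_rel s0_rot97 (path_edge (s0_f18880 IH) (path_edge (s0_f11413 IH) (path_edge (s0_f12671r IH) (path_eq (s0_f16962 IH).symm (path_eq (s0_f16923 IH) (path_edge (s0_f12482 IH) (path_edge (s0_f11008r IH) (path_edge (s0_f18882 IH) (path_edge (s0_f19661r IH) (path_nil s0_v1742))))))))))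
theorem s0_f19664 : ed sl_gt s0_v1085 = s0_v1742 :=
  gap_rel s0_rot25 (path_edge (s0_f19661r IH) (path_nil s0_v1742))
theorem s0_f10988r : ed sl_af s0_v1050 = s0_v477 :=
  edge_flip (s0_f10988 IH)
theorem s0_f7168r : ed sl_bf s0_v477 = s0_v477 :=
  edge_flip (s0_f7168 IH)
theorem s0_f19662r : ed sl_af s0_v1742 = s0_v1324 :=
  edge_flip (s0_f19662 IH)
theorem s0_f10451r : ed sl_bf s0_v1000 = s0_v455 :=
  edge_flip (s0_f10451 IH)
theorem s0_f19665 : ed sl_bf s0_v1742 = s0_v1050 :=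
  gap_rel s0_rot93 (path_edge (s0_f19657 IH) (path_edge (s0_f10448 IH) (path_edge (s0_f6871 IH) (path_edge (s0_f10451r IH) (path_eq (s0_f16962 IH) (path_edge (s0_f19662r IH) (path_edge (s0_f19658 IH) (path_edge (s0_f10986 IH) (path_edge (s0_f7168r IH) (path_edge (s0_f10988r IH) (path_nil s0_v1050)))))))))))
theorem s0_f19698 : ed sl_ft sq948 = sq649 :=
  real_edge rels S fwd inv o lvl plet idx 16 IH Gen.f sp948 sp649 rfl rfl
theorem s0_f19733 : ed sl_ft sq654 = sq955 :=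
  real_edge rels S fwd inv o lvl plet idx 16 IH Gen.f sp654 sp955 rfl rfl
theorem s0_f19811 : ed sl_at sq603 = s0_v1756 :=
  rfl
theorem s0_f19811r : ed sl_af s0_v1756 = sq603 :=
  edge_flip (s0_f19811 IH)
theorem s0_f19812 : ed sl_af sq603 = s0_v1756 :=
  gap_rel s0_rot66 (path_edge (s0_f19811r IH) (path_nil s0_v1756))
theorem s0_f6513r : ed sl_df sq603 = sq407 :=
  edge_flip (s0_f6513 IH)
theorem s0_f19814 : ed sl_df s0_v1014 = s0_v1756 :=
  gap_rel s0_rot51 (path_edge (s0_f10593 IH) (path_edge (s0_f6513r IH) (path_edge (s0_f19811r IH) (path_nil s0_v1756))))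
theorem s0_f19819 : ed sl_ct sq603 = s0_v1757 :=
  rfl
theorem s0_f19819r : ed sl_cf s0_v1757 = sq603 :=
  edge_flip (s0_f19819 IH)
theorem s0_f19820 : ed sl_cf sq603 = s0_v1757 :=
  gap_rel s0_rot40 (path_edge (s0_f19819r IH) (path_nil s0_v1757))
theorem s0_f19821 : ed sl_ft sq603 = s0_v1758 :=
  rfl
theorem s0_f19826 : ed sl_bt sq604 = s0_v1759 :=
  rfl
theorem s0_f19826r : ed sl_bf s0_v1759 = sq604 :=
  edge_flip (s0_f19826 IH)
theorem s0_f19828 : ed sl_bf sq604 = s0_v1759 :=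
  gap_rel s0_rot44 (path_edge (s0_f19826r IH) (path_nil s0_v1759))
theorem s0_f7326r : ed sl_df sq604 = sq408 :=
  edge_flip (s0_f7326 IH)
theorem s0_f19829 : ed sl_df s0_v1016 = s0_v1759 :=
  gap_rel s0_rot8 (path_edge (s0_f10612 IH) (path_edge (s0_f7326r IH) (path_edge (s0_f19826r IH) (path_nil s0_v1759))))
theorem s0_f19829r : ed sl_dt s0_v1759 = s0_v1016 :=
  edge_flip (s0_f19829 IH)
theorem s0_f19831 : ed sl_dt s0_v1016 = s0_v1759 :=
  gap_rel s0_rot28 (path_edge (s0_f19829r IH) (path_nil s0_v1759))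
theorem s0_f19852 : ed sl_dt sq613 = s0_v1762 :=
  rfl
theorem s0_f19852r : ed sl_df s0_v1762 = sq613 :=
  edge_flip (s0_f19852 IH)
theorem s0_f19855 : ed sl_df sq613 = s0_v1762 :=
  gap_rel s0_rot54 (path_edge (s0_f19852r IH) (path_nil s0_v1762))
theorem s0_f7024r : ed sl_gf sq613 = sq413 :=
  edge_flip (s0_f7024 IH)
theorem s0_f19857 : ed sl_gf s0_v1025 = s0_v1762 :=
  gap_rel s0_rot45 (path_edge (s0_f10682 IH) (path_edge (s0_f7024r IH) (path_edge (s0_f19852r IH) (path_nil s0_v1762))))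
theorem s0_f19857r : ed sl_gt s0_v1762 = s0_v1025 :=
  edge_flip (s0_f19857 IH)
theorem s0_f12698r : ed sl_bt s0_v1328 = s0_v1088 :=
  edge_flip (s0_f12698 IH)
theorem s0_f19665r : ed sl_bt s0_v1050 = s0_v1742 :=
  edge_flip (s0_f19665 IH)
theorem s0_f19859 : ed sl_bt s0_v1085 = s0_v1762 :=
  gap_rel s0_rot26 (path_edge (s0_f19661r IH) (path_edge (s0_f19665r IH) (path_edge (s0_f18880 IH) (path_edge (s0_f12698r IH) (path_eq (s0_f16986 IH).symm (path_edge (s0_f19857r IH) (path_nil s0_v1762)))))))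
theorem s0_f19879 : ed sl_at sq616 = s0_v1765 :=
  rfl
theorem s0_f19879r : ed sl_af s0_v1765 = sq616 :=
  edge_flip (s0_f19879 IH)
theorem s0_f19880 : ed sl_af sq616 = s0_v1765 :=
  gap_rel s0_rot66 (path_edge (s0_f19879r IH) (path_nil s0_v1765))
theorem s0_f11531r : ed sl_ef sq616 = sq475 :=
  edge_flip (s0_f11531 IH)
theorem s0_f19882 : ed sl_ef s0_v1106 = s0_v1765 :=
  gap_rel s0_rot102 (path_edge (s0_f11523 IH) (path_edge (s0_f11531r IH) (path_edge (s0_f19879r IH) (path_nil s0_v1765))))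
theorem s0_f19882r : ed sl_et s0_v1765 = s0_v1106 :=
  edge_flip (s0_f19882 IH)
theorem s0_f19884 : ed sl_et s0_v1106 = s0_v1765 :=
  gap_rel s0_rot31 (path_edge (s0_f19882r IH) (path_nil s0_v1765))
theorem s0_f19885 : ed sl_dt sq616 = s0_v1766 :=
  rfl
theorem s0_f19888 : ed sl_ft sq616 = s0_v1767 :=
  rfl
theorem s0_f19888r : ed sl_ff s0_v1767 = sq616 :=
  edge_flip (s0_f19888 IH)
theorem s0_f19891 : ed sl_ff sq616 = s0_v1767 :=
  gap_rel s0_rot1 (path_edge (s0_f19888r IH) (path_nil s0_v1767))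
theorem s0_f19891r : ed sl_ft s0_v1767 = sq616 :=
  edge_flip (s0_f19891 IH)
theorem s0_f19893 : ed sl_et sq691 = s0_v1767 :=
  gap_rel s0_rot37 (path_edge (s0_f11532 IH) (path_edge (s0_f11526 IH) (path_edge (s0_f19891r IH) (path_nil s0_v1767))))
theorem s0_f19894 : ed sl_bt sq996 = sq691 :=
  real_edge rels S fwd inv o lvl plet idx 16 IH Gen.b sp996 sp691 rfl rfl
theorem s0_f19936 : ed sl_ct sq620 = s0_v1772 :=
  rfl
theorem s0_f19939 : ed sl_ft sq620 = s0_v1773 :=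
  rfl
theorem s0_f19952 : ed sl_bt sq622 = s0_v1776 :=
  rfl
theorem s0_f19952r : ed sl_bf s0_v1776 = sq622 :=
  edge_flip (s0_f19952 IH)
theorem s0_f19953 : ed sl_bf sq622 = s0_v1776 :=
  gap_rel s0_rot44 (path_edge (s0_f19952r IH) (path_nil s0_v1776))
theorem s0_f18248r : ed sl_ef sq622 = sq836 :=
  edge_flip (s0_f18248 IH)
theorem s0_f10514r : ed sl_bf sq836 = sq1200 :=
  edge_flip (s0_f10514 IH)
theorem s0_f19954 : ed sl_ef sq1200 = s0_v1776 :=
  gap_rel s0_rot46 (path_edge (s0_f10514r IH) (path_edge (s0_f18248r IH) (path_edge (s0_f19952r IH) (path_nil s0_v1776))))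
theorem s0_f19958 : ed sl_dt sq624 = s0_v1778 :=
  rfl
theorem s0_f19958r : ed sl_df s0_v1778 = sq624 :=
  edge_flip (s0_f19958 IH)
theorem s0_f19960 : ed sl_df sq624 = s0_v1778 :=
  gap_rel s0_rot54 (path_edge (s0_f19958r IH) (path_nil s0_v1778))
theorem s0_f19960r : ed sl_dt s0_v1778 = sq624 :=
  edge_flip (s0_f19960 IH)
theorem s0_f19962 : ed sl_bt s0_v1065 = s0_v1778 :=
  gap_rel s0_rot69 (path_edge (s0_f11106 IH) (path_edge (s0_f7116 IH) (path_edge (s0_f19960r IH) (path_nil s0_v1778))))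
theorem s0_f20029 : ed sl_dt sq641 = s0_v1789 :=
  rfl
theorem s0_f20029r : ed sl_df s0_v1789 = sq641 :=
  edge_flip (s0_f20029 IH)
theorem s0_f10913r : ed sl_af sq641 = sq432 :=
  edge_flip (s0_f10913 IH)
theorem s0_f20030 : ed sl_af s0_v1042 = s0_v1789 :=
  gap_rel s0_rot72 (path_edge (s0_f10917 IH) (path_edge (s0_f10913r IH) (path_edge (s0_f20029r IH) (path_nil s0_v1789))))
theorem s0_f20031 : ed sl_df sq641 = s0_v1789 :=
  gap_rel s0_rot54 (path_edge (s0_f20029r IH) (path_nil s0_v1789))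
theorem s0_f20033 : ed sl_dt sq642 = s0_v1790 :=
  rfl
theorem s0_f20033r : ed sl_df s0_v1790 = sq642 :=
  edge_flip (s0_f20033 IH)
theorem s0_f20035 : ed sl_gf s0_v1042 = s0_v1790 :=
  gap_rel s0_rot45 (path_edge (s0_f10917 IH) (path_edge (s0_f10925r IH) (path_edge (s0_f20033r IH) (path_nil s0_v1790))))
theorem s0_f20035r : ed sl_gt s0_v1790 = s0_v1042 :=
  edge_flip (s0_f20035 IH)
theorem s0_f20036 : ed sl_gt s0_v1042 = s0_v1790 :=
  gap_rel s0_rot25 (path_edge (s0_f20035r IH) (path_nil s0_v1790))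
theorem s0_f20050 : ed sl_ct sq645 = s0_v1793 :=
  rfl
theorem s0_f20050r : ed sl_cf s0_v1793 = sq645 :=
  edge_flip (s0_f20050 IH)
theorem s0_f11074r : ed sl_af sq645 = sq440 :=
  edge_flip (s0_f11074 IH)
theorem s0_f2744r : ed sl_cf sq440 = sq646 :=
  edge_flip (s0_f2744 IH)
theorem s0_f20051 : ed sl_af sq646 = s0_v1793 :=
  gap_rel s0_rot10 (path_edge (s0_f2744r IH) (path_edge (s0_f11074r IH) (path_edge (s0_f20050r IH) (path_nil s0_v1793))))
theorem s0_f20052 : ed sl_cf sq645 = s0_v1793 :=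
  gap_rel s0_rot40 (path_edge (s0_f20050r IH) (path_nil s0_v1793))
theorem s0_f20085 : ed sl_gt sq666 = sq969 :=
  real_edge rels S fwd inv o lvl plet idx 16 IH Gen.g sp666 sp969 rfl rfl
theorem s0_f20089 : ed sl_bt sq649 = s0_v1799 :=
  rfl
theorem s0_f20089r : ed sl_bf s0_v1799 = sq649 :=
  edge_flip (s0_f20089 IH)
theorem s0_f20090 : ed sl_bf sq649 = s0_v1799 :=
  gap_rel s0_rot44 (path_edge (s0_f20089r IH) (path_nil s0_v1799))
theorem s0_f11078r : ed sl_gf sq649 = sq440 :=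
  edge_flip (s0_f11078 IH)
theorem s0_f7249r : ed sl_bf sq440 = sq295 :=
  edge_flip (s0_f7249 IH)
theorem s0_f11088r : ed sl_gf sq295 = sq443 :=
  edge_flip (s0_f11088 IH)
theorem s0_f7586r : ed sl_bf sq443 = sq654 :=
  edge_flip (s0_f7586 IH)
theorem s0_f20091 : ed sl_gf sq654 = s0_v1799 :=
  gap_rel s0_rot24 (path_edge (s0_f7586r IH) (path_edge (s0_f11088r IH) (path_edge (s0_f7249r IH) (path_edge (s0_f11078r IH) (path_edge (s0_f20089r IH) (path_nil s0_v1799))))))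
theorem s0_f20092 : ed sl_bt sq955 = sq972 :=
  real_edge rels S fwd inv o lvl plet idx 16 IH Gen.b sp955 sp972 rfl rfl
theorem s0_f20091r : ed sl_gt s0_v1799 = sq654 :=
  edge_flip (s0_f20091 IH)
theorem s0_f20093 : ed sl_gt sq654 = s0_v1799 :=
  gap_rel s0_rot25 (path_edge (s0_f20091r IH) (path_nil s0_v1799))
theorem s0_f20094 : ed sl_gt sq991 = sq988 :=
  real_edge rels S fwd inv o lvl plet idx 16 IH Gen.g sp991 sp988 rfl rfl
theorem s0_f20130 : ed sl_at sq654 = s0_v1802 :=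
  rfl
theorem s0_f20130r : ed sl_af s0_v1802 = sq654 :=
  edge_flip (s0_f20130 IH)
theorem s0_f20131 : ed sl_af sq654 = s0_v1802 :=
  gap_rel s0_rot66 (path_edge (s0_f20130r IH) (path_nil s0_v1802))
theorem s0_f20141 : ed sl_dt sq655 = s0_v1804 :=
  rfl
theorem s0_f20141r : ed sl_df s0_v1804 = sq655 :=
  edge_flip (s0_f20141 IH)
theorem s0_f20142 : ed sl_df sq655 = s0_v1804 :=
  gap_rel s0_rot54 (path_edge (s0_f20141r IH) (path_nil s0_v1804))
theorem s0_f20143 : ed sl_ft sq956 = sq655 :=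
  real_edge rels S fwd inv o lvl plet idx 16 IH Gen.f sp956 sp655 rfl rfl
theorem s0_f20176 : ed sl_ct sq1614 = sq1304 :=
  real_edge rels S fwd inv o lvl plet idx 16 IH Gen.c sp1614 sp1304 rfl rfl
theorem s0_f20233 : ed sl_bt sq663 = s0_v1812 :=
  rfl
theorem s0_f20233r : ed sl_bf s0_v1812 = sq663 :=
  edge_flip (s0_f20233 IH)
theorem s0_f20234 : ed sl_bf sq663 = s0_v1812 :=
  gap_rel s0_rot44 (path_edge (s0_f20233r IH) (path_nil s0_v1812))
theorem s0_f20235 : ed sl_gt sq680 = sq663 :=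
  real_edge rels S fwd inv o lvl plet idx 16 IH Gen.g sp680 sp663 rfl rfl
theorem s0_f20239 : ed sl_ft sq666 = sq972 :=
  real_edge rels S fwd inv o lvl plet idx 16 IH Gen.f sp666 sp972 rfl rfl
theorem s0_f20280 : ed sl_dt sq672 = s0_v1817 :=
  rfl
theorem s0_f20282 : ed sl_et sq974 = sq672 :=
  real_edge rels S fwd inv o lvl plet idx 16 IH Gen.e sp974 sp672 rfl rfl
theorem s0_f20280r : ed sl_df s0_v1817 = sq672 :=
  edge_flip (s0_f20280 IH)
theorem s0_f11290r : ed sl_cf sq978 = sq671 :=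
  edge_flip (s0_f11290 IH)
theorem s0_f11279r : ed sl_df sq671 = sq458 :=
  edge_flip (s0_f11279 IH)
theorem s0_f1593r : ed sl_cf sq458 = sq676 :=
  edge_flip (s0_f1593 IH)
theorem s0_f10366r : ed sl_cf sq555 = sq814 :=
  edge_flip (s0_f10366 IH)
theorem s0_f10367r : ed sl_df sq814 = sq1165 :=
  edge_flip (s0_f10367 IH)
theorem s0_f20283 : ed sl_cf sq1165 = s0_v1817 :=
  gap_rel s0_rot94 (path_edge (s0_f10367r IH) (path_edge (s0_f10366r IH) (path_edge (s0_f17117r IH) (path_edge (s0_f1593r IH) (path_edge (s0_f11279r IH) (path_edge (s0_f11290r IH) (path_edge (s0_f17133 IH) (path_edge (s0_f20280r IH) (path_nil s0_v1817)))))))))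
theorem s0_f20283r : ed sl_ct s0_v1817 = sq1165 :=
  edge_flip (s0_f20283 IH)
theorem s0_f20285 : ed sl_ct sq1165 = s0_v1817 :=
  gap_rel s0_rot59 (path_edge (s0_f20283r IH) (path_nil s0_v1817))
theorem s0_f20340 : ed sl_ft sq677 = sq665 :=
  real_edge rels S fwd inv o lvl plet idx 16 IH Gen.f sp677 sp665 rfl rfl
theorem s0_f20345 : ed sl_bt sq677 = s0_v1825 :=
  rfl
theorem s0_f20345r : ed sl_bf s0_v1825 = sq677 :=
  edge_flip (s0_f20345 IH)
theorem s0_f20347 : ed sl_bf sq677 = s0_v1825 :=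
  gap_rel s0_rot44 (path_edge (s0_f20345r IH) (path_nil s0_v1825))
theorem s0_f20349 : ed sl_bt sq680 = s0_v1826 :=
  rfl
theorem s0_f20349r : ed sl_bf s0_v1826 = sq680 :=
  edge_flip (s0_f20349 IH)
theorem s0_f20350 : ed sl_bf sq680 = s0_v1826 :=
  gap_rel s0_rot44 (path_edge (s0_f20349r IH) (path_nil s0_v1826))
theorem s0_f20351 : ed sl_dt sq681 = sq981 :=
  real_edge rels S fwd inv o lvl plet idx 16 IH Gen.d sp681 sp981 rfl rfl
theorem s0_f20355 : ed sl_gt sq988 = sq991 :=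
  real_edge rels S fwd inv o lvl plet idx 16 IH Gen.g sp988 sp991 rfl rfl
theorem s0_f20370 : ed sl_bt sq684 = s0_v1828 :=
  rfl
theorem s0_f20370r : ed sl_bf s0_v1828 = sq684 :=
  edge_flip (s0_f20370 IH)
theorem s0_f5230r : ed sl_cf sq684 = sq462 :=
  edge_flip (s0_f5230 IH)
theorem s0_f10634r : ed sl_cf sq608 = sq897 :=
  edge_flip (s0_f10634 IH)
theorem s0_f10951r : ed sl_bf sq897 = sq1258 :=
  edge_flip (s0_f10951 IH)
theorem s0_f20372 : ed sl_cf sq1258 = s0_v1828 :=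
  gap_rel s0_rot27 (path_edge (s0_f10951r IH) (path_edge (s0_f10634r IH) (path_eq (s0_f16796 IH) (path_edge (s0_f11303 IH) (path_edge (s0_f5230r IH) (path_edge (s0_f20370r IH) (path_nil s0_v1828)))))))
theorem s0_f20382 : ed sl_dt sq685 = s0_v1830 :=
  rfl
theorem s0_f20382r : ed sl_df s0_v1830 = sq685 :=
  edge_flip (s0_f20382 IH)
theorem s0_f18137r : ed sl_gf sq685 = sq641 :=
  edge_flip (s0_f18137 IH)
theorem s0_f20386 : ed sl_gf s0_v1789 = s0_v1830 :=
  gap_rel s0_rot45 (path_edge (s0_f20031 IH) (path_edge (s0_f18137r IH) (path_edge (s0_f20382r IH) (path_nil s0_v1830))))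
theorem s0_f20386r : ed sl_gt s0_v1830 = s0_v1789 :=
  edge_flip (s0_f20386 IH)
theorem s0_f20030r : ed sl_at s0_v1789 = s0_v1042 :=
  edge_flip (s0_f20030 IH)
theorem s0_f20387 : ed sl_at s0_v1790 = s0_v1830 :=
  gap_rel s0_rot96 (path_edge (s0_f20036 IH) (path_edge (s0_f20030r IH) (path_edge (s0_f20386r IH) (path_nil s0_v1830))))
theorem s0_f20387r : ed sl_af s0_v1830 = s0_v1790 :=
  edge_flip (s0_f20387 IH)
theorem s0_f20389 : ed sl_ft s0_v1078 = s0_v1830 :=
  gap_rel s0_rot107 (path_edge (s0_f19652r IH) (path_edge (s0_f19655 IH) (path_edge (s0_f20035r IH) (path_edge (s0_f20387r IH) (path_nil s0_v1830)))))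
theorem s0_f20390 : ed sl_bt sq686 = s0_v1831 :=
  rfl
theorem s0_f20390r : ed sl_bf s0_v1831 = sq686 :=
  edge_flip (s0_f20390 IH)
theorem s0_f20391 : ed sl_bf sq686 = s0_v1831 :=
  gap_rel s0_rot44 (path_edge (s0_f20390r IH) (path_nil s0_v1831))
theorem s0_f7462r : ed sl_cf sq686 = sq466 :=
  edge_flip (s0_f7462 IH)
theorem s0_f10911r : ed sl_cf sq433 = sq642 :=
  edge_flip (s0_f10911 IH)
theorem s0_f10933r : ed sl_bf sq642 = sq940 :=
  edge_flip (s0_f10933 IH)
theorem s0_f20392 : ed sl_cf sq940 = s0_v1831 :=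
  gap_rel s0_rot27 (path_edge (s0_f10933r IH) (path_edge (s0_f10911r IH) (path_edge (s0_f4195r IH) (path_edge (s0_f7462r IH) (path_edge (s0_f20390r IH) (path_nil s0_v1831))))))
theorem s0_f20392r : ed sl_ct s0_v1831 = sq940 :=
  edge_flip (s0_f20392 IH)
theorem s0_f20393 : ed sl_ct sq940 = s0_v1831 :=
  gap_rel s0_rot59 (path_edge (s0_f20392r IH) (path_nil s0_v1831))
theorem s0_f20394 : ed sl_dt sq686 = s0_v1832 :=
  rfl
theorem s0_f20439 : ed sl_gt sq691 = s0_v1839 :=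
  rfl
theorem s0_f20439r : ed sl_gf s0_v1839 = sq691 :=
  edge_flip (s0_f20439 IH)
theorem s0_f20441 : ed sl_gf sq691 = s0_v1839 :=
  gap_rel s0_rot76 (path_edge (s0_f20439r IH) (path_nil s0_v1839))
theorem s0_f20443 : ed sl_gt sq692 = s0_v1840 :=
  rfl
theorem s0_f20443r : ed sl_gf s0_v1840 = sq692 :=
  edge_flip (s0_f20443 IH)
theorem s0_f20444 : ed sl_gf sq692 = s0_v1840 :=
  gap_rel s0_rot76 (path_edge (s0_f20443r IH) (path_nil s0_v1840))
theorem s0_f20445 : ed sl_at sq693 = sq477 :=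
  real_edge rels S fwd inv o lvl plet idx 16 IH Gen.a sp693 sp477 rfl rfl
theorem s0_f20447 : ed sl_dt sq693 = sq902 :=
  real_edge rels S fwd inv o lvl plet idx 16 IH Gen.d sp693 sp902 rfl rfl
theorem s0_f20449 : ed sl_gt sq693 = s0_v1841 :=
  rfl
theorem s0_f20451 : ed sl_bt sq999 = sq693 :=
  real_edge rels S fwd inv o lvl plet idx 16 IH Gen.b sp999 sp693 rfl rfl
theorem s0_f20449r : ed sl_gf s0_v1841 = sq693 :=
  edge_flip (s0_f20449 IH)
theorem s0_f7564r : ed sl_ff sq477 = sq692 :=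
  edge_flip (s0_f7564 IH)
theorem s0_f20456 : ed sl_ff s0_v1840 = s0_v1841 :=
  gap_rel s0_rot92 (path_edge (s0_f20444 IH) (path_edge (s0_f7564r IH) (path_edge (s0_f20445 IH) (path_edge (s0_f20449r IH) (path_nil s0_v1841)))))
theorem s0_f20473 : ed sl_ft sq695 = s0_v1844 :=
  rfl
theorem s0_f20473r : ed sl_ff s0_v1844 = sq695 :=
  edge_flip (s0_f20473 IH)
theorem s0_f20475 : ed sl_ff sq695 = s0_v1844 :=
  gap_rel s0_rot1 (path_edge (s0_f20473r IH) (path_nil s0_v1844))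
theorem s0_f7592r : ed sl_gf sq695 = sq477 :=
  edge_flip (s0_f7592 IH)
theorem s0_f11534r : ed sl_ff sq693 = sq997 :=
  edge_flip (s0_f11534 IH)
theorem s0_f20476 : ed sl_gf sq997 = s0_v1844 :=
  gap_rel s0_rot19 (path_edge (s0_f11534r IH) (path_edge (s0_f20449r IH) (path_edge (s0_f20456 IH) (path_edge (s0_f20444 IH) (path_edge (s0_f7564r IH) (path_edge (s0_f7592r IH) (path_edge (s0_f20473r IH) (path_nil s0_v1844))))))))
theorem s0_f20476r : ed sl_gt s0_v1844 = sq997 :=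
  edge_flip (s0_f20476 IH)
theorem s0_f20478 : ed sl_gt sq997 = s0_v1844 :=
  gap_rel s0_rot25 (path_edge (s0_f20476r IH) (path_nil s0_v1844))
theorem s0_f20505 : ed sl_bt sq701 = s0_v1848 :=
  rfl
theorem s0_f20505r : ed sl_bf s0_v1848 = sq701 :=
  edge_flip (s0_f20505 IH)
theorem s0_f20506 : ed sl_bf sq701 = s0_v1848 :=
  gap_rel s0_rot44 (path_edge (s0_f20505r IH) (path_nil s0_v1848))
theorem s0_f20512 : ed sl_ft sq701 = s0_v1849 :=
  rfl
theorem s0_f20512r : ed sl_ff s0_v1849 = sq701 :=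
  edge_flip (s0_f20512 IH)
theorem s0_f20514 : ed sl_ff sq701 = s0_v1849 :=
  gap_rel s0_rot1 (path_edge (s0_f20512r IH) (path_nil s0_v1849))

end

end

end Cfsg.Agent.Helper28.S1680
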