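import Cfsg.Agent.Lib.Helper28.S1680.Seeds10

set_option autoImplicit false
set_option maxRecDepth 100000
set_option linter.all false

namespace Cfsg.Agent.Helper28.S1680

open Cfsg.Agent.Helper28
open Cfsg.Spor.Suz (Gen)

noncomputable section

section
variable (IH : ∀ y q, lvl y q < 16 → EntryOK rels S fwd inv o plet idx y q)
include IH

theorem s0_f20514r : ed sl_ft s0_v1849 = sq701 :=
  edge_flip (s0_f20514 IH)
theorem s0_f20515 : ed sl_at sq703 = s0_v1849 :=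
  gap_rel s0_rot90 (path_edge (s0_f11595 IH) (path_edge (s0_f7578 IH) (path_edge (s0_f20514r IH) (path_nil s0_v1849))))
theorem s0_f20525 : ed sl_gt sq701 = s0_v1850 :=
  rfl
theorem s0_f20525r : ed sl_gf s0_v1850 = sq701 :=
  edge_flip (s0_f20525 IH)
theorem s0_f20529 : ed sl_gf sq701 = s0_v1850 :=
  gap_rel s0_rot76 (path_edge (s0_f20525r IH) (path_nil s0_v1850))
theorem s0_f20547 : ed sl_gt sq703 = s0_v1852 :=
  rfl
theorem s0_f20547r : ed sl_gf s0_v1852 = sq703 :=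
  edge_flip (s0_f20547 IH)
theorem s0_f20548 : ed sl_gf sq703 = s0_v1852 :=
  gap_rel s0_rot76 (path_edge (s0_f20547r IH) (path_nil s0_v1852))
theorem s0_f20549 : ed sl_ff s0_v1850 = s0_v1852 :=
  gap_rel s0_rot92 (path_edge (s0_f20529 IH) (path_edge (s0_f20512r IH) (path_edge (s0_f20515 IH) (path_edge (s0_f20547r IH) (path_nil s0_v1852)))))
theorem s0_f20601 : ed sl_bt s0_v1014 = s0_v1861 :=
  rfl
theorem s0_f20601r : ed sl_bf s0_v1861 = s0_v1014 :=
  edge_flip (s0_f20601 IH)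
theorem s0_f20602 : ed sl_bf s0_v1014 = s0_v1861 :=
  gap_rel s0_rot44 (path_edge (s0_f20601r IH) (path_nil s0_v1861))
theorem s0_f20629 : ed sl_at s0_v1016 = s0_v1865 :=
  rfl
theorem s0_f20629r : ed sl_af s0_v1865 = s0_v1016 :=
  edge_flip (s0_f20629 IH)
theorem s0_f20630 : ed sl_af s0_v1016 = s0_v1865 :=
  gap_rel s0_rot66 (path_edge (s0_f20629r IH) (path_nil s0_v1865))
theorem s0_f20649 : ed sl_ct s0_v1025 = s0_v1867 :=
  rfl
theorem s0_f20649r : ed sl_cf s0_v1867 = s0_v1025 :=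
  edge_flip (s0_f20649 IH)
theorem s0_f20651 : ed sl_cf s0_v1025 = s0_v1867 :=
  gap_rel s0_rot40 (path_edge (s0_f20649r IH) (path_nil s0_v1867))
theorem s0_f20661 : ed sl_ft s0_v1031 = s0_v1869 :=
  rfl
theorem s0_f20661r : ed sl_ff s0_v1869 = s0_v1031 :=
  edge_flip (s0_f20661 IH)
theorem s0_f10725r : ed sl_ef s0_v1031 = s0_v517 :=
  edge_flip (s0_f10725 IH)
theorem s0_f20664 : ed sl_ef s0_v1109 = s0_v1869 :=
  gap_rel s0_rot32 (path_edge (s0_f11553 IH) (path_edge (s0_f10725r IH) (path_edge (s0_f20661r IH) (path_nil s0_v1869))))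
theorem s0_f20665 : ed sl_ff s0_v1031 = s0_v1869 :=
  gap_rel s0_rot1 (path_edge (s0_f20661r IH) (path_nil s0_v1869))
theorem s0_f20665r : ed sl_ft s0_v1869 = s0_v1031 :=
  edge_flip (s0_f20665 IH)
theorem s0_f10721r : ed sl_at s0_v1031 = sq417 :=
  edge_flip (s0_f10721 IH)
theorem s0_f20666 : ed sl_at s0_v1032 = s0_v1869 :=
  gap_rel s0_rot90 (path_edge (s0_f10728 IH) (path_edge (s0_f10721r IH) (path_edge (s0_f20665r IH) (path_nil s0_v1869))))
theorem s0_f20669 : ed sl_gt s0_v1031 = s0_v1870 :=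
  rfl
theorem s0_f20669r : ed sl_gf s0_v1870 = s0_v1031 :=
  edge_flip (s0_f20669 IH)
theorem s0_f20673 : ed sl_gf s0_v1031 = s0_v1870 :=
  gap_rel s0_rot76 (path_edge (s0_f20669r IH) (path_nil s0_v1870))
theorem s0_f20677 : ed sl_gt s0_v1032 = s0_v1871 :=
  rfl
theorem s0_f20677r : ed sl_gf s0_v1871 = s0_v1032 :=
  edge_flip (s0_f20677 IH)
theorem s0_f20680 : ed sl_gf s0_v1032 = s0_v1871 :=
  gap_rel s0_rot76 (path_edge (s0_f20677r IH) (path_nil s0_v1871))
theorem s0_f20681 : ed sl_ff s0_v1870 = s0_v1871 :=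
  gap_rel s0_rot92 (path_edge (s0_f20673 IH) (path_edge (s0_f20661r IH) (path_edge (s0_f20666 IH) (path_edge (s0_f20677r IH) (path_nil s0_v1871)))))
theorem s0_f20681r : ed sl_ft s0_v1871 = s0_v1870 :=
  edge_flip (s0_f20681 IH)
theorem s0_f20684 : ed sl_ft s0_v1870 = s0_v1871 :=
  gap_rel s0_rot16 (path_edge (s0_f20681r IH) (path_nil s0_v1871))
theorem s0_f20685 : ed sl_ft s0_v1033 = s0_v1872 :=
  rfl
theorem s0_f20685r : ed sl_ff s0_v1872 = s0_v1033 :=
  edge_flip (s0_f20685 IH)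
theorem s0_f10738r : ed sl_gf s0_v1033 = sq417 :=
  edge_flip (s0_f10738 IH)
theorem s0_f20684r : ed sl_ff s0_v1871 = s0_v1870 :=
  edge_flip (s0_f20684 IH)
theorem s0_f20690 : ed sl_gf s0_v1869 = s0_v1872 :=
  gap_rel s0_rot19 (path_edge (s0_f20665 IH) (path_edge (s0_f20669r IH) (path_edge (s0_f20684r IH) (path_edge (s0_f20680 IH) (path_edge (s0_f10731 IH) (path_edge (s0_f10738r IH) (path_edge (s0_f20685r IH) (path_nil s0_v1872))))))))
theorem s0_f20690r : ed sl_gt s0_v1872 = s0_v1869 :=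
  edge_flip (s0_f20690 IH)
theorem s0_f20664r : ed sl_et s0_v1869 = s0_v1109 :=
  edge_flip (s0_f20664 IH)
theorem s0_f20693 : ed sl_et s0_v1343 = s0_v1872 :=
  gap_rel s0_rot49 (path_edge (s0_f12773 IH) (path_edge (s0_f20664r IH) (path_edge (s0_f20690r IH) (path_nil s0_v1872))))
theorem s0_f20707 : ed sl_gt s0_v1034 = s0_v1875 :=
  rfl
theorem s0_f20707r : ed sl_gf s0_v1875 = s0_v1034 :=
  edge_flip (s0_f20707 IH)
theorem s0_f20711 : ed sl_gf s0_v1034 = s0_v1875 :=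
  gap_rel s0_rot76 (path_edge (s0_f20707r IH) (path_nil s0_v1875))
theorem s0_f20711r : ed sl_gt s0_v1875 = s0_v1034 :=
  edge_flip (s0_f20711 IH)
theorem s0_f10759r : ed sl_bt s0_v1034 = sq421 :=
  edge_flip (s0_f10759 IH)
theorem s0_f20712 : ed sl_bt sq904 = s0_v1875 :=
  gap_rel s0_rot26 (path_edge (s0_f10769 IH) (path_edge (s0_f1569 IH) (path_edge (s0_f10744 IH) (path_edge (s0_f10759r IH) (path_edge (s0_f20711r IH) (path_nil s0_v1875))))))
theorem s0_f20719 : ed sl_ct s0_v1050 = s0_v1878 :=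
  rfl
theorem s0_f20719r : ed sl_cf s0_v1878 = s0_v1050 :=
  edge_flip (s0_f20719 IH)
theorem s0_f20721 : ed sl_cf s0_v1050 = s0_v1878 :=
  gap_rel s0_rot40 (path_edge (s0_f20719r IH) (path_nil s0_v1878))
theorem s0_f20745 : ed sl_et s0_v1065 = s0_v1884 :=
  rfl
theorem s0_f20745r : ed sl_ef s0_v1884 = s0_v1065 :=
  edge_flip (s0_f20745 IH)
theorem s0_f11116r : ed sl_af s0_v1065 = sq587 :=
  edge_flip (s0_f11116 IH)
theorem s0_f11126r : ed sl_ef sq587 = sq865 :=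
  edge_flip (s0_f11126 IH)
theorem s0_f20746 : ed sl_af sq865 = s0_v1884 :=
  gap_rel s0_rot67 (path_edge (s0_f11126r IH) (path_edge (s0_f11116r IH) (path_edge (s0_f20745r IH) (path_nil s0_v1884))))
theorem s0_f11117r : ed sl_cf s0_v1065 = sq584 :=
  edge_flip (s0_f11117 IH)
theorem s0_f11121r : ed sl_ef sq584 = sq862 :=
  edge_flip (s0_f11121 IH)
theorem s0_f20747 : ed sl_cf sq862 = s0_v1884 :=
  gap_rel s0_rot38 (path_edge (s0_f11121r IH) (path_edge (s0_f11117r IH) (path_edge (s0_f20745r IH) (path_nil s0_v1884))))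
theorem s0_f20748 : ed sl_ef s0_v1065 = s0_v1884 :=
  gap_rel s0_rot34 (path_edge (s0_f20745r IH) (path_nil s0_v1884))
theorem s0_f20748r : ed sl_et s0_v1884 = s0_v1065 :=
  edge_flip (s0_f20748 IH)
theorem s0_f11110r : ed sl_ct s0_v1065 = sq584 :=
  edge_flip (s0_f11110 IH)
theorem s0_f20750 : ed sl_ct sq862 = s0_v1884 :=
  gap_rel s0_rot60 (path_edge (s0_f11129 IH) (path_edge (s0_f11110r IH) (path_edge (s0_f20748r IH) (path_nil s0_v1884))))
theorem s0_f20822 : ed sl_ct s0_v1073 = s0_v1900 :=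
  rfl
theorem s0_f20822r : ed sl_cf s0_v1900 = s0_v1073 :=
  edge_flip (s0_f20822 IH)
theorem s0_f7416r : ed sl_cf sq457 = sq455 :=
  edge_flip (s0_f7416 IH)
theorem s0_f7057r : ed sl_bf sq455 = sq674 :=
  edge_flip (s0_f7057 IH)
theorem s0_f7058r : ed sl_cf sq674 = sq982 :=
  edge_flip (s0_f7058 IH)
theorem s0_f20823 : ed sl_bf sq982 = s0_v1900 :=
  gap_rel s0_rot61 (path_edge (s0_f7058r IH) (path_edge (s0_f7057r IH) (path_edge (s0_f7416r IH) (path_edge (s0_f11259r IH) (path_edge (s0_f20822r IH) (path_nil s0_v1900))))))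
theorem s0_f20824 : ed sl_cf s0_v1073 = s0_v1900 :=
  gap_rel s0_rot40 (path_edge (s0_f20822r IH) (path_nil s0_v1900))
theorem s0_f20825 : ed sl_at sq982 = sq1331 :=
  real_edge rels S fwd inv o lvl plet idx 16 IH Gen.a sp982 sp1331 rfl rfl
theorem s0_f20842 : ed sl_et s0_v1078 = s0_v1903 :=
  rfl
theorem s0_f20842r : ed sl_ef s0_v1903 = s0_v1078 :=
  edge_flip (s0_f20842 IH)
theorem s0_f20843 : ed sl_ef s0_v1078 = s0_v1903 :=
  gap_rel s0_rot34 (path_edge (s0_f20842r IH) (path_nil s0_v1903))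
theorem s0_f20844 : ed sl_at s0_v1082 = s0_v1904 :=
  rfl
theorem s0_f20844r : ed sl_af s0_v1904 = s0_v1082 :=
  edge_flip (s0_f20844 IH)
theorem s0_f20845 : ed sl_af s0_v1082 = s0_v1904 :=
  gap_rel s0_rot66 (path_edge (s0_f20844r IH) (path_nil s0_v1904))
theorem s0_f20848 : ed sl_dt s0_v1082 = s0_v1905 :=
  rfl
theorem s0_f20848r : ed sl_df s0_v1905 = s0_v1082 :=
  edge_flip (s0_f20848 IH)
theorem s0_f20850 : ed sl_df s0_v1082 = s0_v1905 :=
  gap_rel s0_rot54 (path_edge (s0_f20848r IH) (path_nil s0_v1905))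
theorem s0_f20850r : ed sl_dt s0_v1905 = s0_v1082 :=
  edge_flip (s0_f20850 IH)
theorem s0_f11372r : ed sl_bt s0_v1082 = sq465 :=
  edge_flip (s0_f11372 IH)
theorem s0_f20851 : ed sl_bt s0_v1083 = s0_v1905 :=
  gap_rel s0_rot69 (path_edge (s0_f11375 IH) (path_edge (s0_f11372r IH) (path_edge (s0_f20850r IH) (path_nil s0_v1905))))
theorem s0_f20861 : ed sl_ct s0_v1083 = s0_v1908 :=
  rfl
theorem s0_f20861r : ed sl_cf s0_v1908 = s0_v1083 :=
  edge_flip (s0_f20861 IH)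
theorem s0_f20862 : ed sl_cf s0_v1083 = s0_v1908 :=
  gap_rel s0_rot40 (path_edge (s0_f20861r IH) (path_nil s0_v1908))
theorem s0_f11375r : ed sl_df s0_v1083 = sq465 :=
  edge_flip (s0_f11375 IH)
theorem s0_f4848r : ed sl_cf sq611 = sq410 :=
  edge_flip (s0_f4848 IH)
theorem s0_f4847r : ed sl_df sq410 = sq275 :=
  edge_flip (s0_f4847 IH)
theorem s0_f4859r : ed sl_cf sq275 = sq413 :=
  edge_flip (s0_f4859 IH)
theorem s0_f20864 : ed sl_df s0_v1867 = s0_v1908 :=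
  gap_rel s0_rot62 (path_edge (s0_f20651 IH) (path_edge (s0_f10682 IH) (path_edge (s0_f4859r IH) (path_edge (s0_f4847r IH) (path_edge (s0_f4848r IH) (path_eq (s0_f16980 IH) (path_edge (s0_f11360 IH) (path_edge (s0_f11375r IH) (path_edge (s0_f20861r IH) (path_nil s0_v1908))))))))))
theorem s0_f20864r : ed sl_dt s0_v1908 = s0_v1867 :=
  edge_flip (s0_f20864 IH)
theorem s0_f20865 : ed sl_dt s0_v1867 = s0_v1908 :=
  gap_rel s0_rot28 (path_edge (s0_f20864r IH) (path_nil s0_v1908))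
theorem s0_f20869 : ed sl_ct s0_v1085 = s0_v1910 :=
  rfl
theorem s0_f20869r : ed sl_cf s0_v1910 = s0_v1085 :=
  edge_flip (s0_f20869 IH)
theorem s0_f20871 : ed sl_cf s0_v1085 = s0_v1910 :=
  gap_rel s0_rot40 (path_edge (s0_f20869r IH) (path_nil s0_v1910))
theorem s0_f20885 : ed sl_ct s0_v1088 = s0_v1912 :=
  rfl
theorem s0_f20885r : ed sl_cf s0_v1912 = s0_v1088 :=
  edge_flip (s0_f20885 IH)
theorem s0_f20889 : ed sl_gf s0_v1878 = s0_v1912 :=
  gap_rel s0_rot5 (path_edge (s0_f20721 IH) (path_edge (s0_f18878 IH) (path_edge (s0_f20885r IH) (path_nil s0_v1912))))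
theorem s0_f20889r : ed sl_gt s0_v1912 = s0_v1878 :=
  edge_flip (s0_f20889 IH)
theorem s0_f20891 : ed sl_gt s0_v1878 = s0_v1912 :=
  gap_rel s0_rot25 (path_edge (s0_f20889r IH) (path_nil s0_v1912))
theorem s0_f20919 : ed sl_bt s0_v1106 = s0_v1917 :=
  rfl
theorem s0_f20919r : ed sl_bf s0_v1917 = s0_v1106 :=
  edge_flip (s0_f20919 IH)
theorem s0_f20920 : ed sl_bf s0_v1106 = s0_v1917 :=
  gap_rel s0_rot44 (path_edge (s0_f20919r IH) (path_nil s0_v1917))
theorem s0_f20925 : ed sl_gt s0_v1106 = s0_v1919 :=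
  rfl
theorem s0_f20925r : ed sl_gf s0_v1919 = s0_v1106 :=
  edge_flip (s0_f20925 IH)
theorem s0_f20928 : ed sl_gf s0_v1106 = s0_v1919 :=
  gap_rel s0_rot76 (path_edge (s0_f20925r IH) (path_nil s0_v1919))
theorem s0_f11523r : ed sl_at s0_v1106 = sq475 :=
  edge_flip (s0_f11523 IH)
theorem s0_f11527r : ed sl_ff sq475 = sq691 :=
  edge_flip (s0_f11527 IH)
theorem s0_f20929 : ed sl_ff s0_v1839 = s0_v1919 :=
  gap_rel s0_rot92 (path_edge (s0_f20441 IH) (path_edge (s0_f11527r IH) (path_edge (s0_f11523r IH) (path_edge (s0_f20925r IH) (path_nil s0_v1919)))))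
theorem s0_f20933 : ed sl_ct s0_v1107 = s0_v1920 :=
  rfl
theorem s0_f20933r : ed sl_cf s0_v1920 = s0_v1107 :=
  edge_flip (s0_f20933 IH)
theorem s0_f20934 : ed sl_cf s0_v1107 = s0_v1920 :=
  gap_rel s0_rot40 (path_edge (s0_f20933r IH) (path_nil s0_v1920))
theorem s0_f21074 : ed sl_bt s0_v1343 = s0_v1956 :=
  rfl
theorem s0_f21074r : ed sl_bf s0_v1956 = s0_v1343 :=
  edge_flip (s0_f21074 IH)
theorem s0_f21075 : ed sl_bf s0_v1343 = s0_v1956 :=
  gap_rel s0_rot44 (path_edge (s0_f21074r IH) (path_nil s0_v1956))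
theorem s0_f21083 : ed sl_gt s0_v1344 = s0_v1959 :=
  rfl
theorem s0_f21083r : ed sl_gf s0_v1959 = s0_v1344 :=
  edge_flip (s0_f21083 IH)
theorem s0_f12775r : ed sl_at s0_v1344 = s0_v520 :=
  edge_flip (s0_f12775 IH)
theorem s0_f21086 : ed sl_ff s0_v1346 = s0_v1959 :=
  gap_rel s0_rot92 (path_edge (s0_f12782 IH) (path_edge (s0_f7583 IH) (path_edge (s0_f12775r IH) (path_edge (s0_f21083r IH) (path_nil s0_v1959)))))
theorem s0_f21086r : ed sl_ft s0_v1959 = s0_v1346 :=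
  edge_flip (s0_f21086 IH)
theorem s0_f21087 : ed sl_ft s0_v1346 = s0_v1959 :=
  gap_rel s0_rot16 (path_edge (s0_f21086r IH) (path_nil s0_v1959))
theorem s0_f21130 : ed sl_at sq711 = s0_v1969 :=
  rfl
theorem s0_f21130r : ed sl_af s0_v1969 = sq711 :=
  edge_flip (s0_f21130 IH)
theorem s0_f3326r : ed sl_cf sq711 = sq491 :=
  edge_flip (s0_f3326 IH)
theorem s0_f3301r : ed sl_af sq491 = sq715 :=
  edge_flip (s0_f3301 IH)
theorem s0_f21132 : ed sl_cf sq715 = s0_v1969 :=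
  gap_rel s0_rot74 (path_edge (s0_f3301r IH) (path_edge (s0_f3326r IH) (path_edge (s0_f21130r IH) (path_nil s0_v1969))))
theorem s0_f16172r : ed sl_ff sq711 = sq486 :=
  edge_flip (s0_f16172 IH)
theorem s0_f21134 : ed sl_ff s0_v1719 = s0_v1969 :=
  gap_rel s0_rot11 (path_edge (s0_f19492 IH) (path_edge (s0_f16172r IH) (path_edge (s0_f21130r IH) (path_nil s0_v1969))))
theorem s0_f21144 : ed sl_ct sq717 = s0_v1971 :=
  rfl
theorem s0_f21144r : ed sl_cf s0_v1971 = sq717 :=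
  edge_flip (s0_f21144 IH)
theorem s0_f3308r : ed sl_gf sq717 = sq715 :=
  edge_flip (s0_f3308 IH)
theorem s0_f21148 : ed sl_gf s0_v1969 = s0_v1971 :=
  gap_rel s0_rot5 (path_edge (s0_f21132 IH) (path_edge (s0_f3308r IH) (path_edge (s0_f21144r IH) (path_nil s0_v1971))))
theorem s0_f21148r : ed sl_gt s0_v1971 = s0_v1969 :=
  edge_flip (s0_f21148 IH)
theorem s0_f21134r : ed sl_ft s0_v1969 = s0_v1719 :=
  edge_flip (s0_f21134 IH)
theorem s0_f21152 : ed sl_ft s0_v1720 = s0_v1971 :=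
  gap_rel s0_rot73 (path_edge (s0_f19497 IH) (path_edge (s0_f19491r IH) (path_edge (s0_f21134r IH) (path_edge (s0_f21148r IH) (path_nil s0_v1971)))))
theorem s0_f21152r : ed sl_ff s0_v1971 = s0_v1720 :=
  edge_flip (s0_f21152 IH)
theorem s0_f19504r : ed sl_ef s0_v1720 = sq492 :=
  edge_flip (s0_f19504 IH)
theorem s0_f3280r : ed sl_ff sq492 = sq717 :=
  edge_flip (s0_f3280 IH)
theorem s0_f21153 : ed sl_ef sq717 = s0_v1971 :=
  gap_rel s0_rot32 (path_edge (s0_f3280r IH) (path_edge (s0_f19504r IH) (path_edge (s0_f21152r IH) (path_nil s0_v1971))))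
theorem s0_f21154 : ed sl_bt sq721 = s0_v1972 :=
  rfl
theorem s0_f21154r : ed sl_bf s0_v1972 = sq721 :=
  edge_flip (s0_f21154 IH)
theorem s0_f21155 : ed sl_bf sq721 = s0_v1972 :=
  gap_rel s0_rot44 (path_edge (s0_f21154r IH) (path_nil s0_v1972))
theorem s0_f6352r : ed sl_cf sq511 = sq748 :=
  edge_flip (s0_f6352 IH)
theorem s0_f6356r : ed sl_bf sq748 = sq1085 :=
  edge_flip (s0_f6356 IH)
theorem s0_f21156 : ed sl_cf sq1085 = s0_v1972 :=
  gap_rel s0_rot27 (path_edge (s0_f6356r IH) (path_edge (s0_f6352r IH) (path_edge (s0_f18712 IH) (path_edge (s0_f1874r IH) (path_edge (s0_f21154r IH) (path_nil s0_v1972))))))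
theorem s0_f21156r : ed sl_ct s0_v1972 = sq1085 :=
  edge_flip (s0_f21156 IH)
theorem s0_f21157 : ed sl_ct sq1085 = s0_v1972 :=
  gap_rel s0_rot59 (path_edge (s0_f21156r IH) (path_nil s0_v1972))
theorem s0_f21158 : ed sl_ct sq724 = s0_v1973 :=
  rfl
theorem s0_f21158r : ed sl_cf s0_v1973 = sq724 :=
  edge_flip (s0_f21158 IH)
theorem s0_f881r : ed sl_bf sq724 = sq497 :=
  edge_flip (s0_f881 IH)
theorem s0_f1257r : ed sl_bf sq341 = sq506 :=
  edge_flip (s0_f1257 IH)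
theorem s0_f1276r : ed sl_cf sq506 = sq741 :=
  edge_flip (s0_f1276 IH)
theorem s0_f21159 : ed sl_bf sq741 = s0_v1973 :=
  gap_rel s0_rot61 (path_edge (s0_f1276r IH) (path_edge (s0_f1257r IH) (path_edge (s0_f880r IH) (path_edge (s0_f881r IH) (path_edge (s0_f21158r IH) (path_nil s0_v1973))))))
theorem s0_f4220r : ed sl_cf sq838 = sq571 :=
  edge_flip (s0_f4220 IH)
theorem s0_f4219r : ed sl_df sq571 = sq389 :=
  edge_flip (s0_f4219 IH)
theorem s0_f2322r : ed sl_bf sq389 = sq261 :=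
  edge_flip (s0_f2322 IH)
theorem s0_f2321r : ed sl_cf sq261 = sq170 :=
  edge_flip (s0_f2321 IH)
theorem s0_f2339r : ed sl_cf sq110 = sq144 :=
  edge_flip (s0_f2339 IH)
theorem s0_f4036r : ed sl_df sq144 = sq224 :=
  edge_flip (s0_f4036 IH)
theorem s0_f3593r : ed sl_cf sq224 = sq348 :=
  edge_flip (s0_f3593 IH)
theorem s0_f3592r : ed sl_df sq348 = sq401 :=
  edge_flip (s0_f3592 IH)
theorem s0_f127r : ed sl_cf sq401 = sq269 :=
  edge_flip (s0_f127 IH)
theorem s0_f126r : ed sl_df sq269 = sq174 :=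
  edge_flip (s0_f126 IH)
theorem s0_f3591r : ed sl_bf sq174 = sq268 :=
  edge_flip (s0_f3591 IH)
theorem s0_f3590r : ed sl_cf sq268 = sq181 :=
  edge_flip (s0_f3590 IH)
theorem s0_f3589r : ed sl_df sq181 = sq131 :=
  edge_flip (s0_f3589 IH)
theorem s0_f2420r : ed sl_cf sq131 = sq189 :=
  edge_flip (s0_f2420 IH)
theorem s0_f3588r : ed sl_df sq189 = sq296 :=
  edge_flip (s0_f3588 IH)
theorem s0_f3587r : ed sl_bf sq296 = sq190 :=
  edge_flip (s0_f3587 IH)
theorem s0_f3586r : ed sl_cf sq190 = sq284 :=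
  edge_flip (s0_f3586 IH)
theorem s0_f3585r : ed sl_df sq284 = sq182 :=
  edge_flip (s0_f3585 IH)
theorem s0_f2721r : ed sl_df sq66 = sq66 :=
  edge_flip (s0_f2721 IH)
theorem s0_f2794r : ed sl_df sq105 = sq162 :=
  edge_flip (s0_f2794 IH)
theorem s0_f3809r : ed sl_cf sq119 = sq182 :=
  edge_flip (s0_f3809 IH)
theorem s0_f3810r : ed sl_df sq182 = sq284 :=
  edge_flip (s0_f3810 IH)
theorem s0_f3825r : ed sl_cf sq284 = sq190 :=
  edge_flip (s0_f3825 IH)
theorem s0_f3824r : ed sl_df sq190 = sq123 :=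
  edge_flip (s0_f3824 IH)
theorem s0_f3823r : ed sl_ef sq123 = sq174 :=
  edge_flip (s0_f3823 IH)
theorem s0_f4196r : ed sl_bf sq123 = sq189 :=
  edge_flip (s0_f4196 IH)
theorem s0_f4199r : ed sl_ef sq398 = sq588 :=
  edge_flip (s0_f4199 IH)
theorem s0_f4200r : ed sl_bf sq588 = sq402 :=
  edge_flip (s0_f4200 IH)
theorem s0_f4201r : ed sl_cf sq402 = sq596 :=
  edge_flip (s0_f4201 IH)
theorem s0_f4202r : ed sl_df sq596 = sq878 :=
  edge_flip (s0_f4202 IH)
theorem s0_f4204r : ed sl_df sq878 = sq596 :=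
  edge_flip (s0_f4204 IH)
theorem s0_f4151r : ed sl_bf sq596 = sq876 :=
  edge_flip (s0_f4151 IH)
theorem s0_f19156r : ed sl_cf sq876 = sq875 :=
  edge_flip (s0_f19156 IH)
theorem s0_f19155r : ed sl_df sq875 = sq751 :=
  edge_flip (s0_f19155 IH)
theorem s0_f19154r : ed sl_cf sq751 = sq1080 :=
  edge_flip (s0_f19154 IH)
theorem s0_f19146r : ed sl_df sq1080 = sq1301 :=
  edge_flip (s0_f19146 IH)
theorem s0_f6328r : ed sl_bf sq1301 = sq950 :=
  edge_flip (s0_f6328 IH)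
theorem s0_f6329r : ed sl_cf sq950 = sq651 :=
  edge_flip (s0_f6329 IH)
theorem s0_f6330r : ed sl_df sq651 = sq862 :=
  edge_flip (s0_f6330 IH)
theorem s0_f21162 : ed sl_df s0_v1884 = sq741 :=
  gap_rel s0_rot132 (path_edge (s0_f20747 IH) (path_edge (s0_f6330r IH) (path_edge (s0_f6329r IH) (path_edge (s0_f6328r IH) (path_edge (s0_f19146r IH) (path_edge (s0_f19154r IH) (path_edge (s0_f19155r IH) (path_edge (s0_f19156r IH) (path_edge (s0_f4151r IH) (path_edge (s0_f4204r IH) (path_edge (s0_f4203r IH) (path_edge (s0_f4202r IH) (path_edge (s0_f4201r IH) (path_edge (s0_f4200r IH) (path_edge (s0_f4199r IH) (path_edge (s0_f3988r IH) (path_edge (s0_f3987r IH) (path_edge (s0_f2992r IH) (path_edge (s0_f2993r IH) (path_edge (s0_f4196r IH) (path_edge (s0_f3824r IH) (path_edge (s0_f3825r IH) (path_edge (s0_f3810r IH) (path_edge (s0_f3809r IH) (path_eq (s0_f16269 IH).symm (path_edge (s0_f4977 IH) (path_edge (s0_f2794r IH) (path_edge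 (s0_f2797r IH) (path_edge (s0_f2721r IH) (path_edge (s0_f2722r IH) (path_eq (s0_f15534 IH) (path_edge (s0_f3796 IH) (path_edge (s0_f3583r IH) (path_edge (s0_f3584r IH) (path_edge (s0_f3585r IH) (path_edge (s0_f3586r IH) (path_edge (s0_f3587r IH) (path_edge (s0_f3588r IH) (path_edge (s0_f2420r IH) (path_edge (s0_f3589r IH) (path_edge (s0_f3590r IH) (path_edge (s0_f3591r IH) (path_edge (s0_f3823r IH) (path_edge (s0_f3824r IH) (path_edge (s0_f3825r IH) (path_edge (s0_f3810r IH) (path_edge (s0_f3809r IH) (path_eq (s0_f16269 IH).symm (path_edge (s0_f4977 IH) (path_edge (s0_f2794r IH) (path_edge (s0_f2797r IH) (path_edge (s0_f2721r IH) (path_edge (s0_f2722r IH) (path_eq (s0_f15534 IH) (path_edge (s0_f3796 IH) (path_edge (s0_f3583r IH) (path_edge (s0_f3584r IH) (path_edge (s0_f3585r IH) (path_edge (s0_f3586r IH) (path_edge (s0_f3587r IH) (path_edge (s0_f3588r IH) (path_edge (s0_f2420r IH) (path_edge (s0_f3589r IH) (path_edge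 (s0_f3590r IH) (path_edge (s0_f3591r IH) (path_edge (s0_f126r IH) (path_edge (s0_f127r IH) (path_edge (s0_f3592r IH) (path_edge (s0_f3593r IH) (path_edge (s0_f3594r IH) (path_eq (s0_f15371 IH) (path_eq (s0_f15360 IH).symm (path_edge (s0_f6450 IH) (path_edge (s0_f4036r IH) (path_edge (s0_f2339r IH) (path_edge (s0_f3780r IH) (path_edge (s0_f2321r IH) (path_edge (s0_f2322r IH) (path_edge (s0_f4219r IH) (path_edge (s0_f4220r IH) (path_edge (s0_f17345r IH) (path_edge (s0_f21158r IH) (path_edge (s0_f21159 IH) (path_nil sq741))))))))))))))))))))))))))))))))))))))))))))))))))))))))))))))))))))))))))))))))))))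
theorem s0_f21162r : ed sl_dt sq741 = s0_v1884 :=
  edge_flip (s0_f21162 IH)
theorem s0_f20746r : ed sl_at s0_v1884 = sq865 :=
  edge_flip (s0_f20746 IH)
theorem s0_f21163 : ed sl_dt sq865 = sq1069 :=
  gap_rel s0_rot53 (path_edge (s0_f20746r IH) (path_edge (s0_f21162r IH) (path_edge (s0_f1262 IH) (path_nil sq1069))))
theorem s0_f21165 : ed sl_dt s0_v1884 = sq741 :=
  gap_rel s0_rot28 (path_edge (s0_f21162r IH) (path_nil sq741))
theorem s0_f1300r : ed sl_af sq704 = sq482 :=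
  edge_flip (s0_f1300 IH)
theorem s0_f20747r : ed sl_ct s0_v1884 = sq862 :=
  edge_flip (s0_f20747 IH)
theorem s0_f21166 : ed sl_dt sq950 = sq1015 :=
  gap_rel s0_rot133 (path_edge (s0_f6329 IH) (path_edge (s0_f6330 IH) (path_edge (s0_f20747r IH) (path_edge (s0_f21162r IH) (path_edge (s0_f1258 IH) (path_edge (s0_f1512 IH) (path_edge (s0_f1300r IH) (path_edge (s0_f1295 IH) (path_nil sq1015)))))))))
theorem s0_f21159r : ed sl_bt s0_v1973 = sq741 :=
  edge_flip (s0_f21159 IH)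
theorem s0_f249r : ed sl_dt sq220 = sq206 :=
  edge_flip (s0_f249 IH)
theorem s0_f21168 : ed sl_bt sq1069 = sq751 :=
  gap_rel s0_rot134 (path_edge (s0_f1296 IH) (path_edge (s0_f1510 IH) (path_edge (s0_f1295 IH) (path_edge (s0_f21166 IH) (path_edge (s0_f18884 IH) (path_edge (s0_f19148r IH) (path_edge (s0_f3649 IH) (path_edge (s0_f3648 IH) (path_edge (s0_f3647 IH) (path_edge (s0_f3646 IH) (path_edge (s0_f3645 IH) (path_edge (s0_f3644 IH) (path_edge (s0_f3590 IH) (path_edge (s0_f3589 IH) (path_edge (s0_f4947 IH) (path_edge (s0_f287 IH) (path_edge (s0_f286 IH) (path_edge (s0_f355 IH) (path_edge (s0_f241 IH) (path_edge (s0_f2459 IH) (path_edge (s0_f2116 IH) (path_edge (s0_f3662 IH) (path_edge (s0_f3667 IH) (path_edge (s0_f3668 IH) (path_eq (s0_f16614 IH).symm (path_edge (s0_f5298 IH) (path_edge (s0_f1457 IH) (path_edge (s0_f977 IH) (path_edge (s0_f249r IH) (path_edge (s0_f1343 IH) (path_edge (s0_f1459 IH) (path_edge (s0_f1720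 IH) (path_edge (s0_f1721 IH) (path_eq (s0_f15780 IH).symm (path_eq (s0_f16526 IH).symm (path_edge (s0_f10214 IH) (path_edge (s0_f2781 IH) (path_edge (s0_f2762 IH) (path_eq (s0_f15403 IH) (path_edge (s0_f4136 IH) (path_edge (s0_f2339 IH) (path_edge (s0_f4036 IH) (path_edge (s0_f3593 IH) (path_edge (s0_f3592 IH) (path_edge (s0_f4150 IH) (path_edge (s0_f4151 IH) (path_edge (s0_f19156 IH) (path_edge (s0_f19155 IH) (path_edge (s0_f19154 IH) (path_edge (s0_f19146 IH) (path_edge (s0_f6328 IH) (path_edge (s0_f6329 IH) (path_edge (s0_f6330 IH) (path_edge (s0_f20747r IH) (path_edge (s0_f21162r IH) (path_edge (s0_f21159r IH) (path_edge (s0_f21158 IH) (path_edge (s0_f17345 IH) (path_edge (s0_f4220 IH) (path_edge (s0_f4219 IH) (path_edge (s0_f2322 IH) (path_edge (s0_f2321 IH) (path_edge (s0_f3780 IH) (path_edge (s0_f2339 IH) (path_edge (s0_f4036 IH) (path_edge (s0_f4117 IH) (path_edge (s0_f6288 IH) (path_edge (s0_f6289 IH) (path_edge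 (s0_f6291r IH) (path_edge (s0_f3789 IH) (path_eq (s0_f15737 IH) (path_edge (s0_f10001 IH) (path_edge (s0_f2730 IH) (path_edge (s0_f2731 IH) (path_edge (s0_f2732 IH) (path_edge (s0_f2733 IH) (path_edge (s0_f19118r IH) (path_edge (s0_f19117 IH) (path_edge (s0_f17379 IH) (path_edge (s0_f17378 IH) (path_edge (s0_f19156 IH) (path_edge (s0_f19155 IH) (path_nil sq751)))))))))))))))))))))))))))))))))))))))))))))))))))))))))))))))))))))))))))))))))))
theorem s0_f21170 : s0_v1804 = sq705 :=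
  (loop_rel s0_rot106 (path_edge (s0_f20141 IH) (path_edge (s0_f7117 IH) (path_edge (s0_f11111r IH) (path_edge (s0_f20748r IH) (path_edge (s0_f21162r IH) (path_edge (s0_f1266 IH) (path_nil sq705)))))))).symm
theorem s0_f1268r : ed sl_ff sq1017 = sq705 :=
  edge_flip (s0_f1268 IH)
theorem s0_f20143r : ed sl_ff sq655 = sq956 :=
  edge_flip (s0_f20143 IH)
theorem s0_f21178 : ed sl_df sq956 = sq1017 :=
  gap_rel s0_rot56 (path_edge (s0_f20143r IH) (path_edge (s0_f20141r IH) (path_eq (s0_f21170 IH).symm (path_edge (s0_f1268r IH) (path_nil sq1017)))))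
theorem s0_f21178r : ed sl_dt sq1017 = sq956 :=
  edge_flip (s0_f21178 IH)
theorem s0_f21183 : ed sl_dt sq1304 = sq1365 :=
  gap_rel s0_rot55 (path_edge (s0_f19279 IH) (path_edge (s0_f21178r IH) (path_edge (s0_f1293 IH) (path_nil sq1365))))
theorem s0_f1302r : ed sl_cf sq1015 = sq704 :=
  edge_flip (s0_f1302 IH)
theorem s0_f1303r : ed sl_cf sq740 = sq1069 :=
  edge_flip (s0_f1303 IH)
theorem s0_f21163r : ed sl_df sq1069 = sq865 :=
  edge_flip (s0_f21163 IH)
theorem s0_f3822r : ed sl_cf sq865 = sq588 :=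
  edge_flip (s0_f3822 IH)
theorem s0_f3821r : ed sl_df sq588 = sq445 :=
  edge_flip (s0_f3821 IH)
theorem s0_f17344r : ed sl_cf sq445 = sq655 :=
  edge_flip (s0_f17344 IH)
theorem s0_f1275r : ed sl_cf sq705 = sq482 :=
  edge_flip (s0_f1275 IH)
theorem s0_f21165r : ed sl_df sq741 = s0_v1884 :=
  edge_flip (s0_f21165 IH)
theorem s0_f20750r : ed sl_cf s0_v1884 = sq862 :=
  edge_flip (s0_f20750 IH)
theorem s0_f19281r : ed sl_df sq862 = sq651 :=
  edge_flip (s0_f19281 IH)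
theorem s0_f19150r : ed sl_cf sq651 = sq950 :=
  edge_flip (s0_f19150 IH)
theorem s0_f21202 : ed sl_df sq950 = sq1015 :=
  gap_rel s0_rot135 (path_edge (s0_f19150r IH) (path_edge (s0_f19281r IH) (path_edge (s0_f20750r IH) (path_edge (s0_f21165r IH) (path_edge (s0_f1276r IH) (path_edge (s0_f1508 IH) (path_edge (s0_f1275r IH) (path_eq (s0_f21170 IH) (path_edge (s0_f20142 IH) (path_edge (s0_f17344r IH) (path_edge (s0_f3821r IH) (path_edge (s0_f3822r IH) (path_edge (s0_f21163r IH) (path_edge (s0_f1303r IH) (path_edge (s0_f1549 IH) (path_edge (s0_f1302r IH) (path_nil sq1015)))))))))))))))))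
theorem s0_f19885r : ed sl_df s0_v1766 = sq616 :=
  edge_flip (s0_f19885 IH)
theorem s0_f6324r : ed sl_cf sq616 = sq417 :=
  edge_flip (s0_f6324 IH)
theorem s0_f6323r : ed sl_df sq417 = sq319 :=
  edge_flip (s0_f6323 IH)
theorem s0_f5279r : ed sl_bf sq319 = sq203 :=
  edge_flip (s0_f5279 IH)
theorem s0_f6317r : ed sl_cf sq203 = sq295 :=
  edge_flip (s0_f6317 IH)
theorem s0_f6316r : ed sl_df sq295 = sq441 :=
  edge_flip (s0_f6316 IH)
theorem s0_f4949r : ed sl_cf sq441 = sq650 :=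
  edge_flip (s0_f4949 IH)
theorem s0_f4948r : ed sl_df sq650 = sq587 :=
  edge_flip (s0_f4948 IH)
theorem s0_f6313r : ed sl_bf sq587 = sq864 :=
  edge_flip (s0_f6313 IH)
theorem s0_f6376r : ed sl_cf sq596 = sq402 :=
  edge_flip (s0_f6376 IH)
theorem s0_f6377r : ed sl_df sq402 = sq299 :=
  edge_flip (s0_f6377 IH)
theorem s0_f11169r : ed sl_bf sq299 = sq445 :=
  edge_flip (s0_f11169 IH)
theorem s0_f694r : ed sl_cf sq341 = sq497 :=
  edge_flip (s0_f694 IH)
theorem s0_f1039r : ed sl_df sq497 = sq725 :=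
  edge_flip (s0_f1039 IH)
theorem s0_f2991r : ed sl_df sq527 = sq359 :=
  edge_flip (s0_f2991 IH)
theorem s0_f134r : ed sl_df sq150 = sq97 :=
  edge_flip (s0_f134 IH)
theorem s0_f2736r : ed sl_cf sq97 = sq70 :=
  edge_flip (s0_f2736 IH)
theorem s0_f2737r : ed sl_df sq70 = sq113 :=
  edge_flip (s0_f2737 IH)
theorem s0_f2403r : ed sl_cf sq73 = sq118 :=
  edge_flip (s0_f2403 IH)
theorem s0_f2418r : ed sl_df sq118 = sq83 :=
  edge_flip (s0_f2418 IH)
theorem s0_f2444r : ed sl_cf sq83 = sq48 :=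
  edge_flip (s0_f2444 IH)
theorem s0_f2989r : ed sl_df sq48 = sq26 :=
  edge_flip (s0_f2989 IH)
theorem s0_f2538r : ed sl_ef sq26 = sq13 :=
  edge_flip (s0_f2538 IH)
theorem s0_f2577r : ed sl_df sq40 = sq22 :=
  edge_flip (s0_f2577 IH)
theorem s0_f2189r : ed sl_bf sq22 = sq22 :=
  edge_flip (s0_f2189 IH)
theorem s0_f2548r : ed sl_df sq19 = sq35 :=
  edge_flip (s0_f2548 IH)
theorem s0_f22r : ed sl_bf sq6 = sq3 :=
  edge_flip (s0_f22 IH)
theorem s0_f30r : ed sl_cf sq3 = sq7 :=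
  edge_flip (s0_f30 IH)
theorem s0_f172r : ed sl_df sq7 = sq12 :=
  edge_flip (s0_f172 IH)
theorem s0_f2479r : ed sl_cf sq12 = sq23 :=
  edge_flip (s0_f2479 IH)
theorem s0_f2482r : ed sl_df sq23 = sq13 :=
  edge_flip (s0_f2482 IH)
theorem s0_f2525r : ed sl_ef sq13 = sq26 :=
  edge_flip (s0_f2525 IH)
theorem s0_f2413r : ed sl_cf sq45 = sq45 :=
  edge_flip (s0_f2413 IH)
theorem s0_f2526r : ed sl_df sq45 = sq77 :=
  edge_flip (s0_f2526 IH)
theorem s0_f2406r : ed sl_cf sq77 = sq123 :=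
  edge_flip (s0_f2406 IH)
theorem s0_f2527r : ed sl_df sq123 = sq190 :=
  edge_flip (s0_f2527 IH)
theorem s0_f2528r : ed sl_bf sq190 = sq296 :=
  edge_flip (s0_f2528 IH)
theorem s0_f2529r : ed sl_cf sq296 = sq444 :=
  edge_flip (s0_f2529 IH)
theorem s0_f10562r : ed sl_df sq584 = sq397 :=
  edge_flip (s0_f10562 IH)
theorem s0_f877r : ed sl_bf sq397 = sq583 :=
  edge_flip (s0_f877 IH)
theorem s0_f878r : ed sl_cf sq583 = sq860 :=
  edge_flip (s0_f878 IH)
theorem s0_f21204 : sq860 = s0_v1766 :=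
  (loop_rel s0_rot136 (path_edge (s0_f878r IH) (path_edge (s0_f877r IH) (path_edge (s0_f10562r IH) (path_edge (s0_f11117r IH) (path_edge (s0_f11111 IH) (path_edge (s0_f2529r IH) (path_edge (s0_f2528r IH) (path_edge (s0_f2527r IH) (path_edge (s0_f2406r IH) (path_edge (s0_f2526r IH) (path_edge (s0_f2413r IH) (path_edge (s0_f2412r IH) (path_edge (s0_f2525r IH) (path_edge (s0_f2482r IH) (path_edge (s0_f2479r IH) (path_edge (s0_f172r IH) (path_edge (s0_f30r IH) (path_edge (s0_f22r IH) (path_edge (s0_f49r IH) (path_edge (s0_f47r IH) (path_edge (s0_f78r IH) (path_edge (s0_f79r IH) (path_edge (s0_f73r IH) (path_edge (s0_f74 IH) (path_eq (s0_f15226 IH) (path_edge (s0_f3557 IH) (path_edge (s0_f2548r IH) (path_eq (s0_f2568 IH).symm (path_edge (s0_f2554 IH) (path_edge (s0_f2189r IH) (path_edge (s0_f2577r IH) (path_edge (s0_f2687r IH) (path_edge (s0_f2711r IH) (path_edge (s0_f2519r IH) (path_edge (s0_f2518r IH) (path_edge (s0_f2517r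 IH) (path_edge (s0_f2227r IH) (path_edge (s0_f102r IH) (path_edge (s0_f103r IH) (path_edge (s0_f2483r IH) (path_edge (s0_f2538r IH) (path_edge (s0_f2989r IH) (path_edge (s0_f2444r IH) (path_edge (s0_f2418r IH) (path_edge (s0_f2403r IH) (path_edge (s0_f291r IH) (path_edge (s0_f2737r IH) (path_edge (s0_f2736r IH) (path_edge (s0_f134r IH) (path_edge (s0_f135r IH) (path_edge (s0_f2990r IH) (path_edge (s0_f2991r IH) (path_edge (s0_f17303r IH) (path_edge (s0_f1039r IH) (path_edge (s0_f694r IH) (path_edge (s0_f695r IH) (path_edge (s0_f1508 IH) (path_edge (s0_f1275r IH) (path_eq (s0_f21170 IH) (path_edge (s0_f20142 IH) (path_edge (s0_f17344r IH) (path_edge (s0_f11169r IH) (path_edge (s0_f6377r IH) (path_edge (s0_f6376r IH) (path_edge (s0_f4204r IH) (path_edge (s0_f4203r IH) (path_edge (s0_f11119r IH) (path_edge (s0_f19068 IH) (path_edge (s0_f2732r IH) (path_edge (s0_f2731r IH) (path_edge (s0_f4214r IH) (path_edge (s0_f4215r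 IH) (path_edge (s0_f6313r IH) (path_edge (s0_f4948r IH) (path_edge (s0_f4949r IH) (path_edge (s0_f6316r IH) (path_edge (s0_f6317r IH) (path_edge (s0_f5279r IH) (path_edge (s0_f6323r IH) (path_edge (s0_f6324r IH) (path_edge (s0_f19885r IH) (path_nil s0_v1766))))))))))))))))))))))))))))))))))))))))))))))))))))))))))))))))))))))))))))))))))).symm
theorem s0_f6322r : ed sl_cf sq319 = sq475 :=
  edge_flip (s0_f6322 IH)
theorem s0_f21209 : ed sl_df s0_v1920 = sq859 :=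
  gap_rel s0_rot137 (path_edge (s0_f20934 IH) (path_edge (s0_f11538 IH) (path_edge (s0_f6322r IH) (path_edge (s0_f6323r IH) (path_edge (s0_f6324r IH) (path_edge (s0_f19885r IH) (path_eq (s0_f21204 IH) (path_edge (s0_f878r IH) (path_edge (s0_f19472 IH) (path_nil sq859))))))))))
theorem s0_f21209r : ed sl_dt sq859 = s0_v1920 :=
  edge_flip (s0_f21209 IH)
theorem s0_f20934r : ed sl_ct s0_v1920 = s0_v1107 :=
  edge_flip (s0_f20934 IH)
theorem s0_f11538r : ed sl_dt s0_v1107 = sq475 :=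
  edge_flip (s0_f11538 IH)
theorem s0_f17880r : ed sl_dt sq733 = sq539 :=
  edge_flip (s0_f17880 IH)
theorem s0_f10507r : ed sl_ct s0_v1010 = sq389 :=
  edge_flip (s0_f10507 IH)
theorem s0_f1486r : ed sl_dt sq341 = sq325 :=
  edge_flip (s0_f1486 IH)
theorem s0_f17351r : ed sl_dt sq724 = sq838 :=
  edge_flip (s0_f17351 IH)
theorem s0_f17277r : ed sl_et sq725 = sq789 :=
  edge_flip (s0_f17277 IH)
theorem s0_f19326r : ed sl_bt sq1435 = sq1598 :=
  edge_flip (s0_f19326 IH)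
theorem s0_f21213 : ed sl_bt s0_v1772 = sq859 :=
  gap_rel s0_rot138 (path_edge (s0_f19936 IH) (path_edge (s0_f19340 IH) (path_edge (s0_f10789 IH) (path_edge (s0_f10790 IH) (path_edge (s0_f19326r IH) (path_edge (s0_f17281 IH) (path_edge (s0_f17280 IH) (path_edge (s0_f17279 IH) (path_edge (s0_f10311 IH) (path_edge (s0_f17277r IH) (path_edge (s0_f17301 IH) (path_edge (s0_f4220 IH) (path_edge (s0_f4219 IH) (path_edge (s0_f10507r IH) (path_eq (s0_f16523 IH).symm (path_edge (s0_f17880r IH) (path_edge (s0_f2410 IH) (path_edge (s0_f1491 IH) (path_edge (s0_f1490 IH) (path_edge (s0_f503 IH) (path_edge (s0_f484 IH) (path_edge (s0_f334 IH) (path_edge (s0_f209 IH) (path_edge (s0_f213 IH) (path_edge (s0_f234 IH) (path_edge (s0_f235 IH) (path_edge (s0_f293 IH) (path_edge (s0_f497 IH) (path_edge (s0_f1719 IH) (path_edge (s0_f1721 IH) (path_eq (s0_f15780 IH).symm (path_eq (s0_f16526 IH).symm (path_edge (s0_f10214 IH) (path_edge (s0_f2807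 IH) (path_eq (s0_f16523 IH) (path_edge (s0_f10504 IH) (path_edge (s0_f139 IH) (path_edge (s0_f4705 IH) (path_edge (s0_f17351r IH) (path_edge (s0_f1037 IH) (path_edge (s0_f1035 IH) (path_edge (s0_f1048 IH) (path_edge (s0_f1486r IH) (path_edge (s0_f694 IH) (path_edge (s0_f1039 IH) (path_edge (s0_f17301 IH) (path_edge (s0_f4220 IH) (path_edge (s0_f4219 IH) (path_edge (s0_f10507r IH) (path_eq (s0_f16523 IH).symm (path_edge (s0_f17880r IH) (path_edge (s0_f2410 IH) (path_edge (s0_f1491 IH) (path_edge (s0_f1490 IH) (path_edge (s0_f503 IH) (path_edge (s0_f484 IH) (path_edge (s0_f334 IH) (path_edge (s0_f209 IH) (path_edge (s0_f213 IH) (path_edge (s0_f234 IH) (path_edge (s0_f235 IH) (path_edge (s0_f293 IH) (path_edge (s0_f497 IH) (path_edge (s0_f1719 IH) (path_edge (s0_f1721 IH) (path_eq (s0_f15780 IH).symm (path_eq (s0_f16526 IH).symm (path_edge (s0_f10214 IH) (path_edge (s0_f2792 IH) (path_edge (s0_f2798 IH) (path_eq (s0_f16619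 IH) (path_edge (s0_f7095 IH) (path_edge (s0_f4040 IH) (path_edge (s0_f3812 IH) (path_edge (s0_f19960r IH) (path_edge (s0_f19962 IH) (path_edge (s0_f11117 IH) (path_edge (s0_f10562 IH) (path_edge (s0_f1575 IH) (path_edge (s0_f5281 IH) (path_edge (s0_f6321 IH) (path_edge (s0_f6322 IH) (path_edge (s0_f11538r IH) (path_edge (s0_f20934r IH) (path_edge (s0_f21209r IH) (path_nil sq859))))))))))))))))))))))))))))))))))))))))))))))))))))))))))))))))))))))))))))))))))))))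
theorem s0_f18920r : ed sl_bf sq910 = sq645 :=
  edge_flip (s0_f18920 IH)
theorem s0_f19294r : ed sl_ef sq645 = sq859 :=
  edge_flip (s0_f19294 IH)
theorem s0_f21213r : ed sl_bf sq859 = s0_v1772 :=
  edge_flip (s0_f21213 IH)
theorem s0_f21217 : ed sl_ef s0_v1772 = sq910 :=
  gap_rel s0_rot46 (path_edge (s0_f21213r IH) (path_edge (s0_f19294r IH) (path_edge (s0_f18920r IH) (path_nil sq910))))
theorem s0_f21217r : ed sl_et sq910 = s0_v1772 :=
  edge_flip (s0_f21217 IH)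
theorem s0_f21221 : ed sl_et s0_v1772 = sq910 :=
  gap_rel s0_rot31 (path_edge (s0_f21217r IH) (path_nil sq910))
theorem s0_f21221r : ed sl_ef sq910 = s0_v1772 :=
  edge_flip (s0_f21221 IH)
theorem s0_f19936r : ed sl_cf s0_v1772 = sq620 :=
  edge_flip (s0_f19936 IH)
theorem s0_f18282r : ed sl_ef sq620 = sq834 :=
  edge_flip (s0_f18282 IH)
theorem s0_f21222 : ed sl_cf sq834 = sq910 :=
  gap_rel s0_rot38 (path_edge (s0_f18282r IH) (path_edge (s0_f19936r IH) (path_edge (s0_f21221r IH) (path_nil sq910))))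
theorem s0_f20052r : ed sl_ct s0_v1793 = sq645 :=
  edge_flip (s0_f20052 IH)
theorem s0_f21222r : ed sl_ct sq910 = sq834 :=
  edge_flip (s0_f21222 IH)
theorem s0_f21224 : ed sl_bt sq785 = s0_v1793 :=
  gap_rel s0_rot41 (path_edge (s0_f18279 IH) (path_edge (s0_f17380 IH) (path_edge (s0_f21222r IH) (path_edge (s0_f18920 IH) (path_edge (s0_f20052r IH) (path_nil s0_v1793))))))
theorem s0_f11524r : ed sl_bf sq475 = sq646 :=
  edge_flip (s0_f11524 IH)
theorem s0_f21224r : ed sl_bf s0_v1793 = sq785 :=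
  edge_flip (s0_f21224 IH)
theorem s0_f2815r : ed sl_af sq785 = sq539 :=
  edge_flip (s0_f2815 IH)
theorem s0_f2799r : ed sl_bf sq539 = sq367 :=
  edge_flip (s0_f2799 IH)
theorem s0_f3276r : ed sl_bf sq328 = sq486 :=
  edge_flip (s0_f3276 IH)
theorem s0_f21227 : s0_v1719 = s0_v1917 :=
  (loop_rel s0_rot114 (path_edge (s0_f19492 IH) (path_edge (s0_f3276r IH) (path_eq (s0_f15795 IH) (path_edge (s0_f6191 IH) (path_edge (s0_f2799r IH) (path_edge (s0_f2815r IH) (path_edge (s0_f21224r IH) (path_edge (s0_f20051 IH) (path_edge (s0_f11524r IH) (path_edge (s0_f11522r IH) (path_edge (s0_f20919r IH) (path_nil s0_v1917))))))))))))).symm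
theorem s0_f19884r : ed sl_ef s0_v1765 = s0_v1106 :=
  edge_flip (s0_f19884 IH)
theorem s0_f19495r : ed sl_ef s0_v1719 = sq490 :=
  edge_flip (s0_f19495 IH)
theorem s0_f21228 : s0_v1721 = s0_v1765 :=
  (loop_rel s0_rot23 (path_edge (s0_f19506 IH) (path_edge (s0_f19495r IH) (path_eq (s0_f21227 IH).symm (path_edge (s0_f20920 IH) (path_edge (s0_f19884r IH) (path_nil s0_v1765))))))).symm
theorem s0_f21202r : ed sl_dt sq1015 = sq950 :=
  edge_flip (s0_f21202 IH)
theorem s0_f21236 : ed sl_bt sq1080 = sq1015 :=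
  gap_rel s0_rot69 (path_edge (s0_f19146 IH) (path_edge (s0_f6328 IH) (path_edge (s0_f21202r IH) (path_nil sq1015))))
theorem s0_f21236r : ed sl_bf sq1015 = sq1080 :=
  edge_flip (s0_f21236 IH)
theorem s0_f21240 : ed sl_bf sq1080 = sq1015 :=
  gap_rel s0_rot44 (path_edge (s0_f21236r IH) (path_nil sq1015))
theorem s0_f21242 : ed sl_ft sq1355 = sq1007 :=
  real_edge rels S fwd inv o lvl plet idx 16 IH Gen.f sp1355 sp1007 rfl rfl
theorem s0_f21243 : ed sl_bt sq1354 = sq1641 :=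
  real_edge rels S fwd inv o lvl plet idx 16 IH Gen.b sp1354 sp1641 rfl rfl
theorem s0_f21240r : ed sl_bt sq1015 = sq1080 :=
  edge_flip (s0_f21240 IH)
theorem s0_f10002r : ed sl_at s0_v954 = sq353 :=
  edge_flip (s0_f10002 IH)
theorem s0_f21244 : ed sl_at sq1087 = sq1016 :=
  gap_rel s0_rot82 (path_edge (s0_f10019 IH) (path_edge (s0_f10018 IH) (path_edge (s0_f4788 IH) (path_edge (s0_f10002r IH) (path_eq (s0_f15737 IH).symm (path_edge (s0_f6310 IH) (path_edge (s0_f19145 IH) (path_edge (s0_f21240r IH) (path_edge (s0_f1261 IH) (path_edge (s0_f1274 IH) (path_nil sq1016)))))))))))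
theorem s0_f21254 : ed sl_ft sq1016 = sq1364 :=
  real_edge rels S fwd inv o lvl plet idx 16 IH Gen.f sp1016 sp1364 rfl rfl
theorem s0_f21244r : ed sl_af sq1016 = sq1087 :=
  edge_flip (s0_f21244 IH)
theorem s0_f19308r : ed sl_dt sq1087 = sq1271 :=
  edge_flip (s0_f19308 IH)
theorem s0_f21257 : ed sl_ct sq1198 = sq1150 :=
  gap_rel s0_rot121 (path_edge (s0_f19346 IH) (path_edge (s0_f19347 IH) (path_edge (s0_f19308r IH) (path_edge (s0_f21244r IH) (path_edge (s0_f1281 IH) (path_edge (s0_f17515 IH) (path_edge (s0_f10314 IH) (path_edge (s0_f10315 IH) (path_nil sq1150)))))))))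
theorem s0_f21257r : ed sl_cf sq1150 = sq1198 :=
  edge_flip (s0_f21257 IH)
theorem s0_f19361r : ed sl_ef sq1198 = sq835 :=
  edge_flip (s0_f19361 IH)
theorem s0_f10512r : ed sl_cf sq835 = sq1197 :=
  edge_flip (s0_f10512 IH)
theorem s0_f21262 : ed sl_ef sq1197 = sq1150 :=
  gap_rel s0_rot48 (path_edge (s0_f10512r IH) (path_edge (s0_f19361r IH) (path_edge (s0_f21257r IH) (path_nil sq1150))))
theorem s0_f21262r : ed sl_et sq1150 = sq1197 :=
  edge_flip (s0_f21262 IH)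
theorem s0_f21268 : ed sl_et sq1197 = sq1150 :=
  gap_rel s0_rot31 (path_edge (s0_f21262r IH) (path_nil sq1150))
theorem s0_f10315r : ed sl_df sq805 = sq1150 :=
  edge_flip (s0_f10315 IH)
theorem s0_f21268r : ed sl_ef sq1150 = sq1197 :=
  edge_flip (s0_f21268 IH)
theorem s0_f1157r : ed sl_ef sq1045 = sq1018 :=
  edge_flip (s0_f1157 IH)
theorem s0_f17511r : ed sl_df sq1018 = sq804 :=
  edge_flip (s0_f17511 IH)
theorem s0_f21270 : ed sl_ef sq804 = sq805 :=
  gap_rel s0_rot30 (path_edge (s0_f17511r IH) (path_edge (s0_f1157r IH) (path_edge (s0_f17349 IH) (path_edge (s0_f21268r IH) (path_edge (s0_f10315r IH) (path_nil sq805))))))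
theorem s0_f21270r : ed sl_et sq805 = sq804 :=
  edge_flip (s0_f21270 IH)
theorem s0_f21276 : ed sl_ct sq804 = sq788 :=
  gap_rel s0_rot60 (path_edge (s0_f21270r IH) (path_edge (s0_f17513 IH) (path_edge (s0_f17519 IH) (path_nil sq788))))
theorem s0_f21424 : ed sl_at sq743 = s0_v1983 :=
  rfl
theorem s0_f21424r : ed sl_af s0_v1983 = sq743 :=
  edge_flip (s0_f21424 IH)
theorem s0_f21425 : ed sl_af sq743 = s0_v1983 :=
  gap_rel s0_rot66 (path_edge (s0_f21424r IH) (path_nil s0_v1983))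
theorem s0_f1009r : ed sl_ef sq743 = sq699 :=
  edge_flip (s0_f1009 IH)
theorem s0_f1359r : ed sl_af sq699 = sq1007 :=
  edge_flip (s0_f1359 IH)
theorem s0_f21427 : ed sl_ef sq1007 = s0_v1983 :=
  gap_rel s0_rot102 (path_edge (s0_f1359r IH) (path_edge (s0_f1009r IH) (path_edge (s0_f21424r IH) (path_nil s0_v1983))))
theorem s0_f21444 : ed sl_ft sq744 = s0_v1985 :=
  rfl
theorem s0_f21444r : ed sl_ff s0_v1985 = sq744 :=
  edge_flip (s0_f21444 IH)
theorem s0_f21447 : ed sl_ff sq744 = s0_v1985 :=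
  gap_rel s0_rot1 (path_edge (s0_f21444r IH) (path_nil s0_v1985))
theorem s0_f21481 : ed sl_at sq753 = s0_v1992 :=
  rfl
theorem s0_f21481r : ed sl_af s0_v1992 = sq753 :=
  edge_flip (s0_f21481 IH)
theorem s0_f21482 : ed sl_af sq753 = s0_v1992 :=
  gap_rel s0_rot66 (path_edge (s0_f21481r IH) (path_nil s0_v1992))
theorem s0_f21547 : ed sl_ft sq844 = sq1208 :=
  real_edge rels S fwd inv o lvl plet idx 16 IH Gen.f sp844 sp1208 rfl rfl
theorem s0_f21572 : ed sl_ft sq1222 = sq853 :=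
  real_edge rels S fwd inv o lvl plet idx 16 IH Gen.f sp1222 sp853 rfl rfl
theorem s0_f21697 : ed sl_ct sq990 = sq681 :=
  real_edge rels S fwd inv o lvl plet idx 16 IH Gen.c sp990 sp681 rfl rfl
theorem s0_f21824 : ed sl_bt sq808 = s0_v2035 :=
  rfl
theorem s0_f21824r : ed sl_bf s0_v2035 = sq808 :=
  edge_flip (s0_f21824 IH)
theorem s0_f21825 : ed sl_bf sq808 = s0_v2035 :=
  gap_rel s0_rot44 (path_edge (s0_f21824r IH) (path_nil s0_v2035))
theorem s0_f21858 : ed sl_ct sq816 = s0_v2040 :=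
  rfl
theorem s0_f21858r : ed sl_cf s0_v2040 = sq816 :=
  edge_flip (s0_f21858 IH)
theorem s0_f21860 : ed sl_cf sq816 = s0_v2040 :=
  gap_rel s0_rot40 (path_edge (s0_f21858r IH) (path_nil s0_v2040))
theorem s0_f21875 : ed sl_bt sq828 = s0_v2042 :=
  rfl
theorem s0_f21875r : ed sl_bf s0_v2042 = sq828 :=
  edge_flip (s0_f21875 IH)
theorem s0_f21876 : ed sl_bf sq828 = s0_v2042 :=
  gap_rel s0_rot44 (path_edge (s0_f21875r IH) (path_nil s0_v2042))
theorem s0_f21877 : ed sl_df s0_v1972 = s0_v2042 :=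
  gap_rel s0_rot8 (path_edge (s0_f21155 IH) (path_edge (s0_f1875 IH) (path_edge (s0_f21875r IH) (path_nil s0_v2042))))
theorem s0_f21877r : ed sl_dt s0_v2042 = s0_v1972 :=
  edge_flip (s0_f21877 IH)
theorem s0_f21878 : ed sl_dt s0_v1972 = s0_v2042 :=
  gap_rel s0_rot28 (path_edge (s0_f21877r IH) (path_nil s0_v2042))
theorem s0_f21879 : ed sl_bt sq833 = s0_v2043 :=
  rfl
theorem s0_f21879r : ed sl_bf s0_v2043 = sq833 :=
  edge_flip (s0_f21879 IH)
theorem s0_f21880 : ed sl_bf sq833 = s0_v2043 :=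
  gap_rel s0_rot44 (path_edge (s0_f21879r IH) (path_nil s0_v2043))
theorem s0_f6842r : ed sl_cf sq833 = sq566 :=
  edge_flip (s0_f6842 IH)
theorem s0_f18021r : ed sl_bf sq832 = sq1196 :=
  edge_flip (s0_f18021 IH)
theorem s0_f21881 : ed sl_cf sq1196 = s0_v2043 :=
  gap_rel s0_rot27 (path_edge (s0_f18021r IH) (path_edge (s0_f9851r IH) (path_edge (s0_f18015 IH) (path_eq (s0_f16669 IH).symm (path_edge (s0_f6842r IH) (path_edge (s0_f21879r IH) (path_nil s0_v2043)))))))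
theorem s0_f21986 : ed sl_gt sq1208 = sq1222 :=
  real_edge rels S fwd inv o lvl plet idx 16 IH Gen.g sp1208 sp1222 rfl rfl
theorem s0_f22004 : ed sl_bt sq853 = s0_v2058 :=
  rfl
theorem s0_f22017 : ed sl_et sq856 = s0_v2060 :=
  rfl
theorem s0_f22017r : ed sl_ef s0_v2060 = sq856 :=
  edge_flip (s0_f22017 IH)
theorem s0_f22021 : ed sl_ef sq856 = s0_v2060 :=
  gap_rel s0_rot34 (path_edge (s0_f22017r IH) (path_nil s0_v2060))
theorem s0_f22114 : ed sl_dt sq1618 = sq1309 :=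
  real_edge rels S fwd inv o lvl plet idx 16 IH Gen.d sp1618 sp1309 rfl rfl
theorem s0_f22155 : ed sl_et sq887 = sq1239 :=
  real_edge rels S fwd inv o lvl plet idx 16 IH Gen.e sp887 sp1239 rfl rfl
theorem s0_f22210 : ed sl_bt sq872 = s0_v2085 :=
  rfl
theorem s0_f22210r : ed sl_bf s0_v2085 = sq872 :=
  edge_flip (s0_f22210 IH)
theorem s0_f22211 : ed sl_bf sq872 = s0_v2085 :=
  gap_rel s0_rot44 (path_edge (s0_f22210r IH) (path_nil s0_v2085))
theorem s0_f603r : ed sl_ef sq872 = sq663 :=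
  edge_flip (s0_f603 IH)
theorem s0_f22212 : ed sl_ef s0_v1812 = s0_v2085 :=
  gap_rel s0_rot46 (path_edge (s0_f20234 IH) (path_edge (s0_f603r IH) (path_edge (s0_f22210r IH) (path_nil s0_v2085))))
theorem s0_f22212r : ed sl_et s0_v2085 = s0_v1812 :=
  edge_flip (s0_f22212 IH)
theorem s0_f22213 : ed sl_et s0_v1812 = s0_v2085 :=
  gap_rel s0_rot31 (path_edge (s0_f22212r IH) (path_nil s0_v2085))
theorem s0_f22292 : ed sl_bt sq879 = s0_v2096 :=
  rfl
theorem s0_f22292r : ed sl_bf s0_v2096 = sq879 :=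
  edge_flip (s0_f22292 IH)
theorem s0_f19081r : ed sl_ef sq879 = sq597 :=
  edge_flip (s0_f19081 IH)
theorem s0_f7233r : ed sl_bf sq597 = sq881 :=
  edge_flip (s0_f7233 IH)
theorem s0_f22294 : ed sl_ef sq881 = s0_v2096 :=
  gap_rel s0_rot46 (path_edge (s0_f7233r IH) (path_edge (s0_f19081r IH) (path_edge (s0_f22292r IH) (path_nil s0_v2096))))
theorem s0_f22294r : ed sl_et s0_v2096 = sq881 :=
  edge_flip (s0_f22294 IH)
theorem s0_f22295 : ed sl_et sq881 = s0_v2096 :=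
  gap_rel s0_rot31 (path_edge (s0_f22294r IH) (path_nil s0_v2096))
theorem s0_f22301 : ed sl_at sq881 = s0_v2098 :=
  rfl
theorem s0_f22301r : ed sl_af s0_v2098 = sq881 :=
  edge_flip (s0_f22301 IH)
theorem s0_f22302 : ed sl_af sq881 = s0_v2098 :=
  gap_rel s0_rot66 (path_edge (s0_f22301r IH) (path_nil s0_v2098))
theorem s0_f10926r : ed sl_df sq881 = sq753 :=
  edge_flip (s0_f10926 IH)
theorem s0_f22304 : ed sl_df s0_v1992 = s0_v2098 :=
  gap_rel s0_rot51 (path_edge (s0_f21482 IH) (path_edge (s0_f10926r IH) (path_edge (s0_f22301r IH) (path_nil s0_v2098))))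
theorem s0_f22304r : ed sl_dt s0_v2098 = s0_v1992 :=
  edge_flip (s0_f22304 IH)
theorem s0_f22305 : ed sl_dt s0_v1992 = s0_v2098 :=
  gap_rel s0_rot28 (path_edge (s0_f22304r IH) (path_nil s0_v2098))
theorem s0_f22306 : ed sl_ct sq881 = s0_v2099 :=
  rfl
theorem s0_f22306r : ed sl_cf s0_v2099 = sq881 :=
  edge_flip (s0_f22306 IH)
theorem s0_f2313r : ed sl_bf sq881 = sq597 :=
  edge_flip (s0_f2313 IH)
theorem s0_f1709r : ed sl_cf sq597 = sq403 :=
  edge_flip (s0_f1709 IH)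
theorem s0_f6588r : ed sl_bf sq403 = sq601 :=
  edge_flip (s0_f6588 IH)
theorem s0_f741r : ed sl_cf sq601 = sq887 :=
  edge_flip (s0_f741 IH)
theorem s0_f22307 : ed sl_bf sq887 = s0_v2099 :=
  gap_rel s0_rot61 (path_edge (s0_f741r IH) (path_edge (s0_f6588r IH) (path_edge (s0_f1709r IH) (path_edge (s0_f2313r IH) (path_edge (s0_f22306r IH) (path_nil s0_v2099))))))
theorem s0_f22308 : ed sl_cf sq881 = s0_v2099 :=
  gap_rel s0_rot40 (path_edge (s0_f22306r IH) (path_nil s0_v2099))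
theorem s0_f22347 : ed sl_dt sq1238 = sq973 :=
  real_edge rels S fwd inv o lvl plet idx 16 IH Gen.d sp1238 sp973 rfl rfl
theorem s0_f22361 : ed sl_ft sq890 = s0_v2109 :=
  rfl
theorem s0_f22365 : ed sl_gt sq890 = s0_v2110 :=
  rfl
theorem s0_f22365r : ed sl_gf s0_v2110 = sq890 :=
  edge_flip (s0_f22365 IH)
theorem s0_f22367 : ed sl_gf sq890 = s0_v2110 :=
  gap_rel s0_rot76 (path_edge (s0_f22365r IH) (path_nil s0_v2110))
theorem s0_f22369 : ed sl_bt sq891 = s0_v2111 :=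
  rfl
theorem s0_f22369r : ed sl_bf s0_v2111 = sq891 :=
  edge_flip (s0_f22369 IH)
theorem s0_f22371 : ed sl_bf sq891 = s0_v2111 :=
  gap_rel s0_rot44 (path_edge (s0_f22369r IH) (path_nil s0_v2111))
theorem s0_f636r : ed sl_ef sq891 = sq677 :=
  edge_flip (s0_f636 IH)
theorem s0_f22372 : ed sl_ef s0_v1825 = s0_v2111 :=
  gap_rel s0_rot46 (path_edge (s0_f20347 IH) (path_edge (s0_f636r IH) (path_edge (s0_f22369r IH) (path_nil s0_v2111))))
theorem s0_f22396 : ed sl_et sq898 = s0_v2114 :=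
  rfl
theorem s0_f22396r : ed sl_ef s0_v2114 = sq898 :=
  edge_flip (s0_f22396 IH)
theorem s0_f824r : ed sl_ef sq609 = sq463 :=
  edge_flip (s0_f824 IH)
theorem s0_f22397 : ed sl_df s0_v1903 = s0_v2114 :=
  gap_rel s0_rot105 (path_edge (s0_f20843 IH) (path_edge (s0_f11332 IH) (path_edge (s0_f824r IH) (path_edge (s0_f803r IH) (path_edge (s0_f22396r IH) (path_nil s0_v2114))))))
theorem s0_f22398 : ed sl_ef sq898 = s0_v2114 :=
  gap_rel s0_rot34 (path_edge (s0_f22396r IH) (path_nil s0_v2114))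
theorem s0_f22427 : ed sl_ft sq902 = s0_v2118 :=
  rfl
theorem s0_f22427r : ed sl_ff s0_v2118 = sq902 :=
  edge_flip (s0_f22427 IH)
theorem s0_f20447r : ed sl_df sq902 = sq693 :=
  edge_flip (s0_f20447 IH)
theorem s0_f22430 : ed sl_df sq997 = s0_v2118 :=
  gap_rel s0_rot56 (path_edge (s0_f11534r IH) (path_edge (s0_f20447r IH) (path_edge (s0_f22427r IH) (path_nil s0_v2118))))
theorem s0_f22432 : ed sl_ff sq902 = s0_v2118 :=
  gap_rel s0_rot1 (path_edge (s0_f22427r IH) (path_nil s0_v2118))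
theorem s0_f22465 : ed sl_ft sq904 = s0_v2123 :=
  rfl
theorem s0_f22465r : ed sl_ff s0_v2123 = sq904 :=
  edge_flip (s0_f22465 IH)
theorem s0_f22468 : ed sl_ff sq904 = s0_v2123 :=
  gap_rel s0_rot1 (path_edge (s0_f22465r IH) (path_nil s0_v2123))
theorem s0_f10769r : ed sl_gf sq904 = sq617 :=
  edge_flip (s0_f10769 IH)
theorem s0_f22469 : ed sl_gf s0_v2118 = s0_v2123 :=
  gap_rel s0_rot2 (path_edge (s0_f22432 IH) (path_edge (s0_f1570 IH) (path_edge (s0_f10769r IH) (path_edge (s0_f22465r IH) (path_nil s0_v2123)))))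
theorem s0_f22469r : ed sl_gt s0_v2123 = s0_v2118 :=
  edge_flip (s0_f22469 IH)
theorem s0_f22430r : ed sl_dt s0_v2118 = sq997 :=
  edge_flip (s0_f22430 IH)
theorem s0_f22470 : ed sl_dt s0_v1844 = s0_v2123 :=
  gap_rel s0_rot91 (path_edge (s0_f20478 IH) (path_edge (s0_f22430r IH) (path_edge (s0_f22469r IH) (path_nil s0_v2123))))
theorem s0_f22472 : ed sl_gt s0_v2118 = s0_v2123 :=
  gap_rel s0_rot25 (path_edge (s0_f22469r IH) (path_nil s0_v2123))
theorem s0_f22520 : ed sl_bt sq907 = s0_v2129 :=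
  rfl
theorem s0_f22520r : ed sl_bf s0_v2129 = sq907 :=
  edge_flip (s0_f22520 IH)
theorem s0_f947r : ed sl_df sq907 = sq701 :=
  edge_flip (s0_f947 IH)
theorem s0_f22522 : ed sl_df s0_v1848 = s0_v2129 :=
  gap_rel s0_rot8 (path_edge (s0_f20506 IH) (path_edge (s0_f947r IH) (path_edge (s0_f22520r IH) (path_nil s0_v2129))))
theorem s0_f22526 : ed sl_ft sq907 = s0_v2130 :=
  rfl
theorem s0_f22526r : ed sl_ff s0_v2130 = sq907 :=
  edge_flip (s0_f22526 IH)
theorem s0_f22530 : ed sl_ff sq907 = s0_v2130 :=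
  gap_rel s0_rot1 (path_edge (s0_f22526r IH) (path_nil s0_v2130))
theorem s0_f22531 : ed sl_gf s0_v1985 = s0_v2130 :=
  gap_rel s0_rot2 (path_edge (s0_f21447 IH) (path_edge (s0_f892 IH) (path_edge (s0_f907 IH) (path_edge (s0_f22526r IH) (path_nil s0_v2130)))))
theorem s0_f22531r : ed sl_gt s0_v2130 = s0_v1985 :=
  edge_flip (s0_f22531 IH)
theorem s0_f21447r : ed sl_ft s0_v1985 = sq744 :=
  edge_flip (s0_f21447 IH)
theorem s0_f317r : ed sl_gt sq142 = sq132 :=
  edge_flip (s0_f317 IH)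
theorem s0_f22535 : ed sl_bt s0_v1959 = s0_v2130 :=
  gap_rel s0_rot4 (path_edge (s0_f21087 IH) (path_edge (s0_f12780 IH) (path_edge (s0_f7577 IH) (path_edge (s0_f2402 IH) (path_edge (s0_f2401 IH) (path_edge (s0_f2400 IH) (path_edge (s0_f1463 IH) (path_edge (s0_f317r IH) (path_edge (s0_f867 IH) (path_edge (s0_f868 IH) (path_edge (s0_f911 IH) (path_edge (s0_f912 IH) (path_edge (s0_f21447r IH) (path_edge (s0_f22531r IH) (path_nil s0_v2130)))))))))))))))
theorem s0_f22535r : ed sl_bf s0_v2130 = s0_v1959 :=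
  edge_flip (s0_f22535 IH)
theorem s0_f21087r : ed sl_ff s0_v1959 = s0_v1346 :=
  edge_flip (s0_f21087 IH)
theorem s0_f12783r : ed sl_bf s0_v1346 = sq695 :=
  edge_flip (s0_f12783 IH)
theorem s0_f22537 : s0_v1844 = s0_v2129 :=
  (loop_rel s0_rot70 (path_edge (s0_f20475 IH) (path_edge (s0_f12783r IH) (path_edge (s0_f21087r IH) (path_edge (s0_f22535r IH) (path_edge (s0_f22530 IH) (path_edge (s0_f22520r IH) (path_nil s0_v2129)))))))).symm
theorem s0_f22522r : ed sl_dt s0_v2129 = s0_v1848 :=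
  edge_flip (s0_f22522 IH)
theorem s0_f22538 : s0_v1848 = s0_v2123 :=
  edge_fun (edge_congr (s0_f22522r IH) (s0_f22537 IH).symm) (s0_f22470 IH)
theorem s0_f22643 : ed sl_bt sq920 = s0_v2147 :=
  rfl
theorem s0_f22643r : ed sl_bf s0_v2147 = sq920 :=
  edge_flip (s0_f22643 IH)
theorem s0_f22644 : ed sl_bf sq920 = s0_v2147 :=
  gap_rel s0_rot44 (path_edge (s0_f22643r IH) (path_nil s0_v2147))
theorem s0_f22650 : ed sl_ct sq920 = s0_v2148 :=
  rfl
theorem s0_f22650r : ed sl_cf s0_v2148 = sq920 :=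
  edge_flip (s0_f22650 IH)
theorem s0_f22652 : ed sl_cf sq920 = s0_v2148 :=
  gap_rel s0_rot40 (path_edge (s0_f22650r IH) (path_nil s0_v2148))
theorem s0_f22685 : ed sl_bt sq923 = s0_v2152 :=
  rfl
theorem s0_f22685r : ed sl_bf s0_v2152 = sq923 :=
  edge_flip (s0_f22685 IH)
theorem s0_f19003r : ed sl_ff sq923 = sq629 :=
  edge_flip (s0_f19003 IH)
theorem s0_f10821r : ed sl_bf sq629 = sq425 :=
  edge_flip (s0_f10821 IH)
theorem s0_f10818r : ed sl_ff sq425 = sq630 :=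
  edge_flip (s0_f10818 IH)
theorem s0_f18227r : ed sl_bf sq630 = sq924 :=
  edge_flip (s0_f18227 IH)
theorem s0_f22687 : ed sl_ff sq924 = s0_v2152 :=
  gap_rel s0_rot70 (path_edge (s0_f18227r IH) (path_edge (s0_f10818r IH) (path_edge (s0_f10821r IH) (path_edge (s0_f19003r IH) (path_edge (s0_f22685r IH) (path_nil s0_v2152))))))
theorem s0_f22701 : ed sl_at sq924 = s0_v2155 :=
  rfl
theorem s0_f22701r : ed sl_af s0_v2155 = sq924 :=
  edge_flip (s0_f22701 IH)
theorem s0_f22702 : ed sl_af sq924 = s0_v2155 :=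
  gap_rel s0_rot66 (path_edge (s0_f22701r IH) (path_nil s0_v2155))
theorem s0_f22707 : ed sl_gt sq924 = s0_v2157 :=
  rfl
theorem s0_f22707r : ed sl_gf s0_v2157 = sq924 :=
  edge_flip (s0_f22707 IH)
theorem s0_f22708 : ed sl_gf sq924 = s0_v2157 :=
  gap_rel s0_rot76 (path_edge (s0_f22707r IH) (path_nil s0_v2157))
theorem s0_f22935 : ed sl_bt sq948 = s0_v2194 :=
  rfl
theorem s0_f22935r : ed sl_bf s0_v2194 = sq948 :=
  edge_flip (s0_f22935 IH)
theorem s0_f22936 : ed sl_bf sq948 = s0_v2194 :=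
  gap_rel s0_rot44 (path_edge (s0_f22935r IH) (path_nil s0_v2194))
theorem s0_f22991 : ed sl_at sq955 = s0_v2205 :=
  rfl
theorem s0_f22991r : ed sl_af s0_v2205 = sq955 :=
  edge_flip (s0_f22991 IH)
theorem s0_f22992 : ed sl_af sq955 = s0_v2205 :=
  gap_rel s0_rot66 (path_edge (s0_f22991r IH) (path_nil s0_v2205))
theorem s0_f19733r : ed sl_ff sq955 = sq654 :=
  edge_flip (s0_f19733 IH)
theorem s0_f22994 : ed sl_ff s0_v1802 = s0_v2205 :=
  gap_rel s0_rot11 (path_edge (s0_f20131 IH) (path_edge (s0_f19733r IH) (path_edge (s0_f22991r IH) (path_nil s0_v2205))))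
theorem s0_f23011 : ed sl_gt sq955 = s0_v2208 :=
  rfl
theorem s0_f23011r : ed sl_gf s0_v2208 = sq955 :=
  edge_flip (s0_f23011 IH)
theorem s0_f23012 : ed sl_gf sq955 = s0_v2208 :=
  gap_rel s0_rot76 (path_edge (s0_f23011r IH) (path_nil s0_v2208))
theorem s0_f23084 : ed sl_at sq969 = s0_v2222 :=
  rfl
theorem s0_f23084r : ed sl_af s0_v2222 = sq969 :=
  edge_flip (s0_f23084 IH)
theorem s0_f23085 : ed sl_af sq969 = s0_v2222 :=
  gap_rel s0_rot66 (path_edge (s0_f23084r IH) (path_nil s0_v2222))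
theorem s0_f20085r : ed sl_gf sq969 = sq666 :=
  edge_flip (s0_f20085 IH)
theorem s0_f11202r : ed sl_af sq666 = sq970 :=
  edge_flip (s0_f11202 IH)
theorem s0_f23086 : ed sl_gf sq970 = s0_v2222 :=
  gap_rel s0_rot47 (path_edge (s0_f11202r IH) (path_edge (s0_f20085r IH) (path_edge (s0_f23084r IH) (path_nil s0_v2222))))
theorem s0_f23088 : ed sl_ft sq969 = s0_v2223 :=
  rfl
theorem s0_f23088r : ed sl_ff s0_v2223 = sq969 :=
  edge_flip (s0_f23088 IH)
theorem s0_f23089 : ed sl_ff sq969 = s0_v2223 :=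
  gap_rel s0_rot1 (path_edge (s0_f23088r IH) (path_nil s0_v2223))
theorem s0_f23090 : ed sl_ft sq970 = s0_v2224 :=
  rfl
theorem s0_f23090r : ed sl_ff s0_v2224 = sq970 :=
  edge_flip (s0_f23090 IH)
theorem s0_f23092 : ed sl_ff sq970 = s0_v2224 :=
  gap_rel s0_rot1 (path_edge (s0_f23090r IH) (path_nil s0_v2224))
theorem s0_f23085r : ed sl_at s0_v2222 = sq969 :=
  edge_flip (s0_f23085 IH)
theorem s0_f23093 : ed sl_gf s0_v2223 = s0_v2224 :=
  gap_rel s0_rot2 (path_edge (s0_f23089 IH) (path_edge (s0_f23085r IH) (path_edge (s0_f23086 IH) (path_edge (s0_f23090r IH) (path_nil s0_v2224)))))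
theorem s0_f23092r : ed sl_ft s0_v2224 = sq970 :=
  edge_flip (s0_f23092 IH)
theorem s0_f23095 : ed sl_at sq972 = s0_v2224 :=
  gap_rel s0_rot90 (path_edge (s0_f20239 IH) (path_edge (s0_f11202 IH) (path_edge (s0_f23092r IH) (path_nil s0_v2224))))
theorem s0_f23113 : ed sl_bt sq1309 = sq1614 :=
  real_edge rels S fwd inv o lvl plet idx 16 IH Gen.b sp1309 sp1614 rfl rfl
theorem s0_f23180 : ed sl_ct sq981 = sq1331 :=
  real_edge rels S fwd inv o lvl plet idx 16 IH Gen.c sp981 sp1331 rfl rfl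
theorem s0_f23199 : ed sl_ft sq981 = s0_v2238 :=
  rfl
theorem s0_f23199r : ed sl_ff s0_v2238 = sq981 :=
  edge_flip (s0_f23199 IH)
theorem s0_f20351r : ed sl_df sq981 = sq681 :=
  edge_flip (s0_f20351 IH)
theorem s0_f18998r : ed sl_ff sq681 = sq991 :=
  edge_flip (s0_f18998 IH)
theorem s0_f23201 : ed sl_df sq991 = s0_v2238 :=
  gap_rel s0_rot56 (path_edge (s0_f18998r IH) (path_edge (s0_f20351r IH) (path_edge (s0_f23199r IH) (path_nil s0_v2238))))
theorem s0_f23202 : ed sl_ff sq981 = s0_v2238 :=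
  gap_rel s0_rot1 (path_edge (s0_f23199r IH) (path_nil s0_v2238))
theorem s0_f23209 : ed sl_dt sq982 = s0_v2239 :=
  rfl
theorem s0_f23211 : ed sl_dt sq1340 = sq990 :=
  real_edge rels S fwd inv o lvl plet idx 16 IH Gen.d sp1340 sp990 rfl rfl
theorem s0_f23231 : ed sl_bt sq988 = s0_v2245 :=
  rfl
theorem s0_f23231r : ed sl_bf s0_v2245 = sq988 :=
  edge_flip (s0_f23231 IH)
theorem s0_f23232 : ed sl_bf sq988 = s0_v2245 :=
  gap_rel s0_rot44 (path_edge (s0_f23231r IH) (path_nil s0_v2245))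
theorem s0_f18917r : ed sl_ff sq988 = sq679 :=
  edge_flip (s0_f18917 IH)
theorem s0_f11296r : ed sl_bf sq679 = sq460 :=
  edge_flip (s0_f11296 IH)
theorem s0_f17637r : ed sl_ff sq460 = sq680 :=
  edge_flip (s0_f17637 IH)
theorem s0_f23233 : ed sl_ff s0_v1826 = s0_v2245 :=
  gap_rel s0_rot70 (path_edge (s0_f20350 IH) (path_edge (s0_f17637r IH) (path_edge (s0_f11296r IH) (path_edge (s0_f18917r IH) (path_edge (s0_f23231r IH) (path_nil s0_v2245))))))
theorem s0_f23233r : ed sl_ft s0_v2245 = s0_v1826 :=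
  edge_flip (s0_f23233 IH)
theorem s0_f23234 : ed sl_ft s0_v1826 = s0_v2245 :=
  gap_rel s0_rot16 (path_edge (s0_f23233r IH) (path_nil s0_v2245))
theorem s0_f23235 : ed sl_at sq989 = s0_v2246 :=
  rfl
theorem s0_f23235r : ed sl_af s0_v2246 = sq989 :=
  edge_flip (s0_f23235 IH)
theorem s0_f23236 : ed sl_af sq989 = s0_v2246 :=
  gap_rel s0_rot66 (path_edge (s0_f23235r IH) (path_nil s0_v2246))
theorem s0_f23244 : ed sl_ft sq989 = s0_v2247 :=
  rfl
theorem s0_f23244r : ed sl_ff s0_v2247 = sq989 :=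
  edge_flip (s0_f23244 IH)
theorem s0_f23245 : ed sl_ff sq989 = s0_v2247 :=
  gap_rel s0_rot1 (path_edge (s0_f23244r IH) (path_nil s0_v2247))
theorem s0_f23246 : ed sl_gt sq989 = s0_v2248 :=
  rfl
theorem s0_f23246r : ed sl_gf s0_v2248 = sq989 :=
  edge_flip (s0_f23246 IH)
theorem s0_f23247 : ed sl_gf sq989 = s0_v2248 :=
  gap_rel s0_rot76 (path_edge (s0_f23246r IH) (path_nil s0_v2248))
theorem s0_f23250 : ed sl_bt sq991 = s0_v2249 :=
  rfl
theorem s0_f23250r : ed sl_bf s0_v2249 = sq991 :=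
  edge_flip (s0_f23250 IH)
theorem s0_f23251 : ed sl_bf sq991 = s0_v2249 :=
  gap_rel s0_rot44 (path_edge (s0_f23250r IH) (path_nil s0_v2249))
theorem s0_f23252 : ed sl_ct sq992 = s0_v2250 :=
  rfl
theorem s0_f23252r : ed sl_cf s0_v2250 = sq992 :=
  edge_flip (s0_f23252 IH)
theorem s0_f23253 : ed sl_cf sq992 = s0_v2250 :=
  gap_rel s0_rot40 (path_edge (s0_f23252r IH) (path_nil s0_v2250))
theorem s0_f23259 : ed sl_gt sq1337 = sq1341 :=
  real_edge rels S fwd inv o lvl plet idx 16 IH Gen.g sp1337 sp1341 rfl rfl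
theorem s0_f23271 : ed sl_dt sq994 = s0_v2253 :=
  rfl
theorem s0_f23271r : ed sl_df s0_v2253 = sq994 :=
  edge_flip (s0_f23271 IH)
theorem s0_f23273 : ed sl_df sq994 = s0_v2253 :=
  gap_rel s0_rot54 (path_edge (s0_f23271r IH) (path_nil s0_v2253))
theorem s0_f23273r : ed sl_dt s0_v2253 = sq994 :=
  edge_flip (s0_f23273 IH)
theorem s0_f23274 : ed sl_bt s0_v1830 = s0_v2253 :=
  gap_rel s0_rot69 (path_edge (s0_f20382 IH) (path_edge (s0_f7897 IH) (path_edge (s0_f23273r IH) (path_nil s0_v2253))))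
theorem s0_f23293 : ed sl_ct sq1347 = sq999 :=
  real_edge rels S fwd inv o lvl plet idx 16 IH Gen.c sp1347 sp999 rfl rfl
theorem s0_f23298 : ed sl_et sq996 = s0_v2259 :=
  rfl
theorem s0_f23298r : ed sl_ef s0_v2259 = sq996 :=
  edge_flip (s0_f23298 IH)
theorem s0_f23300 : ed sl_ef sq996 = s0_v2259 :=
  gap_rel s0_rot34 (path_edge (s0_f23298r IH) (path_nil s0_v2259))
theorem s0_f23300r : ed sl_et s0_v2259 = sq996 :=
  edge_flip (s0_f23300 IH)
theorem s0_f23301 : ed sl_bt s0_v1767 = s0_v2259 :=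
  gap_rel s0_rot108 (path_edge (s0_f19893 IH) (path_edge (s0_f19894 IH) (path_edge (s0_f23300r IH) (path_nil s0_v2259))))
theorem s0_f23302 : ed sl_gt sq996 = s0_v2260 :=
  rfl
theorem s0_f23329 : ed sl_ft sq999 = s0_v2264 :=
  rfl
theorem s0_f23329r : ed sl_ff s0_v2264 = sq999 :=
  edge_flip (s0_f23329 IH)
theorem s0_f23330 : ed sl_ff sq999 = s0_v2264 :=
  gap_rel s0_rot1 (path_edge (s0_f23329r IH) (path_nil s0_v2264))
theorem s0_f23392 : ed sl_gt sq1007 = s0_v2279 :=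
  rfl
theorem s0_f23392r : ed sl_gf s0_v2279 = sq1007 :=
  edge_flip (s0_f23392 IH)
theorem s0_f23394 : ed sl_gf sq1007 = s0_v2279 :=
  gap_rel s0_rot76 (path_edge (s0_f23392r IH) (path_nil s0_v2279))
theorem s0_f23396 : ed sl_gt sq1009 = s0_v2280 :=
  rfl
theorem s0_f23396r : ed sl_gf s0_v2280 = sq1009 :=
  edge_flip (s0_f23396 IH)
theorem s0_f23397 : ed sl_gf sq1009 = s0_v2280 :=
  gap_rel s0_rot76 (path_edge (s0_f23396r IH) (path_nil s0_v2280))
theorem s0_f5180r : ed sl_ff sq1355 = sq1007 :=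
  edge_flip (s0_f5180 IH)
theorem s0_f23398 : ed sl_ff s0_v2279 = s0_v2280 :=
  gap_rel s0_rot92 (path_edge (s0_f23394 IH) (path_edge (s0_f5180r IH) (path_edge (s0_f1315 IH) (path_edge (s0_f23396r IH) (path_nil s0_v2280)))))
theorem s0_f23398r : ed sl_ft s0_v2280 = s0_v2279 :=
  edge_flip (s0_f23398 IH)
theorem s0_f23399 : ed sl_ft s0_v2279 = s0_v2280 :=
  gap_rel s0_rot16 (path_edge (s0_f23398r IH) (path_nil s0_v2280))
theorem s0_f23400 : ed sl_ft sq1010 = s0_v2281 :=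
  rfl
theorem s0_f23400r : ed sl_ff s0_v2281 = sq1010 :=
  edge_flip (s0_f23400 IH)
theorem s0_f23402 : ed sl_ff sq1010 = s0_v2281 :=
  gap_rel s0_rot1 (path_edge (s0_f23400r IH) (path_nil s0_v2281))
theorem s0_f1240r : ed sl_gf sq1010 = sq699 :=
  edge_flip (s0_f1240 IH)
theorem s0_f1316r : ed sl_ff sq699 = sq1009 :=
  edge_flip (s0_f1316 IH)
theorem s0_f23399r : ed sl_ff s0_v2280 = s0_v2279 :=
  edge_flip (s0_f23399 IH)
theorem s0_f21242r : ed sl_ff sq1007 = sq1355 :=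
  edge_flip (s0_f21242 IH)
theorem s0_f23403 : ed sl_gf sq1355 = s0_v2281 :=
  gap_rel s0_rot19 (path_edge (s0_f21242r IH) (path_edge (s0_f23392r IH) (path_edge (s0_f23399r IH) (path_edge (s0_f23397 IH) (path_edge (s0_f1316r IH) (path_edge (s0_f1240r IH) (path_edge (s0_f23400r IH) (path_nil s0_v2281))))))))
theorem s0_f23551 : ed sl_ft sq1024 = s0_v2302 :=
  rfl
theorem s0_f23551r : ed sl_ff s0_v2302 = sq1024 :=
  edge_flip (s0_f23551 IH)
theorem s0_f1395r : ed sl_gf sq1024 = sq709 :=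
  edge_flip (s0_f1395 IH)
theorem s0_f1362r : ed sl_bf sq709 = sq485 :=
  edge_flip (s0_f1362 IH)
theorem s0_f984r : ed sl_ff sq485 = sq327 :=
  edge_flip (s0_f984 IH)
theorem s0_f1441r : ed sl_gf sq327 = sq206 :=
  edge_flip (s0_f1441 IH)
theorem s0_f965r : ed sl_bf sq206 = sq132 :=
  edge_flip (s0_f965 IH)
theorem s0_f255r : ed sl_ff sq132 = sq83 :=
  edge_flip (s0_f255 IH)
theorem s0_f2362r : ed sl_gf sq83 = sq83 :=
  edge_flip (s0_f2362 IH)
theorem s0_f2419r : ed sl_bf sq83 = sq131 :=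
  edge_flip (s0_f2419 IH)
theorem s0_f5285r : ed sl_ff sq131 = sq204 :=
  edge_flip (s0_f5285 IH)
theorem s0_f7557r : ed sl_gf sq204 = sq323 :=
  edge_flip (s0_f7557 IH)
theorem s0_f7558r : ed sl_bf sq323 = sq481 :=
  edge_flip (s0_f7558 IH)
theorem s0_f11600r : ed sl_ff sq481 = sq703 :=
  edge_flip (s0_f11600 IH)
theorem s0_f23558 : ed sl_bf s0_v1852 = s0_v2302 :=
  gap_rel s0_rot119 (path_edge (s0_f20548 IH) (path_edge (s0_f11600r IH) (path_edge (s0_f7558r IH) (path_edge (s0_f7557r IH) (path_edge (s0_f5285r IH) (path_edge (s0_f2419r IH) (path_edge (s0_f2362r IH) (path_edge (s0_f255r IH) (path_edge (s0_f965r IH) (path_edge (s0_f1441r IH) (path_edge (s0_f984r IH) (path_edge (s0_f1362r IH) (path_edge (s0_f1395r IH) (path_edge (s0_f23551r IH) (path_nil s0_v2302)))))))))))))))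
theorem s0_f23402r : ed sl_ft s0_v2281 = sq1010 :=
  edge_flip (s0_f23402 IH)
theorem s0_f23558r : ed sl_bt s0_v2302 = s0_v1852 :=
  edge_flip (s0_f23558 IH)
theorem s0_f20549r : ed sl_ft s0_v1852 = s0_v1850 :=
  edge_flip (s0_f20549 IH)
theorem s0_f23562 : ed sl_bt s0_v1850 = s0_v2281 :=
  gap_rel s0_rot12 (path_edge (s0_f20549r IH) (path_edge (s0_f23558r IH) (path_edge (s0_f23551 IH) (path_edge (s0_f1390 IH) (path_edge (s0_f23402r IH) (path_nil s0_v2281))))))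
theorem s0_f23562r : ed sl_bf s0_v2281 = s0_v1850 :=
  edge_flip (s0_f23562 IH)
theorem s0_f22472r : ed sl_gf s0_v2123 = s0_v2118 :=
  edge_flip (s0_f22472 IH)
theorem s0_f23565 : ed sl_bf s0_v2118 = sq1355 :=
  gap_rel s0_rot75 (path_edge (s0_f22472r IH) (path_eq (s0_f22538 IH) (path_edge (s0_f20506 IH) (path_edge (s0_f20525r IH) (path_edge (s0_f23562r IH) (path_edge (s0_f23403 IH) (path_nil sq1355)))))))
theorem s0_f23394r : ed sl_gt s0_v2279 = sq1007 :=
  edge_flip (s0_f23394 IH)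
theorem s0_f23565r : ed sl_bt sq1355 = s0_v2118 :=
  edge_flip (s0_f23565 IH)
theorem s0_f22468r : ed sl_ft s0_v2123 = sq904 :=
  edge_flip (s0_f22468 IH)
theorem s0_f10763r : ed sl_ft s0_v1034 = s0_v1034 :=
  edge_flip (s0_f10763 IH)
theorem s0_f23573 : ed sl_bt s0_v1872 = s0_v2279 :=
  gap_rel s0_rot4 (path_edge (s0_f20685 IH) (path_edge (s0_f10738 IH) (path_edge (s0_f728 IH) (path_edge (s0_f1574 IH) (path_edge (s0_f10744 IH) (path_edge (s0_f10759r IH) (path_edge (s0_f10763r IH) (path_edge (s0_f20711r IH) (path_edge (s0_f20712 IH) (path_edge (s0_f22468r IH) (path_edge (s0_f22472 IH) (path_edge (s0_f23565r IH) (path_edge (s0_f5180 IH) (path_edge (s0_f23394r IH) (path_nil s0_v2279)))))))))))))))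
theorem s0_f23573r : ed sl_bf s0_v2279 = s0_v1872 :=
  edge_flip (s0_f23573 IH)
theorem s0_f20693r : ed sl_ef s0_v1872 = s0_v1343 :=
  edge_flip (s0_f20693 IH)
theorem s0_f23576 : ed sl_ef s0_v1956 = s0_v2279 :=
  gap_rel s0_rot46 (path_edge (s0_f21075 IH) (path_edge (s0_f20693r IH) (path_edge (s0_f23573r IH) (path_nil s0_v2279))))
theorem s0_f21427r : ed sl_et s0_v1983 = sq1007 :=
  edge_flip (s0_f21427 IH)
theorem s0_f23576r : ed sl_et s0_v2279 = s0_v1956 :=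
  edge_flip (s0_f23576 IH)
theorem s0_f23579 : ed sl_gt s0_v1956 = s0_v1983 :=
  gap_rel s0_rot21 (path_edge (s0_f23576r IH) (path_edge (s0_f23392 IH) (path_edge (s0_f21427r IH) (path_nil s0_v1983))))
theorem s0_f23579r : ed sl_gf s0_v1983 = s0_v1956 :=
  edge_flip (s0_f23579 IH)
theorem s0_f7542r : ed sl_ff sq203 = sq320 :=
  edge_flip (s0_f7542 IH)
theorem s0_f7543r : ed sl_gf sq320 = sq324 :=
  edge_flip (s0_f7543 IH)
theorem s0_f20478r : ed sl_gf s0_v1844 = sq997 :=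
  edge_flip (s0_f20478 IH)
theorem s0_f11552r : ed sl_bf sq997 = sq1345 :=
  edge_flip (s0_f11552 IH)
theorem s0_f23582 : ed sl_ff sq1345 = s0_v1983 :=
  gap_rel s0_rot139 (path_edge (s0_f11552r IH) (path_edge (s0_f20478r IH) (path_edge (s0_f20475 IH) (path_edge (s0_f12783r IH) (path_edge (s0_f12782 IH) (path_edge (s0_f7583 IH) (path_edge (s0_f7579 IH) (path_edge (s0_f7543r IH) (path_edge (s0_f7542r IH) (path_edge (s0_f5279r IH) (path_edge (s0_f7538r IH) (path_edge (s0_f12768r IH) (path_edge (s0_f21074r IH) (path_edge (s0_f23579r IH) (path_nil s0_v1983)))))))))))))))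
theorem s0_f23586 : ed sl_ct sq1345 = sq1631 :=
  real_edge rels S fwd inv o lvl plet idx 16 IH Gen.c sp1345 sp1631 rfl rfl
theorem s0_f23582r : ed sl_ft s0_v1983 = sq1345 :=
  edge_flip (s0_f23582 IH)
theorem s0_f23587 : ed sl_ft sq1345 = s0_v1983 :=
  gap_rel s0_rot16 (path_edge (s0_f23582r IH) (path_nil s0_v1983))
theorem s0_f23587r : ed sl_ff s0_v1983 = sq1345 :=
  edge_flip (s0_f23587 IH)
theorem s0_f11559r : ed sl_bf sq1345 = sq997 :=
  edge_flip (s0_f11559 IH)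
theorem s0_f10937r : ed sl_ff sq997 = sq693 :=
  edge_flip (s0_f10937 IH)
theorem s0_f20451r : ed sl_bf sq693 = sq999 :=
  edge_flip (s0_f20451 IH)
theorem s0_f23590 : ed sl_bf s0_v2264 = s0_v1983 :=
  gap_rel s0_rot104 (path_edge (s0_f23330 IH) (path_edge (s0_f20451r IH) (path_edge (s0_f10937r IH) (path_edge (s0_f11559r IH) (path_edge (s0_f23587r IH) (path_nil s0_v1983))))))
theorem s0_f23593 : ed sl_ef sq1345 = sq1355 :=
  gap_rel s0_rot32 (path_edge (s0_f23587r IH) (path_edge (s0_f21427 IH) (path_edge (s0_f5180r IH) (path_nil sq1355))))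
theorem s0_f23593r : ed sl_et sq1355 = sq1345 :=
  edge_flip (s0_f23593 IH)
theorem s0_f23595 : ed sl_et sq1631 = sq1643 :=
  gap_rel s0_rot33 (path_edge (s0_f23586 IH) (path_edge (s0_f23593r IH) (path_edge (s0_f1525 IH) (path_nil sq1643))))
theorem s0_f23595r : ed sl_ef sq1643 = sq1631 :=
  edge_flip (s0_f23595 IH)
theorem s0_f23599 : ed sl_ef sq1631 = sq1643 :=
  gap_rel s0_rot34 (path_edge (s0_f23595r IH) (path_nil sq1643))
theorem s0_f23599r : ed sl_et sq1643 = sq1631 :=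
  edge_flip (s0_f23599 IH)
theorem s0_f23601 : ed sl_at sq1631 = sq1423 :=
  gap_rel s0_rot86 (path_edge (s0_f23599r IH) (path_edge (s0_f1214 IH) (path_edge (s0_f1211r IH) (path_nil sq1423))))
theorem s0_f23630 : ed sl_ft s0_v1721 = s0_v2304 :=
  rfl
theorem s0_f23630r : ed sl_ff s0_v2304 = s0_v1721 :=
  edge_flip (s0_f23630 IH)
theorem s0_f23634 : ed sl_ff s0_v1721 = s0_v2304 :=
  gap_rel s0_rot1 (path_edge (s0_f23630r IH) (path_nil s0_v2304))
theorem s0_f23634r : ed sl_ft s0_v2304 = s0_v1721 :=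
  edge_flip (s0_f23634 IH)
theorem s0_f19880r : ed sl_at s0_v1765 = sq616 :=
  edge_flip (s0_f19880 IH)
theorem s0_f23635 : ed sl_at s0_v1767 = s0_v2304 :=
  gap_rel s0_rot90 (path_edge (s0_f19888 IH) (path_edge (s0_f19880r IH) (path_eq (s0_f21228 IH) (path_edge (s0_f23634r IH) (path_nil s0_v2304)))))
theorem s0_f23638 : ed sl_gt s0_v1721 = s0_v2305 :=
  rfl
theorem s0_f23638r : ed sl_gf s0_v2305 = s0_v1721 :=
  edge_flip (s0_f23638 IH)
theorem s0_f23641 : ed sl_ef s0_v1919 = s0_v2305 :=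
  gap_rel s0_rot36 (path_edge (s0_f20928 IH) (path_edge (s0_f19884r IH) (path_eq (s0_f21228 IH) (path_edge (s0_f23638r IH) (path_nil s0_v2305)))))
theorem s0_f23642 : ed sl_gf s0_v1721 = s0_v2305 :=
  gap_rel s0_rot76 (path_edge (s0_f23638r IH) (path_nil s0_v2305))
theorem s0_f23787 : ed sl_ct s0_v1741 = s0_v2336 :=
  rfl
theorem s0_f23787r : ed sl_cf s0_v2336 = s0_v1741 :=
  edge_flip (s0_f23787 IH)
theorem s0_f23788 : ed sl_cf s0_v1741 = s0_v2336 :=
  gap_rel s0_rot40 (path_edge (s0_f23787r IH) (path_nil s0_v2336))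
theorem s0_f23793 : ed sl_et s0_v1741 = s0_v2337 :=
  rfl
theorem s0_f23793r : ed sl_ef s0_v2337 = s0_v1741 :=
  edge_flip (s0_f23793 IH)
theorem s0_f19654r : ed sl_gf s0_v1741 = s0_v1078 :=
  edge_flip (s0_f19654 IH)
theorem s0_f23796 : ed sl_gf s0_v1903 = s0_v2337 :=
  gap_rel s0_rot18 (path_edge (s0_f20843 IH) (path_edge (s0_f19654r IH) (path_edge (s0_f23793r IH) (path_nil s0_v2337))))
theorem s0_f23796r : ed sl_gt s0_v2337 = s0_v1903 :=
  edge_flip (s0_f23796 IH)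
theorem s0_f23797 : ed sl_gt s0_v1903 = s0_v2337 :=
  gap_rel s0_rot25 (path_edge (s0_f23796r IH) (path_nil s0_v2337))
theorem s0_f23799 : ed sl_ct s0_v1742 = s0_v2338 :=
  rfl
theorem s0_f23799r : ed sl_cf s0_v2338 = s0_v1742 :=
  edge_flip (s0_f23799 IH)
theorem s0_f19663r : ed sl_ff s0_v1742 = s0_v1050 :=
  edge_flip (s0_f19663 IH)
theorem s0_f23802 : ed sl_ff s0_v1878 = s0_v2338 :=
  gap_rel s0_rot95 (path_edge (s0_f20721 IH) (path_edge (s0_f19663r IH) (path_edge (s0_f23799r IH) (path_nil s0_v2338))))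
theorem s0_f19664r : ed sl_gf s0_v1742 = s0_v1085 :=
  edge_flip (s0_f19664 IH)
theorem s0_f23803 : ed sl_gf s0_v1910 = s0_v2338 :=
  gap_rel s0_rot5 (path_edge (s0_f20871 IH) (path_edge (s0_f19664r IH) (path_edge (s0_f23799r IH) (path_nil s0_v2338))))
theorem s0_f2630r : ed sl_cf sq386 = sq254 :=
  edge_flip (s0_f2630 IH)
theorem s0_f2660r : ed sl_df sq254 = sq382 :=
  edge_flip (s0_f2660 IH)
theorem s0_f2661r : ed sl_cf sq382 = sq567 :=
  edge_flip (s0_f2661 IH)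
theorem s0_f23804 : ed sl_df s0_v2336 = s0_v2338 :=
  gap_rel s0_rot62 (path_edge (s0_f23788 IH) (path_edge (s0_f19650 IH) (path_edge (s0_f2661r IH) (path_edge (s0_f2660r IH) (path_edge (s0_f2630r IH) (path_edge (s0_f2626 IH) (path_edge (s0_f19656r IH) (path_edge (s0_f23799r IH) (path_nil s0_v2338)))))))))
theorem s0_f23804r : ed sl_dt s0_v2338 = s0_v2336 :=
  edge_flip (s0_f23804 IH)
theorem s0_f23805 : ed sl_dt s0_v2336 = s0_v2338 :=
  gap_rel s0_rot28 (path_edge (s0_f23804r IH) (path_nil s0_v2338))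
theorem s0_f23911 : ed sl_ct s0_v1756 = s0_v2359 :=
  rfl
theorem s0_f23911r : ed sl_cf s0_v2359 = s0_v1756 :=
  edge_flip (s0_f23911 IH)
theorem s0_f23912 : ed sl_af s0_v1757 = s0_v2359 :=
  gap_rel s0_rot10 (path_edge (s0_f19820 IH) (path_edge (s0_f19811r IH) (path_edge (s0_f23911r IH) (path_nil s0_v2359))))
theorem s0_f23915 : ed sl_ft s0_v1756 = s0_v2360 :=
  rfl
theorem s0_f23915r : ed sl_ff s0_v2360 = s0_v1756 :=
  edge_flip (s0_f23915 IH)
theorem s0_f23918 : ed sl_ff s0_v1756 = s0_v2360 :=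
  gap_rel s0_rot1 (path_edge (s0_f23915r IH) (path_nil s0_v2360))
theorem s0_f23918r : ed sl_ft s0_v2360 = s0_v1756 :=
  edge_flip (s0_f23918 IH)
theorem s0_f19812r : ed sl_at s0_v1756 = sq603 :=
  edge_flip (s0_f19812 IH)
theorem s0_f23922 : ed sl_at s0_v1758 = s0_v2360 :=
  gap_rel s0_rot90 (path_edge (s0_f19821 IH) (path_edge (s0_f19812r IH) (path_edge (s0_f23918r IH) (path_nil s0_v2360))))
theorem s0_f23923 : ed sl_dt s0_v1757 = s0_v2361 :=
  rfl
theorem s0_f23923r : ed sl_df s0_v2361 = s0_v1757 :=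
  edge_flip (s0_f23923 IH)
theorem s0_f23924 : ed sl_df s0_v1757 = s0_v2361 :=
  gap_rel s0_rot54 (path_edge (s0_f23923r IH) (path_nil s0_v2361))
theorem s0_f23929 : ed sl_bt s0_v1758 = s0_v2363 :=
  rfl
theorem s0_f23929r : ed sl_bf s0_v2363 = s0_v1758 :=
  edge_flip (s0_f23929 IH)
theorem s0_f23930 : ed sl_bf s0_v1758 = s0_v2363 :=
  gap_rel s0_rot44 (path_edge (s0_f23929r IH) (path_nil s0_v2363))
theorem s0_f19821r : ed sl_ff s0_v1758 = sq603 :=
  edge_flip (s0_f19821 IH)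
theorem s0_f6512r : ed sl_bf sq603 = sq404 :=
  edge_flip (s0_f6512 IH)
theorem s0_f19468r : ed sl_ff sq404 = sq604 :=
  edge_flip (s0_f19468 IH)
theorem s0_f23932 : ed sl_ff s0_v1759 = s0_v2363 :=
  gap_rel s0_rot70 (path_edge (s0_f19828 IH) (path_edge (s0_f19468r IH) (path_edge (s0_f6512r IH) (path_edge (s0_f19821r IH) (path_edge (s0_f23929r IH) (path_nil s0_v2363))))))
theorem s0_f23932r : ed sl_ft s0_v2363 = s0_v1759 :=
  edge_flip (s0_f23932 IH)
theorem s0_f23934 : ed sl_ft s0_v1759 = s0_v2363 :=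
  gap_rel s0_rot16 (path_edge (s0_f23932r IH) (path_nil s0_v2363))
theorem s0_f23943 : ed sl_at s0_v1759 = s0_v2365 :=
  rfl
theorem s0_f23943r : ed sl_af s0_v2365 = s0_v1759 :=
  edge_flip (s0_f23943 IH)
theorem s0_f19831r : ed sl_df s0_v1759 = s0_v1016 :=
  edge_flip (s0_f19831 IH)
theorem s0_f23945 : ed sl_df s0_v1865 = s0_v2365 :=
  gap_rel s0_rot51 (path_edge (s0_f20630 IH) (path_edge (s0_f19831r IH) (path_edge (s0_f23943r IH) (path_nil s0_v2365))))
theorem s0_f23945r : ed sl_dt s0_v2365 = s0_v1865 :=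
  edge_flip (s0_f23945 IH)
theorem s0_f23946 : ed sl_dt s0_v1865 = s0_v2365 :=
  gap_rel s0_rot28 (path_edge (s0_f23945r IH) (path_nil s0_v2365))
theorem s0_f23947 : ed sl_ct s0_v1759 = s0_v2366 :=
  rfl
theorem s0_f23947r : ed sl_cf s0_v2366 = s0_v1759 :=
  edge_flip (s0_f23947 IH)
theorem s0_f23948 : ed sl_cf s0_v1759 = s0_v2366 :=
  gap_rel s0_rot40 (path_edge (s0_f23947r IH) (path_nil s0_v2366))
theorem s0_f23991 : ed sl_ct s0_v1762 = s0_v2373 :=
  rfl
theorem s0_f23991r : ed sl_cf s0_v2373 = s0_v1762 :=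
  edge_flip (s0_f23991 IH)
theorem s0_f23993 : ed sl_cf s0_v1762 = s0_v2373 :=
  gap_rel s0_rot40 (path_edge (s0_f23991r IH) (path_nil s0_v2373))
theorem s0_f24017 : ed sl_gt s0_v1767 = s0_v2376 :=
  rfl
theorem s0_f24017r : ed sl_gf s0_v2376 = s0_v1767 :=
  edge_flip (s0_f24017 IH)
theorem s0_f24020 : ed sl_gf s0_v1767 = s0_v2376 :=
  gap_rel s0_rot76 (path_edge (s0_f24017r IH) (path_nil s0_v2376))
theorem s0_f24021 : ed sl_ff s0_v2305 = s0_v2376 :=
  gap_rel s0_rot92 (path_edge (s0_f23642 IH) (path_edge (s0_f23630r IH) (path_edge (s0_f23635 IH) (path_edge (s0_f24017r IH) (path_nil s0_v2376)))))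
theorem s0_f24021r : ed sl_ft s0_v2376 = s0_v2305 :=
  edge_flip (s0_f24021 IH)
theorem s0_f23641r : ed sl_et s0_v2305 = s0_v1919 :=
  edge_flip (s0_f23641 IH)
theorem s0_f20929r : ed sl_ft s0_v1919 = s0_v1839 :=
  edge_flip (s0_f20929 IH)
theorem s0_f24023 : ed sl_et s0_v1839 = s0_v2376 :=
  gap_rel s0_rot37 (path_edge (s0_f20929r IH) (path_edge (s0_f23641r IH) (path_edge (s0_f24021r IH) (path_nil s0_v2376))))
theorem s0_f24091 : ed sl_bt s0_v1773 = s0_v2386 :=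
  rfl
theorem s0_f24091r : ed sl_bf s0_v2386 = s0_v1773 :=
  edge_flip (s0_f24091 IH)
theorem s0_f19939r : ed sl_ff s0_v1773 = sq620 :=
  edge_flip (s0_f19939 IH)
theorem s0_f10770r : ed sl_bf sq620 = sq422 :=
  edge_flip (s0_f10770 IH)
theorem s0_f10777r : ed sl_ff sq422 = sq622 :=
  edge_flip (s0_f10777 IH)
theorem s0_f24093 : ed sl_ff s0_v1776 = s0_v2386 :=
  gap_rel s0_rot70 (path_edge (s0_f19953 IH) (path_edge (s0_f10777r IH) (path_edge (s0_f10770r IH) (path_edge (s0_f19939r IH) (path_edge (s0_f24091r IH) (path_nil s0_v2386))))))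
theorem s0_f24093r : ed sl_ft s0_v2386 = s0_v1776 :=
  edge_flip (s0_f24093 IH)
theorem s0_f24094 : ed sl_ft s0_v1776 = s0_v2386 :=
  gap_rel s0_rot16 (path_edge (s0_f24093r IH) (path_nil s0_v2386))
theorem s0_f24113 : ed sl_at s0_v1776 = s0_v2391 :=
  rfl
theorem s0_f24113r : ed sl_af s0_v2391 = s0_v1776 :=
  edge_flip (s0_f24113 IH)
theorem s0_f24114 : ed sl_af s0_v1776 = s0_v2391 :=
  gap_rel s0_rot66 (path_edge (s0_f24113r IH) (path_nil s0_v2391))
theorem s0_f24117 : ed sl_gt s0_v1776 = s0_v2393 :=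
  rfl
theorem s0_f24117r : ed sl_gf s0_v2393 = s0_v1776 :=
  edge_flip (s0_f24117 IH)
theorem s0_f24119 : ed sl_gf s0_v1776 = s0_v2393 :=
  gap_rel s0_rot76 (path_edge (s0_f24117r IH) (path_nil s0_v2393))
theorem s0_f24119r : ed sl_gt s0_v2393 = s0_v1776 :=
  edge_flip (s0_f24119 IH)
theorem s0_f19953r : ed sl_bt s0_v1776 = sq622 :=
  edge_flip (s0_f19953 IH)
theorem s0_f24120 : ed sl_bt s0_v2157 = s0_v2393 :=
  gap_rel s0_rot26 (path_edge (s0_f22707 IH) (path_edge (s0_f7325 IH) (path_edge (s0_f18233 IH) (path_edge (s0_f19953r IH) (path_edge (s0_f24119r IH) (path_nil s0_v2393))))))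
theorem s0_f24284 : ed sl_at s0_v1799 = s0_v2432 :=
  rfl
theorem s0_f24284r : ed sl_af s0_v2432 = s0_v1799 :=
  edge_flip (s0_f24284 IH)

end

end

end Cfsg.Agent.Helper28.S1680
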