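import Cfsg.Agent.Lib.Helper28.S1680.Seeds11

set_option autoImplicit false
set_option maxRecDepth 100000
set_option linter.all false

namespace Cfsg.Agent.Helper28.S1680

open Cfsg.Agent.Helper28
open Cfsg.Spor.Suz (Gen)

noncomputable section

section
variable (IH : ∀ y q, lvl y q < 16 → EntryOK rels S fwd inv o plet idx y q)
include IH

theorem s0_f24287 : ed sl_ft s0_v2208 = s0_v2432 :=
  gap_rel s0_rot107 (path_edge (s0_f23011 IH) (path_edge (s0_f19733 IH) (path_edge (s0_f20091r IH) (path_edge (s0_f24284r IH) (path_nil s0_v2432)))))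
theorem s0_f24287r : ed sl_ff s0_v2432 = s0_v2208 :=
  edge_flip (s0_f24287 IH)
theorem s0_f24288 : ed sl_ff s0_v2208 = s0_v2432 :=
  gap_rel s0_rot1 (path_edge (s0_f24287r IH) (path_nil s0_v2432))
theorem s0_f24288r : ed sl_ft s0_v2432 = s0_v2208 :=
  edge_flip (s0_f24288 IH)
theorem s0_f23012r : ed sl_gt s0_v2208 = sq955 :=
  edge_flip (s0_f23012 IH)
theorem s0_f24289 : ed sl_gt s0_v1802 = s0_v2432 :=
  gap_rel s0_rot112 (path_edge (s0_f20131 IH) (path_edge (s0_f11089 IH) (path_edge (s0_f23012r IH) (path_edge (s0_f24288r IH) (path_nil s0_v2432)))))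
theorem s0_f24294 : ed sl_ft s0_v1799 = s0_v2434 :=
  rfl
theorem s0_f24294r : ed sl_ff s0_v2434 = s0_v1799 :=
  edge_flip (s0_f24294 IH)
theorem s0_f24296 : ed sl_ff s0_v1799 = s0_v2434 :=
  gap_rel s0_rot1 (path_edge (s0_f24294r IH) (path_nil s0_v2434))
theorem s0_f20093r : ed sl_gf s0_v1799 = sq654 :=
  edge_flip (s0_f20093 IH)
theorem s0_f11089r : ed sl_ff sq654 = sq955 :=
  edge_flip (s0_f11089 IH)
theorem s0_f24289r : ed sl_gf s0_v2432 = s0_v1802 :=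
  edge_flip (s0_f24289 IH)
theorem s0_f24297 : ed sl_gf s0_v2205 = s0_v2434 :=
  gap_rel s0_rot19 (path_edge (s0_f22994 IH) (path_edge (s0_f24289r IH) (path_edge (s0_f24288 IH) (path_edge (s0_f23012 IH) (path_edge (s0_f11089r IH) (path_edge (s0_f20093r IH) (path_edge (s0_f24294r IH) (path_nil s0_v2434))))))))
theorem s0_f24380 : ed sl_at s0_v1812 = s0_v2454 :=
  rfl
theorem s0_f24380r : ed sl_af s0_v2454 = s0_v1812 :=
  edge_flip (s0_f24380 IH)
theorem s0_f24381 : ed sl_af s0_v1812 = s0_v2454 :=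
  gap_rel s0_rot66 (path_edge (s0_f24380r IH) (path_nil s0_v2454))
theorem s0_f24384 : ed sl_ft s0_v1812 = s0_v2456 :=
  rfl
theorem s0_f24384r : ed sl_ff s0_v2456 = s0_v1812 :=
  edge_flip (s0_f24384 IH)
theorem s0_f24386 : ed sl_ff s0_v1812 = s0_v2456 :=
  gap_rel s0_rot1 (path_edge (s0_f24384r IH) (path_nil s0_v2456))
theorem s0_f24388 : ed sl_gt s0_v1812 = s0_v2457 :=
  rfl
theorem s0_f24448 : ed sl_et s0_v1817 = s0_v2468 :=
  rfl
theorem s0_f24516 : ed sl_ft s0_v1825 = s0_v2485 :=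
  rfl
theorem s0_f24516r : ed sl_ff s0_v2485 = s0_v1825 :=
  edge_flip (s0_f24516 IH)
theorem s0_f24518 : ed sl_ff s0_v1825 = s0_v2485 :=
  gap_rel s0_rot1 (path_edge (s0_f24516r IH) (path_nil s0_v2485))
theorem s0_f24518r : ed sl_ft s0_v2485 = s0_v1825 :=
  edge_flip (s0_f24518 IH)
theorem s0_f20347r : ed sl_bt s0_v1825 = sq677 :=
  edge_flip (s0_f20347 IH)
theorem s0_f24519 : ed sl_bt s0_v2223 = s0_v2485 :=
  gap_rel s0_rot12 (path_edge (s0_f23088 IH) (path_edge (s0_f17157 IH) (path_edge (s0_f20340 IH) (path_edge (s0_f20347r IH) (path_edge (s0_f24518r IH) (path_nil s0_v2485))))))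
theorem s0_f24524 : ed sl_gt s0_v1826 = s0_v2488 :=
  rfl
theorem s0_f24524r : ed sl_gf s0_v2488 = s0_v1826 :=
  edge_flip (s0_f24524 IH)
theorem s0_f24526 : ed sl_gf s0_v1826 = s0_v2488 :=
  gap_rel s0_rot76 (path_edge (s0_f24524r IH) (path_nil s0_v2488))
theorem s0_f24526r : ed sl_gt s0_v2488 = s0_v1826 :=
  edge_flip (s0_f24526 IH)
theorem s0_f20350r : ed sl_bt s0_v1826 = sq680 :=
  edge_flip (s0_f20350 IH)
theorem s0_f24527 : ed sl_bt s0_v2457 = s0_v2488 :=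
  gap_rel s0_rot26 (path_edge (s0_f24388 IH) (path_edge (s0_f20233 IH) (path_edge (s0_f20235 IH) (path_edge (s0_f20350r IH) (path_edge (s0_f24526r IH) (path_nil s0_v2488))))))
theorem s0_f24576 : ed sl_dt s0_v1831 = s0_v2498 :=
  rfl
theorem s0_f24576r : ed sl_df s0_v2498 = s0_v1831 :=
  edge_flip (s0_f24576 IH)
theorem s0_f24578 : ed sl_df s0_v1831 = s0_v2498 :=
  gap_rel s0_rot54 (path_edge (s0_f24576r IH) (path_nil s0_v2498))
theorem s0_f24578r : ed sl_dt s0_v2498 = s0_v1831 :=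
  edge_flip (s0_f24578 IH)
theorem s0_f20391r : ed sl_bt s0_v1831 = sq686 :=
  edge_flip (s0_f20391 IH)
theorem s0_f24579 : ed sl_bt s0_v1832 = s0_v2498 :=
  gap_rel s0_rot69 (path_edge (s0_f20394 IH) (path_edge (s0_f20391r IH) (path_edge (s0_f24578r IH) (path_nil s0_v2498))))
theorem s0_f24590 : ed sl_ct s0_v1832 = s0_v2501 :=
  rfl
theorem s0_f24590r : ed sl_cf s0_v2501 = s0_v1832 :=
  edge_flip (s0_f24590 IH)
theorem s0_f24591 : ed sl_cf s0_v1832 = s0_v2501 :=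
  gap_rel s0_rot40 (path_edge (s0_f24590r IH) (path_nil s0_v2501))
theorem s0_f20394r : ed sl_df s0_v1832 = sq686 :=
  edge_flip (s0_f20394 IH)
theorem s0_f18863r : ed sl_at sq686 = sq900 :=
  edge_flip (s0_f18863 IH)
theorem s0_f6944r : ed sl_cf sq900 = sq612 :=
  edge_flip (s0_f6944 IH)
theorem s0_f6943r : ed sl_df sq612 = sq414 :=
  edge_flip (s0_f6943 IH)
theorem s0_f7027r : ed sl_cf sq414 = sq613 :=
  edge_flip (s0_f7027 IH)
theorem s0_f24593 : ed sl_df s0_v2373 = s0_v2501 :=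
  gap_rel s0_rot62 (path_edge (s0_f23993 IH) (path_edge (s0_f19855 IH) (path_edge (s0_f7027r IH) (path_edge (s0_f6943r IH) (path_edge (s0_f6944r IH) (path_edge (s0_f18863r IH) (path_edge (s0_f20394r IH) (path_edge (s0_f24590r IH) (path_nil s0_v2501)))))))))
theorem s0_f24593r : ed sl_dt s0_v2501 = s0_v2373 :=
  edge_flip (s0_f24593 IH)
theorem s0_f24594 : ed sl_dt s0_v2373 = s0_v2501 :=
  gap_rel s0_rot28 (path_edge (s0_f24593r IH) (path_nil s0_v2501))
theorem s0_f24651 : ed sl_bt s0_v1839 = s0_v2511 :=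
  rfl
theorem s0_f24651r : ed sl_bf s0_v2511 = s0_v1839 :=
  edge_flip (s0_f24651 IH)
theorem s0_f24652 : ed sl_bf s0_v1839 = s0_v2511 :=
  gap_rel s0_rot44 (path_edge (s0_f24651r IH) (path_nil s0_v2511))
theorem s0_f24794 : ed sl_at s0_v1861 = s0_v2535 :=
  rfl
theorem s0_f24794r : ed sl_af s0_v2535 = s0_v1861 :=
  edge_flip (s0_f24794 IH)
theorem s0_f24795 : ed sl_af s0_v1861 = s0_v2535 :=
  gap_rel s0_rot66 (path_edge (s0_f24794r IH) (path_nil s0_v2535))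
theorem s0_f24803 : ed sl_ft s0_v1861 = s0_v2537 :=
  rfl
theorem s0_f24849 : ed sl_bt s0_v1867 = s0_v2546 :=
  rfl
theorem s0_f24849r : ed sl_bf s0_v2546 = s0_v1867 :=
  edge_flip (s0_f24849 IH)
theorem s0_f24850 : ed sl_bf s0_v1867 = s0_v2546 :=
  gap_rel s0_rot44 (path_edge (s0_f24849r IH) (path_nil s0_v2546))
theorem s0_f25104 : ed sl_dt s0_v1900 = s0_v2600 :=
  rfl
theorem s0_f25104r : ed sl_df s0_v2600 = s0_v1900 :=
  edge_flip (s0_f25104 IH)
theorem s0_f25106 : ed sl_df s0_v1900 = s0_v2600 :=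
  gap_rel s0_rot54 (path_edge (s0_f25104r IH) (path_nil s0_v2600))
theorem s0_f25106r : ed sl_dt s0_v2600 = s0_v1900 :=
  edge_flip (s0_f25106 IH)
theorem s0_f20823r : ed sl_bt s0_v1900 = sq982 :=
  edge_flip (s0_f20823 IH)
theorem s0_f25107 : ed sl_bt s0_v2239 = s0_v2600 :=
  gap_rel s0_rot69 (path_edge (s0_f23209 IH) (path_edge (s0_f20823r IH) (path_edge (s0_f25106r IH) (path_nil s0_v2600))))
theorem s0_f25128 : ed sl_dt s0_v1904 = s0_v2606 :=
  rfl
theorem s0_f25128r : ed sl_df s0_v2606 = s0_v1904 :=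
  edge_flip (s0_f25128 IH)
theorem s0_f25129 : ed sl_af s0_v1905 = s0_v2606 :=
  gap_rel s0_rot72 (path_edge (s0_f20850 IH) (path_edge (s0_f20844r IH) (path_edge (s0_f25128r IH) (path_nil s0_v2606))))
theorem s0_f25144 : ed sl_ct s0_v1905 = s0_v2609 :=
  rfl
theorem s0_f25173 : ed sl_bt s0_v1908 = s0_v2615 :=
  rfl
theorem s0_f25173r : ed sl_bf s0_v2615 = s0_v1908 :=
  edge_flip (s0_f25173 IH)
theorem s0_f25174 : ed sl_bf s0_v1908 = s0_v2615 :=
  gap_rel s0_rot44 (path_edge (s0_f25173r IH) (path_nil s0_v2615))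
theorem s0_f20865r : ed sl_df s0_v1908 = s0_v1867 :=
  edge_flip (s0_f20865 IH)
theorem s0_f25175 : ed sl_df s0_v2546 = s0_v2615 :=
  gap_rel s0_rot8 (path_edge (s0_f24850 IH) (path_edge (s0_f20865r IH) (path_edge (s0_f25173r IH) (path_nil s0_v2615))))
theorem s0_f25175r : ed sl_dt s0_v2615 = s0_v2546 :=
  edge_flip (s0_f25175 IH)
theorem s0_f25176 : ed sl_dt s0_v2546 = s0_v2615 :=
  gap_rel s0_rot28 (path_edge (s0_f25175r IH) (path_nil s0_v2615))
theorem s0_f25182 : ed sl_bt s0_v1910 = s0_v2617 :=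
  rfl
theorem s0_f25182r : ed sl_bf s0_v2617 = s0_v1910 :=
  edge_flip (s0_f25182 IH)
theorem s0_f25183 : ed sl_bf s0_v1910 = s0_v2617 :=
  gap_rel s0_rot44 (path_edge (s0_f25182r IH) (path_nil s0_v2617))
theorem s0_f25194 : ed sl_bt s0_v1912 = s0_v2619 :=
  rfl
theorem s0_f25194r : ed sl_bf s0_v2619 = s0_v1912 :=
  edge_flip (s0_f25194 IH)
theorem s0_f25196 : ed sl_cf s0_v2546 = s0_v2619 :=
  gap_rel s0_rot27 (path_edge (s0_f24850 IH) (path_edge (s0_f20651 IH) (path_eq (s0_f16986 IH) (path_edge (s0_f12698 IH) (path_edge (s0_f20885r IH) (path_edge (s0_f25194r IH) (path_nil s0_v2619)))))))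
theorem s0_f25630 : ed sl_et sq1035 = s0_v2719 :=
  rfl
theorem s0_f25630r : ed sl_ef s0_v2719 = sq1035 :=
  edge_flip (s0_f25630 IH)
theorem s0_f25631 : ed sl_bf s0_v1971 = s0_v2719 :=
  gap_rel s0_rot23 (path_edge (s0_f21153 IH) (path_edge (s0_f3102r IH) (path_edge (s0_f25630r IH) (path_nil s0_v2719))))
theorem s0_f25633 : ed sl_ff sq1055 = s0_v2719 :=
  gap_rel s0_rot99 (path_edge (s0_f1071 IH) (path_edge (s0_f17417 IH) (path_edge (s0_f25630r IH) (path_nil s0_v2719))))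
theorem s0_f25633r : ed sl_ft s0_v2719 = sq1055 :=
  edge_flip (s0_f25633 IH)
theorem s0_f25635 : ed sl_ft sq1055 = s0_v2719 :=
  gap_rel s0_rot16 (path_edge (s0_f25633r IH) (path_nil s0_v2719))
theorem s0_f25702 : ed sl_at sq1048 = s0_v2732 :=
  rfl
theorem s0_f25702r : ed sl_af s0_v2732 = sq1048 :=
  edge_flip (s0_f25702 IH)
theorem s0_f25703 : ed sl_af sq1048 = s0_v2732 :=
  gap_rel s0_rot66 (path_edge (s0_f25702r IH) (path_nil s0_v2732))
theorem s0_f1089r : ed sl_af sq1011 = sq1360 :=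
  edge_flip (s0_f1089 IH)
theorem s0_f25704 : ed sl_ef sq1360 = s0_v2732 :=
  gap_rel s0_rot102 (path_edge (s0_f1089r IH) (path_edge (s0_f1058r IH) (path_edge (s0_f25702r IH) (path_nil s0_v2732))))
theorem s0_f25742 : ed sl_gt sq1055 = s0_v2741 :=
  rfl
theorem s0_f25742r : ed sl_gf s0_v2741 = sq1055 :=
  edge_flip (s0_f25742 IH)
theorem s0_f25745 : ed sl_gf sq1055 = s0_v2741 :=
  gap_rel s0_rot76 (path_edge (s0_f25742r IH) (path_nil s0_v2741))
theorem s0_f25745r : ed sl_gt s0_v2741 = sq1055 :=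
  edge_flip (s0_f25745 IH)
theorem s0_f25746 : ed sl_bt sq1402 = s0_v2741 :=
  gap_rel s0_rot26 (path_edge (s0_f1101 IH) (path_edge (s0_f1170 IH) (path_edge (s0_f1064 IH) (path_edge (s0_f1088 IH) (path_edge (s0_f25745r IH) (path_nil s0_v2741))))))
theorem s0_f25830 : ed sl_et sq1068 = s0_v2757 :=
  rfl
theorem s0_f25830r : ed sl_ef s0_v2757 = sq1068 :=
  edge_flip (s0_f25830 IH)
theorem s0_f18058r : ed sl_cf sq1068 = sq856 :=
  edge_flip (s0_f18058 IH)
theorem s0_f25831 : ed sl_cf s0_v2060 = s0_v2757 :=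
  gap_rel s0_rot38 (path_edge (s0_f22021 IH) (path_edge (s0_f18058r IH) (path_edge (s0_f25830r IH) (path_nil s0_v2757))))
theorem s0_f805r : ed sl_gf sq1068 = sq898 :=
  edge_flip (s0_f805 IH)
theorem s0_f25835 : ed sl_gf s0_v2114 = s0_v2757 :=
  gap_rel s0_rot18 (path_edge (s0_f22398 IH) (path_edge (s0_f805r IH) (path_edge (s0_f25830r IH) (path_nil s0_v2757))))
theorem s0_f25835r : ed sl_gt s0_v2757 = s0_v2114 :=
  edge_flip (s0_f25835 IH)
theorem s0_f22397r : ed sl_dt s0_v2114 = s0_v1903 :=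
  edge_flip (s0_f22397 IH)
theorem s0_f25836 : ed sl_dt s0_v2337 = s0_v2757 :=
  gap_rel s0_rot91 (path_edge (s0_f23797 IH) (path_edge (s0_f22397r IH) (path_edge (s0_f25835r IH) (path_nil s0_v2757))))
theorem s0_f25852 : ed sl_at sq1074 = s0_v2759 :=
  rfl
theorem s0_f25852r : ed sl_af s0_v2759 = sq1074 :=
  edge_flip (s0_f25852 IH)
theorem s0_f25853 : ed sl_af sq1074 = s0_v2759 :=
  gap_rel s0_rot66 (path_edge (s0_f25852r IH) (path_nil s0_v2759))
theorem s0_f1185r : ed sl_cf sq1074 = sq743 :=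
  edge_flip (s0_f1185 IH)
theorem s0_f25854 : ed sl_cf s0_v1983 = s0_v2759 :=
  gap_rel s0_rot74 (path_edge (s0_f21425 IH) (path_edge (s0_f1185r IH) (path_edge (s0_f25852r IH) (path_nil s0_v2759))))
theorem s0_f1191r : ed sl_ef sq1074 = sq1008 :=
  edge_flip (s0_f1191 IH)
theorem s0_f25855 : ed sl_ef sq1354 = s0_v2759 :=
  gap_rel s0_rot102 (path_edge (s0_f1319r IH) (path_edge (s0_f1191r IH) (path_edge (s0_f25852r IH) (path_nil s0_v2759))))
theorem s0_f1194r : ed sl_ff sq1074 = sq1423 :=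
  edge_flip (s0_f1194 IH)
theorem s0_f23601r : ed sl_af sq1423 = sq1631 :=
  edge_flip (s0_f23601 IH)
theorem s0_f25856 : ed sl_ff sq1631 = s0_v2759 :=
  gap_rel s0_rot11 (path_edge (s0_f23601r IH) (path_edge (s0_f1194r IH) (path_edge (s0_f25852r IH) (path_nil s0_v2759))))
theorem s0_f25903 : ed sl_bt sq1082 = s0_v2765 :=
  rfl
theorem s0_f25903r : ed sl_bf s0_v2765 = sq1082 :=
  edge_flip (s0_f25903 IH)
theorem s0_f19217r : ed sl_ff sq1082 = sq746 :=
  edge_flip (s0_f19217 IH)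
theorem s0_f6284r : ed sl_bf sq746 = sq510 :=
  edge_flip (s0_f6284 IH)
theorem s0_f25906 : ed sl_ff sq1085 = s0_v2765 :=
  gap_rel s0_rot70 (path_edge (s0_f6356r IH) (path_edge (s0_f15743r IH) (path_edge (s0_f6284r IH) (path_edge (s0_f19217r IH) (path_edge (s0_f25903r IH) (path_nil s0_v2765))))))
theorem s0_f25906r : ed sl_ft s0_v2765 = sq1085 :=
  edge_flip (s0_f25906 IH)
theorem s0_f25908 : ed sl_ft sq1085 = s0_v2765 :=
  gap_rel s0_rot16 (path_edge (s0_f25906r IH) (path_nil s0_v2765))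
theorem s0_f25921 : ed sl_at sq1085 = s0_v2768 :=
  rfl
theorem s0_f25921r : ed sl_af s0_v2768 = sq1085 :=
  edge_flip (s0_f25921 IH)
theorem s0_f25922 : ed sl_af sq1085 = s0_v2768 :=
  gap_rel s0_rot66 (path_edge (s0_f25921r IH) (path_nil s0_v2768))
theorem s0_f26167 : ed sl_ct sq1117 = sq1463 :=
  real_edge rels S fwd inv o lvl plet idx 16 IH Gen.c sp1117 sp1463 rfl rfl
theorem s0_f26170 : ed sl_et sq1447 = sq1117 :=
  real_edge rels S fwd inv o lvl plet idx 16 IH Gen.e sp1447 sp1117 rfl rfl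
theorem s0_f26213 : ed sl_at sq1116 = s0_v2812 :=
  rfl
theorem s0_f26213r : ed sl_af s0_v2812 = sq1116 :=
  edge_flip (s0_f26213 IH)
theorem s0_f26214 : ed sl_af sq1116 = s0_v2812 :=
  gap_rel s0_rot66 (path_edge (s0_f26213r IH) (path_nil s0_v2812))
theorem s0_f26234 : ed sl_at sq1117 = s0_v2816 :=
  rfl
theorem s0_f26234r : ed sl_af s0_v2816 = sq1117 :=
  edge_flip (s0_f26234 IH)
theorem s0_f26235 : ed sl_af sq1117 = s0_v2816 :=
  gap_rel s0_rot66 (path_edge (s0_f26234r IH) (path_nil s0_v2816))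
theorem s0_f26356 : ed sl_bt sq1134 = s0_v2837 :=
  rfl
theorem s0_f26356r : ed sl_bf s0_v2837 = sq1134 :=
  edge_flip (s0_f26356 IH)
theorem s0_f17115r : ed sl_ef sq1134 = sq808 :=
  edge_flip (s0_f17115 IH)
theorem s0_f26359 : ed sl_ef s0_v2035 = s0_v2837 :=
  gap_rel s0_rot46 (path_edge (s0_f21825 IH) (path_edge (s0_f17115r IH) (path_edge (s0_f26356r IH) (path_nil s0_v2837))))
theorem s0_f26359r : ed sl_et s0_v2837 = s0_v2035 :=
  edge_flip (s0_f26359 IH)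
theorem s0_f26361 : ed sl_et s0_v2035 = s0_v2837 :=
  gap_rel s0_rot31 (path_edge (s0_f26359r IH) (path_nil s0_v2837))
theorem s0_f26463 : ed sl_ct sq1153 = s0_v2853 :=
  rfl
theorem s0_f26463r : ed sl_cf s0_v2853 = sq1153 :=
  edge_flip (s0_f26463 IH)
theorem s0_f17399r : ed sl_cf sq807 = sq1154 :=
  edge_flip (s0_f17399 IH)
theorem s0_f26464 : ed sl_af sq1154 = s0_v2853 :=
  gap_rel s0_rot10 (path_edge (s0_f17399r IH) (path_edge (s0_f17448r IH) (path_edge (s0_f26463r IH) (path_nil s0_v2853))))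
theorem s0_f26465 : ed sl_cf sq1153 = s0_v2853 :=
  gap_rel s0_rot40 (path_edge (s0_f26463r IH) (path_nil s0_v2853))
theorem s0_f17541r : ed sl_ff sq1153 = sq1499 :=
  edge_flip (s0_f17541 IH)
theorem s0_f26466 : ed sl_ff sq1384 = s0_v2853 :=
  gap_rel s0_rot95 (path_edge (s0_f18744r IH) (path_edge (s0_f17541r IH) (path_edge (s0_f26463r IH) (path_nil s0_v2853))))
theorem s0_f26466r : ed sl_ft s0_v2853 = sq1384 :=
  edge_flip (s0_f26466 IH)
theorem s0_f26468 : ed sl_bt sq1390 = s0_v2853 :=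
  gap_rel s0_rot12 (path_edge (s0_f3421 IH) (path_edge (s0_f3369 IH) (path_edge (s0_f3406 IH) (path_edge (s0_f3227 IH) (path_edge (s0_f26466r IH) (path_nil s0_v2853))))))
theorem s0_f26469 : ed sl_ft sq1384 = s0_v2853 :=
  gap_rel s0_rot16 (path_edge (s0_f26466r IH) (path_nil s0_v2853))
theorem s0_f17987r : ed sl_cf sq1448 = sq1099 :=
  edge_flip (s0_f17987 IH)
theorem s0_f17986r : ed sl_ff sq1099 = sq1438 :=
  edge_flip (s0_f17986 IH)
theorem s0_f17985r : ed sl_af sq1438 = sq1093 :=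
  edge_flip (s0_f17985 IH)
theorem s0_f17984r : ed sl_bf sq1093 = sq757 :=
  edge_flip (s0_f17984 IH)
theorem s0_f17555r : ed sl_cf sq757 = sq542 :=
  edge_flip (s0_f17555 IH)
theorem s0_f2939r : ed sl_ff sq542 = sq368 :=
  edge_flip (s0_f2939 IH)
theorem s0_f6712r : ed sl_af sq368 = sq540 :=
  edge_flip (s0_f6712 IH)
theorem s0_f6713r : ed sl_bf sq540 = sq788 :=
  edge_flip (s0_f6713 IH)
theorem s0_f21276r : ed sl_cf sq788 = sq804 :=
  edge_flip (s0_f21276 IH)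
theorem s0_f17532r : ed sl_ff sq804 = sq1149 :=
  edge_flip (s0_f17532 IH)
theorem s0_f17509r : ed sl_af sq1149 = sq806 :=
  edge_flip (s0_f17509 IH)
theorem s0_f17494r : ed sl_bf sq806 = sq1152 :=
  edge_flip (s0_f17494 IH)
theorem s0_f17485r : ed sl_cf sq1152 = sq1500 :=
  edge_flip (s0_f17485 IH)
theorem s0_f18754r : ed sl_ff sq1500 = sq1154 :=
  edge_flip (s0_f18754 IH)
theorem s0_f26468r : ed sl_bf s0_v2853 = sq1390 :=
  edge_flip (s0_f26468 IH)
theorem s0_f3433r : ed sl_cf sq1390 = sq1671 :=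
  edge_flip (s0_f3433 IH)
theorem s0_f17938r : ed sl_ff sq1671 = sq1389 :=
  edge_flip (s0_f17938 IH)
theorem s0_f3428r : ed sl_af sq1389 = sq1669 :=
  edge_flip (s0_f3428 IH)
theorem s0_f26471 : ed sl_bf sq1669 = sq1448 :=
  gap_rel s0_rot113 (path_edge (s0_f3428r IH) (path_edge (s0_f17938r IH) (path_edge (s0_f3433r IH) (path_edge (s0_f26468r IH) (path_edge (s0_f26464 IH) (path_edge (s0_f18754r IH) (path_edge (s0_f17485r IH) (path_edge (s0_f17494r IH) (path_edge (s0_f17509r IH) (path_edge (s0_f17532r IH) (path_edge (s0_f21276r IH) (path_edge (s0_f6713r IH) (path_edge (s0_f6712r IH) (path_edge (s0_f2939r IH) (path_edge (s0_f17555r IH) (path_edge (s0_f17984r IH) (path_edge (s0_f17985r IH) (path_edge (s0_f17986r IH) (path_edge (s0_f17987r IH) (path_nil sq1448))))))))))))))))))))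
theorem s0_f26471r : ed sl_bt sq1448 = sq1669 :=
  edge_flip (s0_f26471 IH)
theorem s0_f3491r : ed sl_bt sq1388 = sq1527 :=
  edge_flip (s0_f3491 IH)
theorem s0_f26475 : ed sl_ct sq1527 = sq1447 :=
  gap_rel s0_rot127 (path_edge (s0_f3491r IH) (path_edge (s0_f3439 IH) (path_edge (s0_f26471r IH) (path_edge (s0_f17987 IH) (path_edge (s0_f19387 IH) (path_nil sq1447))))))
theorem s0_f26167r : ed sl_cf sq1463 = sq1117 :=
  edge_flip (s0_f26167 IH)
theorem s0_f26170r : ed sl_ef sq1117 = sq1447 :=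
  edge_flip (s0_f26170 IH)
theorem s0_f26475r : ed sl_cf sq1447 = sq1527 :=
  edge_flip (s0_f26475 IH)
theorem s0_f26489 : ed sl_ef sq1527 = sq1463 :=
  gap_rel s0_rot48 (path_edge (s0_f26475r IH) (path_edge (s0_f26170r IH) (path_edge (s0_f26167r IH) (path_nil sq1463))))
theorem s0_f26489r : ed sl_et sq1463 = sq1527 :=
  edge_flip (s0_f26489 IH)
theorem s0_f26493 : ed sl_et sq1527 = sq1463 :=
  gap_rel s0_rot31 (path_edge (s0_f26489r IH) (path_nil sq1463))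
theorem s0_f26493r : ed sl_ef sq1463 = sq1527 :=
  edge_flip (s0_f26493 IH)
theorem s0_f3061r : ed sl_af sq1527 = sq1178 :=
  edge_flip (s0_f3061 IH)
theorem s0_f26495 : ed sl_af sq1416 = sq1463 :=
  gap_rel s0_rot67 (path_edge (s0_f17699 IH) (path_edge (s0_f3061r IH) (path_edge (s0_f26493r IH) (path_nil sq1463))))
theorem s0_f26235r : ed sl_at s0_v2816 = sq1117 :=
  edge_flip (s0_f26235 IH)
theorem s0_f26495r : ed sl_at sq1463 = sq1416 :=
  edge_flip (s0_f26495 IH)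
theorem s0_f26497 : ed sl_ct sq1416 = s0_v2816 :=
  gap_rel s0_rot115 (path_edge (s0_f26495r IH) (path_edge (s0_f26167 IH) (path_edge (s0_f26235r IH) (path_nil s0_v2816))))
theorem s0_f26594 : ed sl_et sq1165 = s0_v2869 :=
  rfl
theorem s0_f26594r : ed sl_ef s0_v2869 = sq1165 :=
  edge_flip (s0_f26594 IH)
theorem s0_f10368r : ed sl_af sq1165 = sq816 :=
  edge_flip (s0_f10368 IH)
theorem s0_f10369r : ed sl_ef sq816 = sq1168 :=
  edge_flip (s0_f10369 IH)
theorem s0_f26595 : ed sl_af sq1168 = s0_v2869 :=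
  gap_rel s0_rot67 (path_edge (s0_f10369r IH) (path_edge (s0_f10368r IH) (path_edge (s0_f26594r IH) (path_nil s0_v2869))))
theorem s0_f26597 : ed sl_ef sq1165 = s0_v2869 :=
  gap_rel s0_rot34 (path_edge (s0_f26594r IH) (path_nil s0_v2869))
theorem s0_f26597r : ed sl_et s0_v2869 = sq1165 :=
  edge_flip (s0_f26597 IH)
theorem s0_f26599 : ed sl_ct s0_v2468 = s0_v2869 :=
  gap_rel s0_rot60 (path_edge (s0_f24448 IH) (path_edge (s0_f20285 IH) (path_edge (s0_f26597r IH) (path_nil s0_v2869))))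
theorem s0_f26614 : ed sl_ct sq1168 = s0_v2873 :=
  rfl
theorem s0_f26614r : ed sl_cf s0_v2873 = sq1168 :=
  edge_flip (s0_f26614 IH)
theorem s0_f26599r : ed sl_cf s0_v2869 = s0_v2468 :=
  edge_flip (s0_f26599 IH)
theorem s0_f26615 : ed sl_af s0_v2468 = s0_v2873 :=
  gap_rel s0_rot10 (path_edge (s0_f26599r IH) (path_edge (s0_f26595 IH) (path_edge (s0_f26614r IH) (path_nil s0_v2873))))
theorem s0_f2096r : ed sl_ef sq1168 = sq816 :=
  edge_flip (s0_f2096 IH)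
theorem s0_f26617 : ed sl_ef s0_v2040 = s0_v2873 :=
  gap_rel s0_rot48 (path_edge (s0_f21860 IH) (path_edge (s0_f2096r IH) (path_edge (s0_f26614r IH) (path_nil s0_v2873))))
theorem s0_f26617r : ed sl_et s0_v2873 = s0_v2040 :=
  edge_flip (s0_f26617 IH)
theorem s0_f26619 : ed sl_et s0_v2040 = s0_v2873 :=
  gap_rel s0_rot31 (path_edge (s0_f26617r IH) (path_nil s0_v2873))
theorem s0_f26809 : ed sl_at sq1200 = s0_v2908 :=
  rfl
theorem s0_f26809r : ed sl_af s0_v2908 = sq1200 :=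
  edge_flip (s0_f26809 IH)
theorem s0_f26810 : ed sl_af sq1200 = s0_v2908 :=
  gap_rel s0_rot66 (path_edge (s0_f26809r IH) (path_nil s0_v2908))
theorem s0_f26811 : ed sl_ef s0_v2391 = s0_v2908 :=
  gap_rel s0_rot102 (path_edge (s0_f24114 IH) (path_edge (s0_f19954 IH) (path_edge (s0_f26809r IH) (path_nil s0_v2908))))
theorem s0_f26811r : ed sl_et s0_v2908 = s0_v2391 :=
  edge_flip (s0_f26811 IH)
theorem s0_f26812 : ed sl_et s0_v2391 = s0_v2908 :=
  gap_rel s0_rot31 (path_edge (s0_f26811r IH) (path_nil s0_v2908))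
theorem s0_f26817 : ed sl_ft sq1200 = s0_v2910 :=
  rfl
theorem s0_f26817r : ed sl_ff s0_v2910 = sq1200 :=
  edge_flip (s0_f26817 IH)
theorem s0_f26820 : ed sl_ff sq1200 = s0_v2910 :=
  gap_rel s0_rot1 (path_edge (s0_f26817r IH) (path_nil s0_v2910))
theorem s0_f26823 : ed sl_gt sq1200 = s0_v2911 :=
  rfl
theorem s0_f26928 : ed sl_bt sq1208 = s0_v2923 :=
  rfl
theorem s0_f26928r : ed sl_bf s0_v2923 = sq1208 :=
  edge_flip (s0_f26928 IH)
theorem s0_f26929 : ed sl_bf sq1208 = s0_v2923 :=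
  gap_rel s0_rot44 (path_edge (s0_f26928r IH) (path_nil s0_v2923))
theorem s0_f21547r : ed sl_ff sq1208 = sq844 :=
  edge_flip (s0_f21547 IH)
theorem s0_f18223r : ed sl_bf sq844 = sq573 :=
  edge_flip (s0_f18223 IH)
theorem s0_f18212r : ed sl_ff sq573 = sq845 :=
  edge_flip (s0_f18212 IH)
theorem s0_f18257r : ed sl_bf sq845 = sq1209 :=
  edge_flip (s0_f18257 IH)
theorem s0_f26931 : ed sl_ff sq1209 = s0_v2923 :=
  gap_rel s0_rot70 (path_edge (s0_f18257r IH) (path_edge (s0_f18212r IH) (path_edge (s0_f18223r IH) (path_edge (s0_f21547r IH) (path_edge (s0_f26928r IH) (path_nil s0_v2923))))))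
theorem s0_f26931r : ed sl_ft s0_v2923 = sq1209 :=
  edge_flip (s0_f26931 IH)
theorem s0_f26933 : ed sl_ft sq1209 = s0_v2923 :=
  gap_rel s0_rot16 (path_edge (s0_f26931r IH) (path_nil s0_v2923))
theorem s0_f26948 : ed sl_at sq1209 = s0_v2926 :=
  rfl
theorem s0_f26948r : ed sl_af s0_v2926 = sq1209 :=
  edge_flip (s0_f26948 IH)
theorem s0_f18246r : ed sl_ef sq1209 = sq924 :=
  edge_flip (s0_f18246 IH)
theorem s0_f26950 : ed sl_ef s0_v2155 = s0_v2926 :=
  gap_rel s0_rot102 (path_edge (s0_f22702 IH) (path_edge (s0_f18246r IH) (path_edge (s0_f26948r IH) (path_nil s0_v2926))))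
theorem s0_f26950r : ed sl_et s0_v2926 = s0_v2155 :=
  edge_flip (s0_f26950 IH)
theorem s0_f26951 : ed sl_et s0_v2155 = s0_v2926 :=
  gap_rel s0_rot31 (path_edge (s0_f26950r IH) (path_nil s0_v2926))
theorem s0_f26952 : ed sl_gt sq1209 = s0_v2927 :=
  rfl
theorem s0_f26952r : ed sl_gf s0_v2927 = sq1209 :=
  edge_flip (s0_f26952 IH)
theorem s0_f26955 : ed sl_gf sq1209 = s0_v2927 :=
  gap_rel s0_rot76 (path_edge (s0_f26952r IH) (path_nil s0_v2927))
theorem s0_f26955r : ed sl_gt s0_v2927 = sq1209 :=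
  edge_flip (s0_f26955 IH)
theorem s0_f26956 : ed sl_bt s0_v2911 = s0_v2927 :=
  gap_rel s0_rot26 (path_edge (s0_f26823 IH) (path_edge (s0_f18288 IH) (path_edge (s0_f18198 IH) (path_edge (s0_f18257 IH) (path_edge (s0_f26955r IH) (path_nil s0_v2927))))))
theorem s0_f27094 : ed sl_et sq1225 = s0_v2952 :=
  rfl
theorem s0_f27094r : ed sl_ef s0_v2952 = sq1225 :=
  edge_flip (s0_f27094 IH)
theorem s0_f3744r : ed sl_gf sq1225 = sq856 :=
  edge_flip (s0_f3744 IH)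
theorem s0_f27098 : ed sl_gf s0_v2060 = s0_v2952 :=
  gap_rel s0_rot18 (path_edge (s0_f22021 IH) (path_edge (s0_f3744r IH) (path_edge (s0_f27094r IH) (path_nil s0_v2952))))
theorem s0_f27098r : ed sl_gt s0_v2952 = s0_v2060 :=
  edge_flip (s0_f27098 IH)
theorem s0_f27101 : ed sl_gt s0_v2060 = s0_v2952 :=
  gap_rel s0_rot25 (path_edge (s0_f27098r IH) (path_nil s0_v2952))
theorem s0_f27133 : ed sl_at sq1580 = sq1239 :=
  real_edge rels S fwd inv o lvl plet idx 16 IH Gen.a sp1580 sp1239 rfl rfl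
theorem s0_f27251 : ed sl_ct sq1580 = sq1238 :=
  real_edge rels S fwd inv o lvl plet idx 16 IH Gen.c sp1580 sp1238 rfl rfl
theorem s0_f27257 : ed sl_bt sq1239 = s0_v2975 :=
  rfl
theorem s0_f27257r : ed sl_bf s0_v2975 = sq1239 :=
  edge_flip (s0_f27257 IH)
theorem s0_f27258 : ed sl_bf sq1239 = s0_v2975 :=
  gap_rel s0_rot44 (path_edge (s0_f27257r IH) (path_nil s0_v2975))
theorem s0_f22155r : ed sl_ef sq1239 = sq887 :=
  edge_flip (s0_f22155 IH)
theorem s0_f27260 : ed sl_ef s0_v2099 = s0_v2975 :=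
  gap_rel s0_rot46 (path_edge (s0_f22307 IH) (path_edge (s0_f22155r IH) (path_edge (s0_f27257r IH) (path_nil s0_v2975))))
theorem s0_f27260r : ed sl_et s0_v2975 = s0_v2099 :=
  edge_flip (s0_f27260 IH)
theorem s0_f22308r : ed sl_ct s0_v2099 = sq881 :=
  edge_flip (s0_f22308 IH)
theorem s0_f27261 : ed sl_ct s0_v2096 = s0_v2975 :=
  gap_rel s0_rot60 (path_edge (s0_f22295 IH) (path_edge (s0_f22308r IH) (path_edge (s0_f27260r IH) (path_nil s0_v2975))))
theorem s0_f27263 : ed sl_dt sq1239 = s0_v2976 :=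
  rfl
theorem s0_f27263r : ed sl_df s0_v2976 = sq1239 :=
  edge_flip (s0_f27263 IH)
theorem s0_f27264 : ed sl_df sq1239 = s0_v2976 :=
  gap_rel s0_rot54 (path_edge (s0_f27263r IH) (path_nil s0_v2976))
theorem s0_f27358 : ed sl_et sq1584 = sq1248 :=
  real_edge rels S fwd inv o lvl plet idx 16 IH Gen.e sp1584 sp1248 rfl rfl
theorem s0_f27431 : ed sl_et sq1256 = s0_v3004 :=
  rfl
theorem s0_f27431r : ed sl_ef s0_v3004 = sq1256 :=
  edge_flip (s0_f27431 IH)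
theorem s0_f27434 : ed sl_ef sq1256 = s0_v3004 :=
  gap_rel s0_rot34 (path_edge (s0_f27431r IH) (path_nil s0_v3004))
theorem s0_f27434r : ed sl_et s0_v3004 = sq1256 :=
  edge_flip (s0_f27434 IH)
theorem s0_f27435 : ed sl_bt s0_v2114 = s0_v3004 :=
  gap_rel s0_rot108 (path_edge (s0_f22396 IH) (path_edge (s0_f838 IH) (path_edge (s0_f27434r IH) (path_nil s0_v3004))))
theorem s0_f27457 : ed sl_dt sq1258 = s0_v3008 :=
  rfl
theorem s0_f27457r : ed sl_df s0_v3008 = sq1258 :=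
  edge_flip (s0_f27457 IH)
theorem s0_f10640r : ed sl_bf sq1258 = sq897 :=
  edge_flip (s0_f10640 IH)
theorem s0_f27458 : ed sl_bf sq1259 = s0_v3008 :=
  gap_rel s0_rot103 (path_edge (s0_f10635r IH) (path_edge (s0_f10640r IH) (path_edge (s0_f27457r IH) (path_nil s0_v3008))))
theorem s0_f27459 : ed sl_df sq1258 = s0_v3008 :=
  gap_rel s0_rot54 (path_edge (s0_f27457r IH) (path_nil s0_v3008))
theorem s0_f27459r : ed sl_dt s0_v3008 = sq1258 :=
  edge_flip (s0_f27459 IH)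
theorem s0_f27460 : ed sl_bt sq1259 = s0_v3008 :=
  gap_rel s0_rot69 (path_edge (s0_f6989 IH) (path_edge (s0_f10951 IH) (path_edge (s0_f27459r IH) (path_nil s0_v3008))))
theorem s0_f27740 : ed sl_ft sq1325 = sq1618 :=
  real_edge rels S fwd inv o lvl plet idx 16 IH Gen.f sp1325 sp1618 rfl rfl
theorem s0_f28221 : ed sl_dt sq1323 = s0_v3151 :=
  rfl
theorem s0_f28239 : ed sl_ct sq1325 = s0_v3154 :=
  rfl
theorem s0_f28239r : ed sl_cf s0_v3154 = sq1325 :=
  edge_flip (s0_f28239 IH)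
theorem s0_f28240 : ed sl_cf sq1325 = s0_v3154 :=
  gap_rel s0_rot40 (path_edge (s0_f28239r IH) (path_nil s0_v3154))
theorem s0_f28241 : ed sl_et sq1325 = s0_v3155 :=
  rfl
theorem s0_f28241r : ed sl_ef s0_v3155 = sq1325 :=
  edge_flip (s0_f28241 IH)
theorem s0_f28243 : ed sl_ef sq1325 = s0_v3155 :=
  gap_rel s0_rot34 (path_edge (s0_f28241r IH) (path_nil s0_v3155))
theorem s0_f28243r : ed sl_et s0_v3155 = sq1325 :=
  edge_flip (s0_f28243 IH)
theorem s0_f28244 : ed sl_dt s0_v2468 = s0_v3155 :=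
  gap_rel s0_rot106 (path_edge (s0_f24448 IH) (path_edge (s0_f20280 IH) (path_edge (s0_f20282 IH) (path_edge (s0_f7345 IH) (path_edge (s0_f28243r IH) (path_nil s0_v3155))))))
theorem s0_f28324 : ed sl_dt sq1331 = s0_v3172 :=
  rfl
theorem s0_f28328 : ed sl_ft sq1331 = s0_v3173 :=
  rfl
theorem s0_f28328r : ed sl_ff s0_v3173 = sq1331 :=
  edge_flip (s0_f28328 IH)
theorem s0_f23180r : ed sl_cf sq1331 = sq981 :=
  edge_flip (s0_f23180 IH)
theorem s0_f28330 : ed sl_cf s0_v2238 = s0_v3173 :=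
  gap_rel s0_rot65 (path_edge (s0_f23202 IH) (path_edge (s0_f23180r IH) (path_edge (s0_f28328r IH) (path_nil s0_v3173))))
theorem s0_f28331 : ed sl_ff sq1331 = s0_v3173 :=
  gap_rel s0_rot1 (path_edge (s0_f28328r IH) (path_nil s0_v3173))
theorem s0_f28388 : ed sl_ct sq1336 = s0_v3185 :=
  rfl
theorem s0_f28388r : ed sl_cf s0_v3185 = sq1336 :=
  edge_flip (s0_f28388 IH)
theorem s0_f28389 : ed sl_cf sq1336 = s0_v3185 :=
  gap_rel s0_rot40 (path_edge (s0_f28388r IH) (path_nil s0_v3185))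
theorem s0_f28396 : ed sl_ft sq1336 = s0_v3187 :=
  rfl
theorem s0_f28396r : ed sl_ff s0_v3187 = sq1336 :=
  edge_flip (s0_f28396 IH)
theorem s0_f852r : ed sl_df sq1336 = sq987 :=
  edge_flip (s0_f852 IH)
theorem s0_f17724r : ed sl_ff sq987 = sq1337 :=
  edge_flip (s0_f17724 IH)
theorem s0_f28397 : ed sl_df sq1337 = s0_v3187 :=
  gap_rel s0_rot56 (path_edge (s0_f17724r IH) (path_edge (s0_f852r IH) (path_edge (s0_f28396r IH) (path_nil s0_v3187))))
theorem s0_f28398 : ed sl_ff sq1336 = s0_v3187 :=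
  gap_rel s0_rot1 (path_edge (s0_f28396r IH) (path_nil s0_v3187))
theorem s0_f28400 : ed sl_gt sq1628 = sq1340 :=
  real_edge rels S fwd inv o lvl plet idx 16 IH Gen.g sp1628 sp1340 rfl rfl
theorem s0_f28425 : ed sl_gt sq1340 = sq1628 :=
  real_edge rels S fwd inv o lvl plet idx 16 IH Gen.g sp1340 sp1628 rfl rfl
theorem s0_f28430 : ed sl_ct sq1340 = s0_v3197 :=
  rfl
theorem s0_f28430r : ed sl_cf s0_v3197 = sq1340 :=
  edge_flip (s0_f28430 IH)
theorem s0_f11341r : ed sl_af sq1340 = sq992 :=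
  edge_flip (s0_f11341 IH)
theorem s0_f28431 : ed sl_af s0_v2250 = s0_v3197 :=
  gap_rel s0_rot10 (path_edge (s0_f23253 IH) (path_edge (s0_f11341r IH) (path_edge (s0_f28430r IH) (path_nil s0_v3197))))
theorem s0_f28432 : ed sl_cf sq1340 = s0_v3197 :=
  gap_rel s0_rot40 (path_edge (s0_f28430r IH) (path_nil s0_v3197))
theorem s0_f28432r : ed sl_ct s0_v3197 = sq1340 :=
  edge_flip (s0_f28432 IH)
theorem s0_f28433 : ed sl_at s0_v2250 = s0_v3197 :=
  gap_rel s0_rot64 (path_edge (s0_f23252 IH) (path_edge (s0_f11338 IH) (path_edge (s0_f28432r IH) (path_nil s0_v3197))))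
theorem s0_f28438 : ed sl_ft sq1340 = s0_v3199 :=
  rfl
theorem s0_f28438r : ed sl_ff s0_v3199 = sq1340 :=
  edge_flip (s0_f28438 IH)
theorem s0_f28400r : ed sl_gf sq1340 = sq1628 :=
  edge_flip (s0_f28400 IH)
theorem s0_f28442 : ed sl_gf s0_v3187 = s0_v3199 :=
  gap_rel s0_rot2 (path_edge (s0_f28398 IH) (path_edge (s0_f17733 IH) (path_edge (s0_f28400r IH) (path_edge (s0_f28438r IH) (path_nil s0_v3199)))))
theorem s0_f28442r : ed sl_gt s0_v3199 = s0_v3187 :=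
  edge_flip (s0_f28442 IH)
theorem s0_f28397r : ed sl_dt s0_v3187 = sq1337 :=
  edge_flip (s0_f28397 IH)
theorem s0_f28443 : ed sl_dt sq1341 = s0_v3199 :=
  gap_rel s0_rot91 (path_edge (s0_f23259 IH) (path_edge (s0_f28397r IH) (path_edge (s0_f28442r IH) (path_nil s0_v3199))))
theorem s0_f28444 : ed sl_gt s0_v3187 = s0_v3199 :=
  gap_rel s0_rot25 (path_edge (s0_f28442r IH) (path_nil s0_v3199))
theorem s0_f28454 : ed sl_ct sq1342 = s0_v3202 :=
  rfl
theorem s0_f28454r : ed sl_cf s0_v3202 = sq1342 :=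
  edge_flip (s0_f28454 IH)
theorem s0_f11342r : ed sl_ff sq1342 = sq992 :=
  edge_flip (s0_f11342 IH)
theorem s0_f28456 : ed sl_ff s0_v2250 = s0_v3202 :=
  gap_rel s0_rot95 (path_edge (s0_f23253 IH) (path_edge (s0_f11342r IH) (path_edge (s0_f28454r IH) (path_nil s0_v3202))))
theorem s0_f28456r : ed sl_ft s0_v3202 = s0_v2250 :=
  edge_flip (s0_f28456 IH)
theorem s0_f28457 : ed sl_ft s0_v2250 = s0_v3202 :=
  gap_rel s0_rot16 (path_edge (s0_f28456r IH) (path_nil s0_v3202))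
theorem s0_f28504 : ed sl_ft sq1347 = s0_v3211 :=
  rfl
theorem s0_f28504r : ed sl_ff s0_v3211 = sq1347 :=
  edge_flip (s0_f28504 IH)
theorem s0_f28508 : ed sl_ff sq1347 = s0_v3211 :=
  gap_rel s0_rot1 (path_edge (s0_f28504r IH) (path_nil s0_v3211))
theorem s0_f28508r : ed sl_ft s0_v3211 = sq1347 :=
  edge_flip (s0_f28508 IH)
theorem s0_f28510 : ed sl_ct s0_v2264 = s0_v3211 :=
  gap_rel s0_rot42 (path_edge (s0_f23329 IH) (path_edge (s0_f23293 IH) (path_edge (s0_f28508r IH) (path_nil s0_v3211))))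
theorem s0_f28604 : ed sl_ft sq1356 = s0_v3230 :=
  rfl
theorem s0_f28604r : ed sl_ff s0_v3230 = sq1356 :=
  edge_flip (s0_f28604 IH)
theorem s0_f28607 : ed sl_ff sq1356 = s0_v3230 :=
  gap_rel s0_rot1 (path_edge (s0_f28604r IH) (path_nil s0_v3230))
theorem s0_f28626 : ed sl_bt sq1360 = s0_v3233 :=
  rfl
theorem s0_f28653 : ed sl_bt sq1364 = s0_v3237 :=
  rfl
theorem s0_f28653r : ed sl_bf s0_v3237 = sq1364 :=
  edge_flip (s0_f28653 IH)
theorem s0_f21254r : ed sl_ff sq1364 = sq1016 :=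
  edge_flip (s0_f21254 IH)
theorem s0_f1265r : ed sl_bf sq1016 = sq705 :=
  edge_flip (s0_f1265 IH)
theorem s0_f1277r : ed sl_ff sq705 = sq1017 :=
  edge_flip (s0_f1277 IH)
theorem s0_f1293r : ed sl_bf sq1017 = sq1365 :=
  edge_flip (s0_f1293 IH)
theorem s0_f28656 : ed sl_ff sq1365 = s0_v3237 :=
  gap_rel s0_rot70 (path_edge (s0_f1293r IH) (path_edge (s0_f1277r IH) (path_edge (s0_f1265r IH) (path_edge (s0_f21254r IH) (path_edge (s0_f28653r IH) (path_nil s0_v3237))))))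
theorem s0_f28656r : ed sl_ft s0_v3237 = sq1365 :=
  edge_flip (s0_f28656 IH)
theorem s0_f28658 : ed sl_ft sq1365 = s0_v3237 :=
  gap_rel s0_rot16 (path_edge (s0_f28656r IH) (path_nil s0_v3237))
theorem s0_f28667 : ed sl_at sq1365 = s0_v3239 :=
  rfl
theorem s0_f28667r : ed sl_af s0_v3239 = sq1365 :=
  edge_flip (s0_f28667 IH)
theorem s0_f28668 : ed sl_af sq1365 = s0_v3239 :=
  gap_rel s0_rot66 (path_edge (s0_f28667r IH) (path_nil s0_v3239))
theorem s0_f28785 : ed sl_at s0_v1972 = s0_v3256 :=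
  rfl
theorem s0_f28785r : ed sl_af s0_v3256 = s0_v1972 :=
  edge_flip (s0_f28785 IH)
theorem s0_f28786 : ed sl_af s0_v1972 = s0_v3256 :=
  gap_rel s0_rot66 (path_edge (s0_f28785r IH) (path_nil s0_v3256))
theorem s0_f21157r : ed sl_cf s0_v1972 = sq1085 :=
  edge_flip (s0_f21157 IH)
theorem s0_f28787 : ed sl_cf s0_v2768 = s0_v3256 :=
  gap_rel s0_rot74 (path_edge (s0_f25922 IH) (path_edge (s0_f21157r IH) (path_edge (s0_f28785r IH) (path_nil s0_v3256))))
theorem s0_f28787r : ed sl_ct s0_v3256 = s0_v2768 :=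
  edge_flip (s0_f28787 IH)
theorem s0_f28788 : ed sl_ct s0_v2768 = s0_v3256 :=
  gap_rel s0_rot59 (path_edge (s0_f28787r IH) (path_nil s0_v3256))
theorem s0_f28916 : ed sl_bt s0_v1992 = s0_v3279 :=
  rfl
theorem s0_f28916r : ed sl_bf s0_v3279 = s0_v1992 :=
  edge_flip (s0_f28916 IH)
theorem s0_f28917 : ed sl_bf s0_v1992 = s0_v3279 :=
  gap_rel s0_rot44 (path_edge (s0_f28916r IH) (path_nil s0_v3279))
theorem s0_f29209 : ed sl_at s0_v2035 = s0_v3338 :=
  rfl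
theorem s0_f29209r : ed sl_af s0_v3338 = s0_v2035 :=
  edge_flip (s0_f29209 IH)
theorem s0_f29210 : ed sl_af s0_v2035 = s0_v3338 :=
  gap_rel s0_rot66 (path_edge (s0_f29209r IH) (path_nil s0_v3338))
theorem s0_f29221 : ed sl_gt s0_v2035 = s0_v3341 :=
  rfl
theorem s0_f29221r : ed sl_gf s0_v3341 = s0_v2035 :=
  edge_flip (s0_f29221 IH)
theorem s0_f29224 : ed sl_gf s0_v2035 = s0_v3341 :=
  gap_rel s0_rot76 (path_edge (s0_f29221r IH) (path_nil s0_v3341))
theorem s0_f29263 : ed sl_bt s0_v2040 = s0_v3349 :=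
  rfl
theorem s0_f29263r : ed sl_bf s0_v3349 = s0_v2040 :=
  edge_flip (s0_f29263 IH)
theorem s0_f29264 : ed sl_bf s0_v2040 = s0_v3349 :=
  gap_rel s0_rot44 (path_edge (s0_f29263r IH) (path_nil s0_v3349))
theorem s0_f2095r : ed sl_bf sq816 = sq563 :=
  edge_flip (s0_f2095 IH)
theorem s0_f29265 : ed sl_cf s0_v2042 = s0_v3349 :=
  gap_rel s0_rot27 (path_edge (s0_f21876 IH) (path_edge (s0_f1864r IH) (path_edge (s0_f2095r IH) (path_edge (s0_f21858r IH) (path_edge (s0_f29263r IH) (path_nil s0_v3349))))))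
theorem s0_f29265r : ed sl_ct s0_v3349 = s0_v2042 :=
  edge_flip (s0_f29265 IH)
theorem s0_f29268 : ed sl_ct s0_v2042 = s0_v3349 :=
  gap_rel s0_rot59 (path_edge (s0_f29265r IH) (path_nil s0_v3349))
theorem s0_f29275 : ed sl_at s0_v2042 = s0_v3351 :=
  rfl
theorem s0_f29275r : ed sl_af s0_v3351 = s0_v2042 :=
  edge_flip (s0_f29275 IH)
theorem s0_f29276 : ed sl_af s0_v2042 = s0_v3351 :=
  gap_rel s0_rot66 (path_edge (s0_f29275r IH) (path_nil s0_v3351))
theorem s0_f21878r : ed sl_df s0_v2042 = s0_v1972 :=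
  edge_flip (s0_f21878 IH)
theorem s0_f29277 : ed sl_df s0_v3256 = s0_v3351 :=
  gap_rel s0_rot51 (path_edge (s0_f28786 IH) (path_edge (s0_f21878r IH) (path_edge (s0_f29275r IH) (path_nil s0_v3351))))
theorem s0_f29277r : ed sl_dt s0_v3351 = s0_v3256 :=
  edge_flip (s0_f29277 IH)
theorem s0_f29278 : ed sl_dt s0_v3256 = s0_v3351 :=
  gap_rel s0_rot28 (path_edge (s0_f29277r IH) (path_nil s0_v3351))
theorem s0_f29287 : ed sl_at s0_v2043 = s0_v3354 :=
  rfl
theorem s0_f29287r : ed sl_af s0_v3354 = s0_v2043 :=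
  edge_flip (s0_f29287 IH)
theorem s0_f29288 : ed sl_af s0_v2043 = s0_v3354 :=
  gap_rel s0_rot66 (path_edge (s0_f29287r IH) (path_nil s0_v3354))
theorem s0_f29297 : ed sl_ft s0_v2043 = s0_v3356 :=
  rfl
theorem s0_f29297r : ed sl_ff s0_v3356 = s0_v2043 :=
  edge_flip (s0_f29297 IH)
theorem s0_f29301 : ed sl_ff s0_v2043 = s0_v3356 :=
  gap_rel s0_rot1 (path_edge (s0_f29297r IH) (path_nil s0_v3356))
theorem s0_f29417 : ed sl_at s0_v2058 = s0_v3378 :=
  rfl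
theorem s0_f29417r : ed sl_af s0_v3378 = s0_v2058 :=
  edge_flip (s0_f29417 IH)
theorem s0_f29418 : ed sl_af s0_v2058 = s0_v3378 :=
  gap_rel s0_rot66 (path_edge (s0_f29417r IH) (path_nil s0_v3378))
theorem s0_f22004r : ed sl_bf s0_v2058 = sq853 :=
  edge_flip (s0_f22004 IH)
theorem s0_f10600r : ed sl_af sq853 = sq578 :=
  edge_flip (s0_f10600 IH)
theorem s0_f6892r : ed sl_bf sq578 = sq392 :=
  edge_flip (s0_f6892 IH)
theorem s0_f6956r : ed sl_af sq392 = sq271 :=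
  edge_flip (s0_f6956 IH)
theorem s0_f5089r : ed sl_bf sq271 = sq407 :=
  edge_flip (s0_f5089 IH)
theorem s0_f29419 : ed sl_bf s0_v2535 = s0_v3378 :=
  gap_rel s0_rot93 (path_edge (s0_f24795 IH) (path_edge (s0_f20602 IH) (path_edge (s0_f10593 IH) (path_edge (s0_f5089r IH) (path_edge (s0_f6956r IH) (path_edge (s0_f6892r IH) (path_edge (s0_f10600r IH) (path_edge (s0_f22004r IH) (path_edge (s0_f29417r IH) (path_nil s0_v3378))))))))))
theorem s0_f29427 : ed sl_ft s0_v2058 = s0_v3380 :=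
  rfl
theorem s0_f29427r : ed sl_ff s0_v3380 = s0_v2058 :=
  edge_flip (s0_f29427 IH)
theorem s0_f29429 : ed sl_ff s0_v2058 = s0_v3380 :=
  gap_rel s0_rot1 (path_edge (s0_f29427r IH) (path_nil s0_v3380))
theorem s0_f29431 : ed sl_gt s0_v2058 = s0_v3381 :=
  rfl
theorem s0_f29663 : ed sl_at s0_v2085 = s0_v3423 :=
  rfl
theorem s0_f29663r : ed sl_af s0_v3423 = s0_v2085 :=
  edge_flip (s0_f29663 IH)
theorem s0_f29664 : ed sl_af s0_v2085 = s0_v3423 :=
  gap_rel s0_rot66 (path_edge (s0_f29663r IH) (path_nil s0_v3423))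
theorem s0_f22213r : ed sl_ef s0_v2085 = s0_v1812 :=
  edge_flip (s0_f22213 IH)
theorem s0_f29665 : ed sl_ef s0_v2454 = s0_v3423 :=
  gap_rel s0_rot102 (path_edge (s0_f24381 IH) (path_edge (s0_f22213r IH) (path_edge (s0_f29663r IH) (path_nil s0_v3423))))
theorem s0_f29665r : ed sl_et s0_v3423 = s0_v2454 :=
  edge_flip (s0_f29665 IH)
theorem s0_f29666 : ed sl_et s0_v2454 = s0_v3423 :=
  gap_rel s0_rot31 (path_edge (s0_f29665r IH) (path_nil s0_v3423))
theorem s0_f29671 : ed sl_ft s0_v2085 = s0_v3425 :=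
  rfl
theorem s0_f29671r : ed sl_ff s0_v3425 = s0_v2085 :=
  edge_flip (s0_f29671 IH)
theorem s0_f29674 : ed sl_ff s0_v2085 = s0_v3425 :=
  gap_rel s0_rot1 (path_edge (s0_f29671r IH) (path_nil s0_v3425))
theorem s0_f29674r : ed sl_ft s0_v3425 = s0_v2085 :=
  edge_flip (s0_f29674 IH)
theorem s0_f22211r : ed sl_bt s0_v2085 = sq872 :=
  edge_flip (s0_f22211 IH)
theorem s0_f29675 : ed sl_bt s0_v2109 = s0_v3425 :=
  gap_rel s0_rot12 (path_edge (s0_f22361 IH) (path_edge (s0_f1626 IH) (path_edge (s0_f1585 IH) (path_edge (s0_f22211r IH) (path_edge (s0_f29674r IH) (path_nil s0_v3425))))))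
theorem s0_f29763 : ed sl_at s0_v2096 = s0_v3442 :=
  rfl
theorem s0_f29763r : ed sl_af s0_v3442 = s0_v2096 :=
  edge_flip (s0_f29763 IH)
theorem s0_f29764 : ed sl_af s0_v2096 = s0_v3442 :=
  gap_rel s0_rot66 (path_edge (s0_f29763r IH) (path_nil s0_v3442))
theorem s0_f22295r : ed sl_ef s0_v2096 = sq881 :=
  edge_flip (s0_f22295 IH)
theorem s0_f29765 : ed sl_ef s0_v2098 = s0_v3442 :=
  gap_rel s0_rot102 (path_edge (s0_f22302 IH) (path_edge (s0_f22295r IH) (path_edge (s0_f29763r IH) (path_nil s0_v3442))))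
theorem s0_f29765r : ed sl_et s0_v3442 = s0_v2098 :=
  edge_flip (s0_f29765 IH)
theorem s0_f29766 : ed sl_et s0_v2098 = s0_v3442 :=
  gap_rel s0_rot31 (path_edge (s0_f29765r IH) (path_nil s0_v3442))
theorem s0_f29785 : ed sl_bt s0_v2098 = s0_v3447 :=
  rfl
theorem s0_f29785r : ed sl_bf s0_v3447 = s0_v2098 :=
  edge_flip (s0_f29785 IH)
theorem s0_f29786 : ed sl_bf s0_v2098 = s0_v3447 :=
  gap_rel s0_rot44 (path_edge (s0_f29785r IH) (path_nil s0_v3447))
theorem s0_f22305r : ed sl_df s0_v2098 = s0_v1992 :=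
  edge_flip (s0_f22305 IH)
theorem s0_f29787 : ed sl_df s0_v3279 = s0_v3447 :=
  gap_rel s0_rot8 (path_edge (s0_f28917 IH) (path_edge (s0_f22305r IH) (path_edge (s0_f29785r IH) (path_nil s0_v3447))))
theorem s0_f29787r : ed sl_dt s0_v3447 = s0_v3279 :=
  edge_flip (s0_f29787 IH)
theorem s0_f29788 : ed sl_dt s0_v3279 = s0_v3447 :=
  gap_rel s0_rot28 (path_edge (s0_f29787r IH) (path_nil s0_v3447))
theorem s0_f29943 : ed sl_bt s0_v2110 = s0_v3476 :=
  rfl
theorem s0_f29943r : ed sl_bf s0_v3476 = s0_v2110 :=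
  edge_flip (s0_f29943 IH)
theorem s0_f29944 : ed sl_bf s0_v2110 = s0_v3476 :=
  gap_rel s0_rot44 (path_edge (s0_f29943r IH) (path_nil s0_v3476))
theorem s0_f1626r : ed sl_bf sq890 = sq605 :=
  edge_flip (s0_f1626 IH)
theorem s0_f1594r : ed sl_gf sq605 = sq891 :=
  edge_flip (s0_f1594 IH)
theorem s0_f29946 : ed sl_gf s0_v2111 = s0_v3476 :=
  gap_rel s0_rot24 (path_edge (s0_f22371 IH) (path_edge (s0_f1594r IH) (path_edge (s0_f1626r IH) (path_edge (s0_f22365r IH) (path_edge (s0_f29943r IH) (path_nil s0_v3476))))))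
theorem s0_f29946r : ed sl_gt s0_v3476 = s0_v2111 :=
  edge_flip (s0_f29946 IH)
theorem s0_f29948 : ed sl_gt s0_v2111 = s0_v3476 :=
  gap_rel s0_rot25 (path_edge (s0_f29946r IH) (path_nil s0_v3476))
theorem s0_f29957 : ed sl_at s0_v2111 = s0_v3478 :=
  rfl
theorem s0_f29957r : ed sl_af s0_v3478 = s0_v2111 :=
  edge_flip (s0_f29957 IH)
theorem s0_f29958 : ed sl_af s0_v2111 = s0_v3478 :=
  gap_rel s0_rot66 (path_edge (s0_f29957r IH) (path_nil s0_v3478))
theorem s0_f29967 : ed sl_ft s0_v2111 = s0_v3480 :=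
  rfl
theorem s0_f29967r : ed sl_ff s0_v3480 = s0_v2111 :=
  edge_flip (s0_f29967 IH)
theorem s0_f29970 : ed sl_ff s0_v2111 = s0_v3480 :=
  gap_rel s0_rot1 (path_edge (s0_f29967r IH) (path_nil s0_v3480))
theorem s0_f29970r : ed sl_ft s0_v3480 = s0_v2111 :=
  edge_flip (s0_f29970 IH)
theorem s0_f22372r : ed sl_et s0_v2111 = s0_v1825 :=
  edge_flip (s0_f22372 IH)
theorem s0_f29972 : ed sl_et s0_v2485 = s0_v3480 :=
  gap_rel s0_rot37 (path_edge (s0_f24516 IH) (path_edge (s0_f22372r IH) (path_edge (s0_f29970r IH) (path_nil s0_v3480))))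
theorem s0_f30220 : ed sl_ct s0_v2147 = s0_v3526 :=
  rfl
theorem s0_f30220r : ed sl_cf s0_v3526 = s0_v2147 :=
  edge_flip (s0_f30220 IH)
theorem s0_f30221 : ed sl_cf s0_v2147 = s0_v3526 :=
  gap_rel s0_rot40 (path_edge (s0_f30220r IH) (path_nil s0_v3526))
theorem s0_f30228 : ed sl_bt s0_v2148 = s0_v3529 :=
  rfl
theorem s0_f30228r : ed sl_bf s0_v3529 = s0_v2148 :=
  edge_flip (s0_f30228 IH)
theorem s0_f30229 : ed sl_bf s0_v2148 = s0_v3529 :=
  gap_rel s0_rot44 (path_edge (s0_f30228r IH) (path_nil s0_v3529))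
theorem s0_f2441r : ed sl_ff sq920 = sq635 :=
  edge_flip (s0_f2441 IH)
theorem s0_f2440r : ed sl_af sq635 = sq429 :=
  edge_flip (s0_f2440 IH)
theorem s0_f2439r : ed sl_bf sq429 = sq285 :=
  edge_flip (s0_f2439 IH)
theorem s0_f2438r : ed sl_cf sq285 = sq183 :=
  edge_flip (s0_f2438 IH)
theorem s0_f2437r : ed sl_ff sq183 = sq119 :=
  edge_flip (s0_f2437 IH)
theorem s0_f2436r : ed sl_af sq119 = sq77 :=
  edge_flip (s0_f2436 IH)
theorem s0_f327r : ed sl_bf sq77 = sq48 :=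
  edge_flip (s0_f327 IH)
theorem s0_f2435r : ed sl_cf sq48 = sq83 :=
  edge_flip (s0_f2435 IH)
theorem s0_f1463r : ed sl_ff sq83 = sq132 :=
  edge_flip (s0_f1463 IH)
theorem s0_f867r : ed sl_bf sq142 = sq220 :=
  edge_flip (s0_f867 IH)
theorem s0_f1343r : ed sl_cf sq220 = sq336 :=
  edge_flip (s0_f1343 IH)
theorem s0_f1461r : ed sl_ff sq336 = sq499 :=
  edge_flip (s0_f1461 IH)
theorem s0_f1351r : ed sl_af sq499 = sq726 :=
  edge_flip (s0_f1351 IH)
theorem s0_f1057r : ed sl_bf sq726 = sq1048 :=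
  edge_flip (s0_f1057 IH)
theorem s0_f1067r : ed sl_cf sq1048 = sq1401 :=
  edge_flip (s0_f1067 IH)
theorem s0_f1337r : ed sl_ff sq1401 = sq1675 :=
  edge_flip (s0_f1337 IH)
theorem s0_f30230 : ed sl_af sq1675 = s0_v3529 :=
  gap_rel s0_rot120 (path_edge (s0_f1337r IH) (path_edge (s0_f1067r IH) (path_edge (s0_f1057r IH) (path_edge (s0_f1351r IH) (path_edge (s0_f1461r IH) (path_edge (s0_f1343r IH) (path_edge (s0_f867r IH) (path_edge (s0_f278 IH) (path_edge (s0_f1463r IH) (path_edge (s0_f2435r IH) (path_edge (s0_f327r IH) (path_edge (s0_f2436r IH) (path_edge (s0_f2437r IH) (path_edge (s0_f2438r IH) (path_edge (s0_f2439r IH) (path_edge (s0_f2440r IH) (path_edge (s0_f2441r IH) (path_edge (s0_f22650r IH) (path_edge (s0_f30228r IH) (path_nil s0_v3529))))))))))))))))))))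
theorem s0_f30274 : ed sl_gt s0_v2152 = s0_v3540 :=
  rfl
theorem s0_f30274r : ed sl_gf s0_v3540 = s0_v2152 :=
  edge_flip (s0_f30274 IH)
theorem s0_f30276 : ed sl_gf s0_v2152 = s0_v3540 :=
  gap_rel s0_rot76 (path_edge (s0_f30274r IH) (path_nil s0_v3540))
theorem s0_f30298 : ed sl_bt s0_v2155 = s0_v3544 :=
  rfl
theorem s0_f30298r : ed sl_bf s0_v3544 = s0_v2155 :=
  edge_flip (s0_f30298 IH)
theorem s0_f30299 : ed sl_bf s0_v2155 = s0_v3544 :=
  gap_rel s0_rot44 (path_edge (s0_f30298r IH) (path_nil s0_v3544))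
theorem s0_f30304 : ed sl_gt s0_v2155 = s0_v3546 :=
  rfl
theorem s0_f30304r : ed sl_gf s0_v3546 = s0_v2155 :=
  edge_flip (s0_f30304 IH)
theorem s0_f30305 : ed sl_af s0_v2157 = s0_v3546 :=
  gap_rel s0_rot78 (path_edge (s0_f22708 IH) (path_edge (s0_f22701r IH) (path_edge (s0_f30304r IH) (path_nil s0_v3546))))
theorem s0_f22702r : ed sl_at s0_v2155 = sq924 :=
  edge_flip (s0_f22702 IH)
theorem s0_f30307 : ed sl_ff s0_v3540 = s0_v3546 :=
  gap_rel s0_rot92 (path_edge (s0_f30276 IH) (path_edge (s0_f22687 IH) (path_edge (s0_f22702r IH) (path_edge (s0_f30304r IH) (path_nil s0_v3546)))))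
theorem s0_f30307r : ed sl_ft s0_v3546 = s0_v3540 :=
  edge_flip (s0_f30307 IH)
theorem s0_f30308 : ed sl_ft s0_v3540 = s0_v3546 :=
  gap_rel s0_rot16 (path_edge (s0_f30307r IH) (path_nil s0_v3546))
theorem s0_f30308r : ed sl_ff s0_v3546 = s0_v3540 :=
  edge_flip (s0_f30308 IH)
theorem s0_f10891r : ed sl_gf sq629 = sq430 :=
  edge_flip (s0_f10891 IH)
theorem s0_f5093r : ed sl_bf sq430 = sq286 :=
  edge_flip (s0_f5093 IH)
theorem s0_f5085r : ed sl_ff sq286 = sq303 :=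
  edge_flip (s0_f5085 IH)
theorem s0_f5164r : ed sl_gf sq303 = sq191 :=
  edge_flip (s0_f5164 IH)
theorem s0_f4190r : ed sl_bf sq191 = sq302 :=
  edge_flip (s0_f4190 IH)
theorem s0_f7335r : ed sl_ff sq302 = sq448 :=
  edge_flip (s0_f7335 IH)
theorem s0_f19002r : ed sl_gf sq448 = sq665 :=
  edge_flip (s0_f19002 IH)
theorem s0_f17638r : ed sl_bf sq665 = sq969 :=
  edge_flip (s0_f17638 IH)
theorem s0_f30310 : ed sl_bf s0_v2224 = s0_v3546 :=
  gap_rel s0_rot119 (path_edge (s0_f23093 IH) (path_edge (s0_f23089 IH) (path_edge (s0_f17638r IH) (path_edge (s0_f19002r IH) (path_edge (s0_f7335r IH) (path_edge (s0_f4190r IH) (path_edge (s0_f5164r IH) (path_edge (s0_f5085r IH) (path_edge (s0_f5093r IH) (path_edge (s0_f10891r IH) (path_edge (s0_f19003r IH) (path_edge (s0_f22685r IH) (path_edge (s0_f30274r IH) (path_edge (s0_f30308r IH) (path_nil s0_v3546)))))))))))))))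
theorem s0_f30310r : ed sl_bt s0_v3546 = s0_v2224 :=
  edge_flip (s0_f30310 IH)
theorem s0_f30311 : ed sl_bt s0_v2224 = s0_v3546 :=
  gap_rel s0_rot68 (path_edge (s0_f30310r IH) (path_nil s0_v3546))
theorem s0_f30299r : ed sl_bt s0_v3544 = s0_v2155 :=
  edge_flip (s0_f30299 IH)
theorem s0_f23093r : ed sl_gt s0_v2224 = s0_v2223 :=
  edge_flip (s0_f23093 IH)
theorem s0_f30312 : ed sl_gt s0_v2485 = s0_v3544 :=
  gap_rel s0_rot117 (path_edge (s0_f24519 IH) (path_edge (s0_f23093r IH) (path_edge (s0_f30310r IH) (path_edge (s0_f30304 IH) (path_edge (s0_f30299r IH) (path_nil s0_v3544))))))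
theorem s0_f30312r : ed sl_gf s0_v3544 = s0_v2485 :=
  edge_flip (s0_f30312 IH)
theorem s0_f30334 : ed sl_gf s0_v2485 = s0_v3544 :=
  gap_rel s0_rot76 (path_edge (s0_f30312r IH) (path_nil s0_v3544))
theorem s0_f30709 : ed sl_ft s0_v2194 = s0_v3629 :=
  rfl
theorem s0_f30709r : ed sl_ff s0_v3629 = s0_v2194 :=
  edge_flip (s0_f30709 IH)
theorem s0_f11217r : ed sl_ff sq948 = sq649 :=
  edge_flip (s0_f11217 IH)
theorem s0_f30710 : ed sl_bf s0_v2434 = s0_v3629 :=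
  gap_rel s0_rot104 (path_edge (s0_f24296 IH) (path_edge (s0_f20090 IH) (path_edge (s0_f11217r IH) (path_edge (s0_f22935r IH) (path_edge (s0_f30709r IH) (path_nil s0_v3629))))))
theorem s0_f30711 : ed sl_ff s0_v2194 = s0_v3629 :=
  gap_rel s0_rot1 (path_edge (s0_f30709r IH) (path_nil s0_v3629))
theorem s0_f30711r : ed sl_ft s0_v3629 = s0_v2194 :=
  edge_flip (s0_f30711 IH)
theorem s0_f22936r : ed sl_bt s0_v2194 = sq948 :=
  edge_flip (s0_f22936 IH)
theorem s0_f30712 : ed sl_bt s0_v2434 = s0_v3629 :=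
  gap_rel s0_rot12 (path_edge (s0_f24294 IH) (path_edge (s0_f20089 IH) (path_edge (s0_f19698 IH) (path_edge (s0_f22936r IH) (path_edge (s0_f30711r IH) (path_nil s0_v3629))))))
theorem s0_f30815 : ed sl_bt s0_v2205 = s0_v3651 :=
  rfl
theorem s0_f30815r : ed sl_bf s0_v3651 = s0_v2205 :=
  edge_flip (s0_f30815 IH)
theorem s0_f30816 : ed sl_bf s0_v2205 = s0_v3651 :=
  gap_rel s0_rot44 (path_edge (s0_f30815r IH) (path_nil s0_v3651))
theorem s0_f31095 : ed sl_ct s0_v2239 = s0_v3711 :=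
  rfl
theorem s0_f31095r : ed sl_cf s0_v3711 = s0_v2239 :=
  edge_flip (s0_f31095 IH)
theorem s0_f31096 : ed sl_cf s0_v2239 = s0_v3711 :=
  gap_rel s0_rot40 (path_edge (s0_f31095r IH) (path_nil s0_v3711))
theorem s0_f23209r : ed sl_df s0_v2239 = sq982 :=
  edge_flip (s0_f23209 IH)
theorem s0_f21697r : ed sl_cf sq681 = sq990 :=
  edge_flip (s0_f21697 IH)
theorem s0_f23211r : ed sl_df sq990 = sq1340 :=
  edge_flip (s0_f23211 IH)
theorem s0_f31097 : ed sl_df s0_v3197 = s0_v3711 :=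
  gap_rel s0_rot62 (path_edge (s0_f28432 IH) (path_edge (s0_f23211r IH) (path_edge (s0_f21697r IH) (path_edge (s0_f20351r IH) (path_edge (s0_f23180r IH) (path_edge (s0_f20825 IH) (path_edge (s0_f23209r IH) (path_edge (s0_f31095r IH) (path_nil s0_v3711)))))))))
theorem s0_f31097r : ed sl_dt s0_v3711 = s0_v3197 :=
  edge_flip (s0_f31097 IH)
theorem s0_f31098 : ed sl_dt s0_v3197 = s0_v3711 :=
  gap_rel s0_rot28 (path_edge (s0_f31097r IH) (path_nil s0_v3711))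
theorem s0_f31171 : ed sl_gt s0_v2246 = s0_v3730 :=
  rfl
theorem s0_f31171r : ed sl_gf s0_v3730 = s0_v2246 :=
  edge_flip (s0_f31171 IH)
theorem s0_f31172 : ed sl_af s0_v2248 = s0_v3730 :=
  gap_rel s0_rot78 (path_edge (s0_f23247 IH) (path_edge (s0_f23235r IH) (path_edge (s0_f31171r IH) (path_nil s0_v3730))))
theorem s0_f31175 : ed sl_bt s0_v2247 = s0_v3731 :=
  rfl
theorem s0_f31175r : ed sl_bf s0_v3731 = s0_v2247 :=
  edge_flip (s0_f31175 IH)
theorem s0_f7318r : ed sl_bf sq989 = sq681 :=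
  edge_flip (s0_f7318 IH)
theorem s0_f31177 : ed sl_ff s0_v2249 = s0_v3731 :=
  gap_rel s0_rot70 (path_edge (s0_f23251 IH) (path_edge (s0_f18998r IH) (path_edge (s0_f7318r IH) (path_edge (s0_f23244r IH) (path_edge (s0_f31175r IH) (path_nil s0_v3731))))))
theorem s0_f31177r : ed sl_ft s0_v3731 = s0_v2249 :=
  edge_flip (s0_f31177 IH)
theorem s0_f23251r : ed sl_bt s0_v2249 = sq991 :=
  edge_flip (s0_f23251 IH)
theorem s0_f31179 : ed sl_gt s0_v3629 = s0_v3731 :=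
  gap_rel s0_rot77 (path_edge (s0_f30712 IH) (path_edge (s0_f24294 IH) (path_edge (s0_f20093 IH) (path_edge (s0_f7593 IH) (path_edge (s0_f11184 IH) (path_edge (s0_f7259 IH) (path_edge (s0_f7534 IH) (path_edge (s0_f7279 IH) (path_edge (s0_f11298 IH) (path_edge (s0_f17631 IH) (path_edge (s0_f17727 IH) (path_edge (s0_f20094 IH) (path_edge (s0_f23251r IH) (path_edge (s0_f31177r IH) (path_nil s0_v3731)))))))))))))))
theorem s0_f31179r : ed sl_gf s0_v3731 = s0_v3629 :=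
  edge_flip (s0_f31179 IH)
theorem s0_f31181 : ed sl_gf s0_v3629 = s0_v3731 :=
  gap_rel s0_rot76 (path_edge (s0_f31179r IH) (path_nil s0_v3731))
theorem s0_f31181r : ed sl_gt s0_v3731 = s0_v3629 :=
  edge_flip (s0_f31181 IH)
theorem s0_f30710r : ed sl_bt s0_v3629 = s0_v2434 :=
  edge_flip (s0_f30710 IH)
theorem s0_f24297r : ed sl_gt s0_v2434 = s0_v2205 :=
  edge_flip (s0_f24297 IH)
theorem s0_f31188 : ed sl_gt s0_v3651 = s0_v2247 :=
  gap_rel s0_rot117 (path_edge (s0_f30815 IH) (path_edge (s0_f24297r IH) (path_edge (s0_f30710r IH) (path_edge (s0_f31181r IH) (path_edge (s0_f31175 IH) (path_nil s0_v2247))))))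
theorem s0_f23236r : ed sl_at s0_v2246 = sq989 :=
  edge_flip (s0_f23236 IH)
theorem s0_f31188r : ed sl_gf s0_v2247 = s0_v3651 :=
  edge_flip (s0_f31188 IH)
theorem s0_f31189 : ed sl_ff s0_v3651 = s0_v3730 :=
  gap_rel s0_rot92 (path_edge (s0_f31188r IH) (path_edge (s0_f23245 IH) (path_edge (s0_f23236r IH) (path_edge (s0_f31171r IH) (path_nil s0_v3730)))))
theorem s0_f31189r : ed sl_ft s0_v3730 = s0_v3651 :=
  edge_flip (s0_f31189 IH)
theorem s0_f31190 : ed sl_ft s0_v3651 = s0_v3730 :=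
  gap_rel s0_rot16 (path_edge (s0_f31189r IH) (path_nil s0_v3730))
theorem s0_f31191 : ed sl_ft s0_v2248 = s0_v3732 :=
  rfl
theorem s0_f31191r : ed sl_ff s0_v3732 = s0_v2248 :=
  edge_flip (s0_f31191 IH)
theorem s0_f31190r : ed sl_ff s0_v3730 = s0_v3651 :=
  edge_flip (s0_f31190 IH)
theorem s0_f31192 : ed sl_af s0_v3651 = s0_v3732 :=
  gap_rel s0_rot0 (path_edge (s0_f31190r IH) (path_edge (s0_f31172 IH) (path_edge (s0_f31191r IH) (path_nil s0_v3732))))
theorem s0_f31203 : ed sl_dt s0_v2250 = s0_v3735 :=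
  rfl
theorem s0_f31203r : ed sl_df s0_v3735 = s0_v2250 :=
  edge_flip (s0_f31203 IH)
theorem s0_f31206 : ed sl_df s0_v2250 = s0_v3735 :=
  gap_rel s0_rot54 (path_edge (s0_f31203r IH) (path_nil s0_v3735))
theorem s0_f31206r : ed sl_dt s0_v3735 = s0_v2250 :=
  edge_flip (s0_f31206 IH)
theorem s0_f31207 : ed sl_at s0_v3711 = s0_v3735 :=
  gap_rel s0_rot58 (path_edge (s0_f31098 IH) (path_edge (s0_f28433 IH) (path_edge (s0_f31206r IH) (path_nil s0_v3735))))
theorem s0_f23253r : ed sl_ct s0_v2250 = sq992 :=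
  edge_flip (s0_f23253 IH)
theorem s0_f31208 : ed sl_ct s0_v3172 = s0_v3735 :=
  gap_rel s0_rot110 (path_edge (s0_f28324 IH) (path_edge (s0_f23180 IH) (path_edge (s0_f20351 IH) (path_edge (s0_f21697 IH) (path_edge (s0_f23211 IH) (path_edge (s0_f28432r IH) (path_edge (s0_f31097r IH) (path_edge (s0_f31095 IH) (path_edge (s0_f23209 IH) (path_edge (s0_f10196 IH) (path_edge (s0_f10195 IH) (path_edge (s0_f7446 IH) (path_edge (s0_f7447 IH) (path_edge (s0_f23253r IH) (path_edge (s0_f31206r IH) (path_nil s0_v3735))))))))))))))))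
theorem s0_f31215 : ed sl_ct s0_v2253 = s0_v3738 :=
  rfl
theorem s0_f31215r : ed sl_cf s0_v3738 = s0_v2253 :=
  edge_flip (s0_f31215 IH)
theorem s0_f31216 : ed sl_cf s0_v2253 = s0_v3738 :=
  gap_rel s0_rot40 (path_edge (s0_f31215r IH) (path_nil s0_v3738))
theorem s0_f31275 : ed sl_gt s0_v2259 = s0_v3752 :=
  rfl
theorem s0_f31275r : ed sl_gf s0_v3752 = s0_v2259 :=
  edge_flip (s0_f31275 IH)
theorem s0_f31277 : ed sl_gf s0_v2259 = s0_v3752 :=
  gap_rel s0_rot76 (path_edge (s0_f31275r IH) (path_nil s0_v3752))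
theorem s0_f31277r : ed sl_gt s0_v3752 = s0_v2259 :=
  edge_flip (s0_f31277 IH)
theorem s0_f31278 : ed sl_et s0_v2260 = s0_v3752 :=
  gap_rel s0_rot49 (path_edge (s0_f23302 IH) (path_edge (s0_f23300r IH) (path_edge (s0_f31277r IH) (path_nil s0_v3752))))
theorem s0_f31279 : ed sl_bt s0_v2260 = s0_v3753 :=
  rfl
theorem s0_f31279r : ed sl_bf s0_v3753 = s0_v2260 :=
  edge_flip (s0_f31279 IH)
theorem s0_f31280 : ed sl_bf s0_v2260 = s0_v3753 :=
  gap_rel s0_rot44 (path_edge (s0_f31279r IH) (path_nil s0_v3753))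
theorem s0_f23302r : ed sl_gf s0_v2260 = sq996 :=
  edge_flip (s0_f23302 IH)
theorem s0_f7537r : ed sl_bf sq996 = sq691 :=
  edge_flip (s0_f7537 IH)
theorem s0_f31281 : ed sl_gf s0_v2511 = s0_v3753 :=
  gap_rel s0_rot24 (path_edge (s0_f24652 IH) (path_edge (s0_f20441 IH) (path_edge (s0_f7537r IH) (path_edge (s0_f23302r IH) (path_edge (s0_f31279r IH) (path_nil s0_v3753))))))
theorem s0_f31281r : ed sl_gt s0_v3753 = s0_v2511 :=
  edge_flip (s0_f31281 IH)
theorem s0_f31282 : ed sl_gt s0_v2511 = s0_v3753 :=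
  gap_rel s0_rot25 (path_edge (s0_f31281r IH) (path_nil s0_v3753))
theorem s0_f31283 : ed sl_ft s0_v2260 = s0_v3754 :=
  rfl
theorem s0_f31283r : ed sl_ff s0_v3754 = s0_v2260 :=
  edge_flip (s0_f31283 IH)
theorem s0_f31285 : ed sl_ff s0_v2260 = s0_v3754 :=
  gap_rel s0_rot1 (path_edge (s0_f31283r IH) (path_nil s0_v3754))
theorem s0_f32024 : ed sl_bt s0_v2359 = s0_v3920 :=
  rfl
theorem s0_f32024r : ed sl_bf s0_v3920 = s0_v2359 :=
  edge_flip (s0_f32024 IH)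
theorem s0_f32025 : ed sl_bf s0_v2359 = s0_v3920 :=
  gap_rel s0_rot44 (path_edge (s0_f32024r IH) (path_nil s0_v3920))
theorem s0_f32026 : ed sl_dt s0_v2359 = s0_v3921 :=
  rfl
theorem s0_f32026r : ed sl_df s0_v3921 = s0_v2359 :=
  edge_flip (s0_f32026 IH)
theorem s0_f23912r : ed sl_at s0_v2359 = s0_v1757 :=
  edge_flip (s0_f23912 IH)
theorem s0_f5090r : ed sl_cf sq407 = sq407 :=
  edge_flip (s0_f5090 IH)
theorem s0_f5091r : ed sl_df sq407 = sq603 :=
  edge_flip (s0_f5091 IH)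
theorem s0_f32029 : ed sl_cf s0_v2361 = s0_v3921 :=
  gap_rel s0_rot94 (path_edge (s0_f23924 IH) (path_edge (s0_f19820 IH) (path_edge (s0_f5091r IH) (path_edge (s0_f5090r IH) (path_edge (s0_f6513r IH) (path_edge (s0_f19819r IH) (path_edge (s0_f23912r IH) (path_edge (s0_f32026r IH) (path_nil s0_v3921)))))))))
theorem s0_f32066 : ed sl_ct s0_v2363 = s0_v3929 :=
  rfl
theorem s0_f32066r : ed sl_cf s0_v3929 = s0_v2363 :=
  edge_flip (s0_f32066 IH)
theorem s0_f32067 : ed sl_cf s0_v2363 = s0_v3929 :=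
  gap_rel s0_rot40 (path_edge (s0_f32066r IH) (path_nil s0_v3929))
theorem s0_f23934r : ed sl_ff s0_v2363 = s0_v1759 :=
  edge_flip (s0_f23934 IH)
theorem s0_f32068 : ed sl_ff s0_v2366 = s0_v3929 :=
  gap_rel s0_rot95 (path_edge (s0_f23948 IH) (path_edge (s0_f23934r IH) (path_edge (s0_f32066r IH) (path_nil s0_v3929))))
theorem s0_f32068r : ed sl_ft s0_v3929 = s0_v2366 :=
  edge_flip (s0_f32068 IH)
theorem s0_f32069 : ed sl_ft s0_v2366 = s0_v3929 :=
  gap_rel s0_rot16 (path_edge (s0_f32068r IH) (path_nil s0_v3929))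
theorem s0_f32082 : ed sl_ct s0_v2365 = s0_v3933 :=
  rfl
theorem s0_f32082r : ed sl_cf s0_v3933 = s0_v2365 :=
  edge_flip (s0_f32082 IH)
theorem s0_f32083 : ed sl_af s0_v2366 = s0_v3933 :=
  gap_rel s0_rot10 (path_edge (s0_f23948 IH) (path_edge (s0_f23943r IH) (path_edge (s0_f32082r IH) (path_nil s0_v3933))))
theorem s0_f32167 : ed sl_bt s0_v2373 = s0_v3948 :=
  rfl
theorem s0_f32167r : ed sl_bf s0_v3948 = s0_v2373 :=
  edge_flip (s0_f32167 IH)
theorem s0_f32168 : ed sl_bf s0_v2373 = s0_v3948 :=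
  gap_rel s0_rot44 (path_edge (s0_f32167r IH) (path_nil s0_v3948))
theorem s0_f19859r : ed sl_bf s0_v1762 = s0_v1085 :=
  edge_flip (s0_f19859 IH)
theorem s0_f32169 : ed sl_cf s0_v2617 = s0_v3948 :=
  gap_rel s0_rot27 (path_edge (s0_f25183 IH) (path_edge (s0_f20871 IH) (path_edge (s0_f19859r IH) (path_edge (s0_f23991r IH) (path_edge (s0_f32167r IH) (path_nil s0_v3948))))))
theorem s0_f32169r : ed sl_ct s0_v3948 = s0_v2617 :=
  edge_flip (s0_f32169 IH)
theorem s0_f32170 : ed sl_ct s0_v2617 = s0_v3948 :=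
  gap_rel s0_rot59 (path_edge (s0_f32169r IH) (path_nil s0_v3948))
theorem s0_f32187 : ed sl_bt s0_v2376 = s0_v3951 :=
  rfl
theorem s0_f32187r : ed sl_bf s0_v3951 = s0_v2376 :=
  edge_flip (s0_f32187 IH)
theorem s0_f32188 : ed sl_bf s0_v2376 = s0_v3951 :=
  gap_rel s0_rot44 (path_edge (s0_f32187r IH) (path_nil s0_v3951))
theorem s0_f24023r : ed sl_ef s0_v2376 = s0_v1839 :=
  edge_flip (s0_f24023 IH)
theorem s0_f32189 : ed sl_ef s0_v2511 = s0_v3951 :=
  gap_rel s0_rot46 (path_edge (s0_f24652 IH) (path_edge (s0_f24023r IH) (path_edge (s0_f32187r IH) (path_nil s0_v3951))))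
theorem s0_f32265 : ed sl_at s0_v2386 = s0_v3965 :=
  rfl
theorem s0_f32265r : ed sl_af s0_v3965 = s0_v2386 :=
  edge_flip (s0_f32265 IH)
theorem s0_f24094r : ed sl_ff s0_v2386 = s0_v1776 :=
  edge_flip (s0_f24094 IH)
theorem s0_f32267 : ed sl_ff s0_v2391 = s0_v3965 :=
  gap_rel s0_rot11 (path_edge (s0_f24114 IH) (path_edge (s0_f24094r IH) (path_edge (s0_f32265r IH) (path_nil s0_v3965))))
theorem s0_f32267r : ed sl_ft s0_v3965 = s0_v2391 :=
  edge_flip (s0_f32267 IH)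
theorem s0_f32268 : ed sl_ft s0_v2391 = s0_v3965 :=
  gap_rel s0_rot16 (path_edge (s0_f32267r IH) (path_nil s0_v3965))
theorem s0_f32273 : ed sl_gt s0_v2386 = s0_v3967 :=
  rfl
theorem s0_f32273r : ed sl_gf s0_v3967 = s0_v2386 :=
  edge_flip (s0_f32273 IH)
theorem s0_f32274 : ed sl_gf s0_v2386 = s0_v3967 :=
  gap_rel s0_rot76 (path_edge (s0_f32273r IH) (path_nil s0_v3967))
theorem s0_f32301 : ed sl_bt s0_v2391 = s0_v3976 :=
  rfl
theorem s0_f32301r : ed sl_bf s0_v3976 = s0_v2391 :=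
  edge_flip (s0_f32301 IH)
theorem s0_f32302 : ed sl_bf s0_v2391 = s0_v3976 :=
  gap_rel s0_rot44 (path_edge (s0_f32301r IH) (path_nil s0_v3976))
theorem s0_f32307 : ed sl_gt s0_v2391 = s0_v3978 :=
  rfl
theorem s0_f32307r : ed sl_gf s0_v3978 = s0_v2391 :=
  edge_flip (s0_f32307 IH)
theorem s0_f32309 : ed sl_gf s0_v2391 = s0_v3978 :=
  gap_rel s0_rot76 (path_edge (s0_f32307r IH) (path_nil s0_v3978))
theorem s0_f24114r : ed sl_at s0_v2391 = s0_v1776 :=
  edge_flip (s0_f24114 IH)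
theorem s0_f32310 : ed sl_ff s0_v3967 = s0_v3978 :=
  gap_rel s0_rot92 (path_edge (s0_f32274 IH) (path_edge (s0_f24093 IH) (path_edge (s0_f24114r IH) (path_edge (s0_f32307r IH) (path_nil s0_v3978)))))
theorem s0_f32310r : ed sl_ft s0_v3978 = s0_v3967 :=
  edge_flip (s0_f32310 IH)
theorem s0_f32311 : ed sl_ft s0_v3967 = s0_v3978 :=
  gap_rel s0_rot16 (path_edge (s0_f32310r IH) (path_nil s0_v3978))
theorem s0_f32311r : ed sl_ff s0_v3978 = s0_v3967 :=
  edge_flip (s0_f32311 IH)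
theorem s0_f32312 : ed sl_at s0_v2393 = s0_v3978 :=
  gap_rel s0_rot6 (path_edge (s0_f24119 IH) (path_edge (s0_f24094r IH) (path_edge (s0_f32273r IH) (path_edge (s0_f32311r IH) (path_nil s0_v3978)))))
theorem s0_f32312r : ed sl_af s0_v3978 = s0_v2393 :=
  edge_flip (s0_f32312 IH)
theorem s0_f24120r : ed sl_bf s0_v2393 = s0_v2157 :=
  edge_flip (s0_f24120 IH)
theorem s0_f30311r : ed sl_bf s0_v3546 = s0_v2224 :=
  edge_flip (s0_f30311 IH)
theorem s0_f23095r : ed sl_af s0_v2224 = sq972 :=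
  edge_flip (s0_f23095 IH)
theorem s0_f20092r : ed sl_bf sq972 = sq955 :=
  edge_flip (s0_f20092 IH)
theorem s0_f32313 : ed sl_bf s0_v3732 = s0_v3978 :=
  gap_rel s0_rot93 (path_edge (s0_f31192 IH) (path_edge (s0_f30816 IH) (path_edge (s0_f22992 IH) (path_edge (s0_f20092r IH) (path_edge (s0_f23095r IH) (path_edge (s0_f30311r IH) (path_edge (s0_f30305 IH) (path_edge (s0_f24120r IH) (path_edge (s0_f32312r IH) (path_nil s0_v3978))))))))))
theorem s0_f32313r : ed sl_bt s0_v3978 = s0_v3732 :=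
  edge_flip (s0_f32313 IH)
theorem s0_f32314 : ed sl_bt s0_v3732 = s0_v3978 :=
  gap_rel s0_rot68 (path_edge (s0_f32313r IH) (path_nil s0_v3978))
theorem s0_f32843 : ed sl_bt s0_v2454 = s0_v4098 :=
  rfl
theorem s0_f32843r : ed sl_bf s0_v4098 = s0_v2454 :=
  edge_flip (s0_f32843 IH)
theorem s0_f32845 : ed sl_bf s0_v2454 = s0_v4098 :=
  gap_rel s0_rot44 (path_edge (s0_f32843r IH) (path_nil s0_v4098))
theorem s0_f32851 : ed sl_ft s0_v2454 = s0_v4100 :=
  rfl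
theorem s0_f32851r : ed sl_ff s0_v4100 = s0_v2454 :=
  edge_flip (s0_f32851 IH)
theorem s0_f32853 : ed sl_ff s0_v2454 = s0_v4100 :=
  gap_rel s0_rot1 (path_edge (s0_f32851r IH) (path_nil s0_v4100))
theorem s0_f32853r : ed sl_ft s0_v4100 = s0_v2454 :=
  edge_flip (s0_f32853 IH)
theorem s0_f24381r : ed sl_at s0_v2454 = s0_v1812 :=
  edge_flip (s0_f24381 IH)
theorem s0_f32854 : ed sl_at s0_v2456 = s0_v4100 :=
  gap_rel s0_rot90 (path_edge (s0_f24384 IH) (path_edge (s0_f24381r IH) (path_edge (s0_f32853r IH) (path_nil s0_v4100))))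
theorem s0_f32855 : ed sl_gt s0_v2454 = s0_v4101 :=
  rfl
theorem s0_f32855r : ed sl_gf s0_v4101 = s0_v2454 :=
  edge_flip (s0_f32855 IH)
theorem s0_f32857 : ed sl_gf s0_v2454 = s0_v4101 :=
  gap_rel s0_rot76 (path_edge (s0_f32855r IH) (path_nil s0_v4101))
theorem s0_f32869 : ed sl_gt s0_v2456 = s0_v4105 :=
  rfl
theorem s0_f32869r : ed sl_gf s0_v4105 = s0_v2456 :=
  edge_flip (s0_f32869 IH)
theorem s0_f32870 : ed sl_gf s0_v2456 = s0_v4105 :=
  gap_rel s0_rot76 (path_edge (s0_f32869r IH) (path_nil s0_v4105))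
theorem s0_f32871 : ed sl_ff s0_v4101 = s0_v4105 :=
  gap_rel s0_rot92 (path_edge (s0_f32857 IH) (path_edge (s0_f32851r IH) (path_edge (s0_f32854 IH) (path_edge (s0_f32869r IH) (path_nil s0_v4105)))))
theorem s0_f32871r : ed sl_ft s0_v4105 = s0_v4101 :=
  edge_flip (s0_f32871 IH)
theorem s0_f32872 : ed sl_ft s0_v4101 = s0_v4105 :=
  gap_rel s0_rot16 (path_edge (s0_f32871r IH) (path_nil s0_v4105))
theorem s0_f32873 : ed sl_ft s0_v2457 = s0_v4106 :=
  rfl
theorem s0_f32873r : ed sl_ff s0_v4106 = s0_v2457 :=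
  edge_flip (s0_f32873 IH)
theorem s0_f32875 : ed sl_ff s0_v2457 = s0_v4106 :=
  gap_rel s0_rot1 (path_edge (s0_f32873r IH) (path_nil s0_v4106))
theorem s0_f24388r : ed sl_gf s0_v2457 = s0_v1812 :=
  edge_flip (s0_f24388 IH)
theorem s0_f32872r : ed sl_ff s0_v4105 = s0_v4101 :=
  edge_flip (s0_f32872 IH)
theorem s0_f32876 : ed sl_gf s0_v4100 = s0_v4106 :=
  gap_rel s0_rot19 (path_edge (s0_f32853 IH) (path_edge (s0_f32855r IH) (path_edge (s0_f32872r IH) (path_edge (s0_f32870 IH) (path_edge (s0_f24386 IH) (path_edge (s0_f24388r IH) (path_edge (s0_f32873r IH) (path_nil s0_v4106))))))))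
theorem s0_f32876r : ed sl_gt s0_v4106 = s0_v4100 :=
  edge_flip (s0_f32876 IH)
theorem s0_f32878 : ed sl_gt s0_v4100 = s0_v4106 :=
  gap_rel s0_rot25 (path_edge (s0_f32876r IH) (path_nil s0_v4106))
theorem s0_f32268r : ed sl_ff s0_v3965 = s0_v2391 :=
  edge_flip (s0_f32268 IH)
theorem s0_f32314r : ed sl_bf s0_v3978 = s0_v3732 :=
  edge_flip (s0_f32314 IH)
theorem s0_f20355r : ed sl_gf sq991 = sq988 :=
  edge_flip (s0_f20355 IH)
theorem s0_f23234r : ed sl_ff s0_v2245 = s0_v1826 :=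
  edge_flip (s0_f23234 IH)
theorem s0_f24527r : ed sl_bf s0_v2488 = s0_v2457 :=
  edge_flip (s0_f24527 IH)
theorem s0_f32878r : ed sl_gf s0_v4106 = s0_v4100 :=
  edge_flip (s0_f32878 IH)
theorem s0_f32879 : ed sl_bf s0_v4100 = s0_v3965 :=
  gap_rel s0_rot119 (path_edge (s0_f32878r IH) (path_edge (s0_f32875 IH) (path_edge (s0_f24527r IH) (path_edge (s0_f24526 IH) (path_edge (s0_f23234r IH) (path_edge (s0_f23232 IH) (path_edge (s0_f20355r IH) (path_edge (s0_f18998r IH) (path_edge (s0_f7318r IH) (path_edge (s0_f23246r IH) (path_edge (s0_f31191r IH) (path_edge (s0_f32314r IH) (path_edge (s0_f32309 IH) (path_edge (s0_f32268r IH) (path_nil s0_v3965)))))))))))))))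
theorem s0_f32302r : ed sl_bt s0_v3976 = s0_v2391 :=
  edge_flip (s0_f32302 IH)
theorem s0_f32879r : ed sl_bt s0_v3965 = s0_v4100 :=
  edge_flip (s0_f32879 IH)
theorem s0_f32881 : ed sl_ft s0_v4098 = s0_v3976 :=
  gap_rel s0_rot116 (path_edge (s0_f32843 IH) (path_edge (s0_f32853r IH) (path_edge (s0_f32879r IH) (path_edge (s0_f32268 IH) (path_edge (s0_f32302r IH) (path_nil s0_v3976))))))
theorem s0_f33250 : ed sl_ct s0_v2498 = s0_v4189 :=
  rfl
theorem s0_f33280 : ed sl_bt s0_v2501 = s0_v4195 :=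
  rfl
theorem s0_f33280r : ed sl_bf s0_v4195 = s0_v2501 :=
  edge_flip (s0_f33280 IH)
theorem s0_f33281 : ed sl_bf s0_v2501 = s0_v4195 :=
  gap_rel s0_rot44 (path_edge (s0_f33280r IH) (path_nil s0_v4195))
theorem s0_f24594r : ed sl_df s0_v2501 = s0_v2373 :=
  edge_flip (s0_f24594 IH)
theorem s0_f33282 : ed sl_df s0_v3948 = s0_v4195 :=
  gap_rel s0_rot8 (path_edge (s0_f32168 IH) (path_edge (s0_f24594r IH) (path_edge (s0_f33280r IH) (path_nil s0_v4195))))
theorem s0_f33282r : ed sl_dt s0_v4195 = s0_v3948 :=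
  edge_flip (s0_f33282 IH)
theorem s0_f33283 : ed sl_dt s0_v3948 = s0_v4195 :=
  gap_rel s0_rot28 (path_edge (s0_f33282r IH) (path_nil s0_v4195))
theorem s0_f33340 : ed sl_at s0_v2511 = s0_v4208 :=
  rfl
theorem s0_f33558 : ed sl_ft s0_v2535 = s0_v4251 :=
  rfl
theorem s0_f33558r : ed sl_ff s0_v4251 = s0_v2535 :=
  edge_flip (s0_f33558 IH)
theorem s0_f33561 : ed sl_ff s0_v2535 = s0_v4251 :=
  gap_rel s0_rot1 (path_edge (s0_f33558r IH) (path_nil s0_v4251))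
theorem s0_f33561r : ed sl_ft s0_v4251 = s0_v2535 :=
  edge_flip (s0_f33561 IH)
theorem s0_f24795r : ed sl_at s0_v2535 = s0_v1861 :=
  edge_flip (s0_f24795 IH)
theorem s0_f33562 : ed sl_at s0_v2537 = s0_v4251 :=
  gap_rel s0_rot90 (path_edge (s0_f24803 IH) (path_edge (s0_f24795r IH) (path_edge (s0_f33561r IH) (path_nil s0_v4251))))
theorem s0_f33564 : ed sl_gt s0_v2535 = s0_v4252 :=
  rfl
theorem s0_f33564r : ed sl_gf s0_v4252 = s0_v2535 :=
  edge_flip (s0_f33564 IH)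
theorem s0_f33567 : ed sl_gf s0_v2535 = s0_v4252 :=
  gap_rel s0_rot76 (path_edge (s0_f33564r IH) (path_nil s0_v4252))
theorem s0_f33591 : ed sl_gt s0_v2537 = s0_v4257 :=
  rfl
theorem s0_f33591r : ed sl_gf s0_v4257 = s0_v2537 :=
  edge_flip (s0_f33591 IH)
theorem s0_f33594 : ed sl_ff s0_v4252 = s0_v4257 :=
  gap_rel s0_rot92 (path_edge (s0_f33567 IH) (path_edge (s0_f33558r IH) (path_edge (s0_f33562 IH) (path_edge (s0_f33591r IH) (path_nil s0_v4257)))))
theorem s0_f33594r : ed sl_ft s0_v4257 = s0_v4252 :=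
  edge_flip (s0_f33594 IH)
theorem s0_f33596 : ed sl_ft s0_v4252 = s0_v4257 :=
  gap_rel s0_rot16 (path_edge (s0_f33594r IH) (path_nil s0_v4257))
theorem s0_f34179 : ed sl_ct s0_v2600 = s0_v4382 :=
  rfl
theorem s0_f34179r : ed sl_cf s0_v4382 = s0_v2600 :=
  edge_flip (s0_f34179 IH)
theorem s0_f34180 : ed sl_cf s0_v2600 = s0_v4382 :=
  gap_rel s0_rot40 (path_edge (s0_f34179r IH) (path_nil s0_v4382))
theorem s0_f34235 : ed sl_ct s0_v2606 = s0_v4398 :=
  rfl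
theorem s0_f34235r : ed sl_cf s0_v4398 = s0_v2606 :=
  edge_flip (s0_f34235 IH)
theorem s0_f34237 : ed sl_cf s0_v2606 = s0_v4398 :=
  gap_rel s0_rot40 (path_edge (s0_f34235r IH) (path_nil s0_v4398))
theorem s0_f20845r : ed sl_at s0_v1904 = s0_v1082 :=
  edge_flip (s0_f20845 IH)
theorem s0_f11374r : ed sl_cf s0_v1082 = s0_v492 :=
  edge_flip (s0_f11374 IH)
theorem s0_f34238 : ed sl_df s0_v4382 = s0_v4398 :=
  gap_rel s0_rot62 (path_edge (s0_f34180 IH) (path_edge (s0_f25106 IH) (path_edge (s0_f20824 IH) (path_edge (s0_f11263 IH) (path_edge (s0_f11374r IH) (path_edge (s0_f20845r IH) (path_edge (s0_f25128r IH) (path_edge (s0_f34235r IH) (path_nil s0_v4398)))))))))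
theorem s0_f34237r : ed sl_ct s0_v4398 = s0_v2606 :=
  edge_flip (s0_f34237 IH)
theorem s0_f25129r : ed sl_at s0_v2606 = s0_v1905 :=
  edge_flip (s0_f25129 IH)
theorem s0_f34240 : ed sl_at s0_v2609 = s0_v4398 :=
  gap_rel s0_rot64 (path_edge (s0_f25144 IH) (path_edge (s0_f25129r IH) (path_edge (s0_f34237r IH) (path_nil s0_v4398))))
theorem s0_f34261 : ed sl_bt s0_v2609 = s0_v4404 :=
  rfl
theorem s0_f34261r : ed sl_bf s0_v4404 = s0_v2609 :=
  edge_flip (s0_f34261 IH)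
theorem s0_f34262 : ed sl_bf s0_v2609 = s0_v4404 :=
  gap_rel s0_rot44 (path_edge (s0_f34261r IH) (path_nil s0_v4404))
theorem s0_f25144r : ed sl_cf s0_v2609 = s0_v1905 :=
  edge_flip (s0_f25144 IH)
theorem s0_f20851r : ed sl_bf s0_v1905 = s0_v1083 :=
  edge_flip (s0_f20851 IH)
theorem s0_f34263 : ed sl_cf s0_v2615 = s0_v4404 :=
  gap_rel s0_rot27 (path_edge (s0_f25174 IH) (path_edge (s0_f20862 IH) (path_edge (s0_f20851r IH) (path_edge (s0_f25144r IH) (path_edge (s0_f34261r IH) (path_nil s0_v4404))))))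
theorem s0_f34263r : ed sl_ct s0_v4404 = s0_v2615 :=
  edge_flip (s0_f34263 IH)
theorem s0_f34264 : ed sl_ct s0_v2615 = s0_v4404 :=
  gap_rel s0_rot59 (path_edge (s0_f34263r IH) (path_nil s0_v4404))
theorem s0_f35510 : ed sl_at sq1399 = s0_v4654 :=
  rfl
theorem s0_f35510r : ed sl_af s0_v4654 = sq1399 :=
  edge_flip (s0_f35510 IH)
theorem s0_f1118r : ed sl_cf sq1399 = sq1675 :=
  edge_flip (s0_f1118 IH)
theorem s0_f35512 : ed sl_cf s0_v3529 = s0_v4654 :=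
  gap_rel s0_rot74 (path_edge (s0_f30230 IH) (path_edge (s0_f1118r IH) (path_edge (s0_f35510r IH) (path_nil s0_v4654))))
theorem s0_f35514 : ed sl_ff s0_v2732 = s0_v4654 :=
  gap_rel s0_rot11 (path_edge (s0_f25703 IH) (path_edge (s0_f1097r IH) (path_edge (s0_f35510r IH) (path_nil s0_v4654))))
theorem s0_f35514r : ed sl_ft s0_v4654 = s0_v2732 :=
  edge_flip (s0_f35514 IH)
theorem s0_f35516 : ed sl_ft s0_v2732 = s0_v4654 :=
  gap_rel s0_rot16 (path_edge (s0_f35514r IH) (path_nil s0_v4654))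
theorem s0_f35512r : ed sl_ct s0_v4654 = s0_v3529 :=
  edge_flip (s0_f35512 IH)
theorem s0_f30229r : ed sl_bt s0_v3529 = s0_v2148 :=
  edge_flip (s0_f30229 IH)
theorem s0_f22652r : ed sl_ct s0_v2148 = sq920 :=
  edge_flip (s0_f22652 IH)

end

end

end Cfsg.Agent.Helper28.S1680
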