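import Cfsg.Agent.Lib.Helper28.S1680.Seeds12

set_option autoImplicit false
set_option maxRecDepth 100000
set_option linter.all false

namespace Cfsg.Agent.Helper28.S1680

open Cfsg.Agent.Helper28
open Cfsg.Spor.Suz (Gen)

noncomputable section

section
variable (IH : ∀ y q, lvl y q < 16 → EntryOK rels S fwd inv o plet idx y q)
include IH

theorem s0_f35517 : ed sl_bt s0_v3526 = s0_v4654 :=
  gap_rel s0_rot41 (path_edge (s0_f30220 IH) (path_edge (s0_f22643 IH) (path_edge (s0_f22652r IH) (path_edge (s0_f30229r IH) (path_edge (s0_f35512r IH) (path_nil s0_v4654))))))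
theorem s0_f35518 : ed sl_ct s0_v3529 = s0_v4654 :=
  gap_rel s0_rot59 (path_edge (s0_f35512r IH) (path_nil s0_v4654))
theorem s0_f35518r : ed sl_cf s0_v4654 = s0_v3529 :=
  edge_flip (s0_f35518 IH)
theorem s0_f35519 : ed sl_bf s0_v3526 = s0_v4654 :=
  gap_rel s0_rot61 (path_edge (s0_f30221 IH) (path_edge (s0_f22644 IH) (path_edge (s0_f22650r IH) (path_edge (s0_f30228r IH) (path_edge (s0_f35518r IH) (path_nil s0_v4654))))))
theorem s0_f35546 : ed sl_at sq1402 = s0_v4659 :=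
  rfl
theorem s0_f35546r : ed sl_af s0_v4659 = sq1402 :=
  edge_flip (s0_f35546 IH)
theorem s0_f35550 : ed sl_ft sq1676 = s0_v4659 :=
  gap_rel s0_rot107 (path_edge (s0_f1129 IH) (path_edge (s0_f1097 IH) (path_edge (s0_f1113 IH) (path_edge (s0_f35546r IH) (path_nil s0_v4659)))))
theorem s0_f35550r : ed sl_ff s0_v4659 = sq1676 :=
  edge_flip (s0_f35550 IH)
theorem s0_f35551 : ed sl_ff sq1676 = s0_v4659 :=
  gap_rel s0_rot1 (path_edge (s0_f35550r IH) (path_nil s0_v4659))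
theorem s0_f35551r : ed sl_ft s0_v4659 = sq1676 :=
  edge_flip (s0_f35551 IH)
theorem s0_f35553 : ed sl_gt s0_v2732 = s0_v4659 :=
  gap_rel s0_rot112 (path_edge (s0_f25703 IH) (path_edge (s0_f1128 IH) (path_edge (s0_f1121 IH) (path_edge (s0_f35551r IH) (path_nil s0_v4659)))))
theorem s0_f35560 : ed sl_ft sq1402 = s0_v4661 :=
  rfl
theorem s0_f35560r : ed sl_ff s0_v4661 = sq1402 :=
  edge_flip (s0_f35560 IH)
theorem s0_f35563 : ed sl_ff sq1402 = s0_v4661 :=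
  gap_rel s0_rot1 (path_edge (s0_f35560r IH) (path_nil s0_v4661))
theorem s0_f1101r : ed sl_gf sq1402 = sq1048 :=
  edge_flip (s0_f1101 IH)
theorem s0_f1128r : ed sl_ff sq1048 = sq1399 :=
  edge_flip (s0_f1128 IH)
theorem s0_f1121r : ed sl_gf sq1399 = sq1676 :=
  edge_flip (s0_f1121 IH)
theorem s0_f35553r : ed sl_gf s0_v4659 = s0_v2732 :=
  edge_flip (s0_f35553 IH)
theorem s0_f35564 : ed sl_gf s0_v4654 = s0_v4661 :=
  gap_rel s0_rot19 (path_edge (s0_f35514 IH) (path_edge (s0_f35553r IH) (path_edge (s0_f35551 IH) (path_edge (s0_f1121r IH) (path_edge (s0_f1128r IH) (path_edge (s0_f1101r IH) (path_edge (s0_f35560r IH) (path_nil s0_v4661))))))))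
theorem s0_f35564r : ed sl_gt s0_v4661 = s0_v4654 :=
  edge_flip (s0_f35564 IH)
theorem s0_f35567 : ed sl_gt s0_v4654 = s0_v4661 :=
  gap_rel s0_rot25 (path_edge (s0_f35564r IH) (path_nil s0_v4661))
theorem s0_f31282r : ed sl_gf s0_v3753 = s0_v2511 :=
  edge_flip (s0_f31282 IH)
theorem s0_f25635r : ed sl_ff s0_v2719 = sq1055 :=
  edge_flip (s0_f25635 IH)
theorem s0_f25746r : ed sl_bf s0_v2741 = sq1402 :=
  edge_flip (s0_f25746 IH)
theorem s0_f35567r : ed sl_gf s0_v4661 = s0_v4654 :=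
  edge_flip (s0_f35567 IH)
theorem s0_f35517r : ed sl_bf s0_v4654 = s0_v3526 :=
  edge_flip (s0_f35517 IH)
theorem s0_f35568 : ed sl_ff s0_v3526 = s0_v3753 :=
  gap_rel s0_rot139 (path_edge (s0_f35517r IH) (path_edge (s0_f35567r IH) (path_edge (s0_f35563 IH) (path_edge (s0_f25746r IH) (path_edge (s0_f25745 IH) (path_edge (s0_f25635r IH) (path_edge (s0_f25631 IH) (path_edge (s0_f21148 IH) (path_edge (s0_f21134 IH) (path_eq (s0_f21227 IH).symm (path_edge (s0_f20920 IH) (path_edge (s0_f20925r IH) (path_edge (s0_f20929 IH) (path_edge (s0_f24651r IH) (path_edge (s0_f31282r IH) (path_nil s0_v3753))))))))))))))))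
theorem s0_f35568r : ed sl_ft s0_v3753 = s0_v3526 :=
  edge_flip (s0_f35568 IH)
theorem s0_f35571 : ed sl_ft s0_v3526 = s0_v3753 :=
  gap_rel s0_rot16 (path_edge (s0_f35568r IH) (path_nil s0_v3753))
theorem s0_f30221r : ed sl_ct s0_v3526 = s0_v2147 :=
  edge_flip (s0_f30221 IH)
theorem s0_f22644r : ed sl_bt s0_v2147 = sq920 :=
  edge_flip (s0_f22644 IH)
theorem s0_f35572 : ed sl_at s0_v2837 = s0_v3753 :=
  gap_rel s0_rot71 (path_edge (s0_f26356 IH) (path_edge (s0_f18154 IH) (path_edge (s0_f18153 IH) (path_edge (s0_f18152 IH) (path_edge (s0_f17962 IH) (path_edge (s0_f4098 IH) (path_edge (s0_f6205 IH) (path_eq (s0_f16563 IH) (path_edge (s0_f10181 IH) (path_edge (s0_f18019 IH) (path_eq (s0_f16669 IH).symm (path_edge (s0_f10450 IH) (path_edge (s0_f18139 IH) (path_edge (s0_f10913 IH) (path_edge (s0_f10915 IH) (path_edge (s0_f3878 IH) (path_edge (s0_f11196 IH) (path_edge (s0_f18151 IH) (path_edge (s0_f22644r IH)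 (path_edge (s0_f30221r IH) (path_edge (s0_f35568r IH) (path_nil s0_v3753))))))))))))))))))))))
theorem s0_f33340r : ed sl_af s0_v4208 = s0_v2511 :=
  edge_flip (s0_f33340 IH)
theorem s0_f35572r : ed sl_af s0_v3753 = s0_v2837 :=
  edge_flip (s0_f35572 IH)
theorem s0_f35577 : ed sl_gf s0_v2837 = s0_v4208 :=
  gap_rel s0_rot47 (path_edge (s0_f35572r IH) (path_edge (s0_f31281 IH) (path_edge (s0_f33340r IH) (path_nil s0_v4208))))
theorem s0_f35577r : ed sl_gt s0_v4208 = s0_v2837 :=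
  edge_flip (s0_f35577 IH)
theorem s0_f35579 : ed sl_gt s0_v2837 = s0_v4208 :=
  gap_rel s0_rot25 (path_edge (s0_f35577r IH) (path_nil s0_v4208))
theorem s0_f35579r : ed sl_gf s0_v4208 = s0_v2837 :=
  edge_flip (s0_f35579 IH)
theorem s0_f26361r : ed sl_ef s0_v2837 = s0_v2035 :=
  edge_flip (s0_f26361 IH)
theorem s0_f35580 : ed sl_ef s0_v3341 = s0_v4208 :=
  gap_rel s0_rot36 (path_edge (s0_f29224 IH) (path_edge (s0_f26361r IH) (path_edge (s0_f35579r IH) (path_nil s0_v4208))))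
theorem s0_f32189r : ed sl_et s0_v3951 = s0_v2511 :=
  edge_flip (s0_f32189 IH)
theorem s0_f35580r : ed sl_et s0_v4208 = s0_v3341 :=
  edge_flip (s0_f35580 IH)
theorem s0_f35581 : ed sl_at s0_v3341 = s0_v3951 :=
  gap_rel s0_rot86 (path_edge (s0_f35580r IH) (path_edge (s0_f33340 IH) (path_edge (s0_f32189r IH) (path_nil s0_v3951))))
theorem s0_f35581r : ed sl_af s0_v3951 = s0_v3341 :=
  edge_flip (s0_f35581 IH)
theorem s0_f35583 : ed sl_gf s0_v3338 = s0_v3951 :=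
  gap_rel s0_rot47 (path_edge (s0_f29210 IH) (path_edge (s0_f29221r IH) (path_edge (s0_f35581r IH) (path_nil s0_v3951))))
theorem s0_f35583r : ed sl_gt s0_v3951 = s0_v3338 :=
  edge_flip (s0_f35583 IH)
theorem s0_f35586 : ed sl_gt s0_v3338 = s0_v3951 :=
  gap_rel s0_rot25 (path_edge (s0_f35583r IH) (path_nil s0_v3951))
theorem s0_f23301r : ed sl_bf s0_v2259 = s0_v1767 :=
  edge_flip (s0_f23301 IH)
theorem s0_f35586r : ed sl_gf s0_v3951 = s0_v3338 :=
  edge_flip (s0_f35586 IH)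
theorem s0_f35587 : ed sl_bf s0_v3338 = s0_v3752 :=
  gap_rel s0_rot75 (path_edge (s0_f35586r IH) (path_edge (s0_f32188 IH) (path_edge (s0_f24020 IH) (path_edge (s0_f23301r IH) (path_edge (s0_f31275r IH) (path_nil s0_v3752))))))
theorem s0_f35587r : ed sl_bt s0_v3752 = s0_v3338 :=
  edge_flip (s0_f35587 IH)
theorem s0_f29210r : ed sl_at s0_v3338 = s0_v2035 :=
  edge_flip (s0_f29210 IH)
theorem s0_f21825r : ed sl_bt s0_v2035 = sq808 :=
  edge_flip (s0_f21825 IH)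
theorem s0_f35588 : ed sl_at sq1502 = s0_v3752 :=
  gap_rel s0_rot82 (path_edge (s0_f17544 IH) (path_edge (s0_f17448 IH) (path_edge (s0_f17282 IH) (path_edge (s0_f10322 IH) (path_edge (s0_f3223 IH) (path_edge (s0_f17082 IH) (path_edge (s0_f21825r IH) (path_edge (s0_f29210r IH) (path_edge (s0_f35587r IH) (path_nil s0_v3752))))))))))
theorem s0_f35571r : ed sl_ff s0_v3753 = s0_v3526 :=
  edge_flip (s0_f35571 IH)
theorem s0_f35516r : ed sl_ff s0_v4654 = s0_v2732 :=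
  edge_flip (s0_f35516 IH)
theorem s0_f35682 : ed sl_bf s0_v2732 = s0_v3754 :=
  gap_rel s0_rot104 (path_edge (s0_f35516r IH) (path_edge (s0_f35519 IH) (path_edge (s0_f35571r IH) (path_edge (s0_f31280 IH) (path_edge (s0_f31283r IH) (path_nil s0_v3754))))))
theorem s0_f35682r : ed sl_bt s0_v3754 = s0_v2732 :=
  edge_flip (s0_f35682 IH)
theorem s0_f25704r : ed sl_et s0_v2732 = sq1360 :=
  edge_flip (s0_f25704 IH)
theorem s0_f35683 : ed sl_et s0_v3233 = s0_v3754 :=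
  gap_rel s0_rot35 (path_edge (s0_f28626 IH) (path_edge (s0_f25704r IH) (path_edge (s0_f35682r IH) (path_nil s0_v3754))))
theorem s0_f31278r : ed sl_ef s0_v3752 = s0_v2260 :=
  edge_flip (s0_f31278 IH)
theorem s0_f35683r : ed sl_ef s0_v3754 = s0_v3233 :=
  edge_flip (s0_f35683 IH)
theorem s0_f35685 : ed sl_ff s0_v3233 = s0_v3752 :=
  gap_rel s0_rot99 (path_edge (s0_f35683r IH) (path_edge (s0_f31285 IH) (path_edge (s0_f31278r IH) (path_nil s0_v3752))))
theorem s0_f35946 : ed sl_at sq1424 = s0_v4703 :=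
  rfl
theorem s0_f35946r : ed sl_af s0_v4703 = sq1424 :=
  edge_flip (s0_f35946 IH)
theorem s0_f1021r : ed sl_cf sq1424 = sq1685 :=
  edge_flip (s0_f1021 IH)
theorem s0_f1542r : ed sl_af sq1685 = sq1769 :=
  edge_flip (s0_f1542 IH)
theorem s0_f35948 : ed sl_cf sq1769 = s0_v4703 :=
  gap_rel s0_rot74 (path_edge (s0_f1542r IH) (path_edge (s0_f1021r IH) (path_edge (s0_f35946r IH) (path_nil s0_v4703))))
theorem s0_f1324r : ed sl_df sq1424 = sq1074 :=
  edge_flip (s0_f1324 IH)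
theorem s0_f35949 : ed sl_df s0_v2759 = s0_v4703 :=
  gap_rel s0_rot51 (path_edge (s0_f25853 IH) (path_edge (s0_f1324r IH) (path_edge (s0_f35946r IH) (path_nil s0_v4703))))
theorem s0_f35951 : ed sl_bt sq1768 = sq1647 :=
  real_edge rels S fwd inv o lvl plet idx 16 IH Gen.b sp1768 sp1647 rfl rfl
theorem s0_f35949r : ed sl_dt s0_v4703 = s0_v2759 :=
  edge_flip (s0_f35949 IH)
theorem s0_f35952 : ed sl_dt s0_v2759 = s0_v4703 :=
  gap_rel s0_rot28 (path_edge (s0_f35949r IH) (path_nil s0_v4703))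
theorem s0_f36407 : ed sl_at sq1462 = s0_v4788 :=
  rfl
theorem s0_f36407r : ed sl_af s0_v4788 = sq1462 :=
  edge_flip (s0_f36407 IH)
theorem s0_f36408 : ed sl_af sq1462 = s0_v4788 :=
  gap_rel s0_rot66 (path_edge (s0_f36407r IH) (path_nil s0_v4788))
theorem s0_f11379r : ed sl_cf sq1462 = sq1116 :=
  edge_flip (s0_f11379 IH)
theorem s0_f36409 : ed sl_cf s0_v2812 = s0_v4788 :=
  gap_rel s0_rot74 (path_edge (s0_f26214 IH) (path_edge (s0_f11379r IH) (path_edge (s0_f36407r IH) (path_nil s0_v4788))))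
theorem s0_f36415 : ed sl_et sq1462 = s0_v4790 :=
  rfl
theorem s0_f36415r : ed sl_ef s0_v4790 = sq1462 :=
  edge_flip (s0_f36415 IH)
theorem s0_f18328r : ed sl_bf sq1462 = sq1248 :=
  edge_flip (s0_f18328 IH)
theorem s0_f27358r : ed sl_ef sq1248 = sq1584 :=
  edge_flip (s0_f27358 IH)
theorem s0_f36416 : ed sl_bf sq1584 = s0_v4790 :=
  gap_rel s0_rot23 (path_edge (s0_f27358r IH) (path_edge (s0_f18328r IH) (path_edge (s0_f36415r IH) (path_nil s0_v4790))))
theorem s0_f36418 : ed sl_ef sq1462 = s0_v4790 :=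
  gap_rel s0_rot34 (path_edge (s0_f36415r IH) (path_nil s0_v4790))
theorem s0_f36877 : ed sl_ct sq1502 = s0_v4871 :=
  rfl
theorem s0_f36877r : ed sl_cf s0_v4871 = sq1502 :=
  edge_flip (s0_f36877 IH)
theorem s0_f17544r : ed sl_bf sq1502 = sq1153 :=
  edge_flip (s0_f17544 IH)
theorem s0_f36878 : ed sl_bf sq1671 = s0_v4871 :=
  gap_rel s0_rot61 (path_edge (s0_f3433r IH) (path_edge (s0_f26468r IH) (path_edge (s0_f26465 IH) (path_edge (s0_f17544r IH) (path_edge (s0_f36877r IH) (path_nil s0_v4871))))))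
theorem s0_f36881 : ed sl_ft sq1502 = s0_v4872 :=
  rfl
theorem s0_f36881r : ed sl_ff s0_v4872 = sq1502 :=
  edge_flip (s0_f36881 IH)
theorem s0_f36886 : ed sl_ff sq1502 = s0_v4872 :=
  gap_rel s0_rot1 (path_edge (s0_f36881r IH) (path_nil s0_v4872))
theorem s0_f36886r : ed sl_ft s0_v4872 = sq1502 :=
  edge_flip (s0_f36886 IH)
theorem s0_f35685r : ed sl_ft s0_v3752 = s0_v3233 :=
  edge_flip (s0_f35685 IH)
theorem s0_f36891 : ed sl_at s0_v3233 = s0_v4872 :=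
  gap_rel s0_rot90 (path_edge (s0_f35685r IH) (path_edge (s0_f35588 IH) (path_edge (s0_f36886r IH) (path_nil s0_v4872))))
theorem s0_f36893 : ed sl_at sq1503 = s0_v4873 :=
  rfl
theorem s0_f36893r : ed sl_af s0_v4873 = sq1503 :=
  edge_flip (s0_f36893 IH)
theorem s0_f18757r : ed sl_ff sq1503 = sq1716 :=
  edge_flip (s0_f18757 IH)
theorem s0_f18752r : ed sl_af sq1716 = sq1524 :=
  edge_flip (s0_f18752 IH)
theorem s0_f36896 : ed sl_ff sq1524 = s0_v4873 :=
  gap_rel s0_rot11 (path_edge (s0_f18752r IH) (path_edge (s0_f18757r IH) (path_edge (s0_f36893r IH) (path_nil s0_v4873))))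
theorem s0_f36896r : ed sl_ft s0_v4873 = sq1524 :=
  edge_flip (s0_f36896 IH)
theorem s0_f36897 : ed sl_bt sq1529 = s0_v4873 :=
  gap_rel s0_rot12 (path_edge (s0_f3437 IH) (path_edge (s0_f3060 IH) (path_edge (s0_f3377 IH) (path_edge (s0_f3397 IH) (path_edge (s0_f36896r IH) (path_nil s0_v4873))))))
theorem s0_f36898 : ed sl_dt s0_v2853 = s0_v4873 :=
  gap_rel s0_rot29 (path_edge (s0_f26469 IH) (path_edge (s0_f3389 IH) (path_edge (s0_f36896r IH) (path_nil s0_v4873))))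
theorem s0_f37270 : ed sl_ft sq1528 = s0_v4935 :=
  rfl
theorem s0_f37270r : ed sl_ff s0_v4935 = sq1528 :=
  edge_flip (s0_f37270 IH)
theorem s0_f3444r : ed sl_cf sq1528 = sq1178 :=
  edge_flip (s0_f3444 IH)
theorem s0_f3420r : ed sl_ff sq1178 = sq1529 :=
  edge_flip (s0_f3420 IH)
theorem s0_f37272 : ed sl_cf sq1529 = s0_v4935 :=
  gap_rel s0_rot65 (path_edge (s0_f3420r IH) (path_edge (s0_f3444r IH) (path_edge (s0_f37270r IH) (path_nil s0_v4935))))
theorem s0_f37273 : ed sl_ff sq1528 = s0_v4935 :=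
  gap_rel s0_rot1 (path_edge (s0_f37270r IH) (path_nil s0_v4935))
theorem s0_f37273r : ed sl_ft s0_v4935 = sq1528 :=
  edge_flip (s0_f37273 IH)
theorem s0_f37275 : ed sl_ct sq1529 = s0_v4935 :=
  gap_rel s0_rot42 (path_edge (s0_f3437 IH) (path_edge (s0_f3386 IH) (path_edge (s0_f37273r IH) (path_nil s0_v4935))))
theorem s0_f37314 : ed sl_dt sq1531 = s0_v4941 :=
  rfl
theorem s0_f37314r : ed sl_df s0_v4941 = sq1531 :=
  edge_flip (s0_f37314 IH)
theorem s0_f3411r : ed sl_bf sq1531 = sq1179 :=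
  edge_flip (s0_f3411 IH)
theorem s0_f3373r : ed sl_df sq1179 = sq1532 :=
  edge_flip (s0_f3373 IH)
theorem s0_f37315 : ed sl_bf sq1532 = s0_v4941 :=
  gap_rel s0_rot103 (path_edge (s0_f3373r IH) (path_edge (s0_f3411r IH) (path_edge (s0_f37314r IH) (path_nil s0_v4941))))
theorem s0_f37769 : ed sl_et sq1573 = s0_v5024 :=
  rfl
theorem s0_f37769r : ed sl_ef s0_v5024 = sq1573 :=
  edge_flip (s0_f37769 IH)
theorem s0_f37772 : ed sl_ef sq1573 = s0_v5024 :=
  gap_rel s0_rot34 (path_edge (s0_f37769r IH) (path_nil s0_v5024))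
theorem s0_f37772r : ed sl_et s0_v5024 = sq1573 :=
  edge_flip (s0_f37772 IH)
theorem s0_f37773 : ed sl_bt s0_v2952 = s0_v5024 :=
  gap_rel s0_rot108 (path_edge (s0_f27094 IH) (path_edge (s0_f7390 IH) (path_edge (s0_f37772r IH) (path_nil s0_v5024))))
theorem s0_f37775 : ed sl_ft sq1573 = s0_v5025 :=
  rfl
theorem s0_f37853 : ed sl_dt sq1580 = s0_v5038 :=
  rfl
theorem s0_f37853r : ed sl_df s0_v5038 = sq1580 :=
  edge_flip (s0_f37853 IH)
theorem s0_f37855 : ed sl_df sq1580 = s0_v5038 :=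
  gap_rel s0_rot54 (path_edge (s0_f37853r IH) (path_nil s0_v5038))
theorem s0_f37855r : ed sl_dt s0_v5038 = sq1580 :=
  edge_flip (s0_f37855 IH)
theorem s0_f37856 : ed sl_at s0_v2976 = s0_v5038 :=
  gap_rel s0_rot58 (path_edge (s0_f27263 IH) (path_edge (s0_f27133 IH) (path_edge (s0_f37855r IH) (path_nil s0_v5038))))
theorem s0_f38028 : ed sl_at sq1594 = s0_v5072 :=
  rfl
theorem s0_f38028r : ed sl_af s0_v5072 = sq1594 :=
  edge_flip (s0_f38028 IH)
theorem s0_f6976r : ed sl_df sq1594 = sq1261 :=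
  edge_flip (s0_f6976 IH)
theorem s0_f18124r : ed sl_af sq1261 = sq1595 :=
  edge_flip (s0_f18124 IH)
theorem s0_f38030 : ed sl_df sq1595 = s0_v5072 :=
  gap_rel s0_rot51 (path_edge (s0_f18124r IH) (path_edge (s0_f6976r IH) (path_edge (s0_f38028r IH) (path_nil s0_v5072))))
theorem s0_f38302 : ed sl_dt sq1614 = s0_v5122 :=
  rfl
theorem s0_f38302r : ed sl_df s0_v5122 = sq1614 :=
  edge_flip (s0_f38302 IH)
theorem s0_f23113r : ed sl_bf sq1614 = sq1309 :=
  edge_flip (s0_f23113 IH)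
theorem s0_f22114r : ed sl_df sq1309 = sq1618 :=
  edge_flip (s0_f22114 IH)
theorem s0_f38303 : ed sl_bf sq1618 = s0_v5122 :=
  gap_rel s0_rot103 (path_edge (s0_f22114r IH) (path_edge (s0_f23113r IH) (path_edge (s0_f38302r IH) (path_nil s0_v5122))))
theorem s0_f38304 : ed sl_df sq1614 = s0_v5122 :=
  gap_rel s0_rot54 (path_edge (s0_f38302r IH) (path_nil s0_v5122))
theorem s0_f38359 : ed sl_ct sq1618 = s0_v5135 :=
  rfl
theorem s0_f38359r : ed sl_cf s0_v5135 = sq1618 :=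
  edge_flip (s0_f38359 IH)
theorem s0_f27740r : ed sl_ff sq1618 = sq1325 :=
  edge_flip (s0_f27740 IH)
theorem s0_f38361 : ed sl_ff s0_v3154 = s0_v5135 :=
  gap_rel s0_rot95 (path_edge (s0_f28240 IH) (path_edge (s0_f27740r IH) (path_edge (s0_f38359r IH) (path_nil s0_v5135))))
theorem s0_f38361r : ed sl_ft s0_v5135 = s0_v3154 :=
  edge_flip (s0_f38361 IH)
theorem s0_f38362 : ed sl_ft s0_v3154 = s0_v5135 :=
  gap_rel s0_rot16 (path_edge (s0_f38361r IH) (path_nil s0_v5135))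
theorem s0_f38541 : ed sl_ct sq1628 = s0_v5173 :=
  rfl
theorem s0_f38541r : ed sl_cf s0_v5173 = sq1628 :=
  edge_flip (s0_f38541 IH)
theorem s0_f17729r : ed sl_af sq1628 = sq1336 :=
  edge_flip (s0_f17729 IH)
theorem s0_f38542 : ed sl_af s0_v3185 = s0_v5173 :=
  gap_rel s0_rot10 (path_edge (s0_f28389 IH) (path_edge (s0_f17729r IH) (path_edge (s0_f38541r IH) (path_nil s0_v5173))))
theorem s0_f28425r : ed sl_gf sq1628 = sq1340 :=
  edge_flip (s0_f28425 IH)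
theorem s0_f38544 : ed sl_gf s0_v3197 = s0_v5173 :=
  gap_rel s0_rot5 (path_edge (s0_f28432 IH) (path_edge (s0_f28425r IH) (path_edge (s0_f38541r IH) (path_nil s0_v5173))))
theorem s0_f38579 : ed sl_bt sq1631 = s0_v5183 :=
  rfl
theorem s0_f38579r : ed sl_bf s0_v5183 = sq1631 :=
  edge_flip (s0_f38579 IH)
theorem s0_f23586r : ed sl_cf sq1631 = sq1345 :=
  edge_flip (s0_f23586 IH)
theorem s0_f858r : ed sl_bf sq743 = sq507 :=
  edge_flip (s0_f858 IH)
theorem s0_f1012r : ed sl_cf sq507 = sq726 :=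
  edge_flip (s0_f1012 IH)
theorem s0_f1032r : ed sl_af sq497 = sq336 :=
  edge_flip (s0_f1032 IH)
theorem s0_f1458r : ed sl_bf sq336 = sq216 :=
  edge_flip (s0_f1458 IH)
theorem s0_f503r : ed sl_cf sq216 = sq139 :=
  edge_flip (s0_f503 IH)
theorem s0_f294r : ed sl_ff sq139 = sq217 :=
  edge_flip (s0_f294 IH)
theorem s0_f4883r : ed sl_bf sq244 = sq371 :=
  edge_flip (s0_f4883 IH)
theorem s0_f4884r : ed sl_cf sq371 = sq546 :=
  edge_flip (s0_f4884 IH)
theorem s0_f18338r : ed sl_af sq766 = sq832 :=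
  edge_flip (s0_f18338 IH)
theorem s0_f38583 : ed sl_af s0_v3356 = s0_v5183 :=
  gap_rel s0_rot120 (path_edge (s0_f29301 IH) (path_edge (s0_f21881 IH) (path_edge (s0_f18021r IH) (path_edge (s0_f18338r IH) (path_edge (s0_f6730r IH) (path_edge (s0_f4884r IH) (path_edge (s0_f4883r IH) (path_eq (s0_f16180 IH).symm (path_eq (s0_f15150 IH).symm (path_eq (s0_f16379 IH).symm (path_edge (s0_f6247 IH) (path_edge (s0_f294r IH) (path_edge (s0_f503r IH) (path_edge (s0_f1458r IH) (path_edge (s0_f1032r IH) (path_edge (s0_f1051r IH) (path_edge (s0_f1012r IH) (path_edge (s0_f858r IH) (path_edge (s0_f21424r IH) (path_edge (s0_f23582 IH) (path_edge (s0_f23586r IH) (path_edge (s0_f38579r IH) (path_nil s0_v5183)))))))))))))))))))))))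
theorem s0_f38583r : ed sl_at s0_v5183 = s0_v3356 :=
  edge_flip (s0_f38583 IH)
theorem s0_f29301r : ed sl_ft s0_v3356 = s0_v2043 :=
  edge_flip (s0_f29301 IH)
theorem s0_f38587 : ed sl_ft s0_v3354 = s0_v5183 :=
  gap_rel s0_rot118 (path_edge (s0_f29287 IH) (path_edge (s0_f29301r IH) (path_edge (s0_f38583r IH) (path_nil s0_v5183))))
theorem s0_f38587r : ed sl_ff s0_v5183 = s0_v3354 :=
  edge_flip (s0_f38587 IH)
theorem s0_f38588 : ed sl_ff s0_v3354 = s0_v5183 :=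
  gap_rel s0_rot1 (path_edge (s0_f38587r IH) (path_nil s0_v5183))
theorem s0_f38779 : ed sl_et sq1641 = s0_v5222 :=
  rfl
theorem s0_f38779r : ed sl_ef s0_v5222 = sq1641 :=
  edge_flip (s0_f38779 IH)
theorem s0_f21243r : ed sl_bf sq1641 = sq1354 :=
  edge_flip (s0_f21243 IH)
theorem s0_f38780 : ed sl_bf s0_v2759 = s0_v5222 :=
  gap_rel s0_rot23 (path_edge (s0_f25855 IH) (path_edge (s0_f21243r IH) (path_edge (s0_f38779r IH) (path_nil s0_v5222))))
theorem s0_f38797 : ed sl_ft sq1644 = s0_v5226 :=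
  rfl
theorem s0_f38797r : ed sl_ff s0_v5226 = sq1644 :=
  edge_flip (s0_f38797 IH)
theorem s0_f38802 : ed sl_ff sq1644 = s0_v5226 :=
  gap_rel s0_rot1 (path_edge (s0_f38797r IH) (path_nil s0_v5226))
theorem s0_f38802r : ed sl_ft s0_v5226 = sq1644 :=
  edge_flip (s0_f38802 IH)
theorem s0_f38803 : ed sl_at s0_v3230 = s0_v5226 :=
  gap_rel s0_rot90 (path_edge (s0_f28604 IH) (path_edge (s0_f1174 IH) (path_edge (s0_f38802r IH) (path_nil s0_v5226))))
theorem s0_f38813 : ed sl_ct sq1645 = s0_v5228 :=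
  rfl
theorem s0_f38813r : ed sl_cf s0_v5228 = sq1645 :=
  edge_flip (s0_f38813 IH)
theorem s0_f38814 : ed sl_cf sq1645 = s0_v5228 :=
  gap_rel s0_rot40 (path_edge (s0_f38813r IH) (path_nil s0_v5228))
theorem s0_f38871 : ed sl_at sq1651 = s0_v5241 :=
  rfl
theorem s0_f38871r : ed sl_af s0_v5241 = sq1651 :=
  edge_flip (s0_f38871 IH)
theorem s0_f38872 : ed sl_af sq1651 = s0_v5241 :=
  gap_rel s0_rot66 (path_edge (s0_f38871r IH) (path_nil s0_v5241))
theorem s0_f1213r : ed sl_cf sq1651 = sq1365 :=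
  edge_flip (s0_f1213 IH)
theorem s0_f38873 : ed sl_cf s0_v3239 = s0_v5241 :=
  gap_rel s0_rot74 (path_edge (s0_f28668 IH) (path_edge (s0_f1213r IH) (path_edge (s0_f38871r IH) (path_nil s0_v5241))))
theorem s0_f38875 : ed sl_ft sq1651 = s0_v5242 :=
  rfl
theorem s0_f38875r : ed sl_ff s0_v5242 = sq1651 :=
  edge_flip (s0_f38875 IH)
theorem s0_f1215r : ed sl_bf sq1651 = sq1358 :=
  edge_flip (s0_f1215 IH)
theorem s0_f1193r : ed sl_ff sq1358 = sq1008 :=
  edge_flip (s0_f1193 IH)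
theorem s0_f1320r : ed sl_bf sq1008 = sq1356 :=
  edge_flip (s0_f1320 IH)
theorem s0_f38876 : ed sl_bf s0_v3230 = s0_v5242 :=
  gap_rel s0_rot104 (path_edge (s0_f28607 IH) (path_edge (s0_f1320r IH) (path_edge (s0_f1193r IH) (path_edge (s0_f1215r IH) (path_edge (s0_f38875r IH) (path_nil s0_v5242))))))
theorem s0_f38878 : ed sl_ff sq1651 = s0_v5242 :=
  gap_rel s0_rot1 (path_edge (s0_f38875r IH) (path_nil s0_v5242))
theorem s0_f38878r : ed sl_ft s0_v5242 = sq1651 :=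
  edge_flip (s0_f38878 IH)
theorem s0_f38880 : ed sl_ct s0_v3237 = s0_v5242 :=
  gap_rel s0_rot42 (path_edge (s0_f28658 IH) (path_edge (s0_f1290 IH) (path_edge (s0_f38878r IH) (path_nil s0_v5242))))
theorem s0_f39457 : ed sl_at s0_v2765 = s0_v5351 :=
  rfl
theorem s0_f39457r : ed sl_af s0_v5351 = s0_v2765 :=
  edge_flip (s0_f39457 IH)
theorem s0_f25908r : ed sl_ff s0_v2765 = sq1085 :=
  edge_flip (s0_f25908 IH)
theorem s0_f39460 : ed sl_ff s0_v2768 = s0_v5351 :=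
  gap_rel s0_rot11 (path_edge (s0_f25922 IH) (path_edge (s0_f25908r IH) (path_edge (s0_f39457r IH) (path_nil s0_v5351))))
theorem s0_f39863 : ed sl_ft s0_v2812 = s0_v5430 :=
  rfl
theorem s0_f39901 : ed sl_bt s0_v2816 = s0_v5436 :=
  rfl
theorem s0_f39901r : ed sl_bf s0_v5436 = s0_v2816 :=
  edge_flip (s0_f39901 IH)
theorem s0_f19490r : ed sl_bf sq1117 = sq777 :=
  edge_flip (s0_f19490 IH)
theorem s0_f18875r : ed sl_af sq777 = sq533 :=
  edge_flip (s0_f18875 IH)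
theorem s0_f2331r : ed sl_bf sq533 = sq361 :=
  edge_flip (s0_f2331 IH)
theorem s0_f4121r : ed sl_af sq361 = sq515 :=
  edge_flip (s0_f4121 IH)
theorem s0_f524r : ed sl_bf sq515 = sq753 :=
  edge_flip (s0_f524 IH)
theorem s0_f39902 : ed sl_af s0_v3279 = s0_v5436 :=
  gap_rel s0_rot114 (path_edge (s0_f28917 IH) (path_edge (s0_f21482 IH) (path_edge (s0_f524r IH) (path_edge (s0_f4121r IH) (path_edge (s0_f2331r IH) (path_edge (s0_f18875r IH) (path_edge (s0_f19490r IH) (path_edge (s0_f26234r IH) (path_edge (s0_f39901r IH) (path_nil s0_v5436))))))))))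
theorem s0_f26497r : ed sl_cf s0_v2816 = sq1416 :=
  edge_flip (s0_f26497 IH)
theorem s0_f17706r : ed sl_cf sq1065 = sq1417 :=
  edge_flip (s0_f17706 IH)
theorem s0_f17682r : ed sl_bf sq1417 = sq1680 :=
  edge_flip (s0_f17682 IH)
theorem s0_f39904 : ed sl_cf sq1680 = s0_v5436 :=
  gap_rel s0_rot27 (path_edge (s0_f17682r IH) (path_edge (s0_f17706r IH) (path_edge (s0_f11785r IH) (path_edge (s0_f26497r IH) (path_edge (s0_f39901r IH) (path_nil s0_v5436))))))
theorem s0_f40657 : ed sl_bt s0_v2908 = s0_v5573 :=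
  rfl
theorem s0_f40657r : ed sl_bf s0_v5573 = s0_v2908 :=
  edge_flip (s0_f40657 IH)
theorem s0_f26812r : ed sl_ef s0_v2908 = s0_v2391 :=
  edge_flip (s0_f26812 IH)
theorem s0_f40659 : ed sl_ef s0_v3976 = s0_v5573 :=
  gap_rel s0_rot46 (path_edge (s0_f32302 IH) (path_edge (s0_f26812r IH) (path_edge (s0_f40657r IH) (path_nil s0_v5573))))
theorem s0_f40659r : ed sl_et s0_v5573 = s0_v3976 :=
  edge_flip (s0_f40659 IH)
theorem s0_f40660 : ed sl_et s0_v3976 = s0_v5573 :=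
  gap_rel s0_rot31 (path_edge (s0_f40659r IH) (path_nil s0_v5573))
theorem s0_f40667 : ed sl_ft s0_v2908 = s0_v5575 :=
  rfl
theorem s0_f40667r : ed sl_ff s0_v5575 = s0_v2908 :=
  edge_flip (s0_f40667 IH)
theorem s0_f40670 : ed sl_ff s0_v2908 = s0_v5575 :=
  gap_rel s0_rot1 (path_edge (s0_f40667r IH) (path_nil s0_v5575))
theorem s0_f40670r : ed sl_ft s0_v5575 = s0_v2908 :=
  edge_flip (s0_f40670 IH)
theorem s0_f26810r : ed sl_at s0_v2908 = sq1200 :=
  edge_flip (s0_f26810 IH)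
theorem s0_f40671 : ed sl_at s0_v2910 = s0_v5575 :=
  gap_rel s0_rot90 (path_edge (s0_f26817 IH) (path_edge (s0_f26810r IH) (path_edge (s0_f40670r IH) (path_nil s0_v5575))))
theorem s0_f40673 : ed sl_gt s0_v2908 = s0_v5576 :=
  rfl
theorem s0_f40673r : ed sl_gf s0_v5576 = s0_v2908 :=
  edge_flip (s0_f40673 IH)
theorem s0_f40676 : ed sl_gf s0_v2908 = s0_v5576 :=
  gap_rel s0_rot76 (path_edge (s0_f40673r IH) (path_nil s0_v5576))
theorem s0_f40693 : ed sl_gt s0_v2910 = s0_v5580 :=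
  rfl
theorem s0_f40693r : ed sl_gf s0_v5580 = s0_v2910 :=
  edge_flip (s0_f40693 IH)
theorem s0_f40695 : ed sl_gf s0_v2910 = s0_v5580 :=
  gap_rel s0_rot76 (path_edge (s0_f40693r IH) (path_nil s0_v5580))
theorem s0_f40696 : ed sl_ff s0_v5576 = s0_v5580 :=
  gap_rel s0_rot92 (path_edge (s0_f40676 IH) (path_edge (s0_f40667r IH) (path_edge (s0_f40671 IH) (path_edge (s0_f40693r IH) (path_nil s0_v5580)))))
theorem s0_f40696r : ed sl_ft s0_v5580 = s0_v5576 :=
  edge_flip (s0_f40696 IH)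
theorem s0_f40698 : ed sl_ft s0_v5576 = s0_v5580 :=
  gap_rel s0_rot16 (path_edge (s0_f40696r IH) (path_nil s0_v5580))
theorem s0_f40699 : ed sl_ft s0_v2911 = s0_v5581 :=
  rfl
theorem s0_f40699r : ed sl_ff s0_v5581 = s0_v2911 :=
  edge_flip (s0_f40699 IH)
theorem s0_f40702 : ed sl_ff s0_v2911 = s0_v5581 :=
  gap_rel s0_rot1 (path_edge (s0_f40699r IH) (path_nil s0_v5581))
theorem s0_f26823r : ed sl_gf s0_v2911 = sq1200 :=
  edge_flip (s0_f26823 IH)
theorem s0_f40698r : ed sl_ff s0_v5580 = s0_v5576 :=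
  edge_flip (s0_f40698 IH)
theorem s0_f40703 : ed sl_gf s0_v5575 = s0_v5581 :=
  gap_rel s0_rot19 (path_edge (s0_f40670 IH) (path_edge (s0_f40673r IH) (path_edge (s0_f40698r IH) (path_edge (s0_f40695 IH) (path_edge (s0_f26820 IH) (path_edge (s0_f26823r IH) (path_edge (s0_f40699r IH) (path_nil s0_v5581))))))))
theorem s0_f40703r : ed sl_gt s0_v5581 = s0_v5575 :=
  edge_flip (s0_f40703 IH)
theorem s0_f40706 : ed sl_gt s0_v5575 = s0_v5581 :=
  gap_rel s0_rot25 (path_edge (s0_f40703r IH) (path_nil s0_v5581))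
theorem s0_f40831 : ed sl_bt s0_v2926 = s0_v5602 :=
  rfl
theorem s0_f40831r : ed sl_bf s0_v5602 = s0_v2926 :=
  edge_flip (s0_f40831 IH)
theorem s0_f26951r : ed sl_ef s0_v2926 = s0_v2155 :=
  edge_flip (s0_f26951 IH)
theorem s0_f40833 : ed sl_ef s0_v3544 = s0_v5602 :=
  gap_rel s0_rot46 (path_edge (s0_f30299 IH) (path_edge (s0_f26951r IH) (path_edge (s0_f40831r IH) (path_nil s0_v5602))))
theorem s0_f40833r : ed sl_et s0_v5602 = s0_v3544 :=
  edge_flip (s0_f40833 IH)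
theorem s0_f30334r : ed sl_gt s0_v3544 = s0_v2485 :=
  edge_flip (s0_f30334 IH)
theorem s0_f40835 : ed sl_gt s0_v3480 = s0_v5602 :=
  gap_rel s0_rot21 (path_edge (s0_f29972 IH) (path_edge (s0_f30334r IH) (path_edge (s0_f40833r IH) (path_nil s0_v5602))))
theorem s0_f41457 : ed sl_at s0_v2975 = s0_v5708 :=
  rfl
theorem s0_f41457r : ed sl_af s0_v5708 = s0_v2975 :=
  edge_flip (s0_f41457 IH)
theorem s0_f27261r : ed sl_cf s0_v2975 = s0_v2096 :=
  edge_flip (s0_f27261 IH)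
theorem s0_f41459 : ed sl_cf s0_v3442 = s0_v5708 :=
  gap_rel s0_rot74 (path_edge (s0_f29764 IH) (path_edge (s0_f27261r IH) (path_edge (s0_f41457r IH) (path_nil s0_v5708))))
theorem s0_f41463 : ed sl_dt s0_v2975 = s0_v5709 :=
  rfl
theorem s0_f41463r : ed sl_df s0_v5709 = s0_v2975 :=
  edge_flip (s0_f41463 IH)
theorem s0_f41465 : ed sl_df s0_v2975 = s0_v5709 :=
  gap_rel s0_rot54 (path_edge (s0_f41463r IH) (path_nil s0_v5709))
theorem s0_f41465r : ed sl_dt s0_v5709 = s0_v2975 :=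
  edge_flip (s0_f41465 IH)
theorem s0_f27258r : ed sl_bt s0_v2975 = sq1239 :=
  edge_flip (s0_f27258 IH)
theorem s0_f41466 : ed sl_bt s0_v2976 = s0_v5709 :=
  gap_rel s0_rot69 (path_edge (s0_f27263 IH) (path_edge (s0_f27258r IH) (path_edge (s0_f41465r IH) (path_nil s0_v5709))))
theorem s0_f41479 : ed sl_ct s0_v2976 = s0_v5712 :=
  rfl
theorem s0_f41479r : ed sl_cf s0_v5712 = s0_v2976 :=
  edge_flip (s0_f41479 IH)
theorem s0_f41480 : ed sl_cf s0_v2976 = s0_v5712 :=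
  gap_rel s0_rot40 (path_edge (s0_f41479r IH) (path_nil s0_v5712))
theorem s0_f41807 : ed sl_ft s0_v3004 = s0_v5777 :=
  rfl
theorem s0_f41853 : ed sl_ft s0_v3008 = s0_v5785 :=
  rfl
theorem s0_f41853r : ed sl_ff s0_v5785 = s0_v3008 :=
  edge_flip (s0_f41853 IH)
theorem s0_f41856 : ed sl_ff s0_v3008 = s0_v5785 :=
  gap_rel s0_rot1 (path_edge (s0_f41853r IH) (path_nil s0_v5785))
theorem s0_f41856r : ed sl_ft s0_v5785 = s0_v3008 :=
  edge_flip (s0_f41856 IH)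
theorem s0_f27458r : ed sl_bt s0_v3008 = sq1259 :=
  edge_flip (s0_f27458 IH)
theorem s0_f41857 : ed sl_bt s0_v5025 = s0_v5785 :=
  gap_rel s0_rot12 (path_edge (s0_f37775 IH) (path_edge (s0_f18050 IH) (path_edge (s0_f18089r IH) (path_edge (s0_f27458r IH) (path_edge (s0_f41856r IH) (path_nil s0_v5785))))))
theorem s0_f43180 : ed sl_ct s0_v3151 = s0_v6039 :=
  rfl
theorem s0_f43180r : ed sl_cf s0_v6039 = s0_v3151 :=
  edge_flip (s0_f43180 IH)
theorem s0_f28221r : ed sl_df s0_v3151 = sq1323 :=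
  edge_flip (s0_f28221 IH)
theorem s0_f10089r : ed sl_cf sq974 = sq667 :=
  edge_flip (s0_f10089 IH)
theorem s0_f10088r : ed sl_df sq667 = sq882 :=
  edge_flip (s0_f10088 IH)
theorem s0_f19465r : ed sl_cf sq882 = sq1239 :=
  edge_flip (s0_f19465 IH)
theorem s0_f43183 : ed sl_df s0_v5712 = s0_v6039 :=
  gap_rel s0_rot62 (path_edge (s0_f41480 IH) (path_edge (s0_f27264 IH) (path_edge (s0_f19465r IH) (path_edge (s0_f10088r IH) (path_edge (s0_f10089r IH) (path_edge (s0_f19374 IH) (path_edge (s0_f28221r IH) (path_edge (s0_f43180r IH) (path_nil s0_v6039)))))))))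
theorem s0_f43214 : ed sl_dt s0_v3154 = s0_v6046 :=
  rfl
theorem s0_f43214r : ed sl_df s0_v6046 = s0_v3154 :=
  edge_flip (s0_f43214 IH)
theorem s0_f10090r : ed sl_df sq1325 = sq974 :=
  edge_flip (s0_f10090 IH)
theorem s0_f19167r : ed sl_cf sq1323 = sq973 :=
  edge_flip (s0_f19167 IH)
theorem s0_f22347r : ed sl_df sq973 = sq1238 :=
  edge_flip (s0_f22347 IH)
theorem s0_f27251r : ed sl_cf sq1238 = sq1580 :=
  edge_flip (s0_f27251 IH)
theorem s0_f43216 : ed sl_cf s0_v5038 = s0_v6046 :=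
  gap_rel s0_rot109 (path_edge (s0_f37855 IH) (path_edge (s0_f27251r IH) (path_edge (s0_f22347r IH) (path_edge (s0_f19167r IH) (path_edge (s0_f28221r IH) (path_edge (s0_f43180r IH) (path_edge (s0_f43183 IH) (path_edge (s0_f41480 IH) (path_edge (s0_f27264 IH) (path_edge (s0_f19465r IH) (path_edge (s0_f10088r IH) (path_edge (s0_f10089r IH) (path_edge (s0_f10090r IH) (path_edge (s0_f28239r IH) (path_edge (s0_f43214r IH) (path_nil s0_v6046))))))))))))))))
theorem s0_f43217 : ed sl_df s0_v3154 = s0_v6046 :=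
  gap_rel s0_rot54 (path_edge (s0_f43214r IH) (path_nil s0_v6046))
theorem s0_f43220 : ed sl_et s0_v3154 = s0_v6047 :=
  rfl
theorem s0_f43220r : ed sl_ef s0_v6047 = s0_v3154 :=
  edge_flip (s0_f43220 IH)
theorem s0_f43222 : ed sl_ef s0_v3154 = s0_v6047 :=
  gap_rel s0_rot34 (path_edge (s0_f43220r IH) (path_nil s0_v6047))
theorem s0_f43222r : ed sl_et s0_v6047 = s0_v3154 :=
  edge_flip (s0_f43222 IH)
theorem s0_f28240r : ed sl_ct s0_v3154 = sq1325 :=
  edge_flip (s0_f28240 IH)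
theorem s0_f43223 : ed sl_ct s0_v3155 = s0_v6047 :=
  gap_rel s0_rot60 (path_edge (s0_f28241 IH) (path_edge (s0_f28240r IH) (path_edge (s0_f43222r IH) (path_nil s0_v6047))))
theorem s0_f43430 : ed sl_ft s0_v3172 = s0_v6089 :=
  rfl
theorem s0_f43430r : ed sl_ff s0_v6089 = s0_v3172 :=
  edge_flip (s0_f43430 IH)
theorem s0_f28324r : ed sl_df s0_v3172 = sq1331 :=
  edge_flip (s0_f28324 IH)
theorem s0_f43432 : ed sl_df s0_v3173 = s0_v6089 :=
  gap_rel s0_rot56 (path_edge (s0_f28331 IH) (path_edge (s0_f28324r IH) (path_edge (s0_f43430r IH) (path_nil s0_v6089))))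
theorem s0_f43433 : ed sl_ff s0_v3172 = s0_v6089 :=
  gap_rel s0_rot1 (path_edge (s0_f43430r IH) (path_nil s0_v6089))
theorem s0_f43528 : ed sl_ft s0_v3185 = s0_v6111 :=
  rfl
theorem s0_f43528r : ed sl_ff s0_v6111 = s0_v3185 :=
  edge_flip (s0_f43528 IH)
theorem s0_f43529 : ed sl_cf s0_v3187 = s0_v6111 :=
  gap_rel s0_rot65 (path_edge (s0_f28398 IH) (path_edge (s0_f28388r IH) (path_edge (s0_f43528r IH) (path_nil s0_v6111))))
theorem s0_f43530 : ed sl_ff s0_v3185 = s0_v6111 :=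
  gap_rel s0_rot1 (path_edge (s0_f43528r IH) (path_nil s0_v6111))
theorem s0_f43652 : ed sl_ft s0_v3197 = s0_v6142 :=
  rfl
theorem s0_f43652r : ed sl_ff s0_v6142 = s0_v3197 :=
  edge_flip (s0_f43652 IH)
theorem s0_f43655 : ed sl_ff s0_v3197 = s0_v6142 :=
  gap_rel s0_rot1 (path_edge (s0_f43652r IH) (path_nil s0_v6142))
theorem s0_f38542r : ed sl_at s0_v5173 = s0_v3185 :=
  edge_flip (s0_f38542 IH)
theorem s0_f43656 : ed sl_gf s0_v6111 = s0_v6142 :=
  gap_rel s0_rot2 (path_edge (s0_f43530 IH) (path_edge (s0_f38542r IH) (path_edge (s0_f38544 IH) (path_edge (s0_f43652r IH) (path_nil s0_v6142)))))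
theorem s0_f43656r : ed sl_gt s0_v6142 = s0_v6111 :=
  edge_flip (s0_f43656 IH)
theorem s0_f43529r : ed sl_ct s0_v6111 = s0_v3187 :=
  edge_flip (s0_f43529 IH)
theorem s0_f43657 : ed sl_ct s0_v3199 = s0_v6142 :=
  gap_rel s0_rot39 (path_edge (s0_f28444 IH) (path_edge (s0_f43529r IH) (path_edge (s0_f43656r IH) (path_nil s0_v6142))))
theorem s0_f43655r : ed sl_ft s0_v6142 = s0_v3197 :=
  edge_flip (s0_f43655 IH)
theorem s0_f28431r : ed sl_at s0_v3197 = s0_v2250 :=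
  edge_flip (s0_f28431 IH)
theorem s0_f43659 : ed sl_at s0_v3202 = s0_v6142 :=
  gap_rel s0_rot90 (path_edge (s0_f28457 IH) (path_edge (s0_f28431r IH) (path_edge (s0_f43655r IH) (path_nil s0_v6142))))
theorem s0_f43710 : ed sl_dt s0_v3202 = s0_v6153 :=
  rfl
theorem s0_f43710r : ed sl_df s0_v6153 = s0_v3202 :=
  edge_flip (s0_f43710 IH)
theorem s0_f43657r : ed sl_cf s0_v6142 = s0_v3199 :=
  edge_flip (s0_f43657 IH)
theorem s0_f28443r : ed sl_df s0_v3199 = sq1341 :=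
  edge_flip (s0_f28443 IH)
theorem s0_f19394r : ed sl_cf sq1341 = sq991 :=
  edge_flip (s0_f19394 IH)
theorem s0_f43713 : ed sl_cf s0_v6089 = s0_v6153 :=
  gap_rel s0_rot94 (path_edge (s0_f43432 IH) (path_edge (s0_f28330 IH) (path_edge (s0_f23201 IH) (path_edge (s0_f19394r IH) (path_edge (s0_f28443r IH) (path_edge (s0_f43657r IH) (path_edge (s0_f43659 IH) (path_edge (s0_f43710r IH) (path_nil s0_v6153)))))))))
theorem s0_f43713r : ed sl_ct s0_v6153 = s0_v6089 :=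
  edge_flip (s0_f43713 IH)
theorem s0_f43433r : ed sl_ft s0_v6089 = s0_v3172 :=
  edge_flip (s0_f43433 IH)
theorem s0_f43715 : ed sl_ft s0_v3735 = s0_v6153 :=
  gap_rel s0_rot13 (path_edge (s0_f31208 IH) (path_edge (s0_f43433r IH) (path_edge (s0_f43713r IH) (path_nil s0_v6153))))
theorem s0_f43774 : ed sl_bt s0_v3211 = s0_v6165 :=
  rfl
theorem s0_f43774r : ed sl_bf s0_v6165 = s0_v3211 :=
  edge_flip (s0_f43774 IH)
theorem s0_f28510r : ed sl_cf s0_v3211 = s0_v2264 :=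
  edge_flip (s0_f28510 IH)
theorem s0_f43776 : ed sl_cf s0_v5222 = s0_v6165 :=
  gap_rel s0_rot27 (path_edge (s0_f38780 IH) (path_edge (s0_f25854 IH) (path_edge (s0_f23590 IH) (path_edge (s0_f28510r IH) (path_edge (s0_f43774r IH) (path_nil s0_v6165))))))
theorem s0_f44026 : ed sl_bt s0_v3239 = s0_v6216 :=
  rfl
theorem s0_f44026r : ed sl_bf s0_v6216 = s0_v3239 :=
  edge_flip (s0_f44026 IH)
theorem s0_f44027 : ed sl_bf s0_v3239 = s0_v6216 :=
  gap_rel s0_rot44 (path_edge (s0_f44026r IH) (path_nil s0_v6216))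
theorem s0_f44142 : ed sl_bt s0_v3256 = s0_v6240 :=
  rfl
theorem s0_f44142r : ed sl_bf s0_v6240 = s0_v3256 :=
  edge_flip (s0_f44142 IH)
theorem s0_f44143 : ed sl_bf s0_v3256 = s0_v6240 :=
  gap_rel s0_rot44 (path_edge (s0_f44142r IH) (path_nil s0_v6240))
theorem s0_f45083 : ed sl_bt s0_v3354 = s0_v6417 :=
  rfl
theorem s0_f45083r : ed sl_bf s0_v6417 = s0_v3354 :=
  edge_flip (s0_f45083 IH)
theorem s0_f45084 : ed sl_bf s0_v3354 = s0_v6417 :=
  gap_rel s0_rot44 (path_edge (s0_f45083r IH) (path_nil s0_v6417))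
theorem s0_f45086 : ed sl_ff s0_v5222 = s0_v6417 :=
  gap_rel s0_rot70 (path_edge (s0_f38780 IH) (path_edge (s0_f25856 IH) (path_edge (s0_f38579r IH) (path_edge (s0_f38588 IH) (path_edge (s0_f45083r IH) (path_nil s0_v6417))))))
theorem s0_f45086r : ed sl_ft s0_v6417 = s0_v5222 :=
  edge_flip (s0_f45086 IH)
theorem s0_f45088 : ed sl_ft s0_v5222 = s0_v6417 :=
  gap_rel s0_rot16 (path_edge (s0_f45086r IH) (path_nil s0_v6417))
theorem s0_f45333 : ed sl_ft s0_v3378 = s0_v6461 :=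
  rfl
theorem s0_f45333r : ed sl_ff s0_v6461 = s0_v3378 :=
  edge_flip (s0_f45333 IH)
theorem s0_f45336 : ed sl_ff s0_v3378 = s0_v6461 :=
  gap_rel s0_rot1 (path_edge (s0_f45333r IH) (path_nil s0_v6461))
theorem s0_f45336r : ed sl_ft s0_v6461 = s0_v3378 :=
  edge_flip (s0_f45336 IH)
theorem s0_f29418r : ed sl_at s0_v3378 = s0_v2058 :=
  edge_flip (s0_f29418 IH)
theorem s0_f45337 : ed sl_at s0_v3380 = s0_v6461 :=
  gap_rel s0_rot90 (path_edge (s0_f29427 IH) (path_edge (s0_f29418r IH) (path_edge (s0_f45336r IH) (path_nil s0_v6461))))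
theorem s0_f45339 : ed sl_gt s0_v3378 = s0_v6462 :=
  rfl
theorem s0_f45339r : ed sl_gf s0_v6462 = s0_v3378 :=
  edge_flip (s0_f45339 IH)
theorem s0_f45342 : ed sl_gf s0_v3378 = s0_v6462 :=
  gap_rel s0_rot76 (path_edge (s0_f45339r IH) (path_nil s0_v6462))
theorem s0_f45359 : ed sl_gt s0_v3380 = s0_v6466 :=
  rfl
theorem s0_f45359r : ed sl_gf s0_v6466 = s0_v3380 :=
  edge_flip (s0_f45359 IH)
theorem s0_f45361 : ed sl_gf s0_v3380 = s0_v6466 :=
  gap_rel s0_rot76 (path_edge (s0_f45359r IH) (path_nil s0_v6466))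
theorem s0_f45362 : ed sl_ff s0_v6462 = s0_v6466 :=
  gap_rel s0_rot92 (path_edge (s0_f45342 IH) (path_edge (s0_f45333r IH) (path_edge (s0_f45337 IH) (path_edge (s0_f45359r IH) (path_nil s0_v6466)))))
theorem s0_f45362r : ed sl_ft s0_v6466 = s0_v6462 :=
  edge_flip (s0_f45362 IH)
theorem s0_f45364 : ed sl_ft s0_v6462 = s0_v6466 :=
  gap_rel s0_rot16 (path_edge (s0_f45362r IH) (path_nil s0_v6466))
theorem s0_f45365 : ed sl_ft s0_v3381 = s0_v6467 :=
  rfl
theorem s0_f45365r : ed sl_ff s0_v6467 = s0_v3381 :=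
  edge_flip (s0_f45365 IH)
theorem s0_f29431r : ed sl_gf s0_v3381 = s0_v2058 :=
  edge_flip (s0_f29431 IH)
theorem s0_f45364r : ed sl_ff s0_v6466 = s0_v6462 :=
  edge_flip (s0_f45364 IH)
theorem s0_f45369 : ed sl_gf s0_v6461 = s0_v6467 :=
  gap_rel s0_rot19 (path_edge (s0_f45336 IH) (path_edge (s0_f45339r IH) (path_edge (s0_f45364r IH) (path_edge (s0_f45361 IH) (path_edge (s0_f29429 IH) (path_edge (s0_f29431r IH) (path_edge (s0_f45365r IH) (path_nil s0_v6467))))))))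
theorem s0_f45777 : ed sl_bt s0_v3423 = s0_v6546 :=
  rfl
theorem s0_f45777r : ed sl_bf s0_v6546 = s0_v3423 :=
  edge_flip (s0_f45777 IH)
theorem s0_f45779 : ed sl_bf s0_v3423 = s0_v6546 :=
  gap_rel s0_rot44 (path_edge (s0_f45777r IH) (path_nil s0_v6546))
theorem s0_f29666r : ed sl_ef s0_v3423 = s0_v2454 :=
  edge_flip (s0_f29666 IH)
theorem s0_f45780 : ed sl_ef s0_v4098 = s0_v6546 :=
  gap_rel s0_rot46 (path_edge (s0_f32845 IH) (path_edge (s0_f29666r IH) (path_edge (s0_f45777r IH) (path_nil s0_v6546))))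
theorem s0_f45780r : ed sl_et s0_v6546 = s0_v4098 :=
  edge_flip (s0_f45780 IH)
theorem s0_f45783 : ed sl_ft s0_v5573 = s0_v6546 :=
  gap_rel s0_rot15 (path_edge (s0_f40660 IH) (path_edge (s0_f32881 IH) (path_edge (s0_f45780r IH) (path_nil s0_v6546))))
theorem s0_f45791 : ed sl_ft s0_v3423 = s0_v6548 :=
  rfl
theorem s0_f45791r : ed sl_ff s0_v6548 = s0_v3423 :=
  edge_flip (s0_f45791 IH)
theorem s0_f45783r : ed sl_ff s0_v6546 = s0_v5573 :=
  edge_flip (s0_f45783 IH)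
theorem s0_f45793 : ed sl_bf s0_v5575 = s0_v6548 :=
  gap_rel s0_rot104 (path_edge (s0_f40670 IH) (path_edge (s0_f40657r IH) (path_edge (s0_f45783r IH) (path_edge (s0_f45779 IH) (path_edge (s0_f45791r IH) (path_nil s0_v6548))))))
theorem s0_f45795 : ed sl_ff s0_v3423 = s0_v6548 :=
  gap_rel s0_rot1 (path_edge (s0_f45791r IH) (path_nil s0_v6548))
theorem s0_f45795r : ed sl_ft s0_v6548 = s0_v3423 :=
  edge_flip (s0_f45795 IH)
theorem s0_f29664r : ed sl_at s0_v3423 = s0_v2085 :=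
  edge_flip (s0_f29664 IH)
theorem s0_f45796 : ed sl_at s0_v3425 = s0_v6548 :=
  gap_rel s0_rot90 (path_edge (s0_f29671 IH) (path_edge (s0_f29664r IH) (path_edge (s0_f45795r IH) (path_nil s0_v6548))))
theorem s0_f45799 : ed sl_gt s0_v3423 = s0_v6549 :=
  rfl
theorem s0_f45799r : ed sl_gf s0_v6549 = s0_v3423 :=
  edge_flip (s0_f45799 IH)
theorem s0_f45802 : ed sl_gf s0_v3423 = s0_v6549 :=
  gap_rel s0_rot76 (path_edge (s0_f45799r IH) (path_nil s0_v6549))
theorem s0_f45802r : ed sl_gt s0_v6549 = s0_v3423 :=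
  edge_flip (s0_f45802 IH)
theorem s0_f45793r : ed sl_bt s0_v6548 = s0_v5575 :=
  edge_flip (s0_f45793 IH)
theorem s0_f40702r : ed sl_ft s0_v5581 = s0_v2911 :=
  edge_flip (s0_f40702 IH)
theorem s0_f26929r : ed sl_bt s0_v2923 = sq1208 :=
  edge_flip (s0_f26929 IH)
theorem s0_f45805 : ed sl_bt s0_v6467 = s0_v6549 :=
  gap_rel s0_rot4 (path_edge (s0_f45365 IH) (path_edge (s0_f29431 IH) (path_edge (s0_f22004 IH) (path_edge (s0_f21572 IH) (path_edge (s0_f21986 IH) (path_edge (s0_f26929r IH) (path_edge (s0_f26933 IH) (path_edge (s0_f26955r IH) (path_edge (s0_f26956 IH) (path_edge (s0_f40702r IH) (path_edge (s0_f40706 IH) (path_edge (s0_f45793r IH) (path_edge (s0_f45791 IH) (path_edge (s0_f45802r IH) (path_nil s0_v6549)))))))))))))))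
theorem s0_f45805r : ed sl_bf s0_v6549 = s0_v6467 :=
  edge_flip (s0_f45805 IH)
theorem s0_f45806 : ed sl_bf s0_v6467 = s0_v6549 :=
  gap_rel s0_rot44 (path_edge (s0_f45805r IH) (path_nil s0_v6549))
theorem s0_f45821 : ed sl_gt s0_v3425 = s0_v6553 :=
  rfl
theorem s0_f45821r : ed sl_gf s0_v6553 = s0_v3425 :=
  edge_flip (s0_f45821 IH)
theorem s0_f45824 : ed sl_ff s0_v6549 = s0_v6553 :=
  gap_rel s0_rot92 (path_edge (s0_f45802 IH) (path_edge (s0_f45791r IH) (path_edge (s0_f45796 IH) (path_edge (s0_f45821r IH) (path_nil s0_v6553)))))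
theorem s0_f45983 : ed sl_bt s0_v3442 = s0_v6581 :=
  rfl
theorem s0_f45983r : ed sl_bf s0_v6581 = s0_v3442 :=
  edge_flip (s0_f45983 IH)
theorem s0_f29766r : ed sl_ef s0_v3442 = s0_v2098 :=
  edge_flip (s0_f29766 IH)
theorem s0_f45985 : ed sl_ef s0_v3447 = s0_v6581 :=
  gap_rel s0_rot46 (path_edge (s0_f29786 IH) (path_edge (s0_f29766r IH) (path_edge (s0_f45983r IH) (path_nil s0_v6581))))
theorem s0_f46039 : ed sl_at s0_v3447 = s0_v6590 :=
  rfl
theorem s0_f46039r : ed sl_af s0_v6590 = s0_v3447 :=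
  edge_flip (s0_f46039 IH)
theorem s0_f29788r : ed sl_df s0_v3447 = s0_v3279 :=
  edge_flip (s0_f29788 IH)
theorem s0_f46042 : ed sl_df s0_v5436 = s0_v6590 :=
  gap_rel s0_rot51 (path_edge (s0_f39902 IH) (path_edge (s0_f29788r IH) (path_edge (s0_f46039r IH) (path_nil s0_v6590))))
theorem s0_f46363 : ed sl_at s0_v3476 = s0_v6650 :=
  rfl
theorem s0_f46363r : ed sl_af s0_v6650 = s0_v3476 :=
  edge_flip (s0_f46363 IH)
theorem s0_f29948r : ed sl_gf s0_v3476 = s0_v2111 :=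
  edge_flip (s0_f29948 IH)
theorem s0_f46366 : ed sl_gf s0_v3478 = s0_v6650 :=
  gap_rel s0_rot47 (path_edge (s0_f29958 IH) (path_edge (s0_f29948r IH) (path_edge (s0_f46363r IH) (path_nil s0_v6650))))
theorem s0_f46367 : ed sl_ft s0_v5602 = s0_v6650 :=
  gap_rel s0_rot107 (path_edge (s0_f40835 IH) (path_edge (s0_f29967 IH) (path_edge (s0_f29946r IH) (path_edge (s0_f46363r IH) (path_nil s0_v6650)))))
theorem s0_f46377 : ed sl_ft s0_v3476 = s0_v6652 :=
  rfl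
theorem s0_f46377r : ed sl_ff s0_v6652 = s0_v3476 :=
  edge_flip (s0_f46377 IH)
theorem s0_f46380 : ed sl_ff s0_v3476 = s0_v6652 :=
  gap_rel s0_rot1 (path_edge (s0_f46377r IH) (path_nil s0_v6652))
theorem s0_f46407 : ed sl_ft s0_v3478 = s0_v6656 :=
  rfl
theorem s0_f46407r : ed sl_ff s0_v6656 = s0_v3478 :=
  edge_flip (s0_f46407 IH)
theorem s0_f46408 : ed sl_af s0_v3480 = s0_v6656 :=
  gap_rel s0_rot0 (path_edge (s0_f29970 IH) (path_edge (s0_f29957r IH) (path_edge (s0_f46407r IH) (path_nil s0_v6656))))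
theorem s0_f46367r : ed sl_ff s0_v6650 = s0_v5602 :=
  edge_flip (s0_f46367 IH)
theorem s0_f40835r : ed sl_gf s0_v5602 = s0_v3480 :=
  edge_flip (s0_f40835 IH)
theorem s0_f46411 : ed sl_gf s0_v6652 = s0_v6656 :=
  gap_rel s0_rot19 (path_edge (s0_f46380 IH) (path_edge (s0_f29946 IH) (path_edge (s0_f29967r IH) (path_edge (s0_f40835r IH) (path_edge (s0_f46367r IH) (path_edge (s0_f46366 IH) (path_edge (s0_f46407r IH) (path_nil s0_v6656))))))))
theorem s0_f46411r : ed sl_gt s0_v6656 = s0_v6652 :=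
  edge_flip (s0_f46411 IH)
theorem s0_f46380r : ed sl_ft s0_v6652 = s0_v3476 :=
  edge_flip (s0_f46380 IH)
theorem s0_f29944r : ed sl_bt s0_v3476 = s0_v2110 :=
  edge_flip (s0_f29944 IH)
theorem s0_f22367r : ed sl_gt s0_v2110 = sq890 :=
  edge_flip (s0_f22367 IH)
theorem s0_f45824r : ed sl_ft s0_v6553 = s0_v6549 :=
  edge_flip (s0_f45824 IH)
theorem s0_f45806r : ed sl_bt s0_v6549 = s0_v6467 :=
  edge_flip (s0_f45806 IH)
theorem s0_f45369r : ed sl_gt s0_v6467 = s0_v6461 :=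
  edge_flip (s0_f45369 IH)
theorem s0_f29419r : ed sl_bt s0_v3378 = s0_v2535 :=
  edge_flip (s0_f29419 IH)
theorem s0_f46415 : ed sl_bt s0_v4257 = s0_v6656 :=
  gap_rel s0_rot4 (path_edge (s0_f33596 IH) (path_edge (s0_f33564 IH) (path_edge (s0_f29419r IH) (path_edge (s0_f45336r IH) (path_edge (s0_f45369r IH) (path_edge (s0_f45806r IH) (path_edge (s0_f45824r IH) (path_edge (s0_f45821 IH) (path_edge (s0_f29675 IH) (path_edge (s0_f22361 IH) (path_edge (s0_f22367r IH) (path_edge (s0_f29944r IH) (path_edge (s0_f46380r IH) (path_edge (s0_f46411r IH) (path_nil s0_v6656)))))))))))))))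
theorem s0_f48693 : ed sl_ft s0_v3711 = s0_v7090 :=
  rfl
theorem s0_f48693r : ed sl_ff s0_v7090 = s0_v3711 :=
  edge_flip (s0_f48693 IH)
theorem s0_f48697 : ed sl_ff s0_v3711 = s0_v7090 :=
  gap_rel s0_rot1 (path_edge (s0_f48693r IH) (path_nil s0_v7090))
theorem s0_f48697r : ed sl_ft s0_v7090 = s0_v3711 :=
  edge_flip (s0_f48697 IH)
theorem s0_f48698 : ed sl_at s0_v6153 = s0_v7090 :=
  gap_rel s0_rot90 (path_edge (s0_f43715 IH) (path_edge (s0_f31207 IH) (path_edge (s0_f48697r IH) (path_nil s0_v7090))))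
theorem s0_f48889 : ed sl_dt s0_v3738 = s0_v7130 :=
  rfl
theorem s0_f48889r : ed sl_df s0_v7130 = s0_v3738 :=
  edge_flip (s0_f48889 IH)
theorem s0_f48890 : ed sl_df s0_v3738 = s0_v7130 :=
  gap_rel s0_rot54 (path_edge (s0_f48889r IH) (path_nil s0_v7130))
theorem s0_f50520 : ed sl_at s0_v3920 = s0_v7451 :=
  rfl
theorem s0_f50520r : ed sl_af s0_v7451 = s0_v3920 :=
  edge_flip (s0_f50520 IH)
theorem s0_f50521 : ed sl_af s0_v3920 = s0_v7451 :=
  gap_rel s0_rot66 (path_edge (s0_f50520r IH) (path_nil s0_v7451))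
theorem s0_f53030 : ed sl_bt s0_v4189 = s0_v7887 :=
  rfl
theorem s0_f53030r : ed sl_bf s0_v7887 = s0_v4189 :=
  edge_flip (s0_f53030 IH)
theorem s0_f53031 : ed sl_bf s0_v4189 = s0_v7887 :=
  gap_rel s0_rot44 (path_edge (s0_f53030r IH) (path_nil s0_v7887))
theorem s0_f33250r : ed sl_cf s0_v4189 = s0_v2498 :=
  edge_flip (s0_f33250 IH)
theorem s0_f24579r : ed sl_bf s0_v2498 = s0_v1832 :=
  edge_flip (s0_f24579 IH)
theorem s0_f53032 : ed sl_cf s0_v4195 = s0_v7887 :=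
  gap_rel s0_rot27 (path_edge (s0_f33281 IH) (path_edge (s0_f24591 IH) (path_edge (s0_f24579r IH) (path_edge (s0_f33250r IH) (path_edge (s0_f53030r IH) (path_nil s0_v7887))))))
theorem s0_f53032r : ed sl_ct s0_v7887 = s0_v4195 :=
  edge_flip (s0_f53032 IH)
theorem s0_f53033 : ed sl_ct s0_v4195 = s0_v7887 :=
  gap_rel s0_rot59 (path_edge (s0_f53032r IH) (path_nil s0_v7887))
theorem s0_f53034 : ed sl_dt s0_v4189 = s0_v7888 :=
  rfl
theorem s0_f56677 : ed sl_ft sq1669 = s0_v8584 :=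
  rfl
theorem s0_f56677r : ed sl_ff s0_v8584 = sq1669 :=
  edge_flip (s0_f56677 IH)
theorem s0_f56681 : ed sl_ff sq1669 = s0_v8584 :=
  gap_rel s0_rot1 (path_edge (s0_f56677r IH) (path_nil s0_v8584))
theorem s0_f56681r : ed sl_ft s0_v8584 = sq1669 :=
  edge_flip (s0_f56681 IH)
theorem s0_f56682 : ed sl_at sq1671 = s0_v8584 :=
  gap_rel s0_rot90 (path_edge (s0_f17938 IH) (path_edge (s0_f3428 IH) (path_edge (s0_f56681r IH) (path_nil s0_v8584))))
theorem s0_f44027r : ed sl_bt s0_v6216 = s0_v3239 :=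
  edge_flip (s0_f44027 IH)
theorem s0_f28668r : ed sl_at s0_v3239 = sq1365 :=
  edge_flip (s0_f28668 IH)
theorem s0_f38876r : ed sl_bt s0_v5242 = s0_v3230 :=
  edge_flip (s0_f38876 IH)
theorem s0_f36878r : ed sl_bt s0_v4871 = sq1671 :=
  edge_flip (s0_f36878 IH)
theorem s0_f56685 : s0_v4935 = s0_v6216 :=
  (loop_rel s0_rot140 (path_edge (s0_f37275 IH) (path_edge (s0_f3437 IH) (path_edge (s0_f3414 IH) (path_edge (s0_f3491r IH) (path_edge (s0_f3439 IH) (path_edge (s0_f56681r IH) (path_edge (s0_f56682 IH) (path_edge (s0_f36878r IH) (path_edge (s0_f36877 IH) (path_edge (s0_f36886r IH) (path_edge (s0_f36891 IH) (path_edge (s0_f28626 IH) (path_edge (s0_f17459 IH) (path_edge (s0_f38802r IH) (path_edge (s0_f38803 IH) (path_edge (s0_f38876r IH) (path_edge (s0_f38880 IH) (path_edge (s0_f28658 IH) (path_edge (s0_f28668r IH) (path_edge (s0_f44027r IH) (path_nil s0_v6216)))))))))))))))))))))).symm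
theorem s0_f57912 : ed sl_bt sq1747 = s0_v8814 :=
  rfl
theorem s0_f57912r : ed sl_bf s0_v8814 = sq1747 :=
  edge_flip (s0_f57912 IH)
theorem s0_f7453r : ed sl_df sq1747 = sq1584 :=
  edge_flip (s0_f7453 IH)
theorem s0_f57914 : ed sl_df s0_v4790 = s0_v8814 :=
  gap_rel s0_rot8 (path_edge (s0_f36416 IH) (path_edge (s0_f7453r IH) (path_edge (s0_f57912r IH) (path_nil s0_v8814))))
theorem s0_f57914r : ed sl_dt s0_v8814 = s0_v4790 :=
  edge_flip (s0_f57914 IH)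
theorem s0_f57915 : ed sl_dt s0_v4790 = s0_v8814 :=
  gap_rel s0_rot28 (path_edge (s0_f57914r IH) (path_nil s0_v8814))
theorem s0_f58271 : ed sl_ct sq1768 = s0_v8891 :=
  rfl
theorem s0_f58271r : ed sl_cf s0_v8891 = sq1768 :=
  edge_flip (s0_f58271 IH)
theorem s0_f1534r : ed sl_bf sq1768 = sq1647 :=
  edge_flip (s0_f1534 IH)
theorem s0_f1198r : ed sl_cf sq1647 = sq1357 :=
  edge_flip (s0_f1198 IH)
theorem s0_f1334r : ed sl_bf sq1357 = sq1645 :=
  edge_flip (s0_f1334 IH)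
theorem s0_f58272 : ed sl_bf s0_v5228 = s0_v8891 :=
  gap_rel s0_rot61 (path_edge (s0_f38814 IH) (path_edge (s0_f1334r IH) (path_edge (s0_f1198r IH) (path_edge (s0_f1534r IH) (path_edge (s0_f58271r IH) (path_nil s0_v8891))))))
theorem s0_f58273 : ed sl_cf sq1768 = s0_v8891 :=
  gap_rel s0_rot40 (path_edge (s0_f58271r IH) (path_nil s0_v8891))
theorem s0_f58275 : ed sl_dt sq1768 = s0_v8892 :=
  rfl
theorem s0_f58275r : ed sl_df s0_v8892 = sq1768 :=
  edge_flip (s0_f58275 IH)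
theorem s0_f58277 : ed sl_df sq1768 = s0_v8892 :=
  gap_rel s0_rot54 (path_edge (s0_f58275r IH) (path_nil s0_v8892))
theorem s0_f58277r : ed sl_dt s0_v8892 = sq1768 :=
  edge_flip (s0_f58277 IH)
theorem s0_f58278 : ed sl_bt sq1769 = s0_v8892 :=
  gap_rel s0_rot69 (path_edge (s0_f1199 IH) (path_edge (s0_f35951 IH) (path_edge (s0_f58277r IH) (path_nil s0_v8892))))
theorem s0_f58317 : ed sl_at sq1771 = s0_v8901 :=
  rfl
theorem s0_f58317r : ed sl_af s0_v8901 = sq1771 :=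
  edge_flip (s0_f58317 IH)
theorem s0_f1318r : ed sl_df sq1771 = sq1651 :=
  edge_flip (s0_f1318 IH)
theorem s0_f58319 : ed sl_df s0_v5241 = s0_v8901 :=
  gap_rel s0_rot51 (path_edge (s0_f38872 IH) (path_edge (s0_f1318r IH) (path_edge (s0_f58317r IH) (path_nil s0_v8901))))
theorem s0_f58319r : ed sl_dt s0_v8901 = s0_v5241 :=
  edge_flip (s0_f58319 IH)
theorem s0_f58320 : ed sl_dt s0_v5241 = s0_v8901 :=
  gap_rel s0_rot28 (path_edge (s0_f58319r IH) (path_nil s0_v8901))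
theorem s0_f59291 : ed sl_bt s0_v4703 = s0_v9061 :=
  rfl
theorem s0_f59291r : ed sl_bf s0_v9061 = s0_v4703 :=
  edge_flip (s0_f59291 IH)
theorem s0_f59292 : ed sl_bf s0_v4703 = s0_v9061 :=
  gap_rel s0_rot44 (path_edge (s0_f59291r IH) (path_nil s0_v9061))
theorem s0_f35952r : ed sl_df s0_v4703 = s0_v2759 :=
  edge_flip (s0_f35952 IH)
theorem s0_f59293 : ed sl_df s0_v5222 = s0_v9061 :=
  gap_rel s0_rot8 (path_edge (s0_f38780 IH) (path_edge (s0_f35952r IH) (path_edge (s0_f59291r IH) (path_nil s0_v9061))))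
theorem s0_f60229 : ed sl_dt s0_v4788 = s0_v9235 :=
  rfl
theorem s0_f60229r : ed sl_df s0_v9235 = s0_v4788 :=
  edge_flip (s0_f60229 IH)
theorem s0_f60231 : ed sl_df s0_v4788 = s0_v9235 :=
  gap_rel s0_rot54 (path_edge (s0_f60229r IH) (path_nil s0_v9235))
theorem s0_f36408r : ed sl_at s0_v4788 = sq1462 :=
  edge_flip (s0_f36408 IH)
theorem s0_f11378r : ed sl_df sq1116 = sq782 :=
  edge_flip (s0_f11378 IH)
theorem s0_f19010r : ed sl_cf sq782 = sq994 :=
  edge_flip (s0_f19010 IH)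
theorem s0_f60232 : ed sl_cf s0_v7130 = s0_v9235 :=
  gap_rel s0_rot94 (path_edge (s0_f48890 IH) (path_edge (s0_f31216 IH) (path_edge (s0_f23273 IH) (path_edge (s0_f19010r IH) (path_edge (s0_f11378r IH) (path_edge (s0_f11379r IH) (path_edge (s0_f36408r IH) (path_edge (s0_f60229r IH) (path_nil s0_v9235)))))))))
theorem s0_f60232r : ed sl_ct s0_v9235 = s0_v7130 :=
  edge_flip (s0_f60232 IH)
theorem s0_f60233 : ed sl_ct s0_v7130 = s0_v9235 :=
  gap_rel s0_rot59 (path_edge (s0_f60232r IH) (path_nil s0_v9235))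
theorem s0_f60235 : ed sl_et s0_v4788 = s0_v9236 :=
  rfl
theorem s0_f60235r : ed sl_ef s0_v9236 = s0_v4788 :=
  edge_flip (s0_f60235 IH)
theorem s0_f60236 : ed sl_af s0_v4790 = s0_v9236 :=
  gap_rel s0_rot67 (path_edge (s0_f36418 IH) (path_edge (s0_f36407r IH) (path_edge (s0_f60235r IH) (path_nil s0_v9236))))
theorem s0_f60241 : ed sl_ft s0_v4788 = s0_v9237 :=
  rfl
theorem s0_f60241r : ed sl_ff s0_v9237 = s0_v4788 :=
  edge_flip (s0_f60241 IH)
theorem s0_f60244 : ed sl_ff s0_v4788 = s0_v9237 :=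
  gap_rel s0_rot1 (path_edge (s0_f60241r IH) (path_nil s0_v9237))
theorem s0_f60244r : ed sl_ft s0_v9237 = s0_v4788 :=
  edge_flip (s0_f60244 IH)
theorem s0_f36409r : ed sl_ct s0_v4788 = s0_v2812 :=
  edge_flip (s0_f36409 IH)
theorem s0_f60246 : ed sl_ct s0_v5430 = s0_v9237 :=
  gap_rel s0_rot42 (path_edge (s0_f39863 IH) (path_edge (s0_f36409r IH) (path_edge (s0_f60244r IH) (path_nil s0_v9237))))
theorem s0_f61021 : ed sl_ct s0_v4873 = s0_v9365 :=
  rfl
theorem s0_f61021r : ed sl_cf s0_v9365 = s0_v4873 :=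
  edge_flip (s0_f61021 IH)
theorem s0_f36897r : ed sl_bf s0_v4873 = sq1529 :=
  edge_flip (s0_f36897 IH)
theorem s0_f61023 : ed sl_bf s0_v5241 = s0_v9365 :=
  gap_rel s0_rot61 (path_edge (s0_f38873 IH) (path_edge (s0_f44026r IH) (path_eq (s0_f56685 IH) (path_edge (s0_f37272 IH) (path_edge (s0_f36897r IH) (path_edge (s0_f61021r IH) (path_nil s0_v9365)))))))
theorem s0_f36898r : ed sl_df s0_v4873 = s0_v2853 :=
  edge_flip (s0_f36898 IH)
theorem s0_f26464r : ed sl_at s0_v2853 = sq1154 :=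
  edge_flip (s0_f26464 IH)
theorem s0_f17401r : ed sl_cf sq1154 = sq807 :=
  edge_flip (s0_f17401 IH)
theorem s0_f1090r : ed sl_cf sq1011 = sq1356 :=
  edge_flip (s0_f1090 IH)
theorem s0_f1179r : ed sl_df sq1356 = sq1645 :=
  edge_flip (s0_f1179 IH)
theorem s0_f61026 : ed sl_df s0_v5228 = s0_v9365 :=
  gap_rel s0_rot62 (path_edge (s0_f38814 IH) (path_edge (s0_f1179r IH) (path_edge (s0_f1090r IH) (path_edge (s0_f17392 IH) (path_edge (s0_f17401r IH) (path_edge (s0_f26464r IH) (path_edge (s0_f36898r IH) (path_edge (s0_f61021r IH) (path_nil s0_v9365)))))))))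
theorem s0_f61026r : ed sl_dt s0_v9365 = s0_v5228 :=
  edge_flip (s0_f61026 IH)
theorem s0_f61027 : ed sl_dt s0_v5228 = s0_v9365 :=
  gap_rel s0_rot28 (path_edge (s0_f61026r IH) (path_nil s0_v9365))
theorem s0_f58320r : ed sl_df s0_v8901 = s0_v5241 :=
  edge_flip (s0_f58320 IH)
theorem s0_f61027r : ed sl_df s0_v9365 = s0_v5228 :=
  edge_flip (s0_f61027 IH)
theorem s0_f61028 : s0_v8891 = s0_v8901 :=
  (loop_rel s0_rot103 (path_edge (s0_f58272 IH) (path_edge (s0_f61027r IH) (path_edge (s0_f61023 IH) (path_edge (s0_f58320r IH) (path_nil s0_v8901)))))).symm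
theorem s0_f38872r : ed sl_at s0_v5241 = sq1651 :=
  edge_flip (s0_f38872 IH)
theorem s0_f21183r : ed sl_df sq1365 = sq1304 :=
  edge_flip (s0_f21183 IH)
theorem s0_f20176r : ed sl_cf sq1304 = sq1614 :=
  edge_flip (s0_f20176 IH)
theorem s0_f61029 : ed sl_cf s0_v5122 = s0_v8892 :=
  gap_rel s0_rot111 (path_edge (s0_f38304 IH) (path_edge (s0_f20176r IH) (path_edge (s0_f21183r IH) (path_edge (s0_f1213r IH) (path_edge (s0_f38872r IH) (path_edge (s0_f58320r IH) (path_eq (s0_f61028 IH) (path_edge (s0_f58273 IH) (path_edge (s0_f58275r IH) (path_nil s0_v8892))))))))))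
theorem s0_f59292r : ed sl_bt s0_v9061 = s0_v4703 :=
  edge_flip (s0_f59292 IH)
theorem s0_f35948r : ed sl_ct s0_v4703 = sq1769 :=
  edge_flip (s0_f35948 IH)
theorem s0_f61029r : ed sl_ct s0_v8892 = s0_v5122 :=
  edge_flip (s0_f61029 IH)
theorem s0_f38303r : ed sl_bt s0_v5122 = sq1618 :=
  edge_flip (s0_f38303 IH)
theorem s0_f61031 : s0_v5135 = s0_v9061 :=
  (loop_rel s0_rot127 (path_edge (s0_f38359 IH) (path_edge (s0_f38303r IH) (path_edge (s0_f61029r IH) (path_edge (s0_f58278 IH) (path_edge (s0_f35948r IH) (path_edge (s0_f59292r IH) (path_nil s0_v9061)))))))).symm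
theorem s0_f45088r : ed sl_ff s0_v6417 = s0_v5222 :=
  edge_flip (s0_f45088 IH)
theorem s0_f38362r : ed sl_ff s0_v5135 = s0_v3154 :=
  edge_flip (s0_f38362 IH)
theorem s0_f61033 : s0_v6046 = s0_v6417 :=
  (loop_rel s0_rot56 (path_edge (s0_f43217 IH) (path_edge (s0_f38362r IH) (path_eq (s0_f61031 IH).symm (path_edge (s0_f59293 IH) (path_edge (s0_f45088r IH) (path_nil s0_v6417))))))).symm
theorem s0_f61034 : ed sl_ff s0_v6165 = s0_v5038 :=
  gap_rel s0_rot95 (path_edge (s0_f43776 IH) (path_edge (s0_f45088r IH) (path_eq (s0_f61033 IH) (path_edge (s0_f43216 IH) (path_nil s0_v5038)))))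
theorem s0_f61034r : ed sl_ft s0_v5038 = s0_v6165 :=
  edge_flip (s0_f61034 IH)
theorem s0_f43776r : ed sl_ct s0_v6165 = s0_v5222 :=
  edge_flip (s0_f43776 IH)
theorem s0_f38780r : ed sl_bt s0_v5222 = s0_v2759 :=
  edge_flip (s0_f38780 IH)
theorem s0_f25853r : ed sl_at s0_v2759 = sq1074 :=
  edge_flip (s0_f25853 IH)
theorem s0_f39460r : ed sl_ft s0_v5351 = s0_v2768 :=
  edge_flip (s0_f39460 IH)
theorem s0_f61039 : s0_v6240 = s0_v2976 :=
  (loop_rel s0_rot141 (path_edge (s0_f44142 IH) (path_edge (s0_f28788 IH) (path_edge (s0_f39460r IH) (path_edge (s0_f39457 IH) (path_edge (s0_f25903 IH) (path_edge (s0_f19213 IH) (path_edge (s0_f19208 IH) (path_edge (s0_f17993 IH) (path_edge (s0_f21168 IH) (path_edge (s0_f1296 IH) (path_edge (s0_f1305 IH) (path_edge (s0_f1306 IH) (path_edge (s0_f1230 IH) (path_edge (s0_f1206 IH) (path_edge (s0_f1226 IH) (path_edge (s0_f25853r IH) (path_edge (s0_f38780r IH) (path_edge (s0_f43776r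 IH) (path_edge (s0_f61034r IH) (path_edge (s0_f37856 IH) (path_nil s0_v2976)))))))))))))))))))))).symm
theorem s0_f44143r : ed sl_bt s0_v6240 = s0_v3256 :=
  edge_flip (s0_f44143 IH)
theorem s0_f61040 : s0_v3256 = s0_v5709 :=
  edge_fun (edge_congr (s0_f44143r IH) (s0_f61039 IH)) (s0_f41466 IH)
theorem s0_f61043 : s0_v2975 = s0_v3351 :=
  edge_fun (edge_congr (s0_f41465r IH) (s0_f61040 IH).symm) (s0_f29278 IH)
theorem s0_f29276r : ed sl_at s0_v3351 = s0_v2042 :=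
  edge_flip (s0_f29276 IH)
theorem s0_f61044 : s0_v2042 = s0_v5708 :=
  edge_fun (edge_congr (s0_f29276r IH) (s0_f61043 IH).symm) (s0_f41457 IH)
theorem s0_f41459r : ed sl_ct s0_v5708 = s0_v3442 :=
  edge_flip (s0_f41459 IH)
theorem s0_f61049 : s0_v3442 = s0_v3349 :=
  edge_fun (edge_congr (s0_f41459r IH) (s0_f61044 IH).symm) (s0_f29268 IH)
theorem s0_f29264r : ed sl_bt s0_v3349 = s0_v2040 :=
  edge_flip (s0_f29264 IH)
theorem s0_f61052 : s0_v6581 = s0_v2040 :=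
  edge_fun (edge_congr (s0_f45983 IH) (s0_f61049 IH)) (s0_f29264r IH)
theorem s0_f45985r : ed sl_et s0_v6581 = s0_v3447 :=
  edge_flip (s0_f45985 IH)
theorem s0_f61066 : s0_v3447 = s0_v2873 :=
  edge_fun (edge_congr (s0_f45985r IH) (s0_f61052 IH)) (s0_f26619 IH)
theorem s0_f26615r : ed sl_at s0_v2873 = s0_v2468 :=
  edge_flip (s0_f26615 IH)
theorem s0_f61068 : s0_v6590 = s0_v2468 :=
  edge_fun (edge_congr (s0_f46039 IH) (s0_f61066 IH)) (s0_f26615r IH)
theorem s0_f46042r : ed sl_dt s0_v6590 = s0_v5436 :=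
  edge_flip (s0_f46042 IH)
theorem s0_f61079 : s0_v5436 = s0_v3155 :=
  edge_fun (edge_congr (s0_f46042r IH) (s0_f61068 IH)) (s0_f28244 IH)
theorem s0_f39904r : ed sl_ct s0_v5436 = sq1680 :=
  edge_flip (s0_f39904 IH)
theorem s0_f61084 : sq1680 = s0_v6047 :=
  edge_fun (edge_congr (s0_f39904r IH) (s0_f61079 IH)) (s0_f43223 IH)
theorem s0_f17708r : ed sl_et sq1680 = sq1531 :=
  edge_flip (s0_f17708 IH)
theorem s0_f61100 : s0_v3154 = sq1531 :=
  edge_fun (edge_congr (s0_f43222r IH) (s0_f61084 IH).symm) (s0_f17708r IH)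
theorem s0_f61117 : s0_v6046 = s0_v4941 :=
  edge_fun (edge_congr (s0_f43214 IH) (s0_f61100 IH)) (s0_f37314 IH)
theorem s0_f45084r : ed sl_bt s0_v6417 = s0_v3354 :=
  edge_flip (s0_f45084 IH)
theorem s0_f37315r : ed sl_bt s0_v4941 = sq1532 :=
  edge_flip (s0_f37315 IH)
theorem s0_f61132 : s0_v3354 = sq1532 :=
  edge_fun (edge_congr (s0_f45084r IH) ((s0_f61033 IH).symm.trans (s0_f61117 IH))) (s0_f37315r IH)
theorem s0_f29288r : ed sl_at s0_v3354 = s0_v2043 :=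
  edge_flip (s0_f29288 IH)
theorem s0_f61148 : s0_v2043 = sq1181 :=
  edge_fun (edge_congr (s0_f29288r IH) (s0_f61132 IH)) (s0_f3384 IH)
theorem s0_f21880r : ed sl_bt s0_v2043 = sq833 :=
  edge_flip (s0_f21880 IH)
theorem s0_f61171 : sq833 = s0_v1741 :=
  edge_fun (edge_congr (s0_f21880r IH) (s0_f61148 IH)) (s0_f19653 IH)
theorem s0_f61222 : s0_v2336 = sq566 :=
  edge_fun (edge_congr (s0_f23787 IH) (s0_f61171 IH).symm) (s0_f10450 IH)
theorem s0_f61223 : s0_v2337 = sq858 :=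
  edge_fun (edge_congr (s0_f23793 IH) (s0_f61171 IH).symm) (s0_f18146 IH)
theorem s0_f61225 : s0_v1078 = sq684 :=
  edge_fun (edge_congr (s0_f19652r IH) (s0_f61171 IH).symm) (s0_f18141 IH)
theorem s0_f61273 : s0_v2338 = sq385 :=
  edge_fun (edge_congr (s0_f23805 IH) (s0_f61222 IH)) (s0_f6846 IH)
theorem s0_f61277 : s0_v2757 = sq1228 :=
  edge_fun (edge_congr (s0_f25836 IH) (s0_f61223 IH)) (s0_f3742 IH)
theorem s0_f61284 : sq992 = s0_v1828 :=
  edge_fun (edge_congr (s0_f11331r IH) (s0_f61225 IH)) (s0_f20370 IH)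
theorem s0_f61287 : s0_v1830 = sq642 :=
  edge_fun (edge_congr (s0_f20389 IH) (s0_f61225 IH)) (s0_f18132r IH)
theorem s0_f23802r : ed sl_ft s0_v2338 = s0_v1878 :=
  edge_flip (s0_f23802 IH)
theorem s0_f61345 : s0_v1878 = s0_v998 :=
  edge_fun (edge_congr (s0_f23802r IH) (s0_f61273 IH)) (s0_f10435 IH)
theorem s0_f23803r : ed sl_gt s0_v2338 = s0_v1910 :=
  edge_flip (s0_f23803 IH)
theorem s0_f61346 : s0_v1910 = s0_v999 :=
  edge_fun (edge_congr (s0_f23803r IH) (s0_f61273 IH)) (s0_f10441 IH)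
theorem s0_f25831r : ed sl_ct s0_v2757 = s0_v2060 :=
  edge_flip (s0_f25831 IH)
theorem s0_f61354 : s0_v2060 = sq1224 :=
  edge_fun (edge_congr (s0_f25831r IH) (s0_f61277 IH)) (s0_f3735 IH)
theorem s0_f61355 : s0_v2114 = sq1259 :=
  edge_fun (edge_congr (s0_f25835r IH) (s0_f61277 IH)) (s0_f18083 IH)
theorem s0_f20372r : ed sl_ct s0_v1828 = sq1258 :=
  edge_flip (s0_f20372 IH)
theorem s0_f61371 : sq1258 = s0_v2250 :=
  edge_fun (edge_congr (s0_f20372r IH) (s0_f61284 IH).symm) (s0_f23252 IH)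
theorem s0_f61373 : s0_v2253 = sq940 :=
  edge_fun (edge_congr (s0_f23274 IH) (s0_f61287 IH)) (s0_f10952 IH)
theorem s0_f61473 : s0_v1912 = s0_v476 :=
  edge_fun (edge_congr (s0_f20891 IH) (((s0_f61345 IH).trans (s0_f15942 IH)).trans (s0_f16339 IH))) (s0_f7150 IH)
theorem s0_f61474 : s0_v2617 = s0_v498 :=
  edge_fun (edge_congr (s0_f25182 IH) ((s0_f61346 IH).trans (s0_f16672 IH).symm)) (s0_f7373 IH)
theorem s0_f61496 : s0_v2952 = sq1260 :=
  edge_fun (edge_congr (s0_f27101 IH) (s0_f61354 IH)) (s0_f18067 IH)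
theorem s0_f61497 : s0_v3004 = s0_v3008 :=
  edge_fun (edge_congr (s0_f27435 IH) (s0_f61355 IH)) (s0_f27460 IH)
theorem s0_f61519 : s0_v3735 = s0_v3008 :=
  edge_fun (edge_congr (s0_f31203 IH) (s0_f61371 IH).symm) (s0_f27457 IH)
theorem s0_f61523 : s0_v3738 = s0_v1831 :=
  edge_fun (edge_congr (s0_f31215 IH) (s0_f61373 IH)) (s0_f20393 IH)
theorem s0_f61635 : s0_v2619 = s0_v231 :=
  edge_fun (edge_congr (s0_f25194 IH) (((s0_f61473 IH).trans (s0_f15337 IH)).trans (s0_f16153 IH))) (s0_f5466 IH)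
theorem s0_f61637 : s0_v3948 = s0_v1018 :=
  edge_fun (edge_congr (s0_f32170 IH) ((s0_f61474 IH).trans (s0_f16485 IH))) (s0_f10631 IH)
theorem s0_f61675 : s0_v5024 = sq1594 :=
  edge_fun (edge_congr (s0_f37773 IH) (s0_f61496 IH)) (s0_f835 IH)
theorem s0_f61678 : s0_v5785 = s0_v5777 :=
  edge_fun (edge_congr (s0_f41853 IH) (s0_f61497 IH).symm) (s0_f41807 IH)
theorem s0_f61725 : s0_v6153 = s0_v5777 :=
  edge_fun (edge_congr (s0_f43715 IH) ((s0_f61519 IH).trans (s0_f61497 IH).symm)) (s0_f41807 IH)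
theorem s0_f61733 : s0_v7130 = s0_v2498 :=
  edge_fun (edge_congr (s0_f48889 IH) (s0_f61523 IH)) (s0_f24576 IH)
theorem s0_f25196r : ed sl_ct s0_v2619 = s0_v2546 :=
  edge_flip (s0_f25196 IH)
theorem s0_f61842 : s0_v2546 = sq178 :=
  edge_fun (edge_congr (s0_f25196r IH) ((s0_f61635 IH).trans (s0_f16223 IH))) (s0_f6687 IH)
theorem s0_f61847 : s0_v4195 = sq581 :=
  edge_fun (edge_congr (s0_f33283 IH) ((s0_f61637 IH).trans (s0_f16146 IH))) (s0_f7383 IH)
theorem s0_f61863 : s0_v9235 = s0_v4189 :=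
  edge_fun (edge_congr (s0_f60233 IH) (s0_f61733 IH)) (s0_f33250 IH)
theorem s0_f61954 : s0_v2615 = sq273 :=
  edge_fun (edge_congr (s0_f25176 IH) (s0_f61842 IH)) (s0_f5056 IH)
theorem s0_f61958 : s0_v7887 = sq857 :=
  edge_fun (edge_congr (s0_f53033 IH) (s0_f61847 IH)) (s0_f7391 IH)
theorem s0_f60231r : ed sl_dt s0_v9235 = s0_v4788 :=
  edge_flip (s0_f60231 IH)
theorem s0_f61973 : s0_v4788 = s0_v7888 :=
  edge_fun (edge_congr (s0_f60231r IH) (s0_f61863 IH)) (s0_f53034 IH)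
theorem s0_f62056 : s0_v4404 = sq408 :=
  edge_fun (edge_congr (s0_f34264 IH) (s0_f61954 IH)) (s0_f6893 IH)
theorem s0_f53031r : ed sl_bt s0_v7887 = s0_v4189 :=
  edge_flip (s0_f53031 IH)
theorem s0_f62060 : s0_v4189 = sq1226 :=
  edge_fun (edge_congr (s0_f53031r IH) (s0_f61958 IH)) (s0_f7393 IH)
theorem s0_f34262r : ed sl_bt s0_v4404 = s0_v2609 :=
  edge_flip (s0_f34262 IH)
theorem s0_f62109 : s0_v2609 = s0_v1016 :=
  edge_fun (edge_congr (s0_f34262r IH) (s0_f62056 IH)) (s0_f10609 IH)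
theorem s0_f62116 : s0_v7888 = sq1573 :=
  edge_fun (edge_congr (s0_f53034 IH) (s0_f62060 IH)) (s0_f7395 IH)
theorem s0_f62164 : s0_v4398 = s0_v1865 :=
  edge_fun (edge_congr (s0_f34240 IH) (s0_f62109 IH)) (s0_f20629 IH)
theorem s0_f62178 : s0_v9236 = s0_v5024 :=
  edge_fun (edge_congr (s0_f60235 IH) ((s0_f61973 IH).trans (s0_f62116 IH))) (s0_f37769 IH)
theorem s0_f62179 : s0_v9237 = s0_v5025 :=
  edge_fun (edge_congr (s0_f60241 IH) ((s0_f61973 IH).trans (s0_f62116 IH))) (s0_f37775 IH)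
theorem s0_f34238r : ed sl_dt s0_v4398 = s0_v4382 :=
  edge_flip (s0_f34238 IH)
theorem s0_f62225 : s0_v4382 = s0_v2365 :=
  edge_fun (edge_congr (s0_f34238r IH) (s0_f62164 IH)) (s0_f23946 IH)
theorem s0_f60236r : ed sl_at s0_v9236 = s0_v4790 :=
  edge_flip (s0_f60236 IH)
theorem s0_f62244 : s0_v4790 = s0_v5072 :=
  edge_fun (edge_congr (s0_f60236r IH) ((s0_f62178 IH).trans (s0_f61675 IH))) (s0_f38028 IH)
theorem s0_f34180r : ed sl_ct s0_v4382 = s0_v2600 :=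
  edge_flip (s0_f34180 IH)
theorem s0_f62298 : s0_v2600 = s0_v3933 :=
  edge_fun (edge_congr (s0_f34180r IH) (s0_f62225 IH)) (s0_f32082 IH)
theorem s0_f38030r : ed sl_dt s0_v5072 = sq1595 :=
  edge_flip (s0_f38030 IH)
theorem s0_f62311 : sq1595 = s0_v8814 :=
  edge_fun (edge_congr (s0_f38030r IH) (s0_f62244 IH).symm) (s0_f57915 IH)
theorem s0_f62364 : ed sl_bt sq1747 = sq1595 :=
  edge_of_path (path_eq (s0_f62311 IH).symm (path_edge (s0_f57912 IH) (path_nil sq1747)))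
theorem s0_f31096r : ed sl_ct s0_v3711 = s0_v2239 :=
  edge_flip (s0_f31096 IH)
theorem s0_f32083r : ed sl_at s0_v3933 = s0_v2366 :=
  edge_flip (s0_f32083 IH)
theorem s0_f32067r : ed sl_ct s0_v3929 = s0_v2363 :=
  edge_flip (s0_f32067 IH)
theorem s0_f23930r : ed sl_bt s0_v2363 = s0_v1758 :=
  edge_flip (s0_f23930 IH)
theorem s0_f62525 : s0_v7451 = sq576 :=
  (loop_rel s0_rot71 (path_edge (s0_f50520 IH) (path_edge (s0_f32024 IH) (path_edge (s0_f23911 IH) (path_edge (s0_f23918r IH) (path_edge (s0_f23922 IH) (path_edge (s0_f23930r IH) (path_edge (s0_f32067r IH) (path_edge (s0_f32069 IH) (path_edge (s0_f32083r IH) (path_eq (s0_f62298 IH) (path_edge (s0_f25107 IH) (path_edge (s0_f31096r IH) (path_edge (s0_f48697r IH) (path_edge (s0_f48698 IH) (path_eq (s0_f61725 IH).symm (path_eq (s0_f61678 IH) (path_edge (s0_f41857 IH) (path_eq (s0_f62179 IH) (path_edge (s0_f60246 IH) (path_edge (s0_f39863 IH) (path_edge (s0_f26213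 IH) (path_edge (s0_f7061 IH) (path_edge (s0_f7060 IH) (path_edge (s0_f18937 IH) (path_nil sq576)))))))))))))))))))))))))).symm
theorem s0_f50521r : ed sl_at s0_v7451 = s0_v3920 :=
  edge_flip (s0_f50521 IH)
theorem s0_f62526 : s0_v3920 = sq404 :=
  edge_fun (edge_congr (s0_f50521r IH) (s0_f62525 IH)) (s0_f18944 IH)
theorem s0_f32025r : ed sl_bt s0_v3920 = s0_v2359 :=
  edge_flip (s0_f32025 IH)
theorem s0_f62527 : s0_v2359 = sq603 :=
  edge_fun (edge_congr (s0_f32025r IH) (s0_f62526 IH)) (s0_f6512 IH)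
theorem s0_f62533 : s0_v1757 = s0_v1756 :=
  edge_fun (edge_congr (s0_f23912r IH) (s0_f62527 IH)) (s0_f19811 IH)
theorem s0_f62534 : s0_v3921 = sq407 :=
  edge_fun (edge_congr (s0_f32026 IH) (s0_f62527 IH)) (s0_f5091 IH)
theorem s0_f19814r : ed sl_dt s0_v1756 = s0_v1014 :=
  edge_flip (s0_f19814 IH)
theorem s0_f62540 : s0_v2361 = s0_v1014 :=
  edge_fun (edge_congr (s0_f23923 IH) (s0_f62533 IH)) (s0_f19814r IH)
theorem s0_f32029r : ed sl_ct s0_v3921 = s0_v2361 :=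
  edge_flip (s0_f32029 IH)
theorem s0_f62544 : s0_v2361 = sq407 :=
  edge_fun (edge_congr (s0_f32029r IH) (s0_f62534 IH)) (s0_f5090 IH)
theorem s0_f62574 : s0_v1861 = sq271 :=
  edge_fun (edge_congr (s0_f20601 IH) ((s0_f62540 IH).symm.trans (s0_f62544 IH))) (s0_f5089 IH)
theorem s0_f62627 : s0_v2537 = sq408 :=
  edge_fun (edge_congr (s0_f24803 IH) (s0_f62574 IH)) (s0_f6957 IH)
theorem s0_f62676 : s0_v4257 = sq391 :=
  edge_fun (edge_congr (s0_f33591 IH) (s0_f62627 IH)) (s0_f10620 IH)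
theorem s0_f62772 : s0_v6656 = sq577 :=
  edge_fun (edge_congr (s0_f46415 IH) (s0_f62676 IH)) (s0_f2451 IH)
theorem s0_f46408r : ed sl_at s0_v6656 = s0_v3480 :=
  edge_flip (s0_f46408 IH)
theorem s0_f62924 : s0_v3480 = sq850 :=
  edge_fun (edge_congr (s0_f46408r IH) (s0_f62772 IH)) (s0_f2452 IH)
theorem s0_f63215 : s0_v2111 = sq1205 :=
  edge_fun (edge_congr (s0_f29970r IH) (s0_f62924 IH)) (s0_f2453 IH)
theorem s0_f63231 : ed sl_bt sq891 = sq1205 :=
  edge_of_path (path_eq (s0_f63215 IH) (path_edge (s0_f22369 IH) (path_nil sq891)))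

end

end

end Cfsg.Agent.Helper28.S1680
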