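import Cfsg.Agent.Lib.Helper28.S1680.Seeds1

set_option autoImplicit false
set_option maxRecDepth 100000
set_option linter.all false

namespace Cfsg.Agent.Helper28.S1680

open Cfsg.Agent.Helper28
open Cfsg.Spor.Suz (Gen)

noncomputable section

section
variable (IH : ∀ y q, lvl y q < 16 → EntryOK rels S fwd inv o plet idx y q)
include IH

theorem s0_f2754 : ed sl_gt sq96 = sq149 :=
  real_edge rels S fwd inv o lvl plet idx 16 IH Gen.g sp96 sp149 rfl rfl
theorem s0_f2756 : ed sl_et sq61 = sq101 :=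
  real_edge rels S fwd inv o lvl plet idx 16 IH Gen.e sp61 sp101 rfl rfl
theorem s0_f2750r : ed sl_gt sq100 = sq61 :=
  edge_flip (s0_f2750 IH)
theorem s0_f2757 : ed sl_gt sq101 = sq156 :=
  gap_rel s0_rot21 (path_edge (s0_f2756 IH) (path_edge (s0_f2750r IH) (path_edge (s0_f2715 IH) (path_nil sq156))))
theorem s0_f2760 : ed sl_gt sq231 = sq147 :=
  real_edge rels S fwd inv o lvl plet idx 16 IH Gen.g sp231 sp147 rfl rfl
theorem s0_f2761 : ed sl_dt sq157 = sq101 :=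
  real_edge rels S fwd inv o lvl plet idx 16 IH Gen.d sp157 sp101 rfl rfl
theorem s0_f2762 : ed sl_dt sq156 = sq242 :=
  real_edge rels S fwd inv o lvl plet idx 16 IH Gen.d sp156 sp242 rfl rfl
theorem s0_f2762r : ed sl_df sq242 = sq156 :=
  edge_flip (s0_f2762 IH)
theorem s0_f2757r : ed sl_gf sq156 = sq101 :=
  edge_flip (s0_f2757 IH)
theorem s0_f2761r : ed sl_df sq101 = sq157 :=
  edge_flip (s0_f2761 IH)
theorem s0_f2763 : ed sl_gf sq157 = sq242 :=
  gap_rel s0_rot45 (path_edge (s0_f2761r IH) (path_edge (s0_f2757r IH) (path_edge (s0_f2762r IH) (path_nil sq242))))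
theorem s0_f2768 : ed sl_bt sq157 = sq229 :=
  real_edge rels S fwd inv o lvl plet idx 16 IH Gen.b sp157 sp229 rfl rfl
theorem s0_f2769 : ed sl_gt sq229 = sq355 :=
  real_edge rels S fwd inv o lvl plet idx 16 IH Gen.g sp229 sp355 rfl rfl
theorem s0_f2770 : ed sl_ct sq157 = sq243 :=
  real_edge rels S fwd inv o lvl plet idx 16 IH Gen.c sp157 sp243 rfl rfl
theorem s0_f2763r : ed sl_gt sq242 = sq157 :=
  edge_flip (s0_f2763 IH)
theorem s0_f2771 : ed sl_gt sq243 = sq367 :=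
  gap_rel s0_rot88 (path_edge (s0_f2770 IH) (path_edge (s0_f2763r IH) (path_edge (s0_f2524 IH) (path_nil sq367))))
theorem s0_f2776 : ed sl_gt sq157 = sq242 :=
  gap_rel s0_rot25 (path_edge (s0_f2763r IH) (path_nil sq242))
theorem s0_f2780 : ed sl_ct sq243 = sq157 :=
  real_edge rels S fwd inv o lvl plet idx 16 IH Gen.c sp243 sp157 rfl rfl
theorem s0_f2781 : ed sl_ct sq242 = sq367 :=
  real_edge rels S fwd inv o lvl plet idx 16 IH Gen.c sp242 sp367 rfl rfl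
theorem s0_f2781r : ed sl_cf sq367 = sq242 :=
  edge_flip (s0_f2781 IH)
theorem s0_f2776r : ed sl_gf sq242 = sq157 :=
  edge_flip (s0_f2776 IH)
theorem s0_f2780r : ed sl_cf sq157 = sq243 :=
  edge_flip (s0_f2780 IH)
theorem s0_f2782 : ed sl_gf sq243 = sq367 :=
  gap_rel s0_rot5 (path_edge (s0_f2780r IH) (path_edge (s0_f2776r IH) (path_edge (s0_f2781r IH) (path_nil sq367))))
theorem s0_f2784 : ed sl_dt sq101 = sq157 :=
  real_edge rels S fwd inv o lvl plet idx 16 IH Gen.d sp101 sp157 rfl rfl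
theorem s0_f2785 : ed sl_et sq103 = sq157 :=
  real_edge rels S fwd inv o lvl plet idx 16 IH Gen.e sp103 sp157 rfl rfl
theorem s0_f2786 : ed sl_gt sq162 = sq103 :=
  real_edge rels S fwd inv o lvl plet idx 16 IH Gen.g sp162 sp103 rfl rfl
theorem s0_f2785r : ed sl_ef sq157 = sq103 :=
  edge_flip (s0_f2785 IH)
theorem s0_f2786r : ed sl_gf sq103 = sq162 :=
  edge_flip (s0_f2786 IH)
theorem s0_f2787 : ed sl_ef sq162 = sq242 :=
  gap_rel s0_rot36 (path_edge (s0_f2786r IH) (path_edge (s0_f2785r IH) (path_edge (s0_f2776r IH) (path_nil sq242))))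
theorem s0_f2789 : ed sl_ft sq244 = sq157 :=
  real_edge rels S fwd inv o lvl plet idx 16 IH Gen.f sp244 sp157 rfl rfl
theorem s0_f2787r : ed sl_et sq242 = sq162 :=
  edge_flip (s0_f2787 IH)
theorem s0_f2792 : ed sl_et sq249 = sq367 :=
  gap_rel s0_rot33 (path_edge (s0_f2723 IH) (path_edge (s0_f2787r IH) (path_edge (s0_f2524 IH) (path_nil sq367))))
theorem s0_f2794 : ed sl_dt sq162 = sq105 :=
  real_edge rels S fwd inv o lvl plet idx 16 IH Gen.d sp162 sp105 rfl rfl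
theorem s0_f2796 : ed sl_ft sq162 = sq251 :=
  real_edge rels S fwd inv o lvl plet idx 16 IH Gen.f sp162 sp251 rfl rfl
theorem s0_f2797 : ed sl_ct sq105 = sq66 :=
  real_edge rels S fwd inv o lvl plet idx 16 IH Gen.c sp105 sp66 rfl rfl
theorem s0_f2798 : ed sl_bt sq377 = sq249 :=
  real_edge rels S fwd inv o lvl plet idx 16 IH Gen.b sp377 sp249 rfl rfl
theorem s0_f2799 : ed sl_bt sq367 = sq539 :=
  real_edge rels S fwd inv o lvl plet idx 16 IH Gen.b sp367 sp539 rfl rfl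
theorem s0_f2792r : ed sl_ef sq367 = sq249 :=
  edge_flip (s0_f2792 IH)
theorem s0_f2802 : ed sl_ef sq249 = sq367 :=
  gap_rel s0_rot34 (path_edge (s0_f2792r IH) (path_nil sq367))
theorem s0_f2804 : ed sl_ft sq378 = sq249 :=
  real_edge rels S fwd inv o lvl plet idx 16 IH Gen.f sp378 sp249 rfl rfl
theorem s0_f2805 : ed sl_gt sq160 = sq249 :=
  real_edge rels S fwd inv o lvl plet idx 16 IH Gen.g sp160 sp249 rfl rfl
theorem s0_f2807 : ed sl_bt sq539 = sq367 :=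
  real_edge rels S fwd inv o lvl plet idx 16 IH Gen.b sp539 sp367 rfl rfl
theorem s0_f2802r : ed sl_et sq367 = sq249 :=
  edge_flip (s0_f2802 IH)
theorem s0_f2808 : ed sl_et sq377 = sq539 :=
  gap_rel s0_rot35 (path_edge (s0_f2724 IH) (path_edge (s0_f2802r IH) (path_edge (s0_f2807 IH) (path_nil sq539))))
theorem s0_f2810 : ed sl_ct sq249 = sq162 :=
  real_edge rels S fwd inv o lvl plet idx 16 IH Gen.c sp249 sp162 rfl rfl
theorem s0_f2811 : ed sl_ft sq249 = sq378 :=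
  real_edge rels S fwd inv o lvl plet idx 16 IH Gen.f sp249 sp378 rfl rfl
theorem s0_f2812 : ed sl_gt sq249 = sq160 :=
  real_edge rels S fwd inv o lvl plet idx 16 IH Gen.g sp249 sp160 rfl rfl
theorem s0_f2815 : ed sl_at sq539 = sq785 :=
  real_edge rels S fwd inv o lvl plet idx 16 IH Gen.a sp539 sp785 rfl rfl
theorem s0_f2818 : ed sl_ft sq559 = sq377 :=
  real_edge rels S fwd inv o lvl plet idx 16 IH Gen.f sp559 sp377 rfl rfl
theorem s0_f2819 : ed sl_ft sq539 = sq786 :=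
  real_edge rels S fwd inv o lvl plet idx 16 IH Gen.f sp539 sp786 rfl rfl
theorem s0_f2819r : ed sl_ff sq786 = sq539 :=
  edge_flip (s0_f2819 IH)
theorem s0_f2808r : ed sl_ef sq539 = sq377 :=
  edge_flip (s0_f2808 IH)
theorem s0_f2818r : ed sl_ff sq377 = sq559 :=
  edge_flip (s0_f2818 IH)
theorem s0_f2820 : ed sl_ef sq559 = sq786 :=
  gap_rel s0_rot32 (path_edge (s0_f2818r IH) (path_edge (s0_f2808r IH) (path_edge (s0_f2819r IH) (path_nil sq786))))
theorem s0_f2822 : ed sl_gt sq553 = sq377 :=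
  real_edge rels S fwd inv o lvl plet idx 16 IH Gen.g sp553 sp377 rfl rfl
theorem s0_f2832 : ed sl_ft sq553 = sq811 :=
  real_edge rels S fwd inv o lvl plet idx 16 IH Gen.f sp553 sp811 rfl rfl
theorem s0_f2838 : ed sl_bt sq1157 = sq811 :=
  real_edge rels S fwd inv o lvl plet idx 16 IH Gen.b sp1157 sp811 rfl rfl
theorem s0_f2844 : ed sl_gt sq819 = sq811 :=
  real_edge rels S fwd inv o lvl plet idx 16 IH Gen.g sp819 sp811 rfl rfl
theorem s0_f2850 : ed sl_at sq819 = sq559 :=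
  real_edge rels S fwd inv o lvl plet idx 16 IH Gen.a sp819 sp559 rfl rfl
theorem s0_f2867 : ed sl_at sq1126 = sq786 :=
  real_edge rels S fwd inv o lvl plet idx 16 IH Gen.a sp1126 sp786 rfl rfl
theorem s0_f2873 : ed sl_ft sq1126 = sq785 :=
  real_edge rels S fwd inv o lvl plet idx 16 IH Gen.f sp1126 sp785 rfl rfl
theorem s0_f2878 : ed sl_bt sq820 = sq559 :=
  real_edge rels S fwd inv o lvl plet idx 16 IH Gen.b sp820 sp559 rfl rfl
theorem s0_f2880 : ed sl_ft sq786 = sq539 :=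
  real_edge rels S fwd inv o lvl plet idx 16 IH Gen.f sp786 sp539 rfl rfl
theorem s0_f2882 : ed sl_ct sq1175 = sq820 :=
  real_edge rels S fwd inv o lvl plet idx 16 IH Gen.c sp1175 sp820 rfl rfl
theorem s0_f2920 : ed sl_ft sq1157 = sq812 :=
  real_edge rels S fwd inv o lvl plet idx 16 IH Gen.f sp1157 sp812 rfl rfl
theorem s0_f2939 : ed sl_ft sq368 = sq542 :=
  real_edge rels S fwd inv o lvl plet idx 16 IH Gen.f sp368 sp542 rfl rfl
theorem s0_f2960 : ed sl_bt sq559 = sq820 :=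
  real_edge rels S fwd inv o lvl plet idx 16 IH Gen.b sp559 sp820 rfl rfl
theorem s0_f2962 : ed sl_ct sq101 = sq156 :=
  real_edge rels S fwd inv o lvl plet idx 16 IH Gen.c sp101 sp156 rfl rfl
theorem s0_f2963 : ed sl_ct sq353 = sq229 :=
  real_edge rels S fwd inv o lvl plet idx 16 IH Gen.c sp353 sp229 rfl rfl
theorem s0_f2964 : ed sl_dt sq520 = sq353 :=
  real_edge rels S fwd inv o lvl plet idx 16 IH Gen.d sp520 sp353 rfl rfl
theorem s0_f2965 : ed sl_ct sq520 = sq520 :=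
  real_edge rels S fwd inv o lvl plet idx 16 IH Gen.c sp520 sp520 rfl rfl
theorem s0_f2966 : ed sl_dt sq353 = sq520 :=
  real_edge rels S fwd inv o lvl plet idx 16 IH Gen.d sp353 sp520 rfl rfl
theorem s0_f2971 : ed sl_dt sq1131 = sq792 :=
  real_edge rels S fwd inv o lvl plet idx 16 IH Gen.d sp1131 sp792 rfl rfl
theorem s0_f2972 : ed sl_dt sq243 = sq369 :=
  real_edge rels S fwd inv o lvl plet idx 16 IH Gen.d sp243 sp369 rfl rfl
theorem s0_f2977 : ed sl_dt sq369 = sq243 :=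
  real_edge rels S fwd inv o lvl plet idx 16 IH Gen.d sp369 sp243 rfl rfl
theorem s0_f2978 : ed sl_ft sq370 = sq243 :=
  real_edge rels S fwd inv o lvl plet idx 16 IH Gen.f sp370 sp243 rfl rfl
theorem s0_f2981 : ed sl_gt sq147 = sq231 :=
  real_edge rels S fwd inv o lvl plet idx 16 IH Gen.g sp147 sp231 rfl rfl
theorem s0_f2982 : ed sl_ft sq101 = sq158 :=
  real_edge rels S fwd inv o lvl plet idx 16 IH Gen.f sp101 sp158 rfl rfl
theorem s0_f2985 : ed sl_ct sq541 = sq792 :=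
  real_edge rels S fwd inv o lvl plet idx 16 IH Gen.c sp541 sp792 rfl rfl
theorem s0_f2988 : ed sl_ft sq107 = sq64 :=
  real_edge rels S fwd inv o lvl plet idx 16 IH Gen.f sp107 sp64 rfl rfl
theorem s0_f2989 : ed sl_dt sq26 = sq48 :=
  real_edge rels S fwd inv o lvl plet idx 16 IH Gen.d sp26 sp48 rfl rfl
theorem s0_f2990 : ed sl_bt sq235 = sq359 :=
  real_edge rels S fwd inv o lvl plet idx 16 IH Gen.b sp235 sp359 rfl rfl
theorem s0_f2991 : ed sl_dt sq359 = sq527 :=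
  real_edge rels S fwd inv o lvl plet idx 16 IH Gen.d sp359 sp527 rfl rfl
theorem s0_f2992 : ed sl_dt sq181 = sq131 :=
  real_edge rels S fwd inv o lvl plet idx 16 IH Gen.d sp181 sp131 rfl rfl
theorem s0_f2993 : ed sl_ct sq131 = sq189 :=
  real_edge rels S fwd inv o lvl plet idx 16 IH Gen.c sp131 sp189 rfl rfl
theorem s0_f2994 : ed sl_dt sq189 = sq296 :=
  real_edge rels S fwd inv o lvl plet idx 16 IH Gen.d sp189 sp296 rfl rfl
theorem s0_f2995 : ed sl_ct sq296 = sq444 :=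
  real_edge rels S fwd inv o lvl plet idx 16 IH Gen.c sp296 sp444 rfl rfl
theorem s0_f2998 : ed sl_dt sq147 = sq229 :=
  real_edge rels S fwd inv o lvl plet idx 16 IH Gen.d sp147 sp229 rfl rfl
theorem s0_f2999 : ed sl_ct sq229 = sq353 :=
  real_edge rels S fwd inv o lvl plet idx 16 IH Gen.c sp229 sp353 rfl rfl
theorem s0_f142r : ed sl_cf sq88 = sq54 :=
  edge_flip (s0_f142 IH)
theorem s0_f2704r : ed sl_af sq54 = sq66 :=
  edge_flip (s0_f2704 IH)
theorem s0_f2797r : ed sl_cf sq66 = sq105 :=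
  edge_flip (s0_f2797 IH)
theorem s0_f3005 : ed sl_af sq105 = sq88 :=
  gap_rel s0_rot10 (path_edge (s0_f2797r IH) (path_edge (s0_f2704r IH) (path_edge (s0_f142r IH) (path_nil sq88))))
theorem s0_f3009 : ed sl_at sq58 = sq38 :=
  real_edge rels S fwd inv o lvl plet idx 16 IH Gen.a sp58 sp38 rfl rfl
theorem s0_f225r : ed sl_gf sq66 = sq38 :=
  edge_flip (s0_f225 IH)
theorem s0_f3009r : ed sl_af sq38 = sq58 :=
  edge_flip (s0_f3009 IH)
theorem s0_f3010 : ed sl_gf sq58 = sq54 :=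
  gap_rel s0_rot47 (path_edge (s0_f3009r IH) (path_edge (s0_f225r IH) (path_edge (s0_f2704r IH) (path_nil sq54))))
theorem s0_f3012 : ed sl_dt sq249 = sq211 :=
  gap_rel s0_rot7 (path_edge (s0_f2723 IH) (path_edge (s0_f2714 IH) (path_edge (s0_f2722 IH) (path_edge (s0_f2721 IH) (path_edge (s0_f2704r IH) (path_edge (s0_f1450 IH) (path_edge (s0_f1451 IH) (path_edge (s0_f1452 IH) (path_nil sq211)))))))))
theorem s0_f3014 : ed sl_gt sq65 = sq90 :=
  gap_rel s0_rot17 (path_edge (s0_f2131 IH) (path_edge (s0_f2134 IH) (path_edge (s0_f2704r IH) (path_edge (s0_f2132 IH) (path_nil sq90)))))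
theorem s0_f3017 : ed sl_gt sq108 = sq94 :=
  real_edge rels S fwd inv o lvl plet idx 16 IH Gen.g sp108 sp94 rfl rfl
theorem s0_f1927r : ed sl_cf sq137 = sq90 :=
  edge_flip (s0_f1927 IH)
theorem s0_f3014r : ed sl_gf sq90 = sq65 :=
  edge_flip (s0_f3014 IH)
theorem s0_f2105r : ed sl_cf sq65 = sq104 :=
  edge_flip (s0_f2105 IH)
theorem s0_f3018 : ed sl_gf sq104 = sq137 :=
  gap_rel s0_rot5 (path_edge (s0_f2105r IH) (path_edge (s0_f3014r IH) (path_edge (s0_f1927r IH) (path_nil sq137))))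
theorem s0_f3018r : ed sl_gt sq137 = sq104 :=
  edge_flip (s0_f3018 IH)
theorem s0_f3022 : ed sl_gt sq161 = sq212 :=
  gap_rel s0_rot20 (path_edge (s0_f2121 IH) (path_edge (s0_f3018r IH) (path_edge (s0_f1929 IH) (path_nil sq212))))
theorem s0_f3024 : ed sl_gt sq63 = sq89 :=
  gap_rel s0_rot21 (path_edge (s0_f2157 IH) (path_edge (s0_f3018r IH) (path_edge (s0_f1804 IH) (path_nil sq89))))
theorem s0_f3026 : ed sl_ft sq104 = sq62 :=
  real_edge rels S fwd inv o lvl plet idx 16 IH Gen.f sp104 sp62 rfl rfl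
theorem s0_f3027 : ed sl_gt sq62 = sq105 :=
  real_edge rels S fwd inv o lvl plet idx 16 IH Gen.g sp62 sp105 rfl rfl
theorem s0_f3030 : ed sl_af sq164 = sq137 :=
  gap_rel s0_rot81 (path_edge (s0_f2624 IH) (path_edge (s0_f3027 IH) (path_edge (s0_f3026 IH) (path_edge (s0_f3018r IH) (path_nil sq137)))))
theorem s0_f3032 : ed sl_bt sq62 = sq97 :=
  real_edge rels S fwd inv o lvl plet idx 16 IH Gen.b sp62 sp97 rfl rfl
theorem s0_f3033 : ed sl_gt sq97 = sq152 :=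
  real_edge rels S fwd inv o lvl plet idx 16 IH Gen.g sp97 sp152 rfl rfl
theorem s0_f3034 : ed sl_ft sq152 = sq240 :=
  real_edge rels S fwd inv o lvl plet idx 16 IH Gen.f sp152 sp240 rfl rfl
theorem s0_f3037 : ed sl_bt sq164 = sq254 :=
  real_edge rels S fwd inv o lvl plet idx 16 IH Gen.b sp164 sp254 rfl rfl
theorem s0_f1806r : ed sl_cf sq332 = sq212 :=
  edge_flip (s0_f1806 IH)
theorem s0_f1805r : ed sl_df sq212 = sq137 :=
  edge_flip (s0_f1805 IH)
theorem s0_f3030r : ed sl_at sq137 = sq164 :=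
  edge_flip (s0_f3030 IH)
theorem s0_f2668r : ed sl_cf sq164 = sq108 :=
  edge_flip (s0_f2668 IH)
theorem s0_f2667r : ed sl_df sq108 = sq108 :=
  edge_flip (s0_f2667 IH)
theorem s0_f2623r : ed sl_cf sq108 = sq164 :=
  edge_flip (s0_f2623 IH)
theorem s0_f2658r : ed sl_df sq164 = sq251 :=
  edge_flip (s0_f2658 IH)
theorem s0_f2659r : ed sl_cf sq251 = sq378 :=
  edge_flip (s0_f2659 IH)
theorem s0_f3044 : ed sl_df sq378 = sq332 :=
  gap_rel s0_rot62 (path_edge (s0_f2659r IH) (path_edge (s0_f2658r IH) (path_edge (s0_f2623r IH) (path_edge (s0_f2667r IH) (path_edge (s0_f2668r IH) (path_edge (s0_f3030r IH) (path_edge (s0_f1805r IH) (path_edge (s0_f1806r IH) (path_nil sq332)))))))))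
theorem s0_f3046 : ed sl_bt sq493 = sq332 :=
  real_edge rels S fwd inv o lvl plet idx 16 IH Gen.b sp493 sp332 rfl rfl
theorem s0_f3044r : ed sl_dt sq332 = sq378 :=
  edge_flip (s0_f3044 IH)
theorem s0_f3047 : ed sl_dt sq560 = sq493 :=
  gap_rel s0_rot55 (path_edge (s0_f2671 IH) (path_edge (s0_f3044r IH) (path_edge (s0_f3046 IH) (path_nil sq493))))
theorem s0_f3051 : ed sl_ft sq211 = sq332 :=
  real_edge rels S fwd inv o lvl plet idx 16 IH Gen.f sp211 sp332 rfl rfl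
theorem s0_f3054 : ed sl_af sq378 = sq332 :=
  gap_rel s0_rot89 (path_edge (s0_f2670 IH) (path_edge (s0_f2669 IH) (path_edge (s0_f2668 IH) (path_edge (s0_f2667 IH) (path_edge (s0_f2623 IH) (path_edge (s0_f2658 IH) (path_edge (s0_f2659 IH) (path_edge (s0_f3044r IH) (path_nil sq332)))))))))
theorem s0_f3056 : ed sl_bt sq251 = sq382 :=
  real_edge rels S fwd inv o lvl plet idx 16 IH Gen.b sp251 sp382 rfl rfl
theorem s0_f3059 : ed sl_at sq560 = sq822 :=
  real_edge rels S fwd inv o lvl plet idx 16 IH Gen.a sp560 sp822 rfl rfl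
theorem s0_f3060 : ed sl_bt sq822 = sq1178 :=
  real_edge rels S fwd inv o lvl plet idx 16 IH Gen.b sp822 sp1178 rfl rfl
theorem s0_f3061 : ed sl_at sq1178 = sq1527 :=
  real_edge rels S fwd inv o lvl plet idx 16 IH Gen.a sp1178 sp1527 rfl rfl
theorem s0_f3062 : ed sl_at sq718 = sq493 :=
  real_edge rels S fwd inv o lvl plet idx 16 IH Gen.a sp718 sp493 rfl rfl
theorem s0_f3063 : ed sl_bt sq1036 = sq718 :=
  real_edge rels S fwd inv o lvl plet idx 16 IH Gen.b sp1036 sp718 rfl rfl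
theorem s0_f3064 : ed sl_at sq1388 = sq1036 :=
  real_edge rels S fwd inv o lvl plet idx 16 IH Gen.a sp1388 sp1036 rfl rfl
theorem s0_f3054r : ed sl_at sq332 = sq378 :=
  edge_flip (s0_f3054 IH)
theorem s0_f3065 : ed sl_bt sq1527 = sq1388 :=
  gap_rel s0_rot84 (path_edge (s0_f3061 IH) (path_edge (s0_f3060 IH) (path_edge (s0_f3059 IH) (path_edge (s0_f2671 IH) (path_edge (s0_f3054r IH) (path_edge (s0_f3046 IH) (path_edge (s0_f3062 IH) (path_edge (s0_f3063 IH) (path_edge (s0_f3064 IH) (path_nil sq1388))))))))))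
theorem s0_f3067 : ed sl_at sq249 = sq211 :=
  gap_rel s0_rot90 (path_edge (s0_f2804 IH) (path_edge (s0_f3054r IH) (path_edge (s0_f3051 IH) (path_nil sq211))))
theorem s0_f3069 : ed sl_ft sq248 = sq160 :=
  real_edge rels S fwd inv o lvl plet idx 16 IH Gen.f sp248 sp160 rfl rfl
theorem s0_f2811r : ed sl_ff sq378 = sq249 :=
  edge_flip (s0_f2811 IH)
theorem s0_f2805r : ed sl_gf sq249 = sq160 :=
  edge_flip (s0_f2805 IH)
theorem s0_f3069r : ed sl_ff sq160 = sq248 :=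
  edge_flip (s0_f3069 IH)
theorem s0_f3070 : ed sl_gf sq248 = sq332 :=
  gap_rel s0_rot79 (path_edge (s0_f3069r IH) (path_edge (s0_f2805r IH) (path_edge (s0_f2811r IH) (path_edge (s0_f3054r IH) (path_nil sq332)))))
theorem s0_f3075 : ed sl_gt sq720 = sq493 :=
  real_edge rels S fwd inv o lvl plet idx 16 IH Gen.g sp720 sp493 rfl rfl
theorem s0_f3070r : ed sl_gt sq332 = sq248 :=
  edge_flip (s0_f3070 IH)
theorem s0_f3079 : ed sl_gt sq248 = sq332 :=
  gap_rel s0_rot25 (path_edge (s0_f3070r IH) (path_nil sq332))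
theorem s0_f3084 : ed sl_bt sq554 = sq812 :=
  real_edge rels S fwd inv o lvl plet idx 16 IH Gen.b sp554 sp812 rfl rfl
theorem s0_f3086 : ed sl_ft sq716 = sq493 :=
  real_edge rels S fwd inv o lvl plet idx 16 IH Gen.f sp716 sp493 rfl rfl
theorem s0_f3087 : ed sl_gt sq1034 = sq716 :=
  real_edge rels S fwd inv o lvl plet idx 16 IH Gen.g sp1034 sp716 rfl rfl
theorem s0_f3088 : ed sl_bt sq376 = sq248 :=
  real_edge rels S fwd inv o lvl plet idx 16 IH Gen.b sp376 sp248 rfl rfl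
theorem s0_f3089 : ed sl_gt sq557 = sq376 :=
  real_edge rels S fwd inv o lvl plet idx 16 IH Gen.g sp557 sp376 rfl rfl
theorem s0_f3090 : ed sl_gt sq493 = sq720 :=
  real_edge rels S fwd inv o lvl plet idx 16 IH Gen.g sp493 sp720 rfl rfl
theorem s0_f3090r : ed sl_gf sq720 = sq493 :=
  edge_flip (s0_f3090 IH)
theorem s0_f2141r : ed sl_bf sq493 = sq332 :=
  edge_flip (s0_f2141 IH)
theorem s0_f3079r : ed sl_gf sq332 = sq248 :=
  edge_flip (s0_f3079 IH)
theorem s0_f3088r : ed sl_bf sq248 = sq376 :=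
  edge_flip (s0_f3088 IH)
theorem s0_f3089r : ed sl_gf sq376 = sq557 :=
  edge_flip (s0_f3089 IH)
theorem s0_f3091 : ed sl_bf sq557 = sq720 :=
  gap_rel s0_rot75 (path_edge (s0_f3089r IH) (path_edge (s0_f3088r IH) (path_edge (s0_f3079r IH) (path_edge (s0_f2141r IH) (path_edge (s0_f3090r IH) (path_nil sq720))))))
theorem s0_f2120r : ed sl_cf sq212 = sq332 :=
  edge_flip (s0_f2120 IH)
theorem s0_f2122r : ed sl_cf sq248 = sq161 :=
  edge_flip (s0_f2122 IH)
theorem s0_f3093 : ed sl_gf sq161 = sq212 :=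
  gap_rel s0_rot5 (path_edge (s0_f2122r IH) (path_edge (s0_f3079r IH) (path_edge (s0_f2120r IH) (path_nil sq212))))
theorem s0_f3095 : ed sl_et sq370 = sq248 :=
  real_edge rels S fwd inv o lvl plet idx 16 IH Gen.e sp370 sp248 rfl rfl
theorem s0_f3097 : ed sl_ft sq332 = sq211 :=
  real_edge rels S fwd inv o lvl plet idx 16 IH Gen.f sp332 sp211 rfl rfl
theorem s0_f3100 : ed sl_gt sq331 = sq492 :=
  real_edge rels S fwd inv o lvl plet idx 16 IH Gen.g sp331 sp492 rfl rfl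
theorem s0_f3102 : ed sl_bt sq717 = sq1035 :=
  real_edge rels S fwd inv o lvl plet idx 16 IH Gen.b sp717 sp1035 rfl rfl
theorem s0_f3103 : ed sl_gt sq250 = sq381 :=
  real_edge rels S fwd inv o lvl plet idx 16 IH Gen.g sp250 sp381 rfl rfl
theorem s0_f3104 : ed sl_gt sq496 = sq333 :=
  real_edge rels S fwd inv o lvl plet idx 16 IH Gen.g sp496 sp333 rfl rfl
theorem s0_f3093r : ed sl_gt sq212 = sq161 :=
  edge_flip (s0_f3093 IH)
theorem s0_f3105 : ed sl_bt sq381 = sq496 :=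
  gap_rel s0_rot26 (path_edge (s0_f3103 IH) (path_edge (s0_f1894 IH) (path_edge (s0_f3093r IH) (path_edge (s0_f1930 IH) (path_edge (s0_f3104 IH) (path_nil sq496))))))
theorem s0_f3109 : ed sl_bt sq103 = sq150 :=
  real_edge rels S fwd inv o lvl plet idx 16 IH Gen.b sp103 sp150 rfl rfl
theorem s0_f3110 : ed sl_gt sq150 = sq237 :=
  real_edge rels S fwd inv o lvl plet idx 16 IH Gen.g sp150 sp237 rfl rfl
theorem s0_f3105r : ed sl_bf sq496 = sq381 :=
  edge_flip (s0_f3105 IH)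
theorem s0_f3113 : ed sl_bf sq381 = sq496 :=
  gap_rel s0_rot44 (path_edge (s0_f3105r IH) (path_nil sq496))
theorem s0_f3115 : ed sl_bt sq831 = sq564 :=
  real_edge rels S fwd inv o lvl plet idx 16 IH Gen.b sp831 sp564 rfl rfl
theorem s0_f1825r : ed sl_bf sq1044 = sq723 :=
  edge_flip (s0_f1825 IH)
theorem s0_f1820r : ed sl_cf sq723 = sq496 :=
  edge_flip (s0_f1820 IH)
theorem s0_f1817r : ed sl_cf sq381 = sq564 :=
  edge_flip (s0_f1817 IH)
theorem s0_f3115r : ed sl_bf sq564 = sq831 :=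
  edge_flip (s0_f3115 IH)
theorem s0_f3116 : ed sl_cf sq831 = sq1044 :=
  gap_rel s0_rot27 (path_edge (s0_f3115r IH) (path_edge (s0_f1817r IH) (path_edge (s0_f3105r IH) (path_edge (s0_f1820r IH) (path_edge (s0_f1825r IH) (path_nil sq1044))))))
theorem s0_f3120 : ed sl_ft sq565 = sq381 :=
  real_edge rels S fwd inv o lvl plet idx 16 IH Gen.f sp565 sp381 rfl rfl
theorem s0_f3121 : ed sl_ft sq832 = sq564 :=
  real_edge rels S fwd inv o lvl plet idx 16 IH Gen.f sp832 sp564 rfl rfl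
theorem s0_f3122 : ed sl_gt sq537 = sq565 :=
  real_edge rels S fwd inv o lvl plet idx 16 IH Gen.g sp537 sp565 rfl rfl
theorem s0_f3123 : ed sl_ft sq333 = sq489 :=
  real_edge rels S fwd inv o lvl plet idx 16 IH Gen.f sp333 sp489 rfl rfl
theorem s0_f3132 : ed sl_gt sq241 = sq256 :=
  real_edge rels S fwd inv o lvl plet idx 16 IH Gen.g sp241 sp256 rfl rfl
theorem s0_f3134 : ed sl_ft sq154 = sq146 :=
  real_edge rels S fwd inv o lvl plet idx 16 IH Gen.f sp154 sp146 rfl rfl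
theorem s0_f3135 : ed sl_bt sq146 = sq228 :=
  real_edge rels S fwd inv o lvl plet idx 16 IH Gen.b sp146 sp228 rfl rfl
theorem s0_f3136 : ed sl_gt sq228 = sq347 :=
  real_edge rels S fwd inv o lvl plet idx 16 IH Gen.g sp228 sp347 rfl rfl
theorem s0_f3189 : ed sl_dt sq1192 = sq831 :=
  real_edge rels S fwd inv o lvl plet idx 16 IH Gen.d sp1192 sp831 rfl rfl
theorem s0_f3193 : ed sl_et sq1545 = sq1192 :=
  real_edge rels S fwd inv o lvl plet idx 16 IH Gen.e sp1545 sp1192 rfl rfl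
theorem s0_f3204 : ed sl_ft sq381 = sq565 :=
  real_edge rels S fwd inv o lvl plet idx 16 IH Gen.f sp381 sp565 rfl rfl
theorem s0_f3206 : ed sl_gt sq333 = sq496 :=
  real_edge rels S fwd inv o lvl plet idx 16 IH Gen.g sp333 sp496 rfl rfl
theorem s0_f3218 : ed sl_ft sq557 = sq818 :=
  real_edge rels S fwd inv o lvl plet idx 16 IH Gen.f sp557 sp818 rfl rfl
theorem s0_f3221 : ed sl_ft sq815 = sq810 :=
  real_edge rels S fwd inv o lvl plet idx 16 IH Gen.f sp815 sp810 rfl rfl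
theorem s0_f3223 : ed sl_bt sq551 = sq374 :=
  real_edge rels S fwd inv o lvl plet idx 16 IH Gen.b sp551 sp374 rfl rfl
theorem s0_f3226 : ed sl_gt sq1032 = sq1041 :=
  real_edge rels S fwd inv o lvl plet idx 16 IH Gen.g sp1032 sp1041 rfl rfl
theorem s0_f3227 : ed sl_bt sq1384 = sq1032 :=
  real_edge rels S fwd inv o lvl plet idx 16 IH Gen.b sp1384 sp1032 rfl rfl
theorem s0_f3232 : ed sl_at sq720 = sq1038 :=
  real_edge rels S fwd inv o lvl plet idx 16 IH Gen.a sp720 sp1038 rfl rfl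
theorem s0_f3236 : ed sl_ft sq720 = sq1041 :=
  real_edge rels S fwd inv o lvl plet idx 16 IH Gen.f sp720 sp1041 rfl rfl
theorem s0_f3239 : ed sl_gt sq808 = sq818 :=
  real_edge rels S fwd inv o lvl plet idx 16 IH Gen.g sp808 sp818 rfl rfl
theorem s0_f3067r : ed sl_af sq211 = sq249 :=
  edge_flip (s0_f3067 IH)
theorem s0_f3243 : ed sl_af sq249 = sq211 :=
  gap_rel s0_rot66 (path_edge (s0_f3067r IH) (path_nil sq211))
theorem s0_f1452r : ed sl_cf sq136 = sq211 :=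
  edge_flip (s0_f1452 IH)
theorem s0_f2723r : ed sl_cf sq249 = sq162 :=
  edge_flip (s0_f2723 IH)
theorem s0_f3246 : ed sl_af sq162 = sq136 :=
  gap_rel s0_rot10 (path_edge (s0_f2723r IH) (path_edge (s0_f3067r IH) (path_edge (s0_f1452r IH) (path_nil sq136))))
theorem s0_f3246r : ed sl_at sq136 = sq162 :=
  edge_flip (s0_f3246 IH)
theorem s0_f3248 : ed sl_at sq162 = sq136 :=
  gap_rel s0_rot83 (path_edge (s0_f3246r IH) (path_nil sq136))
theorem s0_f3250 : ed sl_bt sq208 = sq136 :=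
  real_edge rels S fwd inv o lvl plet idx 16 IH Gen.b sp208 sp136 rfl rfl
theorem s0_f144r : ed sl_cf sq211 = sq136 :=
  edge_flip (s0_f144 IH)
theorem s0_f143r : ed sl_df sq136 = sq88 :=
  edge_flip (s0_f143 IH)
theorem s0_f141r : ed sl_df sq54 = sq54 :=
  edge_flip (s0_f141 IH)
theorem s0_f1450r : ed sl_cf sq54 = sq88 :=
  edge_flip (s0_f1450 IH)
theorem s0_f1451r : ed sl_df sq88 = sq136 :=
  edge_flip (s0_f1451 IH)
theorem s0_f2810r : ed sl_cf sq162 = sq249 :=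
  edge_flip (s0_f2810 IH)
theorem s0_f3252 : ed sl_df sq249 = sq211 :=
  gap_rel s0_rot87 (path_edge (s0_f2810r IH) (path_edge (s0_f3246r IH) (path_edge (s0_f1451r IH) (path_edge (s0_f1450r IH) (path_edge (s0_f141r IH) (path_edge (s0_f142r IH) (path_edge (s0_f143r IH) (path_edge (s0_f144r IH) (path_nil sq211)))))))))
theorem s0_f3258 : ed sl_bt sq331 = sq211 :=
  real_edge rels S fwd inv o lvl plet idx 16 IH Gen.b sp331 sp211 rfl rfl
theorem s0_f3252r : ed sl_dt sq211 = sq249 :=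
  edge_flip (s0_f3252 IH)
theorem s0_f3259 : ed sl_dt sq377 = sq331 :=
  gap_rel s0_rot55 (path_edge (s0_f2724 IH) (path_edge (s0_f3252r IH) (path_edge (s0_f3258 IH) (path_nil sq331))))
theorem s0_f3261 : ed sl_bt sq134 = sq88 :=
  real_edge rels S fwd inv o lvl plet idx 16 IH Gen.b sp134 sp88 rfl rfl
theorem s0_f3264 : ed sl_ct sq486 = sq331 :=
  real_edge rels S fwd inv o lvl plet idx 16 IH Gen.c sp486 sp331 rfl rfl
theorem s0_f3265 : ed sl_dt sq710 = sq486 :=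
  real_edge rels S fwd inv o lvl plet idx 16 IH Gen.d sp710 sp486 rfl rfl
theorem s0_f3266 : ed sl_ct sq331 = sq486 :=
  real_edge rels S fwd inv o lvl plet idx 16 IH Gen.c sp331 sp486 rfl rfl
theorem s0_f3259r : ed sl_df sq331 = sq377 :=
  edge_flip (s0_f3259 IH)
theorem s0_f3269 : ed sl_df sq377 = sq331 :=
  gap_rel s0_rot54 (path_edge (s0_f3259r IH) (path_nil sq331))
theorem s0_f3100r : ed sl_gf sq492 = sq331 :=
  edge_flip (s0_f3100 IH)
theorem s0_f2822r : ed sl_gf sq377 = sq553 :=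
  edge_flip (s0_f2822 IH)
theorem s0_f3274 : ed sl_df sq553 = sq492 :=
  gap_rel s0_rot52 (path_edge (s0_f2822r IH) (path_edge (s0_f3259r IH) (path_edge (s0_f3100r IH) (path_nil sq492))))
theorem s0_f3276 : ed sl_bt sq486 = sq328 :=
  real_edge rels S fwd inv o lvl plet idx 16 IH Gen.b sp486 sp328 rfl rfl
theorem s0_f3277 : ed sl_dt sq328 = sq487 :=
  real_edge rels S fwd inv o lvl plet idx 16 IH Gen.d sp328 sp487 rfl rfl
theorem s0_f3280 : ed sl_ft sq717 = sq492 :=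
  real_edge rels S fwd inv o lvl plet idx 16 IH Gen.f sp717 sp492 rfl rfl
theorem s0_f3274r : ed sl_dt sq492 = sq553 :=
  edge_flip (s0_f3274 IH)
theorem s0_f3281 : ed sl_dt sq811 = sq717 :=
  gap_rel s0_rot29 (path_edge (s0_f2832 IH) (path_edge (s0_f3274r IH) (path_edge (s0_f3280 IH) (path_nil sq717))))
theorem s0_f3102r : ed sl_bf sq1035 = sq717 :=
  edge_flip (s0_f3102 IH)
theorem s0_f3281r : ed sl_df sq717 = sq811 :=
  edge_flip (s0_f3281 IH)
theorem s0_f2838r : ed sl_bf sq811 = sq1157 :=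
  edge_flip (s0_f2838 IH)
theorem s0_f3283 : ed sl_df sq1157 = sq1035 :=
  gap_rel s0_rot8 (path_edge (s0_f2838r IH) (path_edge (s0_f3281r IH) (path_edge (s0_f3102r IH) (path_nil sq1035))))
theorem s0_f3287 : ed sl_gt sq717 = sq715 :=
  real_edge rels S fwd inv o lvl plet idx 16 IH Gen.g sp717 sp715 rfl rfl
theorem s0_f3287r : ed sl_gf sq715 = sq717 :=
  edge_flip (s0_f3287 IH)
theorem s0_f2844r : ed sl_gf sq811 = sq819 :=
  edge_flip (s0_f2844 IH)
theorem s0_f3288 : ed sl_df sq819 = sq715 :=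
  gap_rel s0_rot52 (path_edge (s0_f2844r IH) (path_edge (s0_f3281r IH) (path_edge (s0_f3287r IH) (path_nil sq715))))
theorem s0_f3290 : ed sl_at sq491 = sq715 :=
  real_edge rels S fwd inv o lvl plet idx 16 IH Gen.a sp491 sp715 rfl rfl
theorem s0_f3288r : ed sl_dt sq715 = sq819 :=
  edge_flip (s0_f3288 IH)
theorem s0_f3291 : ed sl_dt sq559 = sq491 :=
  gap_rel s0_rot53 (path_edge (s0_f2850 IH) (path_edge (s0_f3288r IH) (path_edge (s0_f3290 IH) (path_nil sq491))))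
theorem s0_f3301 : ed sl_at sq715 = sq491 :=
  real_edge rels S fwd inv o lvl plet idx 16 IH Gen.a sp715 sp491 rfl rfl
theorem s0_f3303 : ed sl_at sq490 = sq331 :=
  real_edge rels S fwd inv o lvl plet idx 16 IH Gen.a sp490 sp331 rfl rfl
theorem s0_f3308 : ed sl_gt sq715 = sq717 :=
  real_edge rels S fwd inv o lvl plet idx 16 IH Gen.g sp715 sp717 rfl rfl
theorem s0_f3323 : ed sl_bt sq491 = sq716 :=
  real_edge rels S fwd inv o lvl plet idx 16 IH Gen.b sp491 sp716 rfl rfl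
theorem s0_f3323r : ed sl_bf sq716 = sq491 :=
  edge_flip (s0_f3323 IH)
theorem s0_f3291r : ed sl_df sq491 = sq559 :=
  edge_flip (s0_f3291 IH)
theorem s0_f2878r : ed sl_bf sq559 = sq820 :=
  edge_flip (s0_f2878 IH)
theorem s0_f3324 : ed sl_df sq820 = sq716 :=
  gap_rel s0_rot8 (path_edge (s0_f2878r IH) (path_edge (s0_f3291r IH) (path_edge (s0_f3323r IH) (path_nil sq716))))
theorem s0_f3326 : ed sl_ct sq491 = sq711 :=
  real_edge rels S fwd inv o lvl plet idx 16 IH Gen.c sp491 sp711 rfl rfl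
theorem s0_f3330 : ed sl_at sq1032 = sq716 :=
  real_edge rels S fwd inv o lvl plet idx 16 IH Gen.a sp1032 sp716 rfl rfl
theorem s0_f3339 : ed sl_gt sq820 = sq1176 :=
  real_edge rels S fwd inv o lvl plet idx 16 IH Gen.g sp820 sp1176 rfl rfl
theorem s0_f3324r : ed sl_dt sq716 = sq820 :=
  edge_flip (s0_f3324 IH)
theorem s0_f3340 : ed sl_dt sq1176 = sq1034 :=
  gap_rel s0_rot91 (path_edge (s0_f3339 IH) (path_edge (s0_f3324r IH) (path_edge (s0_f3087 IH) (path_nil sq1034))))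
theorem s0_f3349 : ed sl_ft sq1180 = sq1176 :=
  real_edge rels S fwd inv o lvl plet idx 16 IH Gen.f sp1180 sp1176 rfl rfl
theorem s0_f3350 : ed sl_ft sq1034 = sq1038 :=
  real_edge rels S fwd inv o lvl plet idx 16 IH Gen.f sp1034 sp1038 rfl rfl
theorem s0_f3350r : ed sl_ff sq1038 = sq1034 :=
  edge_flip (s0_f3350 IH)
theorem s0_f3340r : ed sl_df sq1034 = sq1176 :=
  edge_flip (s0_f3340 IH)
theorem s0_f3349r : ed sl_ff sq1176 = sq1180 :=
  edge_flip (s0_f3349 IH)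
theorem s0_f3351 : ed sl_df sq1180 = sq1038 :=
  gap_rel s0_rot56 (path_edge (s0_f3349r IH) (path_edge (s0_f3340r IH) (path_edge (s0_f3350r IH) (path_nil sq1038))))
theorem s0_f3353 : ed sl_at sq1180 = sq824 :=
  real_edge rels S fwd inv o lvl plet idx 16 IH Gen.a sp1180 sp824 rfl rfl
theorem s0_f3351r : ed sl_dt sq1038 = sq1180 :=
  edge_flip (s0_f3351 IH)
theorem s0_f3354 : ed sl_dt sq824 = sq720 :=
  gap_rel s0_rot53 (path_edge (s0_f3353 IH) (path_edge (s0_f3351r IH) (path_edge (s0_f3232 IH) (path_nil sq720))))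
theorem s0_f3360 : ed sl_gt sq1180 = sq822 :=
  real_edge rels S fwd inv o lvl plet idx 16 IH Gen.g sp1180 sp822 rfl rfl
theorem s0_f3361 : ed sl_gt sq718 = sq1038 :=
  real_edge rels S fwd inv o lvl plet idx 16 IH Gen.g sp718 sp1038 rfl rfl
theorem s0_f3362 : ed sl_dt sq822 = sq718 :=
  gap_rel s0_rot91 (path_edge (s0_f3360 IH) (path_edge (s0_f3351r IH) (path_edge (s0_f3361 IH) (path_nil sq718))))
theorem s0_f3365 : ed sl_dt sq1182 = sq1534 :=
  real_edge rels S fwd inv o lvl plet idx 16 IH Gen.d sp1182 sp1534 rfl rfl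
theorem s0_f3368 : ed sl_bt sq1178 = sq822 :=
  real_edge rels S fwd inv o lvl plet idx 16 IH Gen.b sp1178 sp822 rfl rfl
theorem s0_f3369 : ed sl_bt sq718 = sq1036 :=
  real_edge rels S fwd inv o lvl plet idx 16 IH Gen.b sp718 sp1036 rfl rfl
theorem s0_f3372 : ed sl_ct sq1179 = sq822 :=
  real_edge rels S fwd inv o lvl plet idx 16 IH Gen.c sp1179 sp822 rfl rfl
theorem s0_f3373 : ed sl_dt sq1532 = sq1179 :=
  real_edge rels S fwd inv o lvl plet idx 16 IH Gen.d sp1532 sp1179 rfl rfl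
theorem s0_f3377 : ed sl_ft sq1174 = sq822 :=
  real_edge rels S fwd inv o lvl plet idx 16 IH Gen.f sp1174 sp822 rfl rfl
theorem s0_f3378 : ed sl_ft sq718 = sq1032 :=
  real_edge rels S fwd inv o lvl plet idx 16 IH Gen.f sp718 sp1032 rfl rfl
theorem s0_f3378r : ed sl_ff sq1032 = sq718 :=
  edge_flip (s0_f3378 IH)
theorem s0_f3362r : ed sl_df sq718 = sq822 :=
  edge_flip (s0_f3362 IH)
theorem s0_f3377r : ed sl_ff sq822 = sq1174 :=
  edge_flip (s0_f3377 IH)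
theorem s0_f3379 : ed sl_df sq1174 = sq1032 :=
  gap_rel s0_rot56 (path_edge (s0_f3377r IH) (path_edge (s0_f3362r IH) (path_edge (s0_f3378r IH) (path_nil sq1032))))
theorem s0_f3384 : ed sl_at sq1532 = sq1181 :=
  real_edge rels S fwd inv o lvl plet idx 16 IH Gen.a sp1532 sp1181 rfl rfl
theorem s0_f3386 : ed sl_ct sq1528 = sq1178 :=
  real_edge rels S fwd inv o lvl plet idx 16 IH Gen.c sp1528 sp1178 rfl rfl
theorem s0_f3388 : ed sl_bt sq1174 = sq1524 :=
  real_edge rels S fwd inv o lvl plet idx 16 IH Gen.b sp1174 sp1524 rfl rfl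
theorem s0_f3379r : ed sl_dt sq1032 = sq1174 :=
  edge_flip (s0_f3379 IH)
theorem s0_f3389 : ed sl_dt sq1524 = sq1384 :=
  gap_rel s0_rot55 (path_edge (s0_f3388 IH) (path_edge (s0_f3379r IH) (path_edge (s0_f3227 IH) (path_nil sq1384))))
theorem s0_f3389r : ed sl_df sq1384 = sq1524 :=
  edge_flip (s0_f3389 IH)
theorem s0_f3393 : ed sl_df sq1524 = sq1384 :=
  gap_rel s0_rot54 (path_edge (s0_f3389r IH) (path_nil sq1384))
theorem s0_f3397 : ed sl_bt sq1524 = sq1174 :=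
  real_edge rels S fwd inv o lvl plet idx 16 IH Gen.b sp1524 sp1174 rfl rfl
theorem s0_f3406 : ed sl_ft sq1032 = sq718 :=
  real_edge rels S fwd inv o lvl plet idx 16 IH Gen.f sp1032 sp718 rfl rfl
theorem s0_f3411 : ed sl_bt sq1179 = sq1531 :=
  real_edge rels S fwd inv o lvl plet idx 16 IH Gen.b sp1179 sp1531 rfl rfl
theorem s0_f3414 : ed sl_at sq1527 = sq1178 :=
  real_edge rels S fwd inv o lvl plet idx 16 IH Gen.a sp1527 sp1178 rfl rfl
theorem s0_f3420 : ed sl_ft sq1529 = sq1178 :=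
  real_edge rels S fwd inv o lvl plet idx 16 IH Gen.f sp1529 sp1178 rfl rfl
theorem s0_f3421 : ed sl_ft sq1036 = sq1390 :=
  real_edge rels S fwd inv o lvl plet idx 16 IH Gen.f sp1036 sp1390 rfl rfl
theorem s0_f3428 : ed sl_at sq1669 = sq1389 :=
  real_edge rels S fwd inv o lvl plet idx 16 IH Gen.a sp1669 sp1389 rfl rfl
theorem s0_f3433 : ed sl_ct sq1671 = sq1390 :=
  real_edge rels S fwd inv o lvl plet idx 16 IH Gen.c sp1671 sp1390 rfl rfl
theorem s0_f3437 : ed sl_ft sq1178 = sq1529 :=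
  real_edge rels S fwd inv o lvl plet idx 16 IH Gen.f sp1178 sp1529 rfl rfl
theorem s0_f3439 : ed sl_ct sq1669 = sq1388 :=
  real_edge rels S fwd inv o lvl plet idx 16 IH Gen.c sp1669 sp1388 rfl rfl
theorem s0_f3444 : ed sl_ct sq1178 = sq1528 :=
  real_edge rels S fwd inv o lvl plet idx 16 IH Gen.c sp1178 sp1528 rfl rfl
theorem s0_f3449 : ed sl_at sq1179 = sq823 :=
  real_edge rels S fwd inv o lvl plet idx 16 IH Gen.a sp1179 sp823 rfl rfl
theorem s0_f3460 : ed sl_ct sq824 = sq1182 :=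
  real_edge rels S fwd inv o lvl plet idx 16 IH Gen.c sp824 sp1182 rfl rfl
theorem s0_f3487 : ed sl_bt sq487 = sq710 :=
  real_edge rels S fwd inv o lvl plet idx 16 IH Gen.b sp487 sp710 rfl rfl
theorem s0_f3488 : ed sl_ft sq103 = sq161 :=
  real_edge rels S fwd inv o lvl plet idx 16 IH Gen.f sp103 sp161 rfl rfl
theorem s0_f3065r : ed sl_bf sq1388 = sq1527 :=
  edge_flip (s0_f3065 IH)
theorem s0_f3491 : ed sl_bf sq1527 = sq1388 :=
  gap_rel s0_rot44 (path_edge (s0_f3065r IH) (path_nil sq1388))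
theorem s0_f3503 : ed sl_et sq88 = sq53 :=
  real_edge rels S fwd inv o lvl plet idx 16 IH Gen.e sp88 sp53 rfl rfl
theorem s0_f3506 : ed sl_gt sq105 = sq62 :=
  real_edge rels S fwd inv o lvl plet idx 16 IH Gen.g sp105 sp62 rfl rfl
theorem s0_f3513 : ed sl_bt sq53 = sq87 :=
  real_edge rels S fwd inv o lvl plet idx 16 IH Gen.b sp53 sp87 rfl rfl
theorem s0_f3514 : ed sl_et sq244 = sq161 :=
  real_edge rels S fwd inv o lvl plet idx 16 IH Gen.e sp244 sp161 rfl rfl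
theorem s0_f3516 : ed sl_gt sq366 = sq384 :=
  real_edge rels S fwd inv o lvl plet idx 16 IH Gen.g sp366 sp384 rfl rfl
theorem s0_f2690r : ed sl_gt sq90 = sq65 :=
  edge_flip (s0_f2690 IH)
theorem s0_f3010r : ed sl_gt sq54 = sq58 :=
  edge_flip (s0_f3010 IH)
theorem s0_f3518 : ed sl_bt sq94 = sq94 :=
  gap_rel s0_rot4 (path_edge (s0_f358 IH) (path_edge (s0_f3010r IH) (path_edge (s0_f207 IH) (path_edge (s0_f177 IH) (path_edge (s0_f217 IH) (path_edge (s0_f2116 IH) (path_edge (s0_f2115 IH) (path_edge (s0_f2690r IH) (path_edge (s0_f2111 IH) (path_edge (s0_f2131 IH) (path_edge (s0_f2134 IH) (path_edge (s0_f2135 IH) (path_edge (s0_f2136 IH) (path_edge (s0_f2137 IH) (path_nil sq94)))))))))))))))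
theorem s0_f227r : ed sl_bf sq168 = sq108 :=
  edge_flip (s0_f227 IH)
theorem s0_f2137r : ed sl_gf sq108 = sq94 :=
  edge_flip (s0_f2137 IH)
theorem s0_f3518r : ed sl_bf sq94 = sq94 :=
  edge_flip (s0_f3518 IH)
theorem s0_f3017r : ed sl_gf sq94 = sq108 :=
  edge_flip (s0_f3017 IH)
theorem s0_f2614r : ed sl_bf sq108 = sq168 :=
  edge_flip (s0_f2614 IH)
theorem s0_f3523 : ed sl_gf sq168 = sq168 :=
  gap_rel s0_rot24 (path_edge (s0_f2614r IH) (path_edge (s0_f3017r IH) (path_edge (s0_f3518r IH) (path_edge (s0_f2137r IH) (path_edge (s0_f227r IH) (path_nil sq168))))))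
theorem s0_f3527 : ed sl_ft sq144 = sq225 :=
  real_edge rels S fwd inv o lvl plet idx 16 IH Gen.f sp144 sp225 rfl rfl
theorem s0_f3523r : ed sl_gt sq168 = sq168 :=
  edge_flip (s0_f3523 IH)
theorem s0_f3529 : ed sl_gt sq259 = sq259 :=
  gap_rel s0_rot88 (path_edge (s0_f2615 IH) (path_edge (s0_f3523r IH) (path_edge (s0_f2616 IH) (path_nil sq259))))
theorem s0_f3535 : ed sl_gt sq60 = sq99 :=
  real_edge rels S fwd inv o lvl plet idx 16 IH Gen.g sp60 sp99 rfl rfl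
theorem s0_f3536 : ed sl_ft sq99 = sq155 :=
  real_edge rels S fwd inv o lvl plet idx 16 IH Gen.f sp99 sp155 rfl rfl
theorem s0_f3538 : ed sl_at sq60 = sq95 :=
  real_edge rels S fwd inv o lvl plet idx 16 IH Gen.a sp60 sp95 rfl rfl
theorem s0_f3539 : ed sl_ft sq95 = sq145 :=
  real_edge rels S fwd inv o lvl plet idx 16 IH Gen.f sp95 sp145 rfl rfl
theorem s0_f3540 : ed sl_ct sq145 = sq111 :=
  real_edge rels S fwd inv o lvl plet idx 16 IH Gen.c sp145 sp111 rfl rfl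
theorem s0_f3543 : ed sl_ct sq382 = sq567 :=
  real_edge rels S fwd inv o lvl plet idx 16 IH Gen.c sp382 sp567 rfl rfl
theorem s0_f3545 : ed sl_et sq25 = sq45 :=
  real_edge rels S fwd inv o lvl plet idx 16 IH Gen.e sp25 sp45 rfl rfl
theorem s0_f3547 : ed sl_gt sq29 = s0_v3 :=
  rfl
theorem s0_f3547r : ed sl_gf s0_v3 = sq29 :=
  edge_flip (s0_f3547 IH)
theorem s0_f197r : ed sl_bf sq29 = sq15 :=
  edge_flip (s0_f197 IH)
theorem s0_f166r : ed sl_bf sq18 = sq31 :=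
  edge_flip (s0_f166 IH)
theorem s0_f2697r : ed sl_gf sq31 = sq35 :=
  edge_flip (s0_f2697 IH)
theorem s0_f3548 : ed sl_bf sq35 = s0_v3 :=
  gap_rel s0_rot75 (path_edge (s0_f2697r IH) (path_edge (s0_f166r IH) (path_edge (s0_f195 IH) (path_edge (s0_f197r IH) (path_edge (s0_f3547r IH) (path_nil s0_v3))))))
theorem s0_f3550 : ed sl_gf sq29 = s0_v3 :=
  gap_rel s0_rot76 (path_edge (s0_f3547r IH) (path_nil s0_v3))
theorem s0_f189r : ed sl_ff sq29 = sq29 :=
  edge_flip (s0_f189 IH)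
theorem s0_f3551 : ed sl_ff s0_v3 = s0_v3 :=
  gap_rel s0_rot92 (path_edge (s0_f3550 IH) (path_edge (s0_f189r IH) (path_edge (s0_f2208r IH) (path_edge (s0_f3547r IH) (path_nil s0_v3)))))
theorem s0_f3552 : ed sl_at s0_v3 = s0_v3 :=
  gap_rel s0_rot6 (path_edge (s0_f3550 IH) (path_edge (s0_f189r IH) (path_edge (s0_f3547r IH) (path_edge (s0_f3551 IH) (path_nil s0_v3)))))
theorem s0_f2508r : ed sl_af sq35 = sq20 :=
  edge_flip (s0_f2508 IH)
theorem s0_f164r : ed sl_bf sq20 = sq12 :=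
  edge_flip (s0_f164 IH)
theorem s0_f205r : ed sl_bf sq8 = sq8 :=
  edge_flip (s0_f205 IH)
theorem s0_f2174r : ed sl_bf sq12 = sq20 :=
  edge_flip (s0_f2174 IH)
theorem s0_f2549r : ed sl_af sq20 = sq35 :=
  edge_flip (s0_f2549 IH)
theorem s0_f3552r : ed sl_af s0_v3 = s0_v3 :=
  edge_flip (s0_f3552 IH)
theorem s0_f3553 : ed sl_bf s0_v3 = sq35 :=
  gap_rel s0_rot93 (path_edge (s0_f3552r IH) (path_edge (s0_f3548 IH) (path_edge (s0_f2549r IH) (path_edge (s0_f2174r IH) (path_edge (s0_f156r IH) (path_edge (s0_f205r IH) (path_edge (s0_f182r IH) (path_edge (s0_f164r IH) (path_edge (s0_f2508r IH) (path_nil sq35))))))))))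
theorem s0_f3555 : ed sl_ct sq35 = s0_v4 :=
  rfl
theorem s0_f3555r : ed sl_cf s0_v4 = sq35 :=
  edge_flip (s0_f3555 IH)
theorem s0_f2512r : ed sl_cf sq20 = sq37 :=
  edge_flip (s0_f2512 IH)
theorem s0_f3556 : ed sl_af sq37 = s0_v4 :=
  gap_rel s0_rot10 (path_edge (s0_f2512r IH) (path_edge (s0_f2508r IH) (path_edge (s0_f3555r IH) (path_nil s0_v4))))
theorem s0_f3557 : ed sl_cf sq35 = s0_v4 :=
  gap_rel s0_rot40 (path_edge (s0_f3555r IH) (path_nil s0_v4))
theorem s0_f2455r : ed sl_cf sq31 = sq53 :=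
  edge_flip (s0_f2455 IH)
theorem s0_f3558 : ed sl_gf sq53 = s0_v4 :=
  gap_rel s0_rot5 (path_edge (s0_f2455r IH) (path_edge (s0_f2692 IH) (path_edge (s0_f3555r IH) (path_nil s0_v4))))
theorem s0_f2551r : ed sl_df sq35 = sq19 :=
  edge_flip (s0_f2551 IH)
theorem s0_f2578r : ed sl_df sq22 = sq40 :=
  edge_flip (s0_f2578 IH)
theorem s0_f3559 : ed sl_at sq37 = s0_v4 :=
  gap_rel s0_rot9 (path_edge (s0_f107r IH) (path_edge (s0_f108r IH) (path_edge (s0_f2707 IH) (path_edge (s0_f2706r IH) (path_edge (s0_f2578r IH) (path_eq (s0_f2573 IH).symm (path_edge (s0_f2544 IH) (path_edge (s0_f2551r IH) (path_edge (s0_f3555r IH) (path_nil s0_v4))))))))))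
theorem s0_f3560 : ed sl_ct sq266 = sq173 :=
  real_edge rels S fwd inv o lvl plet idx 16 IH Gen.c sp266 sp173 rfl rfl
theorem s0_f3558r : ed sl_gt s0_v4 = sq53 :=
  edge_flip (s0_f3558 IH)
theorem s0_f3561 : ed sl_gt sq53 = s0_v4 :=
  gap_rel s0_rot25 (path_edge (s0_f3558r IH) (path_nil s0_v4))
theorem s0_f3564 : ed sl_at sq44 = sq25 :=
  real_edge rels S fwd inv o lvl plet idx 16 IH Gen.a sp44 sp25 rfl rfl
theorem s0_f3565 : ed sl_bt sq44 = s0_v5 :=
  rfl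
theorem s0_f3565r : ed sl_bf s0_v5 = sq44 :=
  edge_flip (s0_f3565 IH)
theorem s0_f3566 : ed sl_bf sq44 = s0_v5 :=
  gap_rel s0_rot44 (path_edge (s0_f3565r IH) (path_nil s0_v5))
theorem s0_f3567 : ed sl_ct sq44 = sq44 :=
  real_edge rels S fwd inv o lvl plet idx 16 IH Gen.c sp44 sp44 rfl rfl
theorem s0_f3570 : ed sl_ft sq75 = sq44 :=
  real_edge rels S fwd inv o lvl plet idx 16 IH Gen.f sp75 sp44 rfl rfl
theorem s0_f3571 : ed sl_gt sq76 = sq44 :=
  real_edge rels S fwd inv o lvl plet idx 16 IH Gen.g sp76 sp44 rfl rfl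
theorem s0_f3572 : ed sl_at sq46 = sq75 :=
  real_edge rels S fwd inv o lvl plet idx 16 IH Gen.a sp46 sp75 rfl rfl
theorem s0_f3573 : ed sl_gt sq82 = sq75 :=
  real_edge rels S fwd inv o lvl plet idx 16 IH Gen.g sp82 sp75 rfl rfl
theorem s0_f3574 : ed sl_bt sq130 = sq82 :=
  real_edge rels S fwd inv o lvl plet idx 16 IH Gen.b sp130 sp82 rfl rfl
theorem s0_f3575 : ed sl_ft sq130 = sq130 :=
  real_edge rels S fwd inv o lvl plet idx 16 IH Gen.f sp130 sp130 rfl rfl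
theorem s0_f3576 : ed sl_gt sq202 = sq130 :=
  real_edge rels S fwd inv o lvl plet idx 16 IH Gen.g sp202 sp130 rfl rfl
theorem s0_f3577 : ed sl_bt sq188 = sq202 :=
  real_edge rels S fwd inv o lvl plet idx 16 IH Gen.b sp188 sp202 rfl rfl
theorem s0_f3578 : ed sl_dt sq44 = sq69 :=
  real_edge rels S fwd inv o lvl plet idx 16 IH Gen.d sp44 sp69 rfl rfl
theorem s0_f3579 : ed sl_et sq44 = sq74 :=
  real_edge rels S fwd inv o lvl plet idx 16 IH Gen.e sp44 sp74 rfl rfl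
theorem s0_f3580 : ed sl_gt sq44 = sq76 :=
  real_edge rels S fwd inv o lvl plet idx 16 IH Gen.g sp44 sp76 rfl rfl
theorem s0_f3581 : ed sl_ft sq76 = sq81 :=
  real_edge rels S fwd inv o lvl plet idx 16 IH Gen.f sp76 sp81 rfl rfl
theorem s0_f3582 : ed sl_bt sq81 = sq129 :=
  real_edge rels S fwd inv o lvl plet idx 16 IH Gen.b sp81 sp129 rfl rfl
theorem s0_f3583 : ed sl_dt sq74 = sq119 :=
  real_edge rels S fwd inv o lvl plet idx 16 IH Gen.d sp74 sp119 rfl rfl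
theorem s0_f3584 : ed sl_ct sq119 = sq182 :=
  real_edge rels S fwd inv o lvl plet idx 16 IH Gen.c sp119 sp182 rfl rfl
theorem s0_f3585 : ed sl_dt sq182 = sq284 :=
  real_edge rels S fwd inv o lvl plet idx 16 IH Gen.d sp182 sp284 rfl rfl
theorem s0_f3586 : ed sl_ct sq284 = sq190 :=
  real_edge rels S fwd inv o lvl plet idx 16 IH Gen.c sp284 sp190 rfl rfl
theorem s0_f3587 : ed sl_bt sq190 = sq296 :=
  real_edge rels S fwd inv o lvl plet idx 16 IH Gen.b sp190 sp296 rfl rfl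
theorem s0_f3588 : ed sl_dt sq296 = sq189 :=
  real_edge rels S fwd inv o lvl plet idx 16 IH Gen.d sp296 sp189 rfl rfl
theorem s0_f3589 : ed sl_dt sq131 = sq181 :=
  real_edge rels S fwd inv o lvl plet idx 16 IH Gen.d sp131 sp181 rfl rfl
theorem s0_f3590 : ed sl_ct sq181 = sq268 :=
  real_edge rels S fwd inv o lvl plet idx 16 IH Gen.c sp181 sp268 rfl rfl
theorem s0_f3591 : ed sl_bt sq268 = sq174 :=
  real_edge rels S fwd inv o lvl plet idx 16 IH Gen.b sp268 sp174 rfl rfl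
theorem s0_f3592 : ed sl_dt sq401 = sq348 :=
  real_edge rels S fwd inv o lvl plet idx 16 IH Gen.d sp401 sp348 rfl rfl
theorem s0_f3593 : ed sl_ct sq348 = sq224 :=
  real_edge rels S fwd inv o lvl plet idx 16 IH Gen.c sp348 sp224 rfl rfl
theorem s0_f3594 : ed sl_bt sq224 = sq344 :=
  real_edge rels S fwd inv o lvl plet idx 16 IH Gen.b sp224 sp344 rfl rfl
theorem s0_f3595 : ed sl_dt sq344 = sq221 :=
  real_edge rels S fwd inv o lvl plet idx 16 IH Gen.d sp344 sp221 rfl rfl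
theorem s0_f3596 : ed sl_dt sq45 = sq77 :=
  real_edge rels S fwd inv o lvl plet idx 16 IH Gen.d sp45 sp77 rfl rfl
theorem s0_f3597 : ed sl_et sq45 = sq25 :=
  real_edge rels S fwd inv o lvl plet idx 16 IH Gen.e sp45 sp25 rfl rfl
theorem s0_f3600 : ed sl_gt sq46 = sq81 :=
  real_edge rels S fwd inv o lvl plet idx 16 IH Gen.g sp46 sp81 rfl rfl
theorem s0_f3601 : ed sl_at sq47 = sq76 :=
  real_edge rels S fwd inv o lvl plet idx 16 IH Gen.a sp47 sp76 rfl rfl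
theorem s0_f3602 : ed sl_bt sq47 = sq47 :=
  real_edge rels S fwd inv o lvl plet idx 16 IH Gen.b sp47 sp47 rfl rfl
theorem s0_f3603 : ed sl_ct sq47 = sq47 :=
  real_edge rels S fwd inv o lvl plet idx 16 IH Gen.c sp47 sp47 rfl rfl
theorem s0_f3604 : ed sl_dt sq47 = sq72 :=
  real_edge rels S fwd inv o lvl plet idx 16 IH Gen.d sp47 sp72 rfl rfl
theorem s0_f3606 : ed sl_gt sq47 = sq25 :=
  real_edge rels S fwd inv o lvl plet idx 16 IH Gen.g sp47 sp25 rfl rfl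
theorem s0_f3607 : ed sl_dt sq48 = sq26 :=
  real_edge rels S fwd inv o lvl plet idx 16 IH Gen.d sp48 sp26 rfl rfl
theorem s0_f3608 : ed sl_at sq50 = s0_v6 :=
  rfl
theorem s0_f3608r : ed sl_af s0_v6 = sq50 :=
  edge_flip (s0_f3608 IH)
theorem s0_f3609 : ed sl_af sq50 = s0_v6 :=
  gap_rel s0_rot66 (path_edge (s0_f3608r IH) (path_nil s0_v6))
theorem s0_f3610 : ed sl_ct sq50 = s0_v7 :=
  rfl
theorem s0_f3610r : ed sl_cf s0_v7 = sq50 :=
  edge_flip (s0_f3610 IH)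
theorem s0_f479r : ed sl_bf sq50 = sq27 :=
  edge_flip (s0_f479 IH)
theorem s0_f148r : ed sl_bf sq15 = sq29 :=
  edge_flip (s0_f148 IH)
theorem s0_f113r : ed sl_cf sq29 = sq52 :=
  edge_flip (s0_f113 IH)
theorem s0_f3611 : ed sl_bf sq52 = s0_v7 :=
  gap_rel s0_rot61 (path_edge (s0_f113r IH) (path_edge (s0_f148r IH) (path_edge (s0_f59r IH) (path_edge (s0_f479r IH) (path_edge (s0_f3610r IH) (path_nil s0_v7))))))
theorem s0_f3612 : ed sl_cf sq50 = s0_v7 :=
  gap_rel s0_rot40 (path_edge (s0_f3610r IH) (path_nil s0_v7))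
theorem s0_f3612r : ed sl_ct s0_v7 = sq50 :=
  edge_flip (s0_f3612 IH)
theorem s0_f3613 : ed sl_bt sq52 = s0_v7 :=
  gap_rel s0_rot41 (path_edge (s0_f2214 IH) (path_edge (s0_f197 IH) (path_edge (s0_f77 IH) (path_edge (s0_f72 IH) (path_edge (s0_f3612r IH) (path_nil s0_v7))))))
theorem s0_f3614 : ed sl_gt sq50 = s0_v8 :=
  rfl
theorem s0_f3614r : ed sl_gf s0_v8 = sq50 :=
  edge_flip (s0_f3614 IH)
theorem s0_f3615 : ed sl_gf sq50 = s0_v8 :=
  gap_rel s0_rot76 (path_edge (s0_f3614r IH) (path_nil s0_v8))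
theorem s0_f3616 : ed sl_gt sq81 = sq46 :=
  real_edge rels S fwd inv o lvl plet idx 16 IH Gen.g sp81 sp46 rfl rfl
theorem s0_f3617 : ed sl_bt sq129 = sq81 :=
  real_edge rels S fwd inv o lvl plet idx 16 IH Gen.b sp129 sp81 rfl rfl
theorem s0_f3618 : ed sl_ft sq200 = sq129 :=
  real_edge rels S fwd inv o lvl plet idx 16 IH Gen.f sp200 sp129 rfl rfl
theorem s0_f3629 : ed sl_dt sq52 = s0_v10 :=
  rfl
theorem s0_f3629r : ed sl_df s0_v10 = sq52 :=
  edge_flip (s0_f3629 IH)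
theorem s0_f3630 : ed sl_df sq52 = s0_v10 :=
  gap_rel s0_rot54 (path_edge (s0_f3629r IH) (path_nil s0_v10))
theorem s0_f2214r : ed sl_cf sq52 = sq29 :=
  edge_flip (s0_f2214 IH)
theorem s0_f111r : ed sl_cf sq16 = sq16 :=
  edge_flip (s0_f111 IH)
theorem s0_f3632 : ed sl_cf s0_v10 = s0_v10 :=
  gap_rel s0_rot94 (path_edge (s0_f3630 IH) (path_edge (s0_f113r IH) (path_edge (s0_f112r IH) (path_edge (s0_f111r IH) (path_edge (s0_f2207r IH) (path_edge (s0_f2214r IH) (path_edge (s0_f2219 IH) (path_edge (s0_f3629r IH) (path_nil s0_v10)))))))))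
theorem s0_f3634 : ed sl_gt sq52 = s0_v11 :=
  rfl
theorem s0_f3634r : ed sl_gf s0_v11 = sq52 :=
  edge_flip (s0_f3634 IH)
theorem s0_f3635 : ed sl_cf s0_v3 = s0_v11 :=
  gap_rel s0_rot43 (path_edge (s0_f3550 IH) (path_edge (s0_f2214r IH) (path_edge (s0_f3634r IH) (path_nil s0_v11))))
theorem s0_f3636 : ed sl_gf sq52 = s0_v11 :=
  gap_rel s0_rot76 (path_edge (s0_f3634r IH) (path_nil s0_v11))
theorem s0_f159r : ed sl_ff sq52 = sq52 :=
  edge_flip (s0_f159 IH)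
theorem s0_f3637 : ed sl_ff s0_v11 = s0_v11 :=
  gap_rel s0_rot92 (path_edge (s0_f3636 IH) (path_edge (s0_f159r IH) (path_edge (s0_f2219 IH) (path_edge (s0_f3634r IH) (path_nil s0_v11)))))
theorem s0_f3638 : ed sl_at s0_v11 = s0_v11 :=
  gap_rel s0_rot6 (path_edge (s0_f3636 IH) (path_edge (s0_f159r IH) (path_edge (s0_f3634r IH) (path_edge (s0_f3637 IH) (path_nil s0_v11)))))
theorem s0_f3638r : ed sl_af s0_v11 = s0_v11 :=
  edge_flip (s0_f3638 IH)
theorem s0_f3639 : ed sl_cf s0_v11 = s0_v3 :=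
  gap_rel s0_rot74 (path_edge (s0_f3638r IH) (path_edge (s0_f3635 IH) (path_edge (s0_f3552r IH) (path_nil s0_v3))))
theorem s0_f3640 : ed sl_dt sq53 = s0_v12 :=
  rfl
theorem s0_f3640r : ed sl_df s0_v12 = sq53 :=
  edge_flip (s0_f3640 IH)
theorem s0_f2701r : ed sl_af sq53 = sq64 :=
  edge_flip (s0_f2701 IH)
theorem s0_f3641 : ed sl_af sq100 = s0_v12 :=
  gap_rel s0_rot72 (path_edge (s0_f2707 IH) (path_edge (s0_f2701r IH) (path_edge (s0_f3640r IH) (path_nil s0_v12))))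
theorem s0_f3642 : ed sl_df sq53 = s0_v12 :=
  gap_rel s0_rot54 (path_edge (s0_f3640r IH) (path_nil s0_v12))
theorem s0_f3644 : ed sl_dt sq268 = sq398 :=
  real_edge rels S fwd inv o lvl plet idx 16 IH Gen.d sp268 sp398 rfl rfl
theorem s0_f3645 : ed sl_ct sq398 = sq587 :=
  real_edge rels S fwd inv o lvl plet idx 16 IH Gen.c sp398 sp587 rfl rfl
theorem s0_f3646 : ed sl_bt sq587 = sq864 :=
  real_edge rels S fwd inv o lvl plet idx 16 IH Gen.b sp587 sp864 rfl rfl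
theorem s0_f3647 : ed sl_dt sq864 = sq949 :=
  real_edge rels S fwd inv o lvl plet idx 16 IH Gen.d sp864 sp949 rfl rfl
theorem s0_f3648 : ed sl_ct sq949 = sq1295 :=
  real_edge rels S fwd inv o lvl plet idx 16 IH Gen.c sp949 sp1295 rfl rfl
theorem s0_f3649 : ed sl_dt sq1295 = sq1611 :=
  real_edge rels S fwd inv o lvl plet idx 16 IH Gen.d sp1295 sp1611 rfl rfl
theorem s0_f3650 : ed sl_et sq87 = sq134 :=
  real_edge rels S fwd inv o lvl plet idx 16 IH Gen.e sp87 sp134 rfl rfl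
theorem s0_f3651 : ed sl_at sq56 = s0_v13 :=
  rfl
theorem s0_f3651r : ed sl_af s0_v13 = sq56 :=
  edge_flip (s0_f3651 IH)
theorem s0_f3652 : ed sl_af sq56 = s0_v13 :=
  gap_rel s0_rot66 (path_edge (s0_f3651r IH) (path_nil s0_v13))
theorem s0_f3653 : ed sl_df s0_v6 = s0_v13 :=
  gap_rel s0_rot51 (path_edge (s0_f3609 IH) (path_edge (s0_f476r IH) (path_edge (s0_f3651r IH) (path_nil s0_v13))))
theorem s0_f3653r : ed sl_dt s0_v13 = s0_v6 :=
  edge_flip (s0_f3653 IH)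
theorem s0_f3654 : ed sl_dt s0_v6 = s0_v13 :=
  gap_rel s0_rot28 (path_edge (s0_f3653r IH) (path_nil s0_v13))
theorem s0_f3655 : ed sl_gt sq56 = s0_v14 :=
  rfl
theorem s0_f3655r : ed sl_gf s0_v14 = sq56 :=
  edge_flip (s0_f3655 IH)
theorem s0_f3658 : ed sl_gf sq56 = s0_v14 :=
  gap_rel s0_rot76 (path_edge (s0_f3655r IH) (path_nil s0_v14))
theorem s0_f3658r : ed sl_gt s0_v14 = sq56 :=
  edge_flip (s0_f3658 IH)
theorem s0_f190r : ed sl_gt sq33 = sq27 :=
  edge_flip (s0_f190 IH)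
theorem s0_f3659 : ed sl_bt s0_v8 = s0_v14 :=
  gap_rel s0_rot26 (path_edge (s0_f3614 IH) (path_edge (s0_f479 IH) (path_edge (s0_f190r IH) (path_edge (s0_f456 IH) (path_edge (s0_f3658r IH) (path_nil s0_v14))))))
theorem s0_f3661 : ed sl_ct sq58 = s0_v15 :=
  rfl
theorem s0_f3662 : ed sl_ct sq62 = sq38 :=
  real_edge rels S fwd inv o lvl plet idx 16 IH Gen.c sp62 sp38 rfl rfl
theorem s0_f3661r : ed sl_cf s0_v15 = sq58 :=
  edge_flip (s0_f3661 IH)
theorem s0_f3666 : ed sl_gf sq88 = s0_v15 :=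
  gap_rel s0_rot5 (path_edge (s0_f1450r IH) (path_edge (s0_f3010 IH) (path_edge (s0_f3661r IH) (path_nil s0_v15))))
theorem s0_f3667 : ed sl_dt sq103 = sq62 :=
  real_edge rels S fwd inv o lvl plet idx 16 IH Gen.d sp103 sp62 rfl rfl
theorem s0_f3668 : ed sl_ct sq160 = sq103 :=
  real_edge rels S fwd inv o lvl plet idx 16 IH Gen.c sp160 sp103 rfl rfl
theorem s0_f3666r : ed sl_gt s0_v15 = sq88 :=
  edge_flip (s0_f3666 IH)
theorem s0_f3670 : ed sl_et s0_v4 = s0_v15 :=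
  gap_rel s0_rot49 (path_edge (s0_f3561 IH) (path_edge (s0_f3503 IH) (path_edge (s0_f3666r IH) (path_nil s0_v15))))
theorem s0_f3671 : ed sl_gt sq88 = s0_v15 :=
  gap_rel s0_rot25 (path_edge (s0_f3666r IH) (path_nil s0_v15))
theorem s0_f3672 : ed sl_ct sq395 = sq264 :=
  real_edge rels S fwd inv o lvl plet idx 16 IH Gen.c sp395 sp264 rfl rfl
theorem s0_f3673 : ed sl_ct sq59 = s0_v16 :=
  rfl
theorem s0_f3673r : ed sl_cf s0_v16 = sq59 :=
  edge_flip (s0_f3673 IH)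
theorem s0_f3675 : ed sl_cf sq59 = s0_v16 :=
  gap_rel s0_rot40 (path_edge (s0_f3673r IH) (path_nil s0_v16))
theorem s0_f3676 : ed sl_ff s0_v4 = s0_v16 :=
  gap_rel s0_rot95 (path_edge (s0_f3557 IH) (path_edge (s0_f2509r IH) (path_edge (s0_f3673r IH) (path_nil s0_v16))))
theorem s0_f2684r : ed sl_gf sq59 = sq67 :=
  edge_flip (s0_f2684 IH)
theorem s0_f2610r : ed sl_cf sq67 = sq107 :=
  edge_flip (s0_f2610 IH)
theorem s0_f3677 : ed sl_gf sq107 = s0_v16 :=
  gap_rel s0_rot5 (path_edge (s0_f2610r IH) (path_edge (s0_f2684r IH) (path_edge (s0_f3673r IH) (path_nil s0_v16))))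
theorem s0_f3677r : ed sl_gt s0_v16 = sq107 :=
  edge_flip (s0_f3677 IH)
theorem s0_f2688r : ed sl_gt sq89 = sq63 :=
  edge_flip (s0_f2688 IH)
theorem s0_f3678 : ed sl_at sq63 = s0_v16 :=
  gap_rel s0_rot96 (path_edge (s0_f2688r IH) (path_edge (s0_f2678 IH) (path_edge (s0_f3677r IH) (path_nil s0_v16))))
theorem s0_f3679 : ed sl_ft s0_v4 = s0_v16 :=
  gap_rel s0_rot97 (path_edge (s0_f3561 IH) (path_edge (s0_f2507 IH) (path_edge (s0_f3024 IH) (path_edge (s0_f2489 IH) (path_edge (s0_f2718 IH) (path_edge (s0_f2988 IH) (path_edge (s0_f3677r IH) (path_nil s0_v16))))))))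
theorem s0_f2305r : ed sl_af sq265 = sq173 :=
  edge_flip (s0_f2305 IH)
theorem s0_f2304r : ed sl_bf sq173 = sq111 :=
  edge_flip (s0_f2304 IH)
theorem s0_f3540r : ed sl_cf sq111 = sq145 :=
  edge_flip (s0_f3540 IH)
theorem s0_f3539r : ed sl_ff sq145 = sq95 :=
  edge_flip (s0_f3539 IH)
theorem s0_f3538r : ed sl_af sq95 = sq60 :=
  edge_flip (s0_f3538 IH)
theorem s0_f118r : ed sl_bf sq60 = sq37 :=
  edge_flip (s0_f118 IH)
theorem s0_f2173r : ed sl_ff sq20 = sq39 :=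
  edge_flip (s0_f2173 IH)
theorem s0_f2488r : ed sl_af sq39 = sq59 :=
  edge_flip (s0_f2488 IH)
theorem s0_f2676r : ed sl_bf sq59 = sq59 :=
  edge_flip (s0_f2676 IH)
theorem s0_f3679r : ed sl_ff s0_v16 = s0_v4 :=
  edge_flip (s0_f3679 IH)
theorem s0_f3559r : ed sl_af s0_v4 = sq37 :=
  edge_flip (s0_f3559 IH)
theorem s0_f106r : ed sl_bf sq37 = sq60 :=
  edge_flip (s0_f106 IH)
theorem s0_f105r : ed sl_cf sq60 = sq42 :=
  edge_flip (s0_f105 IH)
theorem s0_f2306r : ed sl_ff sq42 = sq71 :=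
  edge_flip (s0_f2306 IH)
theorem s0_f440r : ed sl_af sq71 = sq111 :=
  edge_flip (s0_f440 IH)
theorem s0_f441r : ed sl_bf sq111 = sq173 :=
  edge_flip (s0_f441 IH)
theorem s0_f3560r : ed sl_cf sq173 = sq266 :=
  edge_flip (s0_f3560 IH)
theorem s0_f3681 : ed sl_ff sq266 = sq265 :=
  gap_rel s0_rot98 (path_edge (s0_f3560r IH) (path_edge (s0_f441r IH) (path_edge (s0_f440r IH) (path_edge (s0_f2306r IH) (path_edge (s0_f105r IH) (path_edge (s0_f106r IH) (path_edge (s0_f3559r IH) (path_edge (s0_f3679r IH) (path_edge (s0_f3675 IH) (path_edge (s0_f2676r IH) (path_edge (s0_f2488r IH) (path_edge (s0_f2173r IH) (path_edge (s0_f117r IH) (path_edge (s0_f118r IH) (path_edge (s0_f3538r IH) (path_edge (s0_f3539r IH) (path_edge (s0_f3540r IH) (path_edge (s0_f2304r IH) (path_edge (s0_f2305r IH) (path_nil sq265))))))))))))))))))))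
theorem s0_f3683 : ed sl_dt sq186 = sq265 :=
  real_edge rels S fwd inv o lvl plet idx 16 IH Gen.d sp186 sp265 rfl rfl
theorem s0_f3684 : ed sl_et sq266 = sq395 :=
  real_edge rels S fwd inv o lvl plet idx 16 IH Gen.e sp266 sp395 rfl rfl
theorem s0_f3681r : ed sl_ft sq265 = sq266 :=
  edge_flip (s0_f3681 IH)
theorem s0_f3688 : ed sl_ft sq266 = sq265 :=
  gap_rel s0_rot16 (path_edge (s0_f3681r IH) (path_nil sq265))
theorem s0_f3690 : ed sl_ct sq173 = sq266 :=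
  real_edge rels S fwd inv o lvl plet idx 16 IH Gen.c sp173 sp266 rfl rfl
theorem s0_f3691 : ed sl_dt sq265 = sq186 :=
  real_edge rels S fwd inv o lvl plet idx 16 IH Gen.d sp265 sp186 rfl rfl
theorem s0_f3692 : ed sl_et sq395 = sq266 :=
  real_edge rels S fwd inv o lvl plet idx 16 IH Gen.e sp395 sp266 rfl rfl
theorem s0_f3693 : ed sl_et sq265 = sq394 :=
  real_edge rels S fwd inv o lvl plet idx 16 IH Gen.e sp265 sp394 rfl rfl
theorem s0_f3693r : ed sl_ef sq394 = sq265 :=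
  edge_flip (s0_f3693 IH)
theorem s0_f3688r : ed sl_ff sq265 = sq266 :=
  edge_flip (s0_f3688 IH)
theorem s0_f3692r : ed sl_ef sq266 = sq395 :=
  edge_flip (s0_f3692 IH)
theorem s0_f3694 : ed sl_ff sq395 = sq394 :=
  gap_rel s0_rot99 (path_edge (s0_f3692r IH) (path_edge (s0_f3688r IH) (path_edge (s0_f3693r IH) (path_nil sq394))))
theorem s0_f3696 : ed sl_gt sq173 = sq267 :=
  real_edge rels S fwd inv o lvl plet idx 16 IH Gen.g sp173 sp267 rfl rfl
theorem s0_f3697 : ed sl_dt sq395 = sq582 :=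
  real_edge rels S fwd inv o lvl plet idx 16 IH Gen.d sp395 sp582 rfl rfl
theorem s0_f3698 : ed sl_dt sq579 = sq394 :=
  real_edge rels S fwd inv o lvl plet idx 16 IH Gen.d sp579 sp394 rfl rfl
theorem s0_f3694r : ed sl_ft sq394 = sq395 :=
  edge_flip (s0_f3694 IH)
theorem s0_f3699 : ed sl_ft sq582 = sq579 :=
  gap_rel s0_rot14 (path_edge (s0_f3697 IH) (path_edge (s0_f3694r IH) (path_edge (s0_f3698 IH) (path_nil sq579))))
theorem s0_f3701 : ed sl_ct sq858 = sq582 :=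
  real_edge rels S fwd inv o lvl plet idx 16 IH Gen.c sp858 sp582 rfl rfl
theorem s0_f3702 : ed sl_ct sq579 = sq855 :=
  real_edge rels S fwd inv o lvl plet idx 16 IH Gen.c sp579 sp855 rfl rfl
theorem s0_f3702r : ed sl_cf sq855 = sq579 :=
  edge_flip (s0_f3702 IH)
theorem s0_f3699r : ed sl_ff sq579 = sq582 :=
  edge_flip (s0_f3699 IH)
theorem s0_f3701r : ed sl_cf sq582 = sq858 :=
  edge_flip (s0_f3701 IH)
theorem s0_f3703 : ed sl_ff sq858 = sq855 :=
  gap_rel s0_rot95 (path_edge (s0_f3701r IH) (path_edge (s0_f3699r IH) (path_edge (s0_f3702r IH) (path_nil sq855))))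
theorem s0_f3705 : ed sl_et sq579 = sq431 :=
  real_edge rels S fwd inv o lvl plet idx 16 IH Gen.e sp579 sp431 rfl rfl
theorem s0_f3706 : ed sl_ff sq582 = sq579 :=
  gap_rel s0_rot1 (path_edge (s0_f3699r IH) (path_nil sq579))
theorem s0_f3710 : ed sl_ct sq582 = sq858 :=
  real_edge rels S fwd inv o lvl plet idx 16 IH Gen.c sp582 sp858 rfl rfl
theorem s0_f3711 : ed sl_ct sq855 = sq579 :=
  real_edge rels S fwd inv o lvl plet idx 16 IH Gen.c sp855 sp579 rfl rfl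
theorem s0_f3706r : ed sl_ft sq579 = sq582 :=
  edge_flip (s0_f3706 IH)
theorem s0_f3712 : ed sl_ft sq858 = sq855 :=
  gap_rel s0_rot13 (path_edge (s0_f3710 IH) (path_edge (s0_f3706r IH) (path_edge (s0_f3711 IH) (path_nil sq855))))
theorem s0_f3716 : ed sl_et sq431 = sq579 :=
  real_edge rels S fwd inv o lvl plet idx 16 IH Gen.e sp431 sp579 rfl rfl
theorem s0_f3726 : ed sl_dt sq1228 = sq858 :=
  real_edge rels S fwd inv o lvl plet idx 16 IH Gen.d sp1228 sp858 rfl rfl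
theorem s0_f3727 : ed sl_dt sq855 = sq1224 :=
  real_edge rels S fwd inv o lvl plet idx 16 IH Gen.d sp855 sp1224 rfl rfl
theorem s0_f3727r : ed sl_df sq1224 = sq855 :=
  edge_flip (s0_f3727 IH)
theorem s0_f3712r : ed sl_ff sq855 = sq858 :=
  edge_flip (s0_f3712 IH)
theorem s0_f3726r : ed sl_df sq858 = sq1228 :=
  edge_flip (s0_f3726 IH)
theorem s0_f3728 : ed sl_ff sq1228 = sq1224 :=
  gap_rel s0_rot100 (path_edge (s0_f3726r IH) (path_edge (s0_f3712r IH) (path_edge (s0_f3727r IH) (path_nil sq1224))))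
theorem s0_f3733 : ed sl_at sq856 = sq1224 :=
  real_edge rels S fwd inv o lvl plet idx 16 IH Gen.a sp856 sp1224 rfl rfl
theorem s0_f3735 : ed sl_ct sq1228 = sq1224 :=
  real_edge rels S fwd inv o lvl plet idx 16 IH Gen.c sp1228 sp1224 rfl rfl
theorem s0_f3728r : ed sl_ft sq1224 = sq1228 :=
  edge_flip (s0_f3728 IH)
theorem s0_f3736 : ed sl_ft sq1228 = sq1224 :=
  gap_rel s0_rot16 (path_edge (s0_f3728r IH) (path_nil sq1224))
theorem s0_f3742 : ed sl_dt sq858 = sq1228 :=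
  real_edge rels S fwd inv o lvl plet idx 16 IH Gen.d sp858 sp1228 rfl rfl
theorem s0_f3744 : ed sl_gt sq856 = sq1225 :=
  real_edge rels S fwd inv o lvl plet idx 16 IH Gen.g sp856 sp1225 rfl rfl
theorem s0_f3749 : ed sl_bt sq851 = sq580 :=
  real_edge rels S fwd inv o lvl plet idx 16 IH Gen.b sp851 sp580 rfl rfl
theorem s0_f3756 : ed sl_at sq61 = s0_v17 :=
  rfl
theorem s0_f3756r : ed sl_af s0_v17 = sq61 :=
  edge_flip (s0_f3756 IH)
theorem s0_f3757 : ed sl_af sq61 = s0_v17 :=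
  gap_rel s0_rot66 (path_edge (s0_f3756r IH) (path_nil s0_v17))
theorem s0_f2519r : ed sl_cf sq61 = sq100 :=
  edge_flip (s0_f2519 IH)
theorem s0_f3758 : ed sl_cf s0_v12 = s0_v17 :=
  gap_rel s0_rot74 (path_edge (s0_f3641 IH) (path_edge (s0_f2519r IH) (path_edge (s0_f3756r IH) (path_nil s0_v17))))
theorem s0_f3760 : ed sl_gf s0_v12 = s0_v17 :=
  gap_rel s0_rot47 (path_edge (s0_f3641 IH) (path_edge (s0_f2750 IH) (path_edge (s0_f3756r IH) (path_nil s0_v17))))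
theorem s0_f3761 : ed sl_ct s0_v12 = s0_v17 :=
  gap_rel s0_rot101 (path_edge (s0_f3640 IH) (path_edge (s0_f2531 IH) (path_edge (s0_f2530 IH) (path_edge (s0_f2510 IH) (path_edge (s0_f2511 IH) (path_edge (s0_f2512 IH) (path_edge (s0_f2513 IH) (path_edge (s0_f3756r IH) (path_nil s0_v17)))))))))
theorem s0_f3764 : ed sl_bt sq64 = s0_v18 :=
  rfl
theorem s0_f3764r : ed sl_bf s0_v18 = sq64 :=
  edge_flip (s0_f3764 IH)
theorem s0_f3765 : ed sl_bf sq64 = s0_v18 :=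
  gap_rel s0_rot44 (path_edge (s0_f3764r IH) (path_nil s0_v18))
theorem s0_f2687r : ed sl_cf sq64 = sq40 :=
  edge_flip (s0_f2687 IH)
theorem s0_f2491r : ed sl_bf sq40 = sq40 :=
  edge_flip (s0_f2491 IH)
theorem s0_f3766 : ed sl_cf s0_v18 = s0_v18 :=
  gap_rel s0_rot27 (path_edge (s0_f3765 IH) (path_edge (s0_f2706r IH) (path_edge (s0_f2491r IH) (path_edge (s0_f2687r IH) (path_edge (s0_f3764r IH) (path_nil s0_v18))))))
theorem s0_f3768 : ed sl_bt sq69 = s0_v19 :=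
  rfl
theorem s0_f3768r : ed sl_bf s0_v19 = sq69 :=
  edge_flip (s0_f3768 IH)
theorem s0_f3769 : ed sl_bf sq69 = s0_v19 :=
  gap_rel s0_rot44 (path_edge (s0_f3768r IH) (path_nil s0_v19))
theorem s0_f3578r : ed sl_df sq69 = sq44 :=
  edge_flip (s0_f3578 IH)
theorem s0_f3770 : ed sl_df s0_v5 = s0_v19 :=
  gap_rel s0_rot8 (path_edge (s0_f3566 IH) (path_edge (s0_f3578r IH) (path_edge (s0_f3768r IH) (path_nil s0_v19))))
theorem s0_f3772 : ed sl_gt sq112 = sq69 :=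
  real_edge rels S fwd inv o lvl plet idx 16 IH Gen.g sp112 sp69 rfl rfl
theorem s0_f3774 : ed sl_bt sq180 = sq117 :=
  real_edge rels S fwd inv o lvl plet idx 16 IH Gen.b sp180 sp117 rfl rfl
theorem s0_f3775 : ed sl_ft sq180 = sq180 :=
  real_edge rels S fwd inv o lvl plet idx 16 IH Gen.f sp180 sp180 rfl rfl
theorem s0_f3776 : ed sl_gt sq279 = sq180 :=
  real_edge rels S fwd inv o lvl plet idx 16 IH Gen.g sp279 sp180 rfl rfl
theorem s0_f3770r : ed sl_dt s0_v19 = s0_v5 :=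
  edge_flip (s0_f3770 IH)
theorem s0_f3778 : ed sl_dt s0_v5 = s0_v19 :=
  gap_rel s0_rot28 (path_edge (s0_f3770r IH) (path_nil s0_v19))
theorem s0_f3779 : ed sl_et sq69 = sq110 :=
  real_edge rels S fwd inv o lvl plet idx 16 IH Gen.e sp69 sp110 rfl rfl
theorem s0_f3780 : ed sl_dt sq110 = sq170 :=
  real_edge rels S fwd inv o lvl plet idx 16 IH Gen.d sp110 sp170 rfl rfl
theorem s0_f3782 : ed sl_ct sq390 = sq360 :=
  real_edge rels S fwd inv o lvl plet idx 16 IH Gen.c sp390 sp360 rfl rfl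
theorem s0_f3783 : ed sl_bt sq360 = sq527 :=
  real_edge rels S fwd inv o lvl plet idx 16 IH Gen.b sp360 sp527 rfl rfl
theorem s0_f3784 : ed sl_dt sq527 = sq359 :=
  real_edge rels S fwd inv o lvl plet idx 16 IH Gen.d sp527 sp359 rfl rfl
theorem s0_f3785 : ed sl_ct sq359 = sq247 :=
  real_edge rels S fwd inv o lvl plet idx 16 IH Gen.c sp359 sp247 rfl rfl
theorem s0_f3786 : ed sl_et sq143 = sq221 :=
  real_edge rels S fwd inv o lvl plet idx 16 IH Gen.e sp143 sp221 rfl rfl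
theorem s0_f3787 : ed sl_dt sq221 = sq344 :=
  real_edge rels S fwd inv o lvl plet idx 16 IH Gen.d sp221 sp344 rfl rfl
theorem s0_f3788 : ed sl_ct sq344 = sq510 :=
  real_edge rels S fwd inv o lvl plet idx 16 IH Gen.c sp344 sp510 rfl rfl
theorem s0_f3789 : ed sl_dt sq510 = sq747 :=
  real_edge rels S fwd inv o lvl plet idx 16 IH Gen.d sp510 sp747 rfl rfl
theorem s0_f3791 : ed sl_ct sq72 = sq99 :=
  real_edge rels S fwd inv o lvl plet idx 16 IH Gen.c sp72 sp99 rfl rfl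
theorem s0_f3792 : ed sl_dt sq72 = sq47 :=
  real_edge rels S fwd inv o lvl plet idx 16 IH Gen.d sp72 sp47 rfl rfl
theorem s0_f3794 : ed sl_at sq74 = sq45 :=
  real_edge rels S fwd inv o lvl plet idx 16 IH Gen.a sp74 sp45 rfl rfl
theorem s0_f3795 : ed sl_bt sq74 = s0_v20 :=
  rfl
theorem s0_f3795r : ed sl_bf s0_v20 = sq74 :=
  edge_flip (s0_f3795 IH)
theorem s0_f3796 : ed sl_bf sq74 = s0_v20 :=
  gap_rel s0_rot44 (path_edge (s0_f3795r IH) (path_nil s0_v20))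
theorem s0_f3579r : ed sl_ef sq74 = sq44 :=
  edge_flip (s0_f3579 IH)
theorem s0_f3799 : ed sl_ef s0_v5 = s0_v20 :=
  gap_rel s0_rot46 (path_edge (s0_f3566 IH) (path_edge (s0_f3579r IH) (path_edge (s0_f3795r IH) (path_nil s0_v20))))
theorem s0_f3800 : ed sl_ft sq120 = sq74 :=
  real_edge rels S fwd inv o lvl plet idx 16 IH Gen.f sp120 sp74 rfl rfl
theorem s0_f3806 : ed sl_ft sq197 = sq197 :=
  real_edge rels S fwd inv o lvl plet idx 16 IH Gen.f sp197 sp197 rfl rfl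
theorem s0_f3809 : ed sl_ct sq182 = sq119 :=
  real_edge rels S fwd inv o lvl plet idx 16 IH Gen.c sp182 sp119 rfl rfl
theorem s0_f3810 : ed sl_dt sq284 = sq182 :=
  real_edge rels S fwd inv o lvl plet idx 16 IH Gen.d sp284 sp182 rfl rfl
theorem s0_f3812 : ed sl_ct sq624 = sq423 :=
  real_edge rels S fwd inv o lvl plet idx 16 IH Gen.c sp624 sp423 rfl rfl
theorem s0_f3799r : ed sl_et s0_v20 = s0_v5 :=
  edge_flip (s0_f3799 IH)
theorem s0_f3816 : ed sl_et s0_v5 = s0_v20 :=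
  gap_rel s0_rot31 (path_edge (s0_f3799r IH) (path_nil s0_v20))
theorem s0_f3818 : ed sl_ft sq121 = sq127 :=
  real_edge rels S fwd inv o lvl plet idx 16 IH Gen.f sp121 sp127 rfl rfl
theorem s0_f3819 : ed sl_bt sq127 = sq196 :=
  real_edge rels S fwd inv o lvl plet idx 16 IH Gen.b sp127 sp196 rfl rfl
theorem s0_f3821 : ed sl_dt sq445 = sq588 :=
  real_edge rels S fwd inv o lvl plet idx 16 IH Gen.d sp445 sp588 rfl rfl
theorem s0_f3822 : ed sl_ct sq588 = sq865 :=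
  real_edge rels S fwd inv o lvl plet idx 16 IH Gen.c sp588 sp865 rfl rfl
theorem s0_f3823 : ed sl_et sq174 = sq123 :=
  real_edge rels S fwd inv o lvl plet idx 16 IH Gen.e sp174 sp123 rfl rfl
theorem s0_f3824 : ed sl_dt sq123 = sq190 :=
  real_edge rels S fwd inv o lvl plet idx 16 IH Gen.d sp123 sp190 rfl rfl
theorem s0_f3825 : ed sl_ct sq190 = sq284 :=
  real_edge rels S fwd inv o lvl plet idx 16 IH Gen.c sp190 sp284 rfl rfl
theorem s0_f3829 : ed sl_at sq76 = sq47 :=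
  real_edge rels S fwd inv o lvl plet idx 16 IH Gen.a sp76 sp47 rfl rfl
theorem s0_f3830 : ed sl_bt sq76 = s0_v21 :=
  rfl
theorem s0_f3830r : ed sl_bf s0_v21 = sq76 :=
  edge_flip (s0_f3830 IH)
theorem s0_f3831 : ed sl_bf sq76 = s0_v21 :=
  gap_rel s0_rot44 (path_edge (s0_f3830r IH) (path_nil s0_v21))
theorem s0_f3832 : ed sl_ct sq76 = sq76 :=
  real_edge rels S fwd inv o lvl plet idx 16 IH Gen.c sp76 sp76 rfl rfl
theorem s0_f3839 : ed sl_dt sq76 = sq112 :=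
  real_edge rels S fwd inv o lvl plet idx 16 IH Gen.d sp76 sp112 rfl rfl
theorem s0_f3840 : ed sl_et sq76 = sq121 :=
  real_edge rels S fwd inv o lvl plet idx 16 IH Gen.e sp76 sp121 rfl rfl
theorem s0_f3841 : ed sl_ft sq129 = sq200 :=
  real_edge rels S fwd inv o lvl plet idx 16 IH Gen.f sp129 sp200 rfl rfl
theorem s0_f3843 : ed sl_gt sq122 = sq188 :=
  real_edge rels S fwd inv o lvl plet idx 16 IH Gen.g sp122 sp188 rfl rfl
theorem s0_f3844 : ed sl_dt sq121 = sq184 :=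
  real_edge rels S fwd inv o lvl plet idx 16 IH Gen.d sp121 sp184 rfl rfl
theorem s0_f3852 : ed sl_ct sq112 = sq146 :=
  real_edge rels S fwd inv o lvl plet idx 16 IH Gen.c sp112 sp146 rfl rfl
theorem s0_f3853 : ed sl_ct sq77 = sq123 :=
  real_edge rels S fwd inv o lvl plet idx 16 IH Gen.c sp77 sp123 rfl rfl
theorem s0_f3864 : ed sl_at sq80 = s0_v22 :=
  rfl
theorem s0_f3864r : ed sl_af s0_v22 = sq80 :=
  edge_flip (s0_f3864 IH)
theorem s0_f3865 : ed sl_af sq80 = s0_v22 :=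
  gap_rel s0_rot66 (path_edge (s0_f3864r IH) (path_nil s0_v22))
theorem s0_f3866 : ed sl_at sq186 = sq122 :=
  real_edge rels S fwd inv o lvl plet idx 16 IH Gen.a sp186 sp122 rfl rfl
theorem s0_f3867 : ed sl_bt sq291 = sq186 :=
  real_edge rels S fwd inv o lvl plet idx 16 IH Gen.b sp291 sp186 rfl rfl
theorem s0_f1738r : ed sl_ff sq80 = sq50 :=
  edge_flip (s0_f1738 IH)
theorem s0_f3868 : ed sl_ff s0_v6 = s0_v22 :=
  gap_rel s0_rot11 (path_edge (s0_f3609 IH) (path_edge (s0_f1738r IH) (path_edge (s0_f3864r IH) (path_nil s0_v22))))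
theorem s0_f3868r : ed sl_ft s0_v22 = s0_v6 :=
  edge_flip (s0_f3868 IH)
theorem s0_f3869 : ed sl_ft s0_v6 = s0_v22 :=
  gap_rel s0_rot16 (path_edge (s0_f3868r IH) (path_nil s0_v22))
theorem s0_f3870 : ed sl_bt sq186 = sq291 :=
  real_edge rels S fwd inv o lvl plet idx 16 IH Gen.b sp186 sp291 rfl rfl
theorem s0_f3871 : ed sl_ct sq80 = s0_v23 :=
  rfl
theorem s0_f3871r : ed sl_cf s0_v23 = sq80 :=
  edge_flip (s0_f3871 IH)
theorem s0_f3873 : ed sl_ff s0_v7 = s0_v23 :=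
  gap_rel s0_rot95 (path_edge (s0_f3612 IH) (path_edge (s0_f1738r IH) (path_edge (s0_f3871r IH) (path_nil s0_v23))))
theorem s0_f3878 : ed sl_ct sq429 = sq636 :=
  real_edge rels S fwd inv o lvl plet idx 16 IH Gen.c sp429 sp636 rfl rfl
theorem s0_f3880 : ed sl_gt sq80 = s0_v24 :=
  rfl
theorem s0_f3880r : ed sl_gf s0_v24 = sq80 :=
  edge_flip (s0_f3880 IH)
theorem s0_f3882 : ed sl_gf sq80 = s0_v24 :=
  gap_rel s0_rot76 (path_edge (s0_f3880r IH) (path_nil s0_v24))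
theorem s0_f3882r : ed sl_gt s0_v24 = sq80 :=
  edge_flip (s0_f3882 IH)
theorem s0_f3884 : ed sl_dt sq141 = s0_v24 :=
  gap_rel s0_rot91 (path_edge (s0_f435 IH) (path_edge (s0_f467 IH) (path_edge (s0_f3882r IH) (path_nil s0_v24))))
theorem s0_f3885 : ed sl_et sq218 = sq141 :=
  real_edge rels S fwd inv o lvl plet idx 16 IH Gen.e sp218 sp141 rfl rfl
theorem s0_f3888 : ed sl_dt sq218 = sq339 :=
  real_edge rels S fwd inv o lvl plet idx 16 IH Gen.d sp218 sp339 rfl rfl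
theorem s0_f3889 : ed sl_at sq81 = sq82 :=
  real_edge rels S fwd inv o lvl plet idx 16 IH Gen.a sp81 sp82 rfl rfl
theorem s0_f3895 : ed sl_at sq85 = s0_v25 :=
  rfl
theorem s0_f3895r : ed sl_af s0_v25 = sq85 :=
  edge_flip (s0_f3895 IH)
theorem s0_f3896 : ed sl_af sq85 = s0_v25 :=
  gap_rel s0_rot66 (path_edge (s0_f3895r IH) (path_nil s0_v25))
theorem s0_f507r : ed sl_ef sq85 = sq50 :=
  edge_flip (s0_f507 IH)
theorem s0_f3897 : ed sl_ef s0_v6 = s0_v25 :=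
  gap_rel s0_rot102 (path_edge (s0_f3609 IH) (path_edge (s0_f507r IH) (path_edge (s0_f3895r IH) (path_nil s0_v25))))
theorem s0_f3897r : ed sl_et s0_v25 = s0_v6 :=
  edge_flip (s0_f3897 IH)
theorem s0_f3898 : ed sl_et s0_v6 = s0_v25 :=
  gap_rel s0_rot31 (path_edge (s0_f3897r IH) (path_nil s0_v25))
theorem s0_f3899 : ed sl_ft sq85 = sq126 :=
  real_edge rels S fwd inv o lvl plet idx 16 IH Gen.f sp85 sp126 rfl rfl
theorem s0_f3909 : ed sl_gt sq127 = sq78 :=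
  real_edge rels S fwd inv o lvl plet idx 16 IH Gen.g sp127 sp78 rfl rfl
theorem s0_f3910 : ed sl_bt sq196 = sq127 :=
  real_edge rels S fwd inv o lvl plet idx 16 IH Gen.b sp196 sp127 rfl rfl
theorem s0_f3926 : ed sl_bt s0_v4 = s0_v30 :=
  rfl
theorem s0_f3926r : ed sl_bf s0_v30 = s0_v4 :=
  edge_flip (s0_f3926 IH)
theorem s0_f3927 : ed sl_bf s0_v4 = s0_v30 :=
  gap_rel s0_rot44 (path_edge (s0_f3926r IH) (path_nil s0_v30))
theorem s0_f3928 : ed sl_at s0_v5 = s0_v31 :=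
  rfl
theorem s0_f3928r : ed sl_af s0_v31 = s0_v5 :=
  edge_flip (s0_f3928 IH)
theorem s0_f3929 : ed sl_af s0_v5 = s0_v31 :=
  gap_rel s0_rot66 (path_edge (s0_f3928r IH) (path_nil s0_v31))
theorem s0_f3930 : ed sl_ct s0_v5 = s0_v32 :=
  rfl
theorem s0_f3930r : ed sl_cf s0_v32 = s0_v5 :=
  edge_flip (s0_f3930 IH)
theorem s0_f3931 : ed sl_cf s0_v5 = s0_v32 :=
  gap_rel s0_rot40 (path_edge (s0_f3930r IH) (path_nil s0_v32))
theorem s0_f3931r : ed sl_ct s0_v32 = s0_v5 :=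
  edge_flip (s0_f3931 IH)
theorem s0_f3566r : ed sl_bt s0_v5 = sq44 :=
  edge_flip (s0_f3566 IH)
theorem s0_f3932 : ed sl_bt s0_v32 = s0_v32 :=
  gap_rel s0_rot41 (path_edge (s0_f3930 IH) (path_edge (s0_f3565 IH) (path_edge (s0_f3567 IH) (path_edge (s0_f3566r IH) (path_edge (s0_f3931r IH) (path_nil s0_v32))))))
theorem s0_f3933 : ed sl_ft s0_v5 = s0_v33 :=
  rfl
theorem s0_f3933r : ed sl_ff s0_v33 = s0_v5 :=
  edge_flip (s0_f3933 IH)
theorem s0_f3934 : ed sl_ff s0_v5 = s0_v33 :=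
  gap_rel s0_rot1 (path_edge (s0_f3933r IH) (path_nil s0_v33))
theorem s0_f3935 : ed sl_gt s0_v5 = s0_v34 :=
  rfl
theorem s0_f3935r : ed sl_gf s0_v34 = s0_v5 :=
  edge_flip (s0_f3935 IH)
theorem s0_f3936 : ed sl_gf s0_v5 = s0_v34 :=
  gap_rel s0_rot76 (path_edge (s0_f3935r IH) (path_nil s0_v34))
theorem s0_f3937 : ed sl_bt s0_v6 = s0_v35 :=
  rfl
theorem s0_f3937r : ed sl_bf s0_v35 = s0_v6 :=
  edge_flip (s0_f3937 IH)
theorem s0_f3938 : ed sl_bf s0_v6 = s0_v35 :=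
  gap_rel s0_rot44 (path_edge (s0_f3937r IH) (path_nil s0_v35))
theorem s0_f3939 : ed sl_ct s0_v6 = s0_v36 :=
  rfl
theorem s0_f3939r : ed sl_cf s0_v36 = s0_v6 :=
  edge_flip (s0_f3939 IH)
theorem s0_f3940 : ed sl_af s0_v7 = s0_v36 :=
  gap_rel s0_rot10 (path_edge (s0_f3612 IH) (path_edge (s0_f3608r IH) (path_edge (s0_f3939r IH) (path_nil s0_v36))))
theorem s0_f3941 : ed sl_cf s0_v6 = s0_v36 :=
  gap_rel s0_rot40 (path_edge (s0_f3939r IH) (path_nil s0_v36))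
theorem s0_f3943 : ed sl_gt s0_v6 = s0_v37 :=
  rfl
theorem s0_f3943r : ed sl_gf s0_v37 = s0_v6 :=
  edge_flip (s0_f3943 IH)
theorem s0_f3944 : ed sl_af s0_v8 = s0_v37 :=
  gap_rel s0_rot78 (path_edge (s0_f3615 IH) (path_edge (s0_f3608r IH) (path_edge (s0_f3943r IH) (path_nil s0_v37))))
theorem s0_f3945 : ed sl_gf s0_v6 = s0_v37 :=
  gap_rel s0_rot76 (path_edge (s0_f3943r IH) (path_nil s0_v37))
theorem s0_f3609r : ed sl_at s0_v6 = sq50 :=
  edge_flip (s0_f3609 IH)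
theorem s0_f474r : ed sl_ff sq50 = sq80 :=
  edge_flip (s0_f474 IH)
theorem s0_f3946 : ed sl_ff s0_v24 = s0_v37 :=
  gap_rel s0_rot92 (path_edge (s0_f3882 IH) (path_edge (s0_f474r IH) (path_edge (s0_f3609r IH) (path_edge (s0_f3943r IH) (path_nil s0_v37)))))
theorem s0_f3946r : ed sl_ft s0_v37 = s0_v24 :=
  edge_flip (s0_f3946 IH)
theorem s0_f3947 : ed sl_ft s0_v24 = s0_v37 :=
  gap_rel s0_rot16 (path_edge (s0_f3946r IH) (path_nil s0_v37))
theorem s0_f3949 : ed sl_dt s0_v7 = s0_v38 :=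
  rfl
theorem s0_f3949r : ed sl_df s0_v38 = s0_v7 :=
  edge_flip (s0_f3949 IH)
theorem s0_f3613r : ed sl_bf s0_v7 = sq52 :=
  edge_flip (s0_f3613 IH)
theorem s0_f3950 : ed sl_bf s0_v10 = s0_v38 :=
  gap_rel s0_rot103 (path_edge (s0_f3630 IH) (path_edge (s0_f3613r IH) (path_edge (s0_f3949r IH) (path_nil s0_v38))))
theorem s0_f3951 : ed sl_df s0_v7 = s0_v38 :=
  gap_rel s0_rot54 (path_edge (s0_f3949r IH) (path_nil s0_v38))
theorem s0_f3951r : ed sl_dt s0_v38 = s0_v7 :=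
  edge_flip (s0_f3951 IH)
theorem s0_f3611r : ed sl_bt s0_v7 = sq52 :=
  edge_flip (s0_f3611 IH)
theorem s0_f3952 : ed sl_bt s0_v10 = s0_v38 :=
  gap_rel s0_rot69 (path_edge (s0_f3629 IH) (path_edge (s0_f3611r IH) (path_edge (s0_f3951r IH) (path_nil s0_v38))))
theorem s0_f3957 : ed sl_ft s0_v8 = s0_v40 :=
  rfl
theorem s0_f3957r : ed sl_ff s0_v40 = s0_v8 :=
  edge_flip (s0_f3957 IH)
theorem s0_f3959 : ed sl_ff s0_v8 = s0_v40 :=
  gap_rel s0_rot1 (path_edge (s0_f3957r IH) (path_nil s0_v40))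
theorem s0_f3960 : ed sl_gf s0_v22 = s0_v40 :=
  gap_rel s0_rot19 (path_edge (s0_f3868 IH) (path_edge (s0_f3943r IH) (path_edge (s0_f3946 IH) (path_edge (s0_f3882 IH) (path_edge (s0_f474r IH) (path_edge (s0_f3614r IH) (path_edge (s0_f3957r IH) (path_nil s0_v40))))))))
theorem s0_f3960r : ed sl_gt s0_v40 = s0_v22 :=
  edge_flip (s0_f3960 IH)
theorem s0_f3962 : ed sl_gt s0_v22 = s0_v40 :=
  gap_rel s0_rot25 (path_edge (s0_f3960r IH) (path_nil s0_v40))
theorem s0_f3975 : ed sl_bt s0_v11 = s0_v43 :=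
  rfl
theorem s0_f3975r : ed sl_bf s0_v43 = s0_v11 :=
  edge_flip (s0_f3975 IH)
theorem s0_f3976 : ed sl_bf s0_v11 = s0_v43 :=
  gap_rel s0_rot44 (path_edge (s0_f3975r IH) (path_nil s0_v43))
theorem s0_f3977 : ed sl_cf s0_v30 = s0_v43 :=
  gap_rel s0_rot27 (path_edge (s0_f3927 IH) (path_edge (s0_f3557 IH) (path_edge (s0_f3553 IH) (path_edge (s0_f3639 IH) (path_edge (s0_f3975r IH) (path_nil s0_v43))))))
theorem s0_f3977r : ed sl_ct s0_v43 = s0_v30 :=
  edge_flip (s0_f3977 IH)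
theorem s0_f3978 : ed sl_ct s0_v30 = s0_v43 :=
  gap_rel s0_rot59 (path_edge (s0_f3977r IH) (path_nil s0_v43))
theorem s0_f3979 : ed sl_at sq87 = s0_v44 :=
  rfl
theorem s0_f3979r : ed sl_af s0_v44 = sq87 :=
  edge_flip (s0_f3979 IH)
theorem s0_f3980 : ed sl_af sq87 = s0_v44 :=
  gap_rel s0_rot66 (path_edge (s0_f3979r IH) (path_nil s0_v44))
theorem s0_f480r : ed sl_cf sq87 = sq56 :=
  edge_flip (s0_f480 IH)
theorem s0_f3981 : ed sl_cf s0_v13 = s0_v44 :=
  gap_rel s0_rot74 (path_edge (s0_f3652 IH) (path_edge (s0_f480r IH) (path_edge (s0_f3979r IH) (path_nil s0_v44))))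
theorem s0_f3982 : ed sl_et sq134 = sq87 :=
  real_edge rels S fwd inv o lvl plet idx 16 IH Gen.e sp134 sp87 rfl rfl
theorem s0_f3981r : ed sl_ct s0_v44 = s0_v13 :=
  edge_flip (s0_f3981 IH)
theorem s0_f3983 : ed sl_ct s0_v13 = s0_v44 :=
  gap_rel s0_rot59 (path_edge (s0_f3981r IH) (path_nil s0_v44))
theorem s0_f3984 : ed sl_dt sq87 = s0_v45 :=
  rfl
theorem s0_f3984r : ed sl_df s0_v45 = sq87 :=
  edge_flip (s0_f3984 IH)
theorem s0_f3513r : ed sl_bf sq87 = sq53 :=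
  edge_flip (s0_f3513 IH)

end

end

end Cfsg.Agent.Helper28.S1680
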