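import Cfsg.Agent.Lib.Helper28.S1680.Seeds2

set_option autoImplicit false
set_option maxRecDepth 100000
set_option linter.all false

namespace Cfsg.Agent.Helper28.S1680

open Cfsg.Agent.Helper28
open Cfsg.Spor.Suz (Gen)

noncomputable section

section
variable (IH : ∀ y q, lvl y q < 16 → EntryOK rels S fwd inv o plet idx y q)
include IH

theorem s0_f3985 : ed sl_bf s0_v12 = s0_v45 :=
  gap_rel s0_rot103 (path_edge (s0_f3642 IH) (path_edge (s0_f3513r IH) (path_edge (s0_f3984r IH) (path_nil s0_v45))))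
theorem s0_f3986 : ed sl_df sq87 = s0_v45 :=
  gap_rel s0_rot54 (path_edge (s0_f3984r IH) (path_nil s0_v45))
theorem s0_f3987 : ed sl_ct sq268 = sq181 :=
  real_edge rels S fwd inv o lvl plet idx 16 IH Gen.c sp268 sp181 rfl rfl
theorem s0_f3988 : ed sl_dt sq398 = sq268 :=
  real_edge rels S fwd inv o lvl plet idx 16 IH Gen.d sp398 sp268 rfl rfl
theorem s0_f3986r : ed sl_dt s0_v45 = sq87 :=
  edge_flip (s0_f3986 IH)
theorem s0_f3992 : ed sl_bt s0_v12 = s0_v45 :=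
  gap_rel s0_rot69 (path_edge (s0_f3640 IH) (path_edge (s0_f488 IH) (path_edge (s0_f3986r IH) (path_nil s0_v45))))
theorem s0_f3993 : ed sl_gt sq87 = s0_v46 :=
  rfl
theorem s0_f3993r : ed sl_gf s0_v46 = sq87 :=
  edge_flip (s0_f3993 IH)
theorem s0_f3994 : ed sl_cf s0_v14 = s0_v46 :=
  gap_rel s0_rot43 (path_edge (s0_f3658 IH) (path_edge (s0_f480r IH) (path_edge (s0_f3993r IH) (path_nil s0_v46))))
theorem s0_f3995 : ed sl_gf sq87 = s0_v46 :=
  gap_rel s0_rot76 (path_edge (s0_f3993r IH) (path_nil s0_v46))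
theorem s0_f3995r : ed sl_gt s0_v46 = sq87 :=
  edge_flip (s0_f3995 IH)
theorem s0_f3996 : ed sl_ct s0_v14 = s0_v46 :=
  gap_rel s0_rot39 (path_edge (s0_f3655 IH) (path_edge (s0_f489 IH) (path_edge (s0_f3995r IH) (path_nil s0_v46))))
theorem s0_f3997 : ed sl_dt sq89 = s0_v47 :=
  rfl
theorem s0_f3997r : ed sl_df s0_v47 = sq89 :=
  edge_flip (s0_f3997 IH)
theorem s0_f3024r : ed sl_gf sq89 = sq63 :=
  edge_flip (s0_f3024 IH)
theorem s0_f2242r : ed sl_df sq63 = sq102 :=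
  edge_flip (s0_f2242 IH)
theorem s0_f4000 : ed sl_gf sq102 = s0_v47 :=
  gap_rel s0_rot45 (path_edge (s0_f2242r IH) (path_edge (s0_f3024r IH) (path_edge (s0_f3997r IH) (path_nil s0_v47))))
theorem s0_f4001 : ed sl_et sq102 = sq158 :=
  real_edge rels S fwd inv o lvl plet idx 16 IH Gen.e sp102 sp158 rfl rfl
theorem s0_f4004 : ed sl_ft sq149 = sq234 :=
  real_edge rels S fwd inv o lvl plet idx 16 IH Gen.f sp149 sp234 rfl rfl
theorem s0_f4006 : ed sl_at sq91 = s0_v48 :=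
  rfl
theorem s0_f4006r : ed sl_af s0_v48 = sq91 :=
  edge_flip (s0_f4006 IH)
theorem s0_f4007 : ed sl_af sq91 = s0_v48 :=
  gap_rel s0_rot66 (path_edge (s0_f4006r IH) (path_nil s0_v48))
theorem s0_f4008 : ed sl_ef s0_v13 = s0_v48 :=
  gap_rel s0_rot102 (path_edge (s0_f3652 IH) (path_edge (s0_f483r IH) (path_edge (s0_f4006r IH) (path_nil s0_v48))))
theorem s0_f4008r : ed sl_et s0_v48 = s0_v13 :=
  edge_flip (s0_f4008 IH)
theorem s0_f4009 : ed sl_et s0_v13 = s0_v48 :=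
  gap_rel s0_rot31 (path_edge (s0_f4008r IH) (path_nil s0_v48))
theorem s0_f4010 : ed sl_gt sq91 = s0_v49 :=
  rfl
theorem s0_f4010r : ed sl_gf s0_v49 = sq91 :=
  edge_flip (s0_f4010 IH)
theorem s0_f4013 : ed sl_gf sq91 = s0_v49 :=
  gap_rel s0_rot76 (path_edge (s0_f4010r IH) (path_nil s0_v49))
theorem s0_f4013r : ed sl_gt s0_v49 = sq91 :=
  edge_flip (s0_f4013 IH)
theorem s0_f4015 : ed sl_et s0_v14 = s0_v49 :=
  gap_rel s0_rot49 (path_edge (s0_f3655 IH) (path_edge (s0_f508 IH) (path_edge (s0_f4013r IH) (path_nil s0_v49))))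
theorem s0_f4016 : ed sl_at sq92 = s0_v50 :=
  rfl
theorem s0_f4016r : ed sl_af s0_v50 = sq92 :=
  edge_flip (s0_f4016 IH)
theorem s0_f4017 : ed sl_af sq92 = s0_v50 :=
  gap_rel s0_rot66 (path_edge (s0_f4016r IH) (path_nil s0_v50))
theorem s0_f467r : ed sl_df sq92 = sq80 :=
  edge_flip (s0_f467 IH)
theorem s0_f4018 : ed sl_df s0_v22 = s0_v50 :=
  gap_rel s0_rot51 (path_edge (s0_f3865 IH) (path_edge (s0_f467r IH) (path_edge (s0_f4016r IH) (path_nil s0_v50))))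
theorem s0_f475r : ed sl_ff sq92 = sq56 :=
  edge_flip (s0_f475 IH)
theorem s0_f4019 : ed sl_ff s0_v13 = s0_v50 :=
  gap_rel s0_rot11 (path_edge (s0_f3652 IH) (path_edge (s0_f475r IH) (path_edge (s0_f4016r IH) (path_nil s0_v50))))
theorem s0_f4019r : ed sl_ft s0_v50 = s0_v13 :=
  edge_flip (s0_f4019 IH)
theorem s0_f4020 : ed sl_dt s0_v22 = s0_v50 :=
  gap_rel s0_rot29 (path_edge (s0_f3869 IH) (path_edge (s0_f3653r IH) (path_edge (s0_f4019r IH) (path_nil s0_v50))))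
theorem s0_f4021 : ed sl_ft s0_v13 = s0_v50 :=
  gap_rel s0_rot16 (path_edge (s0_f4019r IH) (path_nil s0_v50))
theorem s0_f4032 : ed sl_dt sq95 = s0_v52 :=
  rfl
theorem s0_f4032r : ed sl_df s0_v52 = sq95 :=
  edge_flip (s0_f4032 IH)
theorem s0_f4034 : ed sl_df sq95 = s0_v52 :=
  gap_rel s0_rot54 (path_edge (s0_f4032r IH) (path_nil s0_v52))
theorem s0_f4035 : ed sl_et sq144 = sq95 :=
  real_edge rels S fwd inv o lvl plet idx 16 IH Gen.e sp144 sp95 rfl rfl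
theorem s0_f4036 : ed sl_dt sq224 = sq144 :=
  real_edge rels S fwd inv o lvl plet idx 16 IH Gen.d sp224 sp144 rfl rfl
theorem s0_f4037 : ed sl_gt sq146 = sq95 :=
  real_edge rels S fwd inv o lvl plet idx 16 IH Gen.g sp146 sp95 rfl rfl
theorem s0_f104r : ed sl_df sq42 = sq25 :=
  edge_flip (s0_f104 IH)
theorem s0_f103r : ed sl_cf sq25 = sq25 :=
  edge_flip (s0_f103 IH)
theorem s0_f102r : ed sl_df sq25 = sq42 :=
  edge_flip (s0_f102 IH)
theorem s0_f2227r : ed sl_cf sq42 = sq60 :=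
  edge_flip (s0_f2227 IH)
theorem s0_f2517r : ed sl_df sq60 = sq96 :=
  edge_flip (s0_f2517 IH)
theorem s0_f4038 : ed sl_cf sq96 = s0_v52 :=
  gap_rel s0_rot94 (path_edge (s0_f2517r IH) (path_edge (s0_f2227r IH) (path_edge (s0_f102r IH) (path_edge (s0_f103r IH) (path_edge (s0_f104r IH) (path_edge (s0_f105r IH) (path_edge (s0_f459 IH) (path_edge (s0_f4032r IH) (path_nil s0_v52)))))))))
theorem s0_f4039 : ed sl_bt sq284 = sq423 :=
  real_edge rels S fwd inv o lvl plet idx 16 IH Gen.b sp284 sp423 rfl rfl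
theorem s0_f4040 : ed sl_dt sq423 = sq283 :=
  real_edge rels S fwd inv o lvl plet idx 16 IH Gen.d sp423 sp283 rfl rfl
theorem s0_f4038r : ed sl_ct s0_v52 = sq96 :=
  edge_flip (s0_f4038 IH)
theorem s0_f4042 : ed sl_ct sq96 = s0_v52 :=
  gap_rel s0_rot59 (path_edge (s0_f4038r IH) (path_nil s0_v52))
theorem s0_f4049 : ed sl_bt sq283 = sq182 :=
  real_edge rels S fwd inv o lvl plet idx 16 IH Gen.b sp283 sp182 rfl rfl
theorem s0_f4051 : ed sl_bt sq527 = sq360 :=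
  real_edge rels S fwd inv o lvl plet idx 16 IH Gen.b sp527 sp360 rfl rfl
theorem s0_f4054 : ed sl_gt sq95 = sq146 :=
  real_edge rels S fwd inv o lvl plet idx 16 IH Gen.g sp95 sp146 rfl rfl
theorem s0_f4056 : ed sl_bt sq99 = s0_v53 :=
  rfl
theorem s0_f4057 : ed sl_at sq146 = sq99 :=
  real_edge rels S fwd inv o lvl plet idx 16 IH Gen.a sp146 sp99 rfl rfl
theorem s0_f4058 : ed sl_bt sq228 = sq146 :=
  real_edge rels S fwd inv o lvl plet idx 16 IH Gen.b sp228 sp146 rfl rfl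
theorem s0_f4056r : ed sl_bf s0_v53 = sq99 :=
  edge_flip (s0_f4056 IH)
theorem s0_f4059 : ed sl_bf sq99 = s0_v53 :=
  gap_rel s0_rot44 (path_edge (s0_f4056r IH) (path_nil s0_v53))
theorem s0_f4060 : ed sl_ct sq99 = sq72 :=
  real_edge rels S fwd inv o lvl plet idx 16 IH Gen.c sp99 sp72 rfl rfl
theorem s0_f3791r : ed sl_cf sq99 = sq72 :=
  edge_flip (s0_f3791 IH)
theorem s0_f462r : ed sl_bf sq72 = sq72 :=
  edge_flip (s0_f462 IH)
theorem s0_f4060r : ed sl_cf sq72 = sq99 :=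
  edge_flip (s0_f4060 IH)
theorem s0_f4061 : ed sl_cf s0_v53 = s0_v53 :=
  gap_rel s0_rot27 (path_edge (s0_f4059 IH) (path_edge (s0_f4060r IH) (path_edge (s0_f462r IH) (path_edge (s0_f3791r IH) (path_edge (s0_f4056r IH) (path_nil s0_v53))))))
theorem s0_f4062 : ed sl_dt sq149 = sq99 :=
  real_edge rels S fwd inv o lvl plet idx 16 IH Gen.d sp149 sp99 rfl rfl
theorem s0_f3535r : ed sl_gf sq99 = sq60 :=
  edge_flip (s0_f3535 IH)
theorem s0_f2718r : ed sl_gf sq37 = sq64 :=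
  edge_flip (s0_f2718 IH)
theorem s0_f4065 : ed sl_gf s0_v18 = s0_v53 :=
  gap_rel s0_rot24 (path_edge (s0_f3765 IH) (path_edge (s0_f2718r IH) (path_edge (s0_f118r IH) (path_edge (s0_f3535r IH) (path_edge (s0_f4056r IH) (path_nil s0_v53))))))
theorem s0_f4067 : ed sl_gt sq145 = sq155 :=
  real_edge rels S fwd inv o lvl plet idx 16 IH Gen.g sp145 sp155 rfl rfl
theorem s0_f4069 : ed sl_ct sq152 = sq115 :=
  real_edge rels S fwd inv o lvl plet idx 16 IH Gen.c sp152 sp115 rfl rfl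
theorem s0_f4061r : ed sl_ct s0_v53 = s0_v53 :=
  edge_flip (s0_f4061 IH)
theorem s0_f4065r : ed sl_gt s0_v53 = s0_v18 :=
  edge_flip (s0_f4065 IH)
theorem s0_f3766r : ed sl_ct s0_v18 = s0_v18 :=
  edge_flip (s0_f3766 IH)
theorem s0_f4073 : ed sl_gt s0_v18 = s0_v53 :=
  gap_rel s0_rot88 (path_edge (s0_f3766r IH) (path_edge (s0_f4065r IH) (path_edge (s0_f4061r IH) (path_nil s0_v53))))
theorem s0_f4074 : ed sl_ft sq146 = sq154 :=
  real_edge rels S fwd inv o lvl plet idx 16 IH Gen.f sp146 sp154 rfl rfl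
theorem s0_f4075 : ed sl_ct sq154 = sq116 :=
  real_edge rels S fwd inv o lvl plet idx 16 IH Gen.c sp154 sp116 rfl rfl
theorem s0_f4076 : ed sl_et sq99 = sq152 :=
  real_edge rels S fwd inv o lvl plet idx 16 IH Gen.e sp99 sp152 rfl rfl
theorem s0_f4077 : ed sl_dt sq152 = sq237 :=
  real_edge rels S fwd inv o lvl plet idx 16 IH Gen.d sp152 sp237 rfl rfl
theorem s0_f4083 : ed sl_dt sq99 = sq149 :=
  real_edge rels S fwd inv o lvl plet idx 16 IH Gen.d sp99 sp149 rfl rfl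
theorem s0_f4084 : ed sl_bt sq100 = s0_v54 :=
  rfl
theorem s0_f4084r : ed sl_bf s0_v54 = sq100 :=
  edge_flip (s0_f4084 IH)
theorem s0_f4085 : ed sl_bf sq100 = s0_v54 :=
  gap_rel s0_rot44 (path_edge (s0_f4084r IH) (path_nil s0_v54))
theorem s0_f2711r : ed sl_df sq100 = sq64 :=
  edge_flip (s0_f2711 IH)
theorem s0_f4086 : ed sl_df s0_v18 = s0_v54 :=
  gap_rel s0_rot8 (path_edge (s0_f3765 IH) (path_edge (s0_f2711r IH) (path_edge (s0_f4084r IH) (path_nil s0_v54))))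
theorem s0_f4086r : ed sl_dt s0_v54 = s0_v18 :=
  edge_flip (s0_f4086 IH)
theorem s0_f4087 : ed sl_dt s0_v18 = s0_v54 :=
  gap_rel s0_rot28 (path_edge (s0_f4086r IH) (path_nil s0_v54))
theorem s0_f4098 : ed sl_ct sq371 = sq546 :=
  real_edge rels S fwd inv o lvl plet idx 16 IH Gen.c sp371 sp546 rfl rfl
theorem s0_f4100 : ed sl_at sq101 = s0_v56 :=
  rfl
theorem s0_f4100r : ed sl_af s0_v56 = sq101 :=
  edge_flip (s0_f4100 IH)
theorem s0_f4101 : ed sl_af sq101 = s0_v56 :=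
  gap_rel s0_rot66 (path_edge (s0_f4100r IH) (path_nil s0_v56))
theorem s0_f2756r : ed sl_ef sq101 = sq61 :=
  edge_flip (s0_f2756 IH)
theorem s0_f4102 : ed sl_ef s0_v17 = s0_v56 :=
  gap_rel s0_rot102 (path_edge (s0_f3757 IH) (path_edge (s0_f2756r IH) (path_edge (s0_f4100r IH) (path_nil s0_v56))))
theorem s0_f4102r : ed sl_et s0_v56 = s0_v17 :=
  edge_flip (s0_f4102 IH)
theorem s0_f4103 : ed sl_et s0_v17 = s0_v56 :=
  gap_rel s0_rot31 (path_edge (s0_f4102r IH) (path_nil s0_v56))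
theorem s0_f4114 : ed sl_at sq103 = s0_v58 :=
  rfl
theorem s0_f4117 : ed sl_bt sq344 = sq224 :=
  real_edge rels S fwd inv o lvl plet idx 16 IH Gen.b sp344 sp224 rfl rfl
theorem s0_f4114r : ed sl_af s0_v58 = sq103 :=
  edge_flip (s0_f4114 IH)
theorem s0_f4119 : ed sl_gf sq136 = s0_v58 :=
  gap_rel s0_rot47 (path_edge (s0_f3246 IH) (path_edge (s0_f2786r IH) (path_edge (s0_f4114r IH) (path_nil s0_v58))))
theorem s0_f4121 : ed sl_at sq515 = sq361 :=
  real_edge rels S fwd inv o lvl plet idx 16 IH Gen.a sp515 sp361 rfl rfl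
theorem s0_f4119r : ed sl_gt s0_v58 = sq136 :=
  edge_flip (s0_f4119 IH)
theorem s0_f4122 : ed sl_dt s0_v15 = s0_v58 :=
  gap_rel s0_rot91 (path_edge (s0_f3671 IH) (path_edge (s0_f1451 IH) (path_edge (s0_f4119r IH) (path_nil s0_v58))))
theorem s0_f4123 : ed sl_gt sq136 = s0_v58 :=
  gap_rel s0_rot25 (path_edge (s0_f4119r IH) (path_nil s0_v58))
theorem s0_f4124 : ed sl_ft sq329 = sq208 :=
  real_edge rels S fwd inv o lvl plet idx 16 IH Gen.f sp329 sp208 rfl rfl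
theorem s0_f4130 : ed sl_bt sq105 = s0_v59 :=
  rfl
theorem s0_f4130r : ed sl_bf s0_v59 = sq105 :=
  edge_flip (s0_f4130 IH)
theorem s0_f4131 : ed sl_bf sq105 = s0_v59 :=
  gap_rel s0_rot44 (path_edge (s0_f4130r IH) (path_nil s0_v59))
theorem s0_f2722r : ed sl_cf sq105 = sq66 :=
  edge_flip (s0_f2722 IH)
theorem s0_f2135r : ed sl_bf sq66 = sq66 :=
  edge_flip (s0_f2135 IH)
theorem s0_f4132 : ed sl_cf s0_v59 = s0_v59 :=
  gap_rel s0_rot27 (path_edge (s0_f4131 IH) (path_edge (s0_f2797r IH) (path_edge (s0_f2135r IH) (path_edge (s0_f2722r IH) (path_edge (s0_f4130r IH) (path_nil s0_v59))))))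
theorem s0_f2713r : ed sl_ef sq105 = sq64 :=
  edge_flip (s0_f2713 IH)
theorem s0_f4133 : ed sl_ef s0_v18 = s0_v59 :=
  gap_rel s0_rot46 (path_edge (s0_f3765 IH) (path_edge (s0_f2713r IH) (path_edge (s0_f4130r IH) (path_nil s0_v59))))
theorem s0_f4136 : ed sl_bt sq110 = s0_v60 :=
  rfl
theorem s0_f4136r : ed sl_bf s0_v60 = sq110 :=
  edge_flip (s0_f4136 IH)
theorem s0_f4137 : ed sl_bf sq110 = s0_v60 :=
  gap_rel s0_rot44 (path_edge (s0_f4136r IH) (path_nil s0_v60))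
theorem s0_f3779r : ed sl_ef sq110 = sq69 :=
  edge_flip (s0_f3779 IH)
theorem s0_f4139 : ed sl_ef s0_v19 = s0_v60 :=
  gap_rel s0_rot46 (path_edge (s0_f3769 IH) (path_edge (s0_f3779r IH) (path_edge (s0_f4136r IH) (path_nil s0_v60))))
theorem s0_f4140 : ed sl_gt sq172 = sq110 :=
  real_edge rels S fwd inv o lvl plet idx 16 IH Gen.g sp172 sp110 rfl rfl
theorem s0_f4147 : ed sl_ct sq864 = sq595 :=
  real_edge rels S fwd inv o lvl plet idx 16 IH Gen.c sp864 sp595 rfl rfl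
theorem s0_f4148 : ed sl_dt sq949 = sq864 :=
  real_edge rels S fwd inv o lvl plet idx 16 IH Gen.d sp949 sp864 rfl rfl
theorem s0_f4150 : ed sl_et sq596 = sq401 :=
  real_edge rels S fwd inv o lvl plet idx 16 IH Gen.e sp596 sp401 rfl rfl
theorem s0_f4151 : ed sl_bt sq876 = sq596 :=
  real_edge rels S fwd inv o lvl plet idx 16 IH Gen.b sp876 sp596 rfl rfl
theorem s0_f4139r : ed sl_et s0_v60 = s0_v19 :=
  edge_flip (s0_f4139 IH)
theorem s0_f4152 : ed sl_et s0_v19 = s0_v60 :=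
  gap_rel s0_rot31 (path_edge (s0_f4139r IH) (path_nil s0_v60))
theorem s0_f4156 : ed sl_bt sq112 = s0_v61 :=
  rfl
theorem s0_f4156r : ed sl_bf s0_v61 = sq112 :=
  edge_flip (s0_f4156 IH)
theorem s0_f4157 : ed sl_bf sq112 = s0_v61 :=
  gap_rel s0_rot44 (path_edge (s0_f4156r IH) (path_nil s0_v61))
theorem s0_f3839r : ed sl_df sq112 = sq76 :=
  edge_flip (s0_f3839 IH)
theorem s0_f4158 : ed sl_df s0_v21 = s0_v61 :=
  gap_rel s0_rot8 (path_edge (s0_f3831 IH) (path_edge (s0_f3839r IH) (path_edge (s0_f4156r IH) (path_nil s0_v61))))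
theorem s0_f4158r : ed sl_dt s0_v61 = s0_v21 :=
  edge_flip (s0_f4158 IH)
theorem s0_f4161 : ed sl_dt s0_v21 = s0_v61 :=
  gap_rel s0_rot28 (path_edge (s0_f4158r IH) (path_nil s0_v61))
theorem s0_f4162 : ed sl_et sq112 = sq172 :=
  real_edge rels S fwd inv o lvl plet idx 16 IH Gen.e sp112 sp172 rfl rfl
theorem s0_f4164 : ed sl_dt sq172 = sq263 :=
  real_edge rels S fwd inv o lvl plet idx 16 IH Gen.d sp172 sp263 rfl rfl
theorem s0_f4172 : ed sl_ct sq115 = sq152 :=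
  real_edge rels S fwd inv o lvl plet idx 16 IH Gen.c sp115 sp152 rfl rfl
theorem s0_f4173 : ed sl_dt sq115 = sq176 :=
  real_edge rels S fwd inv o lvl plet idx 16 IH Gen.d sp115 sp176 rfl rfl
theorem s0_f4177 : ed sl_at sq117 = sq116 :=
  real_edge rels S fwd inv o lvl plet idx 16 IH Gen.a sp117 sp116 rfl rfl
theorem s0_f4180 : ed sl_at sq119 = sq77 :=
  real_edge rels S fwd inv o lvl plet idx 16 IH Gen.a sp119 sp77 rfl rfl
theorem s0_f4181 : ed sl_bt sq119 = s0_v62 :=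
  rfl
theorem s0_f4181r : ed sl_bf s0_v62 = sq119 :=
  edge_flip (s0_f4181 IH)
theorem s0_f4182 : ed sl_bf sq119 = s0_v62 :=
  gap_rel s0_rot44 (path_edge (s0_f4181r IH) (path_nil s0_v62))
theorem s0_f3583r : ed sl_df sq119 = sq74 :=
  edge_flip (s0_f3583 IH)
theorem s0_f4183 : ed sl_df s0_v20 = s0_v62 :=
  gap_rel s0_rot8 (path_edge (s0_f3796 IH) (path_edge (s0_f3583r IH) (path_edge (s0_f4181r IH) (path_nil s0_v62))))
theorem s0_f4185 : ed sl_ft sq183 = sq119 :=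
  real_edge rels S fwd inv o lvl plet idx 16 IH Gen.f sp183 sp119 rfl rfl
theorem s0_f4186 : ed sl_bt sq287 = sq183 :=
  real_edge rels S fwd inv o lvl plet idx 16 IH Gen.b sp287 sp183 rfl rfl
theorem s0_f4187 : ed sl_gt sq184 = sq119 :=
  real_edge rels S fwd inv o lvl plet idx 16 IH Gen.g sp184 sp119 rfl rfl
theorem s0_f4190 : ed sl_bt sq302 = sq191 :=
  real_edge rels S fwd inv o lvl plet idx 16 IH Gen.b sp302 sp191 rfl rfl
theorem s0_f4191 : ed sl_gt sq195 = sq183 :=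
  real_edge rels S fwd inv o lvl plet idx 16 IH Gen.g sp195 sp183 rfl rfl
theorem s0_f4192 : ed sl_bt sq308 = sq195 :=
  real_edge rels S fwd inv o lvl plet idx 16 IH Gen.b sp308 sp195 rfl rfl
theorem s0_f4193 : ed sl_ft sq308 = sq308 :=
  real_edge rels S fwd inv o lvl plet idx 16 IH Gen.f sp308 sp308 rfl rfl
theorem s0_f4194 : ed sl_gt sq466 = sq308 :=
  real_edge rels S fwd inv o lvl plet idx 16 IH Gen.g sp466 sp308 rfl rfl
theorem s0_f4195 : ed sl_bt sq433 = sq466 :=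
  real_edge rels S fwd inv o lvl plet idx 16 IH Gen.b sp433 sp466 rfl rfl
theorem s0_f4196 : ed sl_bt sq189 = sq123 :=
  real_edge rels S fwd inv o lvl plet idx 16 IH Gen.b sp189 sp123 rfl rfl
theorem s0_f4199 : ed sl_et sq588 = sq398 :=
  real_edge rels S fwd inv o lvl plet idx 16 IH Gen.e sp588 sp398 rfl rfl
theorem s0_f4200 : ed sl_bt sq402 = sq588 :=
  real_edge rels S fwd inv o lvl plet idx 16 IH Gen.b sp402 sp588 rfl rfl
theorem s0_f4201 : ed sl_ct sq596 = sq402 :=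
  real_edge rels S fwd inv o lvl plet idx 16 IH Gen.c sp596 sp402 rfl rfl
theorem s0_f4202 : ed sl_dt sq878 = sq596 :=
  real_edge rels S fwd inv o lvl plet idx 16 IH Gen.d sp878 sp596 rfl rfl
theorem s0_f4203 : ed sl_ct sq878 = sq878 :=
  real_edge rels S fwd inv o lvl plet idx 16 IH Gen.c sp878 sp878 rfl rfl
theorem s0_f4204 : ed sl_dt sq596 = sq878 :=
  real_edge rels S fwd inv o lvl plet idx 16 IH Gen.d sp596 sp878 rfl rfl
theorem s0_f4206 : ed sl_bt sq182 = sq283 :=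
  real_edge rels S fwd inv o lvl plet idx 16 IH Gen.b sp182 sp283 rfl rfl
theorem s0_f4207 : ed sl_et sq119 = sq170 :=
  real_edge rels S fwd inv o lvl plet idx 16 IH Gen.e sp119 sp170 rfl rfl
theorem s0_f4214 : ed sl_dt sq514 = sq595 :=
  real_edge rels S fwd inv o lvl plet idx 16 IH Gen.d sp514 sp595 rfl rfl
theorem s0_f4215 : ed sl_ct sq595 = sq864 :=
  real_edge rels S fwd inv o lvl plet idx 16 IH Gen.c sp595 sp864 rfl rfl
theorem s0_f4218 : ed sl_et sq283 = sq389 :=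
  real_edge rels S fwd inv o lvl plet idx 16 IH Gen.e sp283 sp389 rfl rfl
theorem s0_f4219 : ed sl_dt sq389 = sq571 :=
  real_edge rels S fwd inv o lvl plet idx 16 IH Gen.d sp389 sp571 rfl rfl
theorem s0_f4220 : ed sl_ct sq571 = sq838 :=
  real_edge rels S fwd inv o lvl plet idx 16 IH Gen.c sp571 sp838 rfl rfl
theorem s0_f4227 : ed sl_bt sq121 = s0_v63 :=
  rfl
theorem s0_f4227r : ed sl_bf s0_v63 = sq121 :=
  edge_flip (s0_f4227 IH)
theorem s0_f4228 : ed sl_bf sq121 = s0_v63 :=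
  gap_rel s0_rot44 (path_edge (s0_f4227r IH) (path_nil s0_v63))
theorem s0_f3840r : ed sl_ef sq121 = sq76 :=
  edge_flip (s0_f3840 IH)
theorem s0_f4231 : ed sl_ef s0_v21 = s0_v63 :=
  gap_rel s0_rot46 (path_edge (s0_f3831 IH) (path_edge (s0_f3840r IH) (path_edge (s0_f4227r IH) (path_nil s0_v63))))
theorem s0_f4234 : ed sl_ft sq312 = sq312 :=
  real_edge rels S fwd inv o lvl plet idx 16 IH Gen.f sp312 sp312 rfl rfl
theorem s0_f4231r : ed sl_et s0_v63 = s0_v21 :=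
  edge_flip (s0_f4231 IH)
theorem s0_f4240 : ed sl_et s0_v21 = s0_v63 :=
  gap_rel s0_rot31 (path_edge (s0_f4231r IH) (path_nil s0_v63))
theorem s0_f4241 : ed sl_ft sq196 = sq311 :=
  real_edge rels S fwd inv o lvl plet idx 16 IH Gen.f sp196 sp311 rfl rfl
theorem s0_f4243 : ed sl_gt sq185 = sq290 :=
  real_edge rels S fwd inv o lvl plet idx 16 IH Gen.g sp185 sp290 rfl rfl
theorem s0_f4246 : ed sl_ct sq122 = sq187 :=
  real_edge rels S fwd inv o lvl plet idx 16 IH Gen.c sp122 sp187 rfl rfl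
theorem s0_f4247 : ed sl_dt sq122 = sq173 :=
  real_edge rels S fwd inv o lvl plet idx 16 IH Gen.d sp122 sp173 rfl rfl
theorem s0_f4249 : ed sl_ft sq122 = s0_v64 :=
  rfl
theorem s0_f4249r : ed sl_ff s0_v64 = sq122 :=
  edge_flip (s0_f4249 IH)
theorem s0_f2505r : ed sl_bf sq122 = sq75 :=
  edge_flip (s0_f2505 IH)
theorem s0_f2503r : ed sl_ff sq75 = sq44 :=
  edge_flip (s0_f2503 IH)
theorem s0_f4250 : ed sl_bf s0_v33 = s0_v64 :=
  gap_rel s0_rot104 (path_edge (s0_f3934 IH) (path_edge (s0_f3566 IH) (path_edge (s0_f2503r IH) (path_edge (s0_f2505r IH) (path_edge (s0_f4249r IH) (path_nil s0_v64))))))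
theorem s0_f4253 : ed sl_ff sq122 = s0_v64 :=
  gap_rel s0_rot1 (path_edge (s0_f4249r IH) (path_nil s0_v64))
theorem s0_f4254 : ed sl_gt sq188 = sq122 :=
  real_edge rels S fwd inv o lvl plet idx 16 IH Gen.g sp188 sp122 rfl rfl
theorem s0_f4255 : ed sl_bt sq202 = sq188 :=
  real_edge rels S fwd inv o lvl plet idx 16 IH Gen.b sp202 sp188 rfl rfl
theorem s0_f4253r : ed sl_ft s0_v64 = sq122 :=
  edge_flip (s0_f4253 IH)
theorem s0_f4256 : ed sl_bt s0_v33 = s0_v64 :=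
  gap_rel s0_rot12 (path_edge (s0_f3933 IH) (path_edge (s0_f3565 IH) (path_edge (s0_f3570 IH) (path_edge (s0_f2486 IH) (path_edge (s0_f4253r IH) (path_nil s0_v64))))))
theorem s0_f4257 : ed sl_bt sq187 = sq187 :=
  real_edge rels S fwd inv o lvl plet idx 16 IH Gen.b sp187 sp187 rfl rfl
theorem s0_f4258 : ed sl_at sq187 = sq292 :=
  real_edge rels S fwd inv o lvl plet idx 16 IH Gen.a sp187 sp292 rfl rfl
theorem s0_f4272 : ed sl_at sq126 = s0_v65 :=
  rfl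
theorem s0_f4275 : ed sl_bt sq434 = sq288 :=
  real_edge rels S fwd inv o lvl plet idx 16 IH Gen.b sp434 sp288 rfl rfl
theorem s0_f4272r : ed sl_af s0_v65 = sq126 :=
  edge_flip (s0_f4272 IH)
theorem s0_f3899r : ed sl_ff sq126 = sq85 :=
  edge_flip (s0_f3899 IH)
theorem s0_f4277 : ed sl_ff s0_v25 = s0_v65 :=
  gap_rel s0_rot11 (path_edge (s0_f3896 IH) (path_edge (s0_f3899r IH) (path_edge (s0_f4272r IH) (path_nil s0_v65))))
theorem s0_f4277r : ed sl_ft s0_v65 = s0_v25 :=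
  edge_flip (s0_f4277 IH)
theorem s0_f4278 : ed sl_et s0_v22 = s0_v65 :=
  gap_rel s0_rot37 (path_edge (s0_f3869 IH) (path_edge (s0_f3897r IH) (path_edge (s0_f4277r IH) (path_nil s0_v65))))
theorem s0_f4279 : ed sl_ft s0_v25 = s0_v65 :=
  gap_rel s0_rot16 (path_edge (s0_f4277r IH) (path_nil s0_v65))
theorem s0_f4280 : ed sl_bt sq288 = sq434 :=
  real_edge rels S fwd inv o lvl plet idx 16 IH Gen.b sp288 sp434 rfl rfl
theorem s0_f4292 : ed sl_gt sq126 = s0_v67 :=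
  rfl
theorem s0_f4292r : ed sl_gf s0_v67 = sq126 :=
  edge_flip (s0_f4292 IH)
theorem s0_f469r : ed sl_ef sq126 = sq80 :=
  edge_flip (s0_f469 IH)
theorem s0_f4293 : ed sl_ef s0_v24 = s0_v67 :=
  gap_rel s0_rot36 (path_edge (s0_f3882 IH) (path_edge (s0_f469r IH) (path_edge (s0_f4292r IH) (path_nil s0_v67))))
theorem s0_f4294 : ed sl_gf sq126 = s0_v67 :=
  gap_rel s0_rot76 (path_edge (s0_f4292r IH) (path_nil s0_v67))
theorem s0_f4306 : ed sl_gt sq129 = s0_v68 :=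
  rfl
theorem s0_f4307 : ed sl_at sq198 = sq129 :=
  real_edge rels S fwd inv o lvl plet idx 16 IH Gen.a sp198 sp129 rfl rfl
theorem s0_f4306r : ed sl_gf s0_v68 = sq129 :=
  edge_flip (s0_f4306 IH)
theorem s0_f3582r : ed sl_bf sq129 = sq81 :=
  edge_flip (s0_f3582 IH)
theorem s0_f3600r : ed sl_gf sq81 = sq46 :=
  edge_flip (s0_f3600 IH)
theorem s0_f4308 : ed sl_bf s0_v24 = s0_v68 :=
  gap_rel s0_rot75 (path_edge (s0_f3882 IH) (path_edge (s0_f450r IH) (path_edge (s0_f3600r IH) (path_edge (s0_f3582r IH) (path_edge (s0_f4306r IH) (path_nil s0_v68))))))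
theorem s0_f4312 : ed sl_gf sq129 = s0_v68 :=
  gap_rel s0_rot76 (path_edge (s0_f4306r IH) (path_nil s0_v68))
theorem s0_f4312r : ed sl_gt s0_v68 = sq129 :=
  edge_flip (s0_f4312 IH)
theorem s0_f4313 : ed sl_bt s0_v24 = s0_v68 :=
  gap_rel s0_rot26 (path_edge (s0_f3880 IH) (path_edge (s0_f1736 IH) (path_edge (s0_f3616 IH) (path_edge (s0_f3617 IH) (path_edge (s0_f4312r IH) (path_nil s0_v68))))))
theorem s0_f4315 : ed sl_at sq130 = s0_v69 :=
  rfl
theorem s0_f4315r : ed sl_af s0_v69 = sq130 :=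
  edge_flip (s0_f4315 IH)
theorem s0_f4316 : ed sl_af sq130 = s0_v69 :=
  gap_rel s0_rot66 (path_edge (s0_f4315r IH) (path_nil s0_v69))
theorem s0_f3575r : ed sl_ff sq130 = sq130 :=
  edge_flip (s0_f3575 IH)
theorem s0_f4319 : ed sl_ff s0_v69 = s0_v69 :=
  gap_rel s0_rot11 (path_edge (s0_f4316 IH) (path_edge (s0_f3575r IH) (path_edge (s0_f4315r IH) (path_nil s0_v69))))
theorem s0_f4320 : ed sl_dt sq130 = sq180 :=
  real_edge rels S fwd inv o lvl plet idx 16 IH Gen.d sp130 sp180 rfl rfl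
theorem s0_f4321 : ed sl_ct sq180 = sq278 :=
  real_edge rels S fwd inv o lvl plet idx 16 IH Gen.c sp180 sp278 rfl rfl
theorem s0_f4325 : ed sl_et sq130 = sq197 :=
  real_edge rels S fwd inv o lvl plet idx 16 IH Gen.e sp130 sp197 rfl rfl
theorem s0_f4331 : ed sl_at sq133 = s0_v70 :=
  rfl
theorem s0_f4331r : ed sl_af s0_v70 = sq133 :=
  edge_flip (s0_f4331 IH)
theorem s0_f4332 : ed sl_af sq133 = s0_v70 :=
  gap_rel s0_rot66 (path_edge (s0_f4331r IH) (path_nil s0_v70))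
theorem s0_f506r : ed sl_df sq133 = sq85 :=
  edge_flip (s0_f506 IH)
theorem s0_f4333 : ed sl_df s0_v25 = s0_v70 :=
  gap_rel s0_rot51 (path_edge (s0_f3896 IH) (path_edge (s0_f506r IH) (path_edge (s0_f4331r IH) (path_nil s0_v70))))
theorem s0_f4333r : ed sl_dt s0_v70 = s0_v25 :=
  edge_flip (s0_f4333 IH)
theorem s0_f4336 : ed sl_dt s0_v25 = s0_v70 :=
  gap_rel s0_rot28 (path_edge (s0_f4333r IH) (path_nil s0_v70))
theorem s0_f4340 : ed sl_gt sq194 = sq124 :=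
  real_edge rels S fwd inv o lvl plet idx 16 IH Gen.g sp194 sp124 rfl rfl
theorem s0_f4341 : ed sl_bt sq307 = sq194 :=
  real_edge rels S fwd inv o lvl plet idx 16 IH Gen.b sp307 sp194 rfl rfl
theorem s0_f4345 : ed sl_et s0_v12 = s0_v72 :=
  rfl
theorem s0_f4345r : ed sl_ef s0_v72 = s0_v12 :=
  edge_flip (s0_f4345 IH)
theorem s0_f4347 : ed sl_cf s0_v56 = s0_v72 :=
  gap_rel s0_rot38 (path_edge (s0_f4102 IH) (path_edge (s0_f3758 IH) (path_edge (s0_f4345r IH) (path_nil s0_v72))))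
theorem s0_f4348 : ed sl_ef s0_v12 = s0_v72 :=
  gap_rel s0_rot34 (path_edge (s0_f4345r IH) (path_nil s0_v72))
theorem s0_f4349 : ed sl_gf s0_v56 = s0_v72 :=
  gap_rel s0_rot18 (path_edge (s0_f4102 IH) (path_edge (s0_f3760 IH) (path_edge (s0_f4345r IH) (path_nil s0_v72))))
theorem s0_f4353 : ed sl_bt s0_v13 = s0_v73 :=
  rfl
theorem s0_f4353r : ed sl_bf s0_v73 = s0_v13 :=
  edge_flip (s0_f4353 IH)
theorem s0_f4354 : ed sl_bf s0_v13 = s0_v73 :=
  gap_rel s0_rot44 (path_edge (s0_f4353r IH) (path_nil s0_v73))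
theorem s0_f3654r : ed sl_df s0_v13 = s0_v6 :=
  edge_flip (s0_f3654 IH)
theorem s0_f4355 : ed sl_df s0_v35 = s0_v73 :=
  gap_rel s0_rot8 (path_edge (s0_f3938 IH) (path_edge (s0_f3654r IH) (path_edge (s0_f4353r IH) (path_nil s0_v73))))
theorem s0_f4355r : ed sl_dt s0_v73 = s0_v35 :=
  edge_flip (s0_f4355 IH)
theorem s0_f4356 : ed sl_dt s0_v35 = s0_v73 :=
  gap_rel s0_rot28 (path_edge (s0_f4355r IH) (path_nil s0_v73))
theorem s0_f4357 : ed sl_gt s0_v13 = s0_v74 :=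
  rfl
theorem s0_f4357r : ed sl_gf s0_v74 = s0_v13 :=
  edge_flip (s0_f4357 IH)
theorem s0_f4360 : ed sl_gf s0_v13 = s0_v74 :=
  gap_rel s0_rot76 (path_edge (s0_f4357r IH) (path_nil s0_v74))
theorem s0_f3652r : ed sl_at s0_v13 = sq56 :=
  edge_flip (s0_f3652 IH)
theorem s0_f457r : ed sl_ff sq56 = sq92 :=
  edge_flip (s0_f457 IH)
theorem s0_f478r : ed sl_gf sq92 = sq141 :=
  edge_flip (s0_f478 IH)
theorem s0_f4361 : ed sl_ff sq141 = s0_v74 :=
  gap_rel s0_rot92 (path_edge (s0_f478r IH) (path_edge (s0_f457r IH) (path_edge (s0_f3652r IH) (path_edge (s0_f4357r IH) (path_nil s0_v74)))))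
theorem s0_f4361r : ed sl_ft s0_v74 = sq141 :=
  edge_flip (s0_f4361 IH)
theorem s0_f4362 : ed sl_dt s0_v37 = s0_v74 :=
  gap_rel s0_rot29 (path_edge (s0_f3947 IH) (path_edge (s0_f3884 IH) (path_edge (s0_f4361r IH) (path_nil s0_v74))))
theorem s0_f4363 : ed sl_ft sq141 = s0_v74 :=
  gap_rel s0_rot16 (path_edge (s0_f4361r IH) (path_nil s0_v74))
theorem s0_f4363r : ed sl_ff s0_v74 = sq141 :=
  edge_flip (s0_f4363 IH)
theorem s0_f435r : ed sl_gf sq141 = sq92 :=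
  edge_flip (s0_f435 IH)
theorem s0_f4364 : ed sl_at s0_v14 = s0_v74 :=
  gap_rel s0_rot6 (path_edge (s0_f3658 IH) (path_edge (s0_f475r IH) (path_edge (s0_f435r IH) (path_edge (s0_f4363r IH) (path_nil s0_v74)))))
theorem s0_f4365 : ed sl_ft s0_v14 = s0_v75 :=
  rfl
theorem s0_f4365r : ed sl_ff s0_v75 = s0_v14 :=
  edge_flip (s0_f4365 IH)
theorem s0_f4369 : ed sl_gf s0_v50 = s0_v75 :=
  gap_rel s0_rot19 (path_edge (s0_f4019 IH) (path_edge (s0_f4357r IH) (path_edge (s0_f4361 IH) (path_edge (s0_f478r IH) (path_edge (s0_f457r IH) (path_edge (s0_f3655r IH) (path_edge (s0_f4365r IH) (path_nil s0_v75))))))))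
theorem s0_f4369r : ed sl_gt s0_v75 = s0_v50 :=
  edge_flip (s0_f4369 IH)
theorem s0_f4018r : ed sl_dt s0_v50 = s0_v22 :=
  edge_flip (s0_f4018 IH)
theorem s0_f4371 : ed sl_dt s0_v40 = s0_v75 :=
  gap_rel s0_rot91 (path_edge (s0_f3962 IH) (path_edge (s0_f4018r IH) (path_edge (s0_f4369r IH) (path_nil s0_v75))))
theorem s0_f4373 : ed sl_bt s0_v15 = s0_v76 :=
  rfl
theorem s0_f4373r : ed sl_bf s0_v76 = s0_v15 :=
  edge_flip (s0_f4373 IH)
theorem s0_f4374 : ed sl_bf s0_v15 = s0_v76 :=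
  gap_rel s0_rot44 (path_edge (s0_f4373r IH) (path_nil s0_v76))
theorem s0_f3670r : ed sl_ef s0_v15 = s0_v4 :=
  edge_flip (s0_f3670 IH)
theorem s0_f4375 : ed sl_ef s0_v30 = s0_v76 :=
  gap_rel s0_rot46 (path_edge (s0_f3927 IH) (path_edge (s0_f3670r IH) (path_edge (s0_f4373r IH) (path_nil s0_v76))))
theorem s0_f4377 : ed sl_bt s0_v16 = s0_v77 :=
  rfl
theorem s0_f4377r : ed sl_bf s0_v77 = s0_v16 :=
  edge_flip (s0_f4377 IH)
theorem s0_f4378 : ed sl_bf s0_v16 = s0_v77 :=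
  gap_rel s0_rot44 (path_edge (s0_f4377r IH) (path_nil s0_v77))
theorem s0_f4379 : ed sl_cf s0_v77 = s0_v77 :=
  gap_rel s0_rot27 (path_edge (s0_f4378 IH) (path_edge (s0_f3675 IH) (path_edge (s0_f2676r IH) (path_edge (s0_f3673r IH) (path_edge (s0_f4377r IH) (path_nil s0_v77))))))
theorem s0_f4380 : ed sl_bt s0_v17 = s0_v78 :=
  rfl
theorem s0_f4380r : ed sl_bf s0_v78 = s0_v17 :=
  edge_flip (s0_f4380 IH)
theorem s0_f4381 : ed sl_bf s0_v17 = s0_v78 :=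
  gap_rel s0_rot44 (path_edge (s0_f4380r IH) (path_nil s0_v78))
theorem s0_f4384 : ed sl_at s0_v18 = s0_v79 :=
  rfl
theorem s0_f4384r : ed sl_af s0_v79 = s0_v18 :=
  edge_flip (s0_f4384 IH)
theorem s0_f4385 : ed sl_af s0_v18 = s0_v79 :=
  gap_rel s0_rot66 (path_edge (s0_f4384r IH) (path_nil s0_v79))
theorem s0_f4386 : ed sl_cf s0_v79 = s0_v79 :=
  gap_rel s0_rot74 (path_edge (s0_f4385 IH) (path_edge (s0_f3766 IH) (path_edge (s0_f4384r IH) (path_nil s0_v79))))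
theorem s0_f4390 : ed sl_at s0_v19 = s0_v81 :=
  rfl
theorem s0_f4390r : ed sl_af s0_v81 = s0_v19 :=
  edge_flip (s0_f4390 IH)
theorem s0_f4391 : ed sl_af s0_v19 = s0_v81 :=
  gap_rel s0_rot66 (path_edge (s0_f4390r IH) (path_nil s0_v81))
theorem s0_f160r : ed sl_af sq69 = sq42 :=
  edge_flip (s0_f160 IH)
theorem s0_f101r : ed sl_bf sq42 = sq23 :=
  edge_flip (s0_f101 IH)
theorem s0_f2469r : ed sl_af sq23 = sq13 :=
  edge_flip (s0_f2469 IH)
theorem s0_f2483r : ed sl_bf sq13 = sq25 :=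
  edge_flip (s0_f2483 IH)
theorem s0_f3564r : ed sl_af sq25 = sq44 :=
  edge_flip (s0_f3564 IH)
theorem s0_f4392 : ed sl_bf s0_v31 = s0_v81 :=
  gap_rel s0_rot93 (path_edge (s0_f3929 IH) (path_edge (s0_f3566 IH) (path_edge (s0_f3564r IH) (path_edge (s0_f2483r IH) (path_edge (s0_f2469r IH) (path_edge (s0_f101r IH) (path_edge (s0_f160r IH) (path_edge (s0_f3768r IH) (path_edge (s0_f4390r IH) (path_nil s0_v81))))))))))
theorem s0_f4392r : ed sl_bt s0_v81 = s0_v31 :=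
  edge_flip (s0_f4392 IH)
theorem s0_f4395 : ed sl_bt s0_v31 = s0_v81 :=
  gap_rel s0_rot68 (path_edge (s0_f4392r IH) (path_nil s0_v81))
theorem s0_f4396 : ed sl_ct s0_v19 = s0_v82 :=
  rfl
theorem s0_f4396r : ed sl_cf s0_v82 = s0_v19 :=
  edge_flip (s0_f4396 IH)
theorem s0_f4397 : ed sl_cf s0_v19 = s0_v82 :=
  gap_rel s0_rot40 (path_edge (s0_f4396r IH) (path_nil s0_v82))
theorem s0_f4398 : ed sl_ft s0_v19 = s0_v83 :=
  rfl
theorem s0_f4398r : ed sl_ff s0_v83 = s0_v19 :=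
  edge_flip (s0_f4398 IH)
theorem s0_f4400 : ed sl_ff s0_v19 = s0_v83 :=
  gap_rel s0_rot1 (path_edge (s0_f4398r IH) (path_nil s0_v83))
theorem s0_f4402 : ed sl_gt s0_v19 = s0_v84 :=
  rfl
theorem s0_f4402r : ed sl_gf s0_v84 = s0_v19 :=
  edge_flip (s0_f4402 IH)
theorem s0_f4404 : ed sl_gf s0_v19 = s0_v84 :=
  gap_rel s0_rot76 (path_edge (s0_f4402r IH) (path_nil s0_v84))
theorem s0_f4406 : ed sl_at s0_v20 = s0_v85 :=
  rfl
theorem s0_f4406r : ed sl_af s0_v85 = s0_v20 :=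
  edge_flip (s0_f4406 IH)
theorem s0_f4407 : ed sl_af s0_v20 = s0_v85 :=
  gap_rel s0_rot66 (path_edge (s0_f4406r IH) (path_nil s0_v85))
theorem s0_f3816r : ed sl_ef s0_v20 = s0_v5 :=
  edge_flip (s0_f3816 IH)
theorem s0_f4408 : ed sl_ef s0_v31 = s0_v85 :=
  gap_rel s0_rot102 (path_edge (s0_f3929 IH) (path_edge (s0_f3816r IH) (path_edge (s0_f4406r IH) (path_nil s0_v85))))
theorem s0_f4408r : ed sl_et s0_v85 = s0_v31 :=
  edge_flip (s0_f4408 IH)
theorem s0_f4409 : ed sl_et s0_v31 = s0_v85 :=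
  gap_rel s0_rot31 (path_edge (s0_f4408r IH) (path_nil s0_v85))
theorem s0_f4415 : ed sl_ft s0_v20 = s0_v87 :=
  rfl
theorem s0_f4415r : ed sl_ff s0_v87 = s0_v20 :=
  edge_flip (s0_f4415 IH)
theorem s0_f4417 : ed sl_ff s0_v20 = s0_v87 :=
  gap_rel s0_rot1 (path_edge (s0_f4415r IH) (path_nil s0_v87))
theorem s0_f4419 : ed sl_gt s0_v20 = s0_v88 :=
  rfl
theorem s0_f4419r : ed sl_gf s0_v88 = s0_v20 :=
  edge_flip (s0_f4419 IH)
theorem s0_f4421 : ed sl_gf s0_v20 = s0_v88 :=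
  gap_rel s0_rot76 (path_edge (s0_f4419r IH) (path_nil s0_v88))
theorem s0_f4421r : ed sl_gt s0_v88 = s0_v20 :=
  edge_flip (s0_f4421 IH)
theorem s0_f4422 : ed sl_et s0_v34 = s0_v88 :=
  gap_rel s0_rot49 (path_edge (s0_f3935 IH) (path_edge (s0_f3799r IH) (path_edge (s0_f4421r IH) (path_nil s0_v88))))
theorem s0_f4423 : ed sl_at s0_v21 = s0_v89 :=
  rfl
theorem s0_f4423r : ed sl_af s0_v89 = s0_v21 :=
  edge_flip (s0_f4423 IH)
theorem s0_f4424 : ed sl_af s0_v21 = s0_v89 :=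
  gap_rel s0_rot66 (path_edge (s0_f4423r IH) (path_nil s0_v89))
theorem s0_f4425 : ed sl_ct s0_v21 = s0_v90 :=
  rfl
theorem s0_f4425r : ed sl_cf s0_v90 = s0_v21 :=
  edge_flip (s0_f4425 IH)
theorem s0_f4426 : ed sl_cf s0_v21 = s0_v90 :=
  gap_rel s0_rot40 (path_edge (s0_f4425r IH) (path_nil s0_v90))
theorem s0_f4426r : ed sl_ct s0_v90 = s0_v21 :=
  edge_flip (s0_f4426 IH)
theorem s0_f3831r : ed sl_bt s0_v21 = sq76 :=
  edge_flip (s0_f3831 IH)
theorem s0_f4427 : ed sl_bt s0_v90 = s0_v90 :=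
  gap_rel s0_rot41 (path_edge (s0_f4425 IH) (path_edge (s0_f3830 IH) (path_edge (s0_f3832 IH) (path_edge (s0_f3831r IH) (path_edge (s0_f4426r IH) (path_nil s0_v90))))))
theorem s0_f4428 : ed sl_ft s0_v21 = s0_v91 :=
  rfl
theorem s0_f4428r : ed sl_ff s0_v91 = s0_v21 :=
  edge_flip (s0_f4428 IH)
theorem s0_f4430 : ed sl_ff s0_v21 = s0_v91 :=
  gap_rel s0_rot1 (path_edge (s0_f4428r IH) (path_nil s0_v91))
theorem s0_f4430r : ed sl_ft s0_v91 = s0_v21 :=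
  edge_flip (s0_f4430 IH)
theorem s0_f4431 : ed sl_bt sq200 = s0_v91 :=
  gap_rel s0_rot12 (path_edge (s0_f3841 IH) (path_edge (s0_f3582 IH) (path_edge (s0_f3581 IH) (path_edge (s0_f3831r IH) (path_edge (s0_f4430r IH) (path_nil s0_v91))))))
theorem s0_f4434 : ed sl_ft sq199 = sq316 :=
  real_edge rels S fwd inv o lvl plet idx 16 IH Gen.f sp199 sp316 rfl rfl
theorem s0_f4435 : ed sl_at sq314 = sq199 :=
  real_edge rels S fwd inv o lvl plet idx 16 IH Gen.a sp314 sp199 rfl rfl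
theorem s0_f4438 : ed sl_et sq200 = sq311 :=
  real_edge rels S fwd inv o lvl plet idx 16 IH Gen.e sp200 sp311 rfl rfl
theorem s0_f4439 : ed sl_dt sq311 = sq464 :=
  real_edge rels S fwd inv o lvl plet idx 16 IH Gen.d sp311 sp464 rfl rfl
theorem s0_f4441 : ed sl_gt s0_v21 = s0_v92 :=
  rfl
theorem s0_f4441r : ed sl_gf s0_v92 = s0_v21 :=
  edge_flip (s0_f4441 IH)
theorem s0_f3580r : ed sl_gf sq76 = sq44 :=
  edge_flip (s0_f3580 IH)
theorem s0_f4442 : ed sl_bf s0_v34 = s0_v92 :=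
  gap_rel s0_rot75 (path_edge (s0_f3936 IH) (path_edge (s0_f3566 IH) (path_edge (s0_f3580r IH) (path_edge (s0_f3830r IH) (path_edge (s0_f4441r IH) (path_nil s0_v92))))))
theorem s0_f4443 : ed sl_gf s0_v21 = s0_v92 :=
  gap_rel s0_rot76 (path_edge (s0_f4441r IH) (path_nil s0_v92))
theorem s0_f4443r : ed sl_gt s0_v92 = s0_v21 :=
  edge_flip (s0_f4443 IH)
theorem s0_f4444 : ed sl_bt s0_v34 = s0_v92 :=
  gap_rel s0_rot26 (path_edge (s0_f3935 IH) (path_edge (s0_f3565 IH) (path_edge (s0_f3571 IH) (path_edge (s0_f3831r IH) (path_edge (s0_f4443r IH) (path_nil s0_v92))))))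
theorem s0_f4445 : ed sl_bt s0_v22 = s0_v93 :=
  rfl
theorem s0_f4445r : ed sl_bf s0_v93 = s0_v22 :=
  edge_flip (s0_f4445 IH)
theorem s0_f4446 : ed sl_bf s0_v22 = s0_v93 :=
  gap_rel s0_rot44 (path_edge (s0_f4445r IH) (path_nil s0_v93))
theorem s0_f4458 : ed sl_gt s0_v23 = s0_v96 :=
  rfl
theorem s0_f4458r : ed sl_gf s0_v96 = s0_v23 :=
  edge_flip (s0_f4458 IH)
theorem s0_f4459 : ed sl_cf s0_v24 = s0_v96 :=
  gap_rel s0_rot43 (path_edge (s0_f3882 IH) (path_edge (s0_f3871r IH) (path_edge (s0_f4458r IH) (path_nil s0_v96))))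
theorem s0_f4460 : ed sl_gf s0_v23 = s0_v96 :=
  gap_rel s0_rot76 (path_edge (s0_f4458r IH) (path_nil s0_v96))
theorem s0_f4462 : ed sl_bt s0_v25 = s0_v97 :=
  rfl
theorem s0_f4462r : ed sl_bf s0_v97 = s0_v25 :=
  edge_flip (s0_f4462 IH)
theorem s0_f4463 : ed sl_bf s0_v25 = s0_v97 :=
  gap_rel s0_rot44 (path_edge (s0_f4462r IH) (path_nil s0_v97))
theorem s0_f3898r : ed sl_ef s0_v25 = s0_v6 :=
  edge_flip (s0_f3898 IH)
theorem s0_f4464 : ed sl_ef s0_v35 = s0_v97 :=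
  gap_rel s0_rot46 (path_edge (s0_f3938 IH) (path_edge (s0_f3898r IH) (path_edge (s0_f4462r IH) (path_nil s0_v97))))
theorem s0_f4464r : ed sl_et s0_v97 = s0_v35 :=
  edge_flip (s0_f4464 IH)
theorem s0_f4465 : ed sl_et s0_v35 = s0_v97 :=
  gap_rel s0_rot31 (path_edge (s0_f4464r IH) (path_nil s0_v97))
theorem s0_f4472 : ed sl_gt s0_v25 = s0_v99 :=
  rfl
theorem s0_f4472r : ed sl_gf s0_v99 = s0_v25 :=
  edge_flip (s0_f4472 IH)
theorem s0_f4475 : ed sl_gf s0_v25 = s0_v99 :=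
  gap_rel s0_rot76 (path_edge (s0_f4472r IH) (path_nil s0_v99))
theorem s0_f3896r : ed sl_at s0_v25 = sq85 :=
  edge_flip (s0_f3896 IH)
theorem s0_f343r : ed sl_ff sq85 = sq126 :=
  edge_flip (s0_f343 IH)
theorem s0_f4476 : ed sl_ff s0_v67 = s0_v99 :=
  gap_rel s0_rot92 (path_edge (s0_f4294 IH) (path_edge (s0_f343r IH) (path_edge (s0_f3896r IH) (path_edge (s0_f4472r IH) (path_nil s0_v99)))))
theorem s0_f4476r : ed sl_ft s0_v99 = s0_v67 :=
  edge_flip (s0_f4476 IH)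
theorem s0_f4293r : ed sl_et s0_v67 = s0_v24 :=
  edge_flip (s0_f4293 IH)
theorem s0_f4477 : ed sl_et s0_v37 = s0_v99 :=
  gap_rel s0_rot37 (path_edge (s0_f3947 IH) (path_edge (s0_f4293r IH) (path_edge (s0_f4476r IH) (path_nil s0_v99))))
theorem s0_f4478 : ed sl_ft s0_v67 = s0_v99 :=
  gap_rel s0_rot16 (path_edge (s0_f4476r IH) (path_nil s0_v99))
theorem s0_f4521 : ed sl_at s0_v30 = s0_v107 :=
  rfl
theorem s0_f4521r : ed sl_af s0_v107 = s0_v30 :=
  edge_flip (s0_f4521 IH)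
theorem s0_f4522 : ed sl_af s0_v30 = s0_v107 :=
  gap_rel s0_rot66 (path_edge (s0_f4521r IH) (path_nil s0_v107))
theorem s0_f4523 : ed sl_ft s0_v30 = s0_v108 :=
  rfl
theorem s0_f4523r : ed sl_ff s0_v108 = s0_v30 :=
  edge_flip (s0_f4523 IH)
theorem s0_f4524 : ed sl_ff s0_v30 = s0_v108 :=
  gap_rel s0_rot1 (path_edge (s0_f4523r IH) (path_nil s0_v108))
theorem s0_f4525 : ed sl_gt s0_v30 = s0_v109 :=
  rfl
theorem s0_f4525r : ed sl_gf s0_v109 = s0_v30 :=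
  edge_flip (s0_f4525 IH)
theorem s0_f3561r : ed sl_gf s0_v4 = sq53 :=
  edge_flip (s0_f3561 IH)
theorem s0_f488r : ed sl_bf sq53 = sq87 :=
  edge_flip (s0_f488 IH)
theorem s0_f4526 : ed sl_bf s0_v46 = s0_v109 :=
  gap_rel s0_rot75 (path_edge (s0_f3995 IH) (path_edge (s0_f488r IH) (path_edge (s0_f3561r IH) (path_edge (s0_f3926r IH) (path_edge (s0_f4525r IH) (path_nil s0_v109))))))
theorem s0_f4527 : ed sl_gf s0_v30 = s0_v109 :=
  gap_rel s0_rot76 (path_edge (s0_f4525r IH) (path_nil s0_v109))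
theorem s0_f4527r : ed sl_gt s0_v109 = s0_v30 :=
  edge_flip (s0_f4527 IH)
theorem s0_f3927r : ed sl_bt s0_v30 = s0_v4 :=
  edge_flip (s0_f3927 IH)
theorem s0_f4528 : ed sl_bt s0_v46 = s0_v109 :=
  gap_rel s0_rot26 (path_edge (s0_f3993 IH) (path_edge (s0_f3513 IH) (path_edge (s0_f3558r IH) (path_edge (s0_f3927r IH) (path_edge (s0_f4527r IH) (path_nil s0_v109))))))
theorem s0_f4529 : ed sl_ct s0_v31 = s0_v110 :=
  rfl
theorem s0_f4529r : ed sl_cf s0_v110 = s0_v31 :=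
  edge_flip (s0_f4529 IH)
theorem s0_f4530 : ed sl_af s0_v32 = s0_v110 :=
  gap_rel s0_rot10 (path_edge (s0_f3931 IH) (path_edge (s0_f3928r IH) (path_edge (s0_f4529r IH) (path_nil s0_v110))))
theorem s0_f4531 : ed sl_cf s0_v31 = s0_v110 :=
  gap_rel s0_rot40 (path_edge (s0_f4529r IH) (path_nil s0_v110))
theorem s0_f4531r : ed sl_ct s0_v110 = s0_v31 :=
  edge_flip (s0_f4531 IH)
theorem s0_f3929r : ed sl_at s0_v31 = s0_v5 :=
  edge_flip (s0_f3929 IH)
theorem s0_f4532 : ed sl_at s0_v32 = s0_v110 :=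
  gap_rel s0_rot64 (path_edge (s0_f3930 IH) (path_edge (s0_f3929r IH) (path_edge (s0_f4531r IH) (path_nil s0_v110))))
theorem s0_f4533 : ed sl_ft s0_v31 = s0_v111 :=
  rfl
theorem s0_f4533r : ed sl_ff s0_v111 = s0_v31 :=
  edge_flip (s0_f4533 IH)
theorem s0_f4535 : ed sl_ff s0_v31 = s0_v111 :=
  gap_rel s0_rot1 (path_edge (s0_f4533r IH) (path_nil s0_v111))
theorem s0_f4535r : ed sl_ft s0_v111 = s0_v31 :=
  edge_flip (s0_f4535 IH)
theorem s0_f4536 : ed sl_at s0_v33 = s0_v111 :=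
  gap_rel s0_rot90 (path_edge (s0_f3933 IH) (path_edge (s0_f3929r IH) (path_edge (s0_f4535r IH) (path_nil s0_v111))))
theorem s0_f4537 : ed sl_gt s0_v31 = s0_v112 :=
  rfl
theorem s0_f4537r : ed sl_gf s0_v112 = s0_v31 :=
  edge_flip (s0_f4537 IH)
theorem s0_f4538 : ed sl_af s0_v34 = s0_v112 :=
  gap_rel s0_rot78 (path_edge (s0_f3936 IH) (path_edge (s0_f3928r IH) (path_edge (s0_f4537r IH) (path_nil s0_v112))))
theorem s0_f4539 : ed sl_gf s0_v31 = s0_v112 :=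
  gap_rel s0_rot76 (path_edge (s0_f4537r IH) (path_nil s0_v112))
theorem s0_f4539r : ed sl_gt s0_v112 = s0_v31 :=
  edge_flip (s0_f4539 IH)
theorem s0_f4540 : ed sl_at s0_v34 = s0_v112 :=
  gap_rel s0_rot96 (path_edge (s0_f3935 IH) (path_edge (s0_f3929r IH) (path_edge (s0_f4539r IH) (path_nil s0_v112))))
theorem s0_f4544 : ed sl_ft s0_v32 = s0_v114 :=
  rfl
theorem s0_f4544r : ed sl_ff s0_v114 = s0_v32 :=
  edge_flip (s0_f4544 IH)
theorem s0_f4545 : ed sl_cf s0_v33 = s0_v114 :=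
  gap_rel s0_rot65 (path_edge (s0_f3934 IH) (path_edge (s0_f3930r IH) (path_edge (s0_f4544r IH) (path_nil s0_v114))))
theorem s0_f4546 : ed sl_ff s0_v32 = s0_v114 :=
  gap_rel s0_rot1 (path_edge (s0_f4544r IH) (path_nil s0_v114))
theorem s0_f4546r : ed sl_ft s0_v114 = s0_v32 :=
  edge_flip (s0_f4546 IH)
theorem s0_f4547 : ed sl_ct s0_v33 = s0_v114 :=
  gap_rel s0_rot42 (path_edge (s0_f3933 IH) (path_edge (s0_f3931r IH) (path_edge (s0_f4546r IH) (path_nil s0_v114))))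
theorem s0_f4548 : ed sl_gt s0_v32 = s0_v115 :=
  rfl
theorem s0_f4548r : ed sl_gf s0_v115 = s0_v32 :=
  edge_flip (s0_f4548 IH)
theorem s0_f4549 : ed sl_cf s0_v34 = s0_v115 :=
  gap_rel s0_rot43 (path_edge (s0_f3936 IH) (path_edge (s0_f3930r IH) (path_edge (s0_f4548r IH) (path_nil s0_v115))))
theorem s0_f4550 : ed sl_gf s0_v32 = s0_v115 :=
  gap_rel s0_rot76 (path_edge (s0_f4548r IH) (path_nil s0_v115))
theorem s0_f4550r : ed sl_gt s0_v115 = s0_v32 :=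
  edge_flip (s0_f4550 IH)
theorem s0_f4551 : ed sl_ct s0_v34 = s0_v115 :=
  gap_rel s0_rot39 (path_edge (s0_f3935 IH) (path_edge (s0_f3931r IH) (path_edge (s0_f4550r IH) (path_nil s0_v115))))
theorem s0_f4552 : ed sl_gt s0_v33 = s0_v116 :=
  rfl
theorem s0_f4552r : ed sl_gf s0_v116 = s0_v33 :=
  edge_flip (s0_f4552 IH)
theorem s0_f4553 : ed sl_gf s0_v33 = s0_v116 :=
  gap_rel s0_rot76 (path_edge (s0_f4552r IH) (path_nil s0_v116))
theorem s0_f4554 : ed sl_ff s0_v112 = s0_v116 :=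
  gap_rel s0_rot92 (path_edge (s0_f4539 IH) (path_edge (s0_f4533r IH) (path_edge (s0_f4536 IH) (path_edge (s0_f4552r IH) (path_nil s0_v116)))))
theorem s0_f4554r : ed sl_ft s0_v116 = s0_v112 :=
  edge_flip (s0_f4554 IH)
theorem s0_f4555 : ed sl_ft s0_v112 = s0_v116 :=
  gap_rel s0_rot16 (path_edge (s0_f4554r IH) (path_nil s0_v116))
theorem s0_f4556 : ed sl_ft s0_v34 = s0_v117 :=
  rfl
theorem s0_f4556r : ed sl_ff s0_v117 = s0_v34 :=
  edge_flip (s0_f4556 IH)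
theorem s0_f4558 : ed sl_ff s0_v34 = s0_v117 :=
  gap_rel s0_rot1 (path_edge (s0_f4556r IH) (path_nil s0_v117))
theorem s0_f4555r : ed sl_ff s0_v116 = s0_v112 :=
  edge_flip (s0_f4555 IH)
theorem s0_f4559 : ed sl_gf s0_v111 = s0_v117 :=
  gap_rel s0_rot19 (path_edge (s0_f4535 IH) (path_edge (s0_f4537r IH) (path_edge (s0_f4555r IH) (path_edge (s0_f4553 IH) (path_edge (s0_f3934 IH) (path_edge (s0_f3935r IH) (path_edge (s0_f4556r IH) (path_nil s0_v117))))))))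
theorem s0_f4560 : ed sl_at s0_v116 = s0_v117 :=
  gap_rel s0_rot6 (path_edge (s0_f4553 IH) (path_edge (s0_f3934 IH) (path_edge (s0_f3935r IH) (path_edge (s0_f4556r IH) (path_nil s0_v117)))))
theorem s0_f4559r : ed sl_gt s0_v117 = s0_v111 :=
  edge_flip (s0_f4559 IH)
theorem s0_f4561 : ed sl_gt s0_v111 = s0_v117 :=
  gap_rel s0_rot25 (path_edge (s0_f4559r IH) (path_nil s0_v117))
theorem s0_f4562 : ed sl_at s0_v35 = s0_v118 :=
  rfl
theorem s0_f4562r : ed sl_af s0_v118 = s0_v35 :=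
  edge_flip (s0_f4562 IH)
theorem s0_f4563 : ed sl_af s0_v35 = s0_v118 :=
  gap_rel s0_rot66 (path_edge (s0_f4562r IH) (path_nil s0_v118))
theorem s0_f4564 : ed sl_ct s0_v35 = s0_v119 :=
  rfl
theorem s0_f4564r : ed sl_cf s0_v119 = s0_v35 :=
  edge_flip (s0_f4564 IH)
theorem s0_f4565 : ed sl_cf s0_v35 = s0_v119 :=
  gap_rel s0_rot40 (path_edge (s0_f4564r IH) (path_nil s0_v119))
theorem s0_f4566 : ed sl_ft s0_v35 = s0_v120 :=
  rfl
theorem s0_f4566r : ed sl_ff s0_v120 = s0_v35 :=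
  edge_flip (s0_f4566 IH)
theorem s0_f4567 : ed sl_ff s0_v35 = s0_v120 :=
  gap_rel s0_rot1 (path_edge (s0_f4566r IH) (path_nil s0_v120))
theorem s0_f4568 : ed sl_gt s0_v35 = s0_v121 :=
  rfl
theorem s0_f4568r : ed sl_gf s0_v121 = s0_v35 :=
  edge_flip (s0_f4568 IH)
theorem s0_f4569 : ed sl_gf s0_v35 = s0_v121 :=
  gap_rel s0_rot76 (path_edge (s0_f4568r IH) (path_nil s0_v121))
theorem s0_f4572 : ed sl_dt s0_v36 = s0_v123 :=
  rfl
theorem s0_f4572r : ed sl_df s0_v123 = s0_v36 :=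
  edge_flip (s0_f4572 IH)
theorem s0_f4574 : ed sl_df s0_v36 = s0_v123 :=
  gap_rel s0_rot54 (path_edge (s0_f4572r IH) (path_nil s0_v123))
theorem s0_f4576 : ed sl_gt s0_v36 = s0_v124 :=
  rfl
theorem s0_f4576r : ed sl_gf s0_v124 = s0_v36 :=
  edge_flip (s0_f4576 IH)
theorem s0_f4578 : ed sl_cf s0_v37 = s0_v124 :=
  gap_rel s0_rot43 (path_edge (s0_f3945 IH) (path_edge (s0_f3939r IH) (path_edge (s0_f4576r IH) (path_nil s0_v124))))
theorem s0_f3940r : ed sl_at s0_v36 = s0_v7 :=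
  edge_flip (s0_f3940 IH)
theorem s0_f4580 : ed sl_ff s0_v96 = s0_v124 :=
  gap_rel s0_rot92 (path_edge (s0_f4460 IH) (path_edge (s0_f3873 IH) (path_edge (s0_f3940r IH) (path_edge (s0_f4576r IH) (path_nil s0_v124)))))
theorem s0_f4580r : ed sl_ft s0_v124 = s0_v96 :=
  edge_flip (s0_f4580 IH)
theorem s0_f4459r : ed sl_ct s0_v96 = s0_v24 :=
  edge_flip (s0_f4459 IH)
theorem s0_f4581 : ed sl_ct s0_v37 = s0_v124 :=
  gap_rel s0_rot42 (path_edge (s0_f3947 IH) (path_edge (s0_f4459r IH) (path_edge (s0_f4580r IH) (path_nil s0_v124))))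
theorem s0_f4584 : ed sl_bt s0_v37 = s0_v125 :=
  rfl
theorem s0_f4584r : ed sl_bf s0_v125 = s0_v37 :=
  edge_flip (s0_f4584 IH)
theorem s0_f4585 : ed sl_bf s0_v37 = s0_v125 :=
  gap_rel s0_rot44 (path_edge (s0_f4584r IH) (path_nil s0_v125))
theorem s0_f4586 : ed sl_ct s0_v38 = s0_v126 :=
  rfl
theorem s0_f4586r : ed sl_cf s0_v126 = s0_v38 :=
  edge_flip (s0_f4586 IH)
theorem s0_f4587 : ed sl_cf s0_v38 = s0_v126 :=
  gap_rel s0_rot40 (path_edge (s0_f4586r IH) (path_nil s0_v126))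
theorem s0_f4587r : ed sl_ct s0_v126 = s0_v38 :=
  edge_flip (s0_f4587 IH)
theorem s0_f3950r : ed sl_bt s0_v38 = s0_v10 :=
  edge_flip (s0_f3950 IH)
theorem s0_f3632r : ed sl_ct s0_v10 = s0_v10 :=
  edge_flip (s0_f3632 IH)
theorem s0_f4588 : ed sl_bt s0_v126 = s0_v126 :=
  gap_rel s0_rot41 (path_edge (s0_f4586 IH) (path_edge (s0_f3952 IH) (path_edge (s0_f3632r IH) (path_edge (s0_f3950r IH) (path_edge (s0_f4587r IH) (path_nil s0_v126))))))
theorem s0_f4611 : ed sl_bt s0_v40 = s0_v131 :=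
  rfl
theorem s0_f4611r : ed sl_bf s0_v131 = s0_v40 :=
  edge_flip (s0_f4611 IH)
theorem s0_f4612 : ed sl_bf s0_v40 = s0_v131 :=
  gap_rel s0_rot44 (path_edge (s0_f4611r IH) (path_nil s0_v131))
theorem s0_f4624 : ed sl_at s0_v43 = s0_v134 :=
  rfl
theorem s0_f4624r : ed sl_af s0_v134 = s0_v43 :=
  edge_flip (s0_f4624 IH)
theorem s0_f4625 : ed sl_af s0_v43 = s0_v134 :=
  gap_rel s0_rot66 (path_edge (s0_f4624r IH) (path_nil s0_v134))
theorem s0_f3978r : ed sl_cf s0_v43 = s0_v30 :=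
  edge_flip (s0_f3978 IH)
theorem s0_f4626 : ed sl_cf s0_v107 = s0_v134 :=
  gap_rel s0_rot74 (path_edge (s0_f4522 IH) (path_edge (s0_f3978r IH) (path_edge (s0_f4624r IH) (path_nil s0_v134))))
theorem s0_f4626r : ed sl_ct s0_v134 = s0_v107 :=
  edge_flip (s0_f4626 IH)
theorem s0_f4627 : ed sl_ct s0_v107 = s0_v134 :=
  gap_rel s0_rot59 (path_edge (s0_f4626r IH) (path_nil s0_v134))
theorem s0_f4628 : ed sl_ft s0_v43 = s0_v135 :=
  rfl
theorem s0_f4628r : ed sl_ff s0_v135 = s0_v43 :=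
  edge_flip (s0_f4628 IH)
theorem s0_f4629 : ed sl_cf s0_v108 = s0_v135 :=
  gap_rel s0_rot65 (path_edge (s0_f4524 IH) (path_edge (s0_f3978r IH) (path_edge (s0_f4628r IH) (path_nil s0_v135))))
theorem s0_f4633 : ed sl_at sq134 = s0_v136 :=
  rfl
theorem s0_f4633r : ed sl_af s0_v136 = sq134 :=
  edge_flip (s0_f4633 IH)
theorem s0_f4634 : ed sl_af sq134 = s0_v136 :=
  gap_rel s0_rot66 (path_edge (s0_f4633r IH) (path_nil s0_v136))
theorem s0_f3650r : ed sl_ef sq134 = sq87 :=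
  edge_flip (s0_f3650 IH)
theorem s0_f4636 : ed sl_ef s0_v44 = s0_v136 :=
  gap_rel s0_rot102 (path_edge (s0_f3980 IH) (path_edge (s0_f3650r IH) (path_edge (s0_f4633r IH) (path_nil s0_v136))))
theorem s0_f4636r : ed sl_et s0_v136 = s0_v44 :=
  edge_flip (s0_f4636 IH)
theorem s0_f4637 : ed sl_ct s0_v48 = s0_v136 :=
  gap_rel s0_rot60 (path_edge (s0_f4009 IH) (path_edge (s0_f3981r IH) (path_edge (s0_f4636r IH) (path_nil s0_v136))))
theorem s0_f4638 : ed sl_et s0_v44 = s0_v136 :=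
  gap_rel s0_rot31 (path_edge (s0_f4636r IH) (path_nil s0_v136))
theorem s0_f4639 : ed sl_gt sq134 = s0_v137 :=
  rfl
theorem s0_f4639r : ed sl_gf s0_v137 = sq134 :=
  edge_flip (s0_f4639 IH)
theorem s0_f4642 : ed sl_gf sq134 = s0_v137 :=
  gap_rel s0_rot76 (path_edge (s0_f4639r IH) (path_nil s0_v137))
theorem s0_f4642r : ed sl_gt s0_v137 = sq134 :=
  edge_flip (s0_f4642 IH)
theorem s0_f4644 : ed sl_et s0_v46 = s0_v137 :=
  gap_rel s0_rot49 (path_edge (s0_f3993 IH) (path_edge (s0_f3982 IH) (path_edge (s0_f4642r IH) (path_nil s0_v137))))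
theorem s0_f4645 : ed sl_at sq135 = s0_v138 :=
  rfl
theorem s0_f4645r : ed sl_af s0_v138 = sq135 :=
  edge_flip (s0_f4645 IH)
theorem s0_f4646 : ed sl_af sq135 = s0_v138 :=
  gap_rel s0_rot66 (path_edge (s0_f4645r IH) (path_nil s0_v138))
theorem s0_f4647 : ed sl_cf s0_v50 = s0_v138 :=
  gap_rel s0_rot74 (path_edge (s0_f4017 IH) (path_edge (s0_f445r IH) (path_edge (s0_f4645r IH) (path_nil s0_v138))))
theorem s0_f2310r : ed sl_ff sq135 = sq87 :=
  edge_flip (s0_f2310 IH)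
theorem s0_f4648 : ed sl_ff s0_v44 = s0_v138 :=
  gap_rel s0_rot11 (path_edge (s0_f3980 IH) (path_edge (s0_f2310r IH) (path_edge (s0_f4645r IH) (path_nil s0_v138))))
theorem s0_f4648r : ed sl_ft s0_v138 = s0_v44 :=
  edge_flip (s0_f4648 IH)
theorem s0_f4649 : ed sl_ct s0_v50 = s0_v138 :=
  gap_rel s0_rot42 (path_edge (s0_f4021 IH) (path_edge (s0_f3981r IH) (path_edge (s0_f4648r IH) (path_nil s0_v138))))
theorem s0_f4650 : ed sl_ft s0_v44 = s0_v138 :=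
  gap_rel s0_rot16 (path_edge (s0_f4648r IH) (path_nil s0_v138))
theorem s0_f4651 : ed sl_dt sq135 = s0_v139 :=
  rfl
theorem s0_f4651r : ed sl_df s0_v139 = sq135 :=
  edge_flip (s0_f4651 IH)
theorem s0_f4653 : ed sl_ff s0_v45 = s0_v139 :=
  gap_rel s0_rot100 (path_edge (s0_f3986 IH) (path_edge (s0_f2310r IH) (path_edge (s0_f4651r IH) (path_nil s0_v139))))
theorem s0_f4653r : ed sl_ft s0_v139 = s0_v45 :=
  edge_flip (s0_f4653 IH)
theorem s0_f4654 : ed sl_ft s0_v45 = s0_v139 :=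
  gap_rel s0_rot16 (path_edge (s0_f4653r IH) (path_nil s0_v139))
theorem s0_f4655 : ed sl_gt sq135 = s0_v140 :=
  rfl
theorem s0_f4655r : ed sl_gf s0_v140 = sq135 :=
  edge_flip (s0_f4655 IH)
theorem s0_f4656 : ed sl_cf sq141 = s0_v140 :=
  gap_rel s0_rot43 (path_edge (s0_f478r IH) (path_edge (s0_f445r IH) (path_edge (s0_f4655r IH) (path_nil s0_v140))))
theorem s0_f4657 : ed sl_gf sq135 = s0_v140 :=
  gap_rel s0_rot76 (path_edge (s0_f4655r IH) (path_nil s0_v140))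
theorem s0_f4659 : ed sl_et sq136 = s0_v141 :=
  rfl
theorem s0_f4659r : ed sl_ef s0_v141 = sq136 :=
  edge_flip (s0_f4659 IH)
theorem s0_f3248r : ed sl_af sq136 = sq162 :=
  edge_flip (s0_f3248 IH)
theorem s0_f4660 : ed sl_af sq242 = s0_v141 :=
  gap_rel s0_rot67 (path_edge (s0_f2787 IH) (path_edge (s0_f3248r IH) (path_edge (s0_f4659r IH) (path_nil s0_v141))))
theorem s0_f495r : ed sl_ef sq88 = sq53 :=
  edge_flip (s0_f495 IH)
theorem s0_f4661 : ed sl_df s0_v72 = s0_v141 :=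
  gap_rel s0_rot105 (path_edge (s0_f4348 IH) (path_edge (s0_f3642 IH) (path_edge (s0_f495r IH) (path_edge (s0_f143r IH) (path_edge (s0_f4659r IH) (path_nil s0_v141))))))
theorem s0_f4662 : ed sl_ef sq136 = s0_v141 :=
  gap_rel s0_rot34 (path_edge (s0_f4659r IH) (path_nil s0_v141))
theorem s0_f4662r : ed sl_et s0_v141 = sq136 :=
  edge_flip (s0_f4662 IH)
theorem s0_f4664 : ed sl_dt s0_v72 = s0_v141 :=
  gap_rel s0_rot106 (path_edge (s0_f4345 IH) (path_edge (s0_f3640 IH) (path_edge (s0_f3503 IH) (path_edge (s0_f1451 IH) (path_edge (s0_f4662r IH) (path_nil s0_v141))))))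
theorem s0_f4665 : ed sl_dt sq138 = s0_v142 :=
  rfl
theorem s0_f4665r : ed sl_df s0_v142 = sq138 :=
  edge_flip (s0_f4665 IH)
theorem s0_f4667 : ed sl_df sq138 = s0_v142 :=
  gap_rel s0_rot54 (path_edge (s0_f4665r IH) (path_nil s0_v142))
theorem s0_f4667r : ed sl_dt s0_v142 = sq138 :=
  edge_flip (s0_f4667 IH)
theorem s0_f4668 : ed sl_bt s0_v47 = s0_v142 :=
  gap_rel s0_rot69 (path_edge (s0_f3997 IH) (path_edge (s0_f1785 IH) (path_edge (s0_f4667r IH) (path_nil s0_v142))))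
theorem s0_f4669 : ed sl_at sq139 = s0_v143 :=
  rfl
theorem s0_f4669r : ed sl_af s0_v143 = sq139 :=
  edge_flip (s0_f4669 IH)
theorem s0_f4670 : ed sl_af sq139 = s0_v143 :=
  gap_rel s0_rot66 (path_edge (s0_f4669r IH) (path_nil s0_v143))
theorem s0_f4671 : ed sl_df s0_v48 = s0_v143 :=
  gap_rel s0_rot51 (path_edge (s0_f4007 IH) (path_edge (s0_f484r IH) (path_edge (s0_f4669r IH) (path_nil s0_v143))))
theorem s0_f4672 : ed sl_ef s0_v70 = s0_v143 :=
  gap_rel s0_rot102 (path_edge (s0_f4332 IH) (path_edge (s0_f500r IH) (path_edge (s0_f4669r IH) (path_nil s0_v143))))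
theorem s0_f4672r : ed sl_et s0_v143 = s0_v70 :=
  edge_flip (s0_f4672 IH)
theorem s0_f4673 : ed sl_dt s0_v48 = s0_v143 :=
  gap_rel s0_rot106 (path_edge (s0_f4009 IH) (path_edge (s0_f3654 IH) (path_edge (s0_f3897r IH) (path_edge (s0_f4333r IH) (path_edge (s0_f4672r IH) (path_nil s0_v143))))))
theorem s0_f4674 : ed sl_et s0_v70 = s0_v143 :=
  gap_rel s0_rot31 (path_edge (s0_f4672r IH) (path_nil s0_v143))
theorem s0_f4675 : ed sl_gt sq139 = s0_v144 :=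
  rfl
theorem s0_f4675r : ed sl_gf s0_v144 = sq139 :=
  edge_flip (s0_f4675 IH)
theorem s0_f4679 : ed sl_gf sq139 = s0_v144 :=
  gap_rel s0_rot76 (path_edge (s0_f4675r IH) (path_nil s0_v144))
theorem s0_f4679r : ed sl_gt s0_v144 = sq139 :=
  edge_flip (s0_f4679 IH)
theorem s0_f4681 : ed sl_dt s0_v49 = s0_v144 :=
  gap_rel s0_rot91 (path_edge (s0_f4010 IH) (path_edge (s0_f267 IH) (path_edge (s0_f4679r IH) (path_nil s0_v144))))
theorem s0_f4689 : ed sl_at sq143 = s0_v146 :=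
  rfl
theorem s0_f4689r : ed sl_af s0_v146 = sq143 :=
  edge_flip (s0_f4689 IH)
theorem s0_f4690 : ed sl_af sq143 = s0_v146 :=
  gap_rel s0_rot66 (path_edge (s0_f4689r IH) (path_nil s0_v146))
theorem s0_f4692 : ed sl_ft sq222 = sq143 :=
  real_edge rels S fwd inv o lvl plet idx 16 IH Gen.f sp222 sp143 rfl rfl
theorem s0_f4693 : ed sl_gt sq223 = sq143 :=
  real_edge rels S fwd inv o lvl plet idx 16 IH Gen.g sp223 sp143 rfl rfl
theorem s0_f4694 : ed sl_gt sq143 = sq223 :=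
  real_edge rels S fwd inv o lvl plet idx 16 IH Gen.g sp143 sp223 rfl rfl
theorem s0_f4695 : ed sl_ft sq143 = sq222 :=
  real_edge rels S fwd inv o lvl plet idx 16 IH Gen.f sp143 sp222 rfl rfl
theorem s0_f4696 : ed sl_ct sq143 = s0_v147 :=
  rfl
theorem s0_f4696r : ed sl_cf s0_v147 = sq143 :=
  edge_flip (s0_f4696 IH)
theorem s0_f2309r : ed sl_bf sq143 = sq95 :=
  edge_flip (s0_f2309 IH)
theorem s0_f2308r : ed sl_cf sq95 = sq69 :=
  edge_flip (s0_f2308 IH)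
theorem s0_f4697 : ed sl_bf s0_v82 = s0_v147 :=
  gap_rel s0_rot61 (path_edge (s0_f4397 IH) (path_edge (s0_f3769 IH) (path_edge (s0_f2308r IH) (path_edge (s0_f2309r IH) (path_edge (s0_f4696r IH) (path_nil s0_v147))))))
theorem s0_f4698 : ed sl_cf sq143 = s0_v147 :=
  gap_rel s0_rot40 (path_edge (s0_f4696r IH) (path_nil s0_v147))
theorem s0_f4698r : ed sl_ct s0_v147 = sq143 :=
  edge_flip (s0_f4698 IH)
theorem s0_f4699 : ed sl_bt s0_v82 = s0_v147 :=
  gap_rel s0_rot41 (path_edge (s0_f4396 IH) (path_edge (s0_f3768 IH) (path_edge (s0_f1766 IH) (path_edge (s0_f460 IH) (path_edge (s0_f4698r IH) (path_nil s0_v147))))))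
theorem s0_f4700 : ed sl_dt sq143 = s0_v148 :=
  rfl
theorem s0_f4700r : ed sl_df s0_v148 = sq143 :=
  edge_flip (s0_f4700 IH)
theorem s0_f4702 : ed sl_df sq143 = s0_v148 :=
  gap_rel s0_rot54 (path_edge (s0_f4700r IH) (path_nil s0_v148))
theorem s0_f4704 : ed sl_bt sq571 = sq390 :=
  real_edge rels S fwd inv o lvl plet idx 16 IH Gen.b sp571 sp390 rfl rfl
theorem s0_f4705 : ed sl_ct sq838 = sq571 :=
  real_edge rels S fwd inv o lvl plet idx 16 IH Gen.c sp838 sp571 rfl rfl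
theorem s0_f4702r : ed sl_dt s0_v148 = sq143 :=
  edge_flip (s0_f4702 IH)
theorem s0_f4706 : ed sl_bt s0_v52 = s0_v148 :=
  gap_rel s0_rot69 (path_edge (s0_f4032 IH) (path_edge (s0_f460 IH) (path_edge (s0_f4702r IH) (path_nil s0_v148))))
theorem s0_f4706r : ed sl_bf s0_v148 = s0_v52 :=
  edge_flip (s0_f4706 IH)
theorem s0_f4042r : ed sl_cf s0_v52 = sq96 :=
  edge_flip (s0_f4042 IH)
theorem s0_f2518r : ed sl_bf sq96 = sq61 :=
  edge_flip (s0_f2518 IH)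
theorem s0_f4707 : ed sl_cf s0_v54 = s0_v148 :=
  gap_rel s0_rot27 (path_edge (s0_f4085 IH) (path_edge (s0_f2519r IH) (path_edge (s0_f2518r IH) (path_edge (s0_f4042r IH) (path_edge (s0_f4706r IH) (path_nil s0_v148))))))
theorem s0_f4707r : ed sl_ct s0_v148 = s0_v54 :=
  edge_flip (s0_f4707 IH)
theorem s0_f4708 : ed sl_ct s0_v54 = s0_v148 :=
  gap_rel s0_rot59 (path_edge (s0_f4707r IH) (path_nil s0_v148))
theorem s0_f4709 : s0_v147 = s0_v146 :=
  (loop_rel s0_rot101 (path_edge (s0_f4696 IH) (path_edge (s0_f4702r IH) (path_edge (s0_f4708 IH) (path_edge (s0_f4087 IH) (path_edge (s0_f3766r IH) (path_edge (s0_f4086r IH) (path_edge (s0_f4707r IH) (path_edge (s0_f4700 IH) (path_edge (s0_f4689r IH) (path_nil s0_v146))))))))))).symm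
theorem s0_f4722 : ed sl_et sq232 = sq356 :=
  real_edge rels S fwd inv o lvl plet idx 16 IH Gen.e sp232 sp356 rfl rfl
theorem s0_f4723 : ed sl_dt sq356 = sq523 :=
  real_edge rels S fwd inv o lvl plet idx 16 IH Gen.d sp356 sp523 rfl rfl
theorem s0_f4725 : ed sl_dt sq766 = sq1105 :=
  real_edge rels S fwd inv o lvl plet idx 16 IH Gen.d sp766 sp1105 rfl rfl
theorem s0_f4733 : ed sl_dt sq155 = sq234 :=
  real_edge rels S fwd inv o lvl plet idx 16 IH Gen.d sp155 sp234 rfl rfl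
theorem s0_f4743 : ed sl_dt sq580 = sq856 :=
  real_edge rels S fwd inv o lvl plet idx 16 IH Gen.d sp580 sp856 rfl rfl
theorem s0_f4744 : ed sl_et sq234 = sq358 :=
  real_edge rels S fwd inv o lvl plet idx 16 IH Gen.e sp234 sp358 rfl rfl
theorem s0_f4747 : ed sl_dt sq146 = s0_v150 :=
  rfl
theorem s0_f4747r : ed sl_df s0_v150 = sq146 :=
  edge_flip (s0_f4747 IH)
theorem s0_f4749 : ed sl_df sq146 = s0_v150 :=
  gap_rel s0_rot54 (path_edge (s0_f4747r IH) (path_nil s0_v150))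
theorem s0_f4752 : ed sl_dt sq233 = sq154 :=
  real_edge rels S fwd inv o lvl plet idx 16 IH Gen.d sp233 sp154 rfl rfl
theorem s0_f3134r : ed sl_ff sq146 = sq154 :=
  edge_flip (s0_f3134 IH)
theorem s0_f4752r : ed sl_df sq154 = sq233 :=
  edge_flip (s0_f4752 IH)
theorem s0_f4753 : ed sl_ff sq233 = s0_v150 :=
  gap_rel s0_rot100 (path_edge (s0_f4752r IH) (path_edge (s0_f3134r IH) (path_edge (s0_f4747r IH) (path_nil s0_v150))))
theorem s0_f4054r : ed sl_gf sq146 = sq95 :=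
  edge_flip (s0_f4054 IH)
theorem s0_f4754 : ed sl_gf s0_v52 = s0_v150 :=
  gap_rel s0_rot45 (path_edge (s0_f4034 IH) (path_edge (s0_f4054r IH) (path_edge (s0_f4747r IH) (path_nil s0_v150))))
theorem s0_f3604r : ed sl_df sq72 = sq47 :=
  edge_flip (s0_f3604 IH)
theorem s0_f3603r : ed sl_cf sq47 = sq47 :=
  edge_flip (s0_f3603 IH)
theorem s0_f3792r : ed sl_df sq47 = sq72 :=
  edge_flip (s0_f3792 IH)
theorem s0_f4062r : ed sl_df sq99 = sq149 :=
  edge_flip (s0_f4062 IH)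
theorem s0_f4755 : ed sl_cf sq149 = s0_v150 :=
  gap_rel s0_rot94 (path_edge (s0_f4062r IH) (path_edge (s0_f4060r IH) (path_edge (s0_f3792r IH) (path_edge (s0_f3603r IH) (path_edge (s0_f3604r IH) (path_edge (s0_f3791r IH) (path_edge (s0_f4057 IH) (path_edge (s0_f4747r IH) (path_nil s0_v150)))))))))
theorem s0_f4755r : ed sl_ct s0_v150 = sq149 :=
  edge_flip (s0_f4755 IH)
theorem s0_f4760 : ed sl_ct sq149 = s0_v150 :=
  gap_rel s0_rot59 (path_edge (s0_f4755r IH) (path_nil s0_v150))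
theorem s0_f4761 : ed sl_et sq149 = sq231 :=
  real_edge rels S fwd inv o lvl plet idx 16 IH Gen.e sp149 sp231 rfl rfl
theorem s0_f4767 : ed sl_ft sq159 = sq232 :=
  real_edge rels S fwd inv o lvl plet idx 16 IH Gen.f sp159 sp232 rfl rfl
theorem s0_f4768 : ed sl_et sq231 = sq149 :=
  real_edge rels S fwd inv o lvl plet idx 16 IH Gen.e sp231 sp149 rfl rfl
theorem s0_f4773 : ed sl_et sq146 = sq226 :=
  real_edge rels S fwd inv o lvl plet idx 16 IH Gen.e sp146 sp226 rfl rfl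
theorem s0_f4774 : ed sl_dt sq226 = sq350 :=
  real_edge rels S fwd inv o lvl plet idx 16 IH Gen.d sp226 sp350 rfl rfl
theorem s0_f4775 : ed sl_at sq147 = s0_v151 :=
  rfl
theorem s0_f4775r : ed sl_af s0_v151 = sq147 :=
  edge_flip (s0_f4775 IH)
theorem s0_f4776 : ed sl_af sq147 = s0_v151 :=
  gap_rel s0_rot66 (path_edge (s0_f4775r IH) (path_nil s0_v151))
theorem s0_f4777 : ed sl_dt sq229 = sq147 :=
  real_edge rels S fwd inv o lvl plet idx 16 IH Gen.d sp229 sp147 rfl rfl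
theorem s0_f4779 : ed sl_ct sq147 = s0_v151 :=
  gap_rel s0_rot101 (path_edge (s0_f4777 IH) (path_edge (s0_f2963 IH) (path_edge (s0_f2964 IH) (path_edge (s0_f2965 IH) (path_edge (s0_f2966 IH) (path_edge (s0_f2999 IH) (path_edge (s0_f2998 IH) (path_edge (s0_f4775r IH) (path_nil s0_v151)))))))))
theorem s0_f4780 : ed sl_ft sq231 = sq358 :=
  real_edge rels S fwd inv o lvl plet idx 16 IH Gen.f sp231 sp358 rfl rfl
theorem s0_f4779r : ed sl_cf s0_v151 = sq147 :=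
  edge_flip (s0_f4779 IH)
theorem s0_f4781 : ed sl_cf sq147 = s0_v151 :=
  gap_rel s0_rot40 (path_edge (s0_f4779r IH) (path_nil s0_v151))
theorem s0_f4783 : ed sl_et sq759 = sq520 :=
  real_edge rels S fwd inv o lvl plet idx 16 IH Gen.e sp759 sp520 rfl rfl
theorem s0_f4784 : ed sl_bt sq756 = sq520 :=
  real_edge rels S fwd inv o lvl plet idx 16 IH Gen.b sp756 sp520 rfl rfl
theorem s0_f4781r : ed sl_ct s0_v151 = sq147 :=
  edge_flip (s0_f4781 IH)
theorem s0_f4786 : ed sl_et s0_v52 = s0_v151 :=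
  gap_rel s0_rot33 (path_edge (s0_f4042 IH) (path_edge (s0_f2520 IH) (path_edge (s0_f4781r IH) (path_nil s0_v151))))
theorem s0_f4787 : ed sl_ft sq147 = sq230 :=
  real_edge rels S fwd inv o lvl plet idx 16 IH Gen.f sp147 sp230 rfl rfl
theorem s0_f4788 : ed sl_bt sq353 = sq519 :=
  real_edge rels S fwd inv o lvl plet idx 16 IH Gen.b sp353 sp519 rfl rfl
theorem s0_f4792 : ed sl_bt sq149 = s0_v152 :=
  rfl
theorem s0_f4792r : ed sl_bf s0_v152 = sq149 :=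
  edge_flip (s0_f4792 IH)
theorem s0_f2754r : ed sl_gf sq149 = sq96 :=
  edge_flip (s0_f2754 IH)
theorem s0_f4795 : ed sl_gf s0_v54 = s0_v152 :=
  gap_rel s0_rot24 (path_edge (s0_f4085 IH) (path_edge (s0_f2750 IH) (path_edge (s0_f2518r IH) (path_edge (s0_f2754r IH) (path_edge (s0_f4792r IH) (path_nil s0_v152))))))
theorem s0_f4795r : ed sl_gt s0_v152 = s0_v54 :=
  edge_flip (s0_f4795 IH)
theorem s0_f4796 : ed sl_dt s0_v53 = s0_v152 :=
  gap_rel s0_rot91 (path_edge (s0_f4073 IH) (path_edge (s0_f4086r IH) (path_edge (s0_f4795r IH) (path_nil s0_v152))))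
theorem s0_f4797 : ed sl_gt s0_v54 = s0_v152 :=
  gap_rel s0_rot25 (path_edge (s0_f4795r IH) (path_nil s0_v152))
theorem s0_f4808 : ed sl_bt sq152 = s0_v153 :=
  rfl
theorem s0_f4808r : ed sl_bf s0_v153 = sq152 :=
  edge_flip (s0_f4808 IH)
theorem s0_f4810 : ed sl_bf sq152 = s0_v153 :=
  gap_rel s0_rot44 (path_edge (s0_f4808r IH) (path_nil s0_v153))
theorem s0_f4172r : ed sl_cf sq152 = sq115 :=
  edge_flip (s0_f4172 IH)
theorem s0_f388r : ed sl_bf sq115 = sq115 :=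
  edge_flip (s0_f388 IH)
theorem s0_f4069r : ed sl_cf sq115 = sq152 :=
  edge_flip (s0_f4069 IH)
theorem s0_f4811 : ed sl_cf s0_v153 = s0_v153 :=
  gap_rel s0_rot27 (path_edge (s0_f4810 IH) (path_edge (s0_f4069r IH) (path_edge (s0_f388r IH) (path_edge (s0_f4172r IH) (path_edge (s0_f4808r IH) (path_nil s0_v153))))))
theorem s0_f3033r : ed sl_gf sq152 = sq97 :=
  edge_flip (s0_f3033 IH)
theorem s0_f3032r : ed sl_bf sq97 = sq62 :=
  edge_flip (s0_f3032 IH)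
theorem s0_f3506r : ed sl_gf sq62 = sq105 :=
  edge_flip (s0_f3506 IH)
theorem s0_f4814 : ed sl_gf s0_v59 = s0_v153 :=
  gap_rel s0_rot24 (path_edge (s0_f4131 IH) (path_edge (s0_f3506r IH) (path_edge (s0_f3032r IH) (path_edge (s0_f3033r IH) (path_edge (s0_f4808r IH) (path_nil s0_v153))))))
theorem s0_f4811r : ed sl_ct s0_v153 = s0_v153 :=
  edge_flip (s0_f4811 IH)
theorem s0_f4814r : ed sl_gt s0_v153 = s0_v59 :=
  edge_flip (s0_f4814 IH)
theorem s0_f4132r : ed sl_ct s0_v59 = s0_v59 :=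
  edge_flip (s0_f4132 IH)
theorem s0_f4823 : ed sl_gt s0_v59 = s0_v153 :=
  gap_rel s0_rot88 (path_edge (s0_f4132r IH) (path_edge (s0_f4814r IH) (path_edge (s0_f4811r IH) (path_nil s0_v153))))
theorem s0_f4133r : ed sl_et s0_v59 = s0_v18 :=
  edge_flip (s0_f4133 IH)
theorem s0_f4824 : ed sl_et s0_v53 = s0_v153 :=
  gap_rel s0_rot49 (path_edge (s0_f4073 IH) (path_edge (s0_f4133r IH) (path_edge (s0_f4814r IH) (path_nil s0_v153))))
theorem s0_f4825 : ed sl_ft sq226 = sq239 :=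
  real_edge rels S fwd inv o lvl plet idx 16 IH Gen.f sp226 sp239 rfl rfl
theorem s0_f4827 : ed sl_gt sq153 = s0_v154 :=
  rfl
theorem s0_f4830 : ed sl_gt sq154 = sq98 :=
  real_edge rels S fwd inv o lvl plet idx 16 IH Gen.g sp154 sp98 rfl rfl
theorem s0_f4827r : ed sl_gf s0_v154 = sq153 :=
  edge_flip (s0_f4827 IH)
theorem s0_f4831 : ed sl_gf sq153 = s0_v154 :=
  gap_rel s0_rot76 (path_edge (s0_f4827r IH) (path_nil s0_v154))
theorem s0_f4836 : ed sl_bt sq154 = s0_v155 :=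
  rfl
theorem s0_f4836r : ed sl_bf s0_v155 = sq154 :=
  edge_flip (s0_f4836 IH)
theorem s0_f4837 : ed sl_bf sq154 = s0_v155 :=
  gap_rel s0_rot44 (path_edge (s0_f4836r IH) (path_nil s0_v155))
theorem s0_f4845 : ed sl_ct sq155 = sq117 :=
  real_edge rels S fwd inv o lvl plet idx 16 IH Gen.c sp155 sp117 rfl rfl
theorem s0_f4847 : ed sl_dt sq275 = sq410 :=
  real_edge rels S fwd inv o lvl plet idx 16 IH Gen.d sp275 sp410 rfl rfl
theorem s0_f4848 : ed sl_ct sq410 = sq611 :=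
  real_edge rels S fwd inv o lvl plet idx 16 IH Gen.c sp410 sp611 rfl rfl
theorem s0_f4852 : ed sl_bt sq155 = s0_v156 :=
  rfl
theorem s0_f4852r : ed sl_bf s0_v156 = sq155 :=
  edge_flip (s0_f4852 IH)
theorem s0_f4853 : ed sl_bf sq155 = s0_v156 :=
  gap_rel s0_rot44 (path_edge (s0_f4852r IH) (path_nil s0_v156))
theorem s0_f4859 : ed sl_ct sq413 = sq275 :=
  real_edge rels S fwd inv o lvl plet idx 16 IH Gen.c sp413 sp275 rfl rfl
theorem s0_f4860 : ed sl_et sq155 = sq240 :=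
  real_edge rels S fwd inv o lvl plet idx 16 IH Gen.e sp155 sp240 rfl rfl
theorem s0_f4861 : ed sl_dt sq240 = sq365 :=
  real_edge rels S fwd inv o lvl plet idx 16 IH Gen.d sp240 sp365 rfl rfl
theorem s0_f4862 : ed sl_ct sq365 = sq536 :=
  real_edge rels S fwd inv o lvl plet idx 16 IH Gen.c sp365 sp536 rfl rfl
theorem s0_f4870 : ed sl_bt sq156 = s0_v157 :=
  rfl
theorem s0_f4870r : ed sl_bf s0_v157 = sq156 :=
  edge_flip (s0_f4870 IH)
theorem s0_f4871 : ed sl_bf sq156 = s0_v157 :=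
  gap_rel s0_rot44 (path_edge (s0_f4870r IH) (path_nil s0_v157))
theorem s0_f4872 : ed sl_ef s0_v54 = s0_v157 :=
  gap_rel s0_rot46 (path_edge (s0_f4085 IH) (path_edge (s0_f2746r IH) (path_edge (s0_f4870r IH) (path_nil s0_v157))))
theorem s0_f4874 : ed sl_ct sq1479 = sq1131 :=
  real_edge rels S fwd inv o lvl plet idx 16 IH Gen.c sp1479 sp1131 rfl rfl
theorem s0_f4872r : ed sl_et s0_v157 = s0_v54 :=
  edge_flip (s0_f4872 IH)
theorem s0_f4876 : ed sl_et s0_v54 = s0_v157 :=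
  gap_rel s0_rot31 (path_edge (s0_f4872r IH) (path_nil s0_v157))
theorem s0_f4877 : ed sl_ft sq156 = s0_v158 :=
  rfl
theorem s0_f4877r : ed sl_ff s0_v158 = sq156 :=
  edge_flip (s0_f4877 IH)
theorem s0_f4880 : ed sl_ff sq156 = s0_v158 :=
  gap_rel s0_rot1 (path_edge (s0_f4877r IH) (path_nil s0_v158))
theorem s0_f4880r : ed sl_ft s0_v158 = sq156 :=
  edge_flip (s0_f4880 IH)
theorem s0_f4881 : ed sl_ct sq158 = s0_v158 :=
  gap_rel s0_rot42 (path_edge (s0_f2982 IH) (path_edge (s0_f2522 IH) (path_edge (s0_f4880r IH) (path_nil s0_v158))))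
theorem s0_f4883 : ed sl_bt sq371 = sq244 :=
  real_edge rels S fwd inv o lvl plet idx 16 IH Gen.b sp371 sp244 rfl rfl
theorem s0_f4884 : ed sl_ct sq546 = sq371 :=
  real_edge rels S fwd inv o lvl plet idx 16 IH Gen.c sp546 sp371 rfl rfl
theorem s0_f4885 : ed sl_dt sq802 = sq546 :=
  real_edge rels S fwd inv o lvl plet idx 16 IH Gen.d sp802 sp546 rfl rfl
theorem s0_f4887 : ed sl_ct sq245 = sq372 :=
  real_edge rels S fwd inv o lvl plet idx 16 IH Gen.c sp245 sp372 rfl rfl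
theorem s0_f4890 : ed sl_dt sq370 = sq544 :=
  real_edge rels S fwd inv o lvl plet idx 16 IH Gen.d sp370 sp544 rfl rfl
theorem s0_f4892 : ed sl_at sq157 = s0_v159 :=
  rfl
theorem s0_f4892r : ed sl_af s0_v159 = sq157 :=
  edge_flip (s0_f4892 IH)
theorem s0_f4893 : ed sl_af sq157 = s0_v159 :=
  gap_rel s0_rot66 (path_edge (s0_f4892r IH) (path_nil s0_v159))
theorem s0_f4896 : ed sl_gf s0_v141 = s0_v159 :=
  gap_rel s0_rot47 (path_edge (s0_f4660 IH) (path_edge (s0_f2763 IH) (path_edge (s0_f4892r IH) (path_nil s0_v159))))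
theorem s0_f4896r : ed sl_gt s0_v159 = s0_v141 :=
  edge_flip (s0_f4896 IH)
theorem s0_f4661r : ed sl_dt s0_v141 = s0_v72 :=
  edge_flip (s0_f4661 IH)
theorem s0_f4349r : ed sl_gt s0_v72 = s0_v56 :=
  edge_flip (s0_f4349 IH)
theorem s0_f4898 : ed sl_dt s0_v56 = s0_v159 :=
  gap_rel s0_rot91 (path_edge (s0_f4349r IH) (path_edge (s0_f4661r IH) (path_edge (s0_f4896r IH) (path_nil s0_v159))))
theorem s0_f4900 : ed sl_gt s0_v141 = s0_v159 :=
  gap_rel s0_rot25 (path_edge (s0_f4896r IH) (path_nil s0_v159))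
theorem s0_f4904 : ed sl_at sq158 = s0_v160 :=
  rfl
theorem s0_f4904r : ed sl_af s0_v160 = sq158 :=
  edge_flip (s0_f4904 IH)
theorem s0_f2982r : ed sl_ff sq158 = sq101 :=
  edge_flip (s0_f2982 IH)
theorem s0_f4907 : ed sl_ff s0_v56 = s0_v160 :=
  gap_rel s0_rot11 (path_edge (s0_f4101 IH) (path_edge (s0_f2982r IH) (path_edge (s0_f4904r IH) (path_nil s0_v160))))
theorem s0_f4907r : ed sl_ft s0_v160 = s0_v56 :=
  edge_flip (s0_f4907 IH)
theorem s0_f4909 : ed sl_ft s0_v56 = s0_v160 :=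
  gap_rel s0_rot16 (path_edge (s0_f4907r IH) (path_nil s0_v160))
theorem s0_f4910 : ed sl_gt s0_v158 = s0_v160 :=
  gap_rel s0_rot17 (path_edge (s0_f4877 IH) (path_edge (s0_f2757 IH) (path_edge (s0_f4100r IH) (path_edge (s0_f4907r IH) (path_nil s0_v160)))))
theorem s0_f4910r : ed sl_gf s0_v160 = s0_v158 :=
  edge_flip (s0_f4910 IH)
theorem s0_f4911 : ed sl_gf s0_v158 = s0_v160 :=
  gap_rel s0_rot76 (path_edge (s0_f4910r IH) (path_nil s0_v160))
theorem s0_f4912 : ed sl_gt sq158 = s0_v161 :=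
  rfl
theorem s0_f4912r : ed sl_gf s0_v161 = sq158 :=
  edge_flip (s0_f4912 IH)
theorem s0_f4001r : ed sl_ef sq158 = sq102 :=
  edge_flip (s0_f4001 IH)
theorem s0_f4915 : ed sl_ef s0_v47 = s0_v161 :=
  gap_rel s0_rot36 (path_edge (s0_f4000 IH) (path_edge (s0_f4001r IH) (path_edge (s0_f4912r IH) (path_nil s0_v161))))
theorem s0_f4909r : ed sl_ff s0_v160 = s0_v56 :=
  edge_flip (s0_f4909 IH)
theorem s0_f4916 : ed sl_ff s0_v72 = s0_v161 :=
  gap_rel s0_rot22 (path_edge (s0_f4349 IH) (path_edge (s0_f4909r IH) (path_edge (s0_f4911 IH) (path_edge (s0_f4880 IH) (path_edge (s0_f2747 IH) (path_edge (s0_f2982r IH) (path_edge (s0_f4912r IH) (path_nil s0_v161))))))))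
theorem s0_f4931 : ed sl_at sq160 = s0_v164 :=
  rfl
theorem s0_f4933 : ed sl_bt sq247 = sq160 :=
  real_edge rels S fwd inv o lvl plet idx 16 IH Gen.b sp247 sp160 rfl rfl
theorem s0_f4934 : ed sl_at sq373 = sq247 :=
  real_edge rels S fwd inv o lvl plet idx 16 IH Gen.a sp373 sp247 rfl rfl
theorem s0_f4931r : ed sl_af s0_v164 = sq160 :=
  edge_flip (s0_f4931 IH)
theorem s0_f2812r : ed sl_gf sq160 = sq249 :=
  edge_flip (s0_f2812 IH)
theorem s0_f4938 : ed sl_gf sq211 = s0_v164 :=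
  gap_rel s0_rot47 (path_edge (s0_f3243 IH) (path_edge (s0_f2812r IH) (path_edge (s0_f4931r IH) (path_nil s0_v164))))
theorem s0_f4938r : ed sl_gt s0_v164 = sq211 :=
  edge_flip (s0_f4938 IH)
theorem s0_f4941 : ed sl_ct s0_v58 = s0_v164 :=
  gap_rel s0_rot39 (path_edge (s0_f4123 IH) (path_edge (s0_f1452 IH) (path_edge (s0_f4938r IH) (path_nil s0_v164))))
theorem s0_f4942 : ed sl_dt sq160 = s0_v164 :=
  gap_rel s0_rot91 (path_edge (s0_f2812 IH) (path_edge (s0_f3252r IH) (path_edge (s0_f4938r IH) (path_nil s0_v164))))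
theorem s0_f4943 : ed sl_gt sq211 = s0_v164 :=
  gap_rel s0_rot25 (path_edge (s0_f4938r IH) (path_nil s0_v164))
theorem s0_f4943r : ed sl_gf s0_v164 = sq211 :=
  edge_flip (s0_f4943 IH)
theorem s0_f3012r : ed sl_df sq211 = sq249 :=
  edge_flip (s0_f3012 IH)
theorem s0_f4944 : ed sl_df sq160 = s0_v164 :=
  gap_rel s0_rot52 (path_edge (s0_f2805r IH) (path_edge (s0_f3012r IH) (path_edge (s0_f4943r IH) (path_nil s0_v164))))
theorem s0_f4947 : ed sl_et sq181 = sq131 :=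
  real_edge rels S fwd inv o lvl plet idx 16 IH Gen.e sp181 sp131 rfl rfl
theorem s0_f4948 : ed sl_dt sq587 = sq650 :=
  real_edge rels S fwd inv o lvl plet idx 16 IH Gen.d sp587 sp650 rfl rfl
theorem s0_f4949 : ed sl_ct sq650 = sq441 :=
  real_edge rels S fwd inv o lvl plet idx 16 IH Gen.c sp650 sp441 rfl rfl
theorem s0_f4961 : ed sl_at sq548 = sq804 :=
  real_edge rels S fwd inv o lvl plet idx 16 IH Gen.a sp548 sp804 rfl rfl
theorem s0_f4975 : ed sl_ct sq549 = sq768 :=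
  real_edge rels S fwd inv o lvl plet idx 16 IH Gen.c sp549 sp768 rfl rfl
theorem s0_f4976 : ed sl_bt sq162 = s0_v166 :=
  rfl
theorem s0_f4976r : ed sl_bf s0_v166 = sq162 :=
  edge_flip (s0_f4976 IH)

end

end

end Cfsg.Agent.Helper28.S1680
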