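import Cfsg.Agent.Lib.Helper28.S1680.Seeds3

set_option autoImplicit false
set_option maxRecDepth 100000
set_option linter.all false

namespace Cfsg.Agent.Helper28.S1680

open Cfsg.Agent.Helper28
open Cfsg.Spor.Suz (Gen)

noncomputable section

section
variable (IH : ∀ y q, lvl y q < 16 → EntryOK rels S fwd inv o plet idx y q)
include IH

theorem s0_f4977 : ed sl_bf sq162 = s0_v166 :=
  gap_rel s0_rot44 (path_edge (s0_f4976r IH) (path_nil s0_v166))
theorem s0_f2714r : ed sl_df sq162 = sq105 :=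
  edge_flip (s0_f2714 IH)
theorem s0_f4978 : ed sl_df s0_v59 = s0_v166 :=
  gap_rel s0_rot8 (path_edge (s0_f4131 IH) (path_edge (s0_f2714r IH) (path_edge (s0_f4976r IH) (path_nil s0_v166))))
theorem s0_f4981 : ed sl_gt sq165 = s0_v167 :=
  rfl
theorem s0_f4981r : ed sl_gf s0_v167 = sq165 :=
  edge_flip (s0_f4981 IH)
theorem s0_f4984 : ed sl_gf sq165 = s0_v167 :=
  gap_rel s0_rot76 (path_edge (s0_f4981r IH) (path_nil s0_v167))
theorem s0_f4984r : ed sl_gt s0_v167 = sq165 :=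
  edge_flip (s0_f4984 IH)
theorem s0_f4986 : ed sl_ft s0_v154 = s0_v167 :=
  gap_rel s0_rot97 (path_edge (s0_f4827 IH) (path_edge (s0_f2167 IH) (path_edge (s0_f1797 IH) (path_edge (s0_f2152 IH) (path_edge (s0_f3132 IH) (path_edge (s0_f2251 IH) (path_edge (s0_f4984r IH) (path_nil s0_v167))))))))
theorem s0_f4991 : ed sl_ct sq387 = sq257 :=
  real_edge rels S fwd inv o lvl plet idx 16 IH Gen.c sp387 sp257 rfl rfl
theorem s0_f5001 : ed sl_bt sq170 = s0_v171 :=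
  rfl
theorem s0_f5001r : ed sl_bf s0_v171 = sq170 :=
  edge_flip (s0_f5001 IH)
theorem s0_f3780r : ed sl_df sq170 = sq110 :=
  edge_flip (s0_f3780 IH)
theorem s0_f5003 : ed sl_df s0_v60 = s0_v171 :=
  gap_rel s0_rot8 (path_edge (s0_f4137 IH) (path_edge (s0_f3780r IH) (path_edge (s0_f5001r IH) (path_nil s0_v171))))
theorem s0_f4207r : ed sl_ef sq170 = sq119 :=
  edge_flip (s0_f4207 IH)
theorem s0_f5004 : ed sl_ef s0_v62 = s0_v171 :=
  gap_rel s0_rot46 (path_edge (s0_f4182 IH) (path_edge (s0_f4207r IH) (path_edge (s0_f5001r IH) (path_nil s0_v171))))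
theorem s0_f5013 : ed sl_et sq353 = sq235 :=
  real_edge rels S fwd inv o lvl plet idx 16 IH Gen.e sp353 sp235 rfl rfl
theorem s0_f5004r : ed sl_et s0_v171 = s0_v62 :=
  edge_flip (s0_f5004 IH)
theorem s0_f4183r : ed sl_dt s0_v62 = s0_v20 :=
  edge_flip (s0_f4183 IH)
theorem s0_f5014 : ed sl_dt s0_v60 = s0_v171 :=
  gap_rel s0_rot106 (path_edge (s0_f4152 IH) (path_edge (s0_f3778 IH) (path_edge (s0_f3799r IH) (path_edge (s0_f4183r IH) (path_edge (s0_f5004r IH) (path_nil s0_v171))))))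
theorem s0_f5015 : ed sl_et s0_v62 = s0_v171 :=
  gap_rel s0_rot31 (path_edge (s0_f5004r IH) (path_nil s0_v171))
theorem s0_f5019 : ed sl_bt sq172 = s0_v172 :=
  rfl
theorem s0_f5019r : ed sl_bf s0_v172 = sq172 :=
  edge_flip (s0_f5019 IH)
theorem s0_f5020 : ed sl_bf sq172 = s0_v172 :=
  gap_rel s0_rot44 (path_edge (s0_f5019r IH) (path_nil s0_v172))
theorem s0_f4162r : ed sl_ef sq172 = sq112 :=
  edge_flip (s0_f4162 IH)
theorem s0_f5023 : ed sl_ef s0_v61 = s0_v172 :=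
  gap_rel s0_rot46 (path_edge (s0_f4157 IH) (path_edge (s0_f4162r IH) (path_edge (s0_f5019r IH) (path_nil s0_v172))))
theorem s0_f5023r : ed sl_et s0_v172 = s0_v61 :=
  edge_flip (s0_f5023 IH)
theorem s0_f5028 : ed sl_et s0_v61 = s0_v172 :=
  gap_rel s0_rot31 (path_edge (s0_f5023r IH) (path_nil s0_v172))
theorem s0_f5031 : ed sl_ft sq173 = s0_v173 :=
  rfl
theorem s0_f5031r : ed sl_ff s0_v173 = sq173 :=
  edge_flip (s0_f5031 IH)
theorem s0_f161r : ed sl_ff sq111 = sq69 :=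
  edge_flip (s0_f161 IH)
theorem s0_f5033 : ed sl_bf s0_v83 = s0_v173 :=
  gap_rel s0_rot104 (path_edge (s0_f4400 IH) (path_edge (s0_f3769 IH) (path_edge (s0_f161r IH) (path_edge (s0_f2304r IH) (path_edge (s0_f5031r IH) (path_nil s0_v173))))))
theorem s0_f4247r : ed sl_df sq173 = sq122 :=
  edge_flip (s0_f4247 IH)
theorem s0_f5035 : ed sl_df s0_v64 = s0_v173 :=
  gap_rel s0_rot56 (path_edge (s0_f4253 IH) (path_edge (s0_f4247r IH) (path_edge (s0_f5031r IH) (path_nil s0_v173))))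
theorem s0_f5037 : ed sl_ff sq173 = s0_v173 :=
  gap_rel s0_rot1 (path_edge (s0_f5031r IH) (path_nil s0_v173))
theorem s0_f5038 : ed sl_gt sq267 = sq173 :=
  real_edge rels S fwd inv o lvl plet idx 16 IH Gen.g sp267 sp173 rfl rfl
theorem s0_f5039 : ed sl_bt sq279 = sq267 :=
  real_edge rels S fwd inv o lvl plet idx 16 IH Gen.b sp279 sp267 rfl rfl
theorem s0_f5037r : ed sl_ft s0_v173 = sq173 :=
  edge_flip (s0_f5037 IH)
theorem s0_f5040 : ed sl_at sq266 = s0_v173 :=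
  gap_rel s0_rot90 (path_edge (s0_f3681r IH) (path_edge (s0_f2305 IH) (path_edge (s0_f5037r IH) (path_nil s0_v173))))
theorem s0_f5041 : ed sl_bt s0_v83 = s0_v173 :=
  gap_rel s0_rot12 (path_edge (s0_f4398 IH) (path_edge (s0_f3768 IH) (path_edge (s0_f2307 IH) (path_edge (s0_f441 IH) (path_edge (s0_f5037r IH) (path_nil s0_v173))))))
theorem s0_f5042 : ed sl_ct sq265 = s0_v173 :=
  gap_rel s0_rot42 (path_edge (s0_f3688 IH) (path_edge (s0_f3690 IH) (path_edge (s0_f5037r IH) (path_nil s0_v173))))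
theorem s0_f5046 : ed sl_ct sq292 = sq186 :=
  real_edge rels S fwd inv o lvl plet idx 16 IH Gen.c sp292 sp186 rfl rfl
theorem s0_f5049 : ed sl_et sq288 = sq186 :=
  real_edge rels S fwd inv o lvl plet idx 16 IH Gen.e sp288 sp186 rfl rfl
theorem s0_f5056 : ed sl_dt sq178 = sq273 :=
  real_edge rels S fwd inv o lvl plet idx 16 IH Gen.d sp178 sp273 rfl rfl
theorem s0_f5057 : ed sl_ft sq179 = s0_v174 :=
  rfl
theorem s0_f5057r : ed sl_ff s0_v174 = sq179 :=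
  edge_flip (s0_f5057 IH)
theorem s0_f2293r : ed sl_df sq179 = sq129 :=
  edge_flip (s0_f2293 IH)
theorem s0_f3618r : ed sl_ff sq129 = sq200 :=
  edge_flip (s0_f3618 IH)
theorem s0_f5058 : ed sl_df sq200 = s0_v174 :=
  gap_rel s0_rot56 (path_edge (s0_f3618r IH) (path_edge (s0_f2293r IH) (path_edge (s0_f5057r IH) (path_nil s0_v174))))
theorem s0_f5059 : ed sl_ff sq179 = s0_v174 :=
  gap_rel s0_rot1 (path_edge (s0_f5057r IH) (path_nil s0_v174))
theorem s0_f5065 : ed sl_at sq180 = s0_v175 :=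
  rfl
theorem s0_f5065r : ed sl_af s0_v175 = sq180 :=
  edge_flip (s0_f5065 IH)
theorem s0_f5066 : ed sl_af sq180 = s0_v175 :=
  gap_rel s0_rot66 (path_edge (s0_f5065r IH) (path_nil s0_v175))
theorem s0_f4320r : ed sl_df sq180 = sq130 :=
  edge_flip (s0_f4320 IH)
theorem s0_f5067 : ed sl_df s0_v69 = s0_v175 :=
  gap_rel s0_rot51 (path_edge (s0_f4316 IH) (path_edge (s0_f4320r IH) (path_edge (s0_f5065r IH) (path_nil s0_v175))))
theorem s0_f3775r : ed sl_ff sq180 = sq180 :=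
  edge_flip (s0_f3775 IH)
theorem s0_f5069 : ed sl_ff s0_v175 = s0_v175 :=
  gap_rel s0_rot11 (path_edge (s0_f5066 IH) (path_edge (s0_f3775r IH) (path_edge (s0_f5065r IH) (path_nil s0_v175))))
theorem s0_f5069r : ed sl_ft s0_v175 = s0_v175 :=
  edge_flip (s0_f5069 IH)
theorem s0_f5067r : ed sl_dt s0_v175 = s0_v69 :=
  edge_flip (s0_f5067 IH)
theorem s0_f4319r : ed sl_ft s0_v69 = s0_v69 :=
  edge_flip (s0_f4319 IH)
theorem s0_f5070 : ed sl_dt s0_v69 = s0_v175 :=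
  gap_rel s0_rot29 (path_edge (s0_f4319r IH) (path_edge (s0_f5067r IH) (path_edge (s0_f5069r IH) (path_nil s0_v175))))
theorem s0_f5080 : ed sl_bt sq184 = s0_v176 :=
  rfl
theorem s0_f5080r : ed sl_bf s0_v176 = sq184 :=
  edge_flip (s0_f5080 IH)
theorem s0_f5081 : ed sl_bf sq184 = s0_v176 :=
  gap_rel s0_rot44 (path_edge (s0_f5080r IH) (path_nil s0_v176))
theorem s0_f3844r : ed sl_df sq184 = sq121 :=
  edge_flip (s0_f3844 IH)
theorem s0_f5083 : ed sl_df s0_v63 = s0_v176 :=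
  gap_rel s0_rot8 (path_edge (s0_f4228 IH) (path_edge (s0_f3844r IH) (path_edge (s0_f5080r IH) (path_nil s0_v176))))
theorem s0_f5085 : ed sl_ft sq303 = sq286 :=
  real_edge rels S fwd inv o lvl plet idx 16 IH Gen.f sp303 sp286 rfl rfl
theorem s0_f5089 : ed sl_bt sq407 = sq271 :=
  real_edge rels S fwd inv o lvl plet idx 16 IH Gen.b sp407 sp271 rfl rfl
theorem s0_f5090 : ed sl_ct sq407 = sq407 :=
  real_edge rels S fwd inv o lvl plet idx 16 IH Gen.c sp407 sp407 rfl rfl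
theorem s0_f5091 : ed sl_dt sq603 = sq407 :=
  real_edge rels S fwd inv o lvl plet idx 16 IH Gen.d sp603 sp407 rfl rfl
theorem s0_f5083r : ed sl_dt s0_v176 = s0_v63 :=
  edge_flip (s0_f5083 IH)
theorem s0_f5092 : ed sl_dt s0_v63 = s0_v176 :=
  gap_rel s0_rot28 (path_edge (s0_f5083r IH) (path_nil s0_v176))
theorem s0_f5093 : ed sl_bt sq286 = sq430 :=
  real_edge rels S fwd inv o lvl plet idx 16 IH Gen.b sp286 sp430 rfl rfl
theorem s0_f5095 : ed sl_ft sq307 = sq464 :=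
  real_edge rels S fwd inv o lvl plet idx 16 IH Gen.f sp307 sp464 rfl rfl
theorem s0_f5097 : ed sl_gt sq287 = sq433 :=
  real_edge rels S fwd inv o lvl plet idx 16 IH Gen.g sp287 sp433 rfl rfl
theorem s0_f5102 : ed sl_ft sq185 = s0_v177 :=
  rfl
theorem s0_f5102r : ed sl_ff s0_v177 = sq185 :=
  edge_flip (s0_f5102 IH)
theorem s0_f5105 : ed sl_ff sq185 = s0_v177 :=
  gap_rel s0_rot1 (path_edge (s0_f5102r IH) (path_nil s0_v177))
theorem s0_f5105r : ed sl_ft s0_v177 = sq185 :=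
  edge_flip (s0_f5105 IH)
theorem s0_f5108 : ed sl_bt s0_v87 = s0_v177 :=
  gap_rel s0_rot12 (path_edge (s0_f4415 IH) (path_edge (s0_f3795 IH) (path_edge (s0_f3800 IH) (path_edge (s0_f2416 IH) (path_edge (s0_f5105r IH) (path_nil s0_v177))))))
theorem s0_f5110 : ed sl_bt sq289 = sq289 :=
  real_edge rels S fwd inv o lvl plet idx 16 IH Gen.b sp289 sp289 rfl rfl
theorem s0_f5111 : ed sl_at sq289 = sq435 :=
  real_edge rels S fwd inv o lvl plet idx 16 IH Gen.a sp289 sp435 rfl rfl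
theorem s0_f5112 : ed sl_et sq186 = sq288 :=
  real_edge rels S fwd inv o lvl plet idx 16 IH Gen.e sp186 sp288 rfl rfl
theorem s0_f5113 : ed sl_ft sq186 = s0_v178 :=
  rfl
theorem s0_f5113r : ed sl_ff s0_v178 = sq186 :=
  edge_flip (s0_f5113 IH)
theorem s0_f5116 : ed sl_ff sq186 = s0_v178 :=
  gap_rel s0_rot1 (path_edge (s0_f5113r IH) (path_nil s0_v178))
theorem s0_f5116r : ed sl_ft s0_v178 = sq186 :=
  edge_flip (s0_f5116 IH)
theorem s0_f5117 : ed sl_at s0_v64 = s0_v178 :=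
  gap_rel s0_rot90 (path_edge (s0_f4249 IH) (path_edge (s0_f3866 IH) (path_edge (s0_f5116r IH) (path_nil s0_v178))))
theorem s0_f5118 : ed sl_dt sq266 = s0_v178 :=
  gap_rel s0_rot29 (path_edge (s0_f3681r IH) (path_edge (s0_f3683 IH) (path_edge (s0_f5116r IH) (path_nil s0_v178))))
theorem s0_f5122 : ed sl_at sq292 = sq187 :=
  real_edge rels S fwd inv o lvl plet idx 16 IH Gen.a sp292 sp187 rfl rfl
theorem s0_f5129 : ed sl_ct sq517 = sq754 :=
  real_edge rels S fwd inv o lvl plet idx 16 IH Gen.c sp517 sp754 rfl rfl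
theorem s0_f5130 : ed sl_gt sq186 = s0_v179 :=
  rfl
theorem s0_f5130r : ed sl_gf s0_v179 = sq186 :=
  edge_flip (s0_f5130 IH)
theorem s0_f5132 : ed sl_gf sq186 = s0_v179 :=
  gap_rel s0_rot76 (path_edge (s0_f5130r IH) (path_nil s0_v179))
theorem s0_f5132r : ed sl_gt s0_v179 = sq186 :=
  edge_flip (s0_f5132 IH)
theorem s0_f5133 : ed sl_at sq188 = s0_v179 :=
  gap_rel s0_rot96 (path_edge (s0_f3843 IH) (path_edge (s0_f3866 IH) (path_edge (s0_f5132r IH) (path_nil s0_v179))))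
theorem s0_f5135 : ed sl_dt sq267 = sq188 :=
  real_edge rels S fwd inv o lvl plet idx 16 IH Gen.d sp267 sp188 rfl rfl
theorem s0_f5140 : ed sl_et sq188 = sq290 :=
  real_edge rels S fwd inv o lvl plet idx 16 IH Gen.e sp188 sp290 rfl rfl
theorem s0_f5142 : ed sl_ft sq187 = s0_v180 :=
  rfl
theorem s0_f5142r : ed sl_ff s0_v180 = sq187 :=
  edge_flip (s0_f5142 IH)
theorem s0_f4246r : ed sl_cf sq187 = sq122 :=
  edge_flip (s0_f4246 IH)
theorem s0_f5143 : ed sl_cf s0_v64 = s0_v180 :=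
  gap_rel s0_rot65 (path_edge (s0_f4253 IH) (path_edge (s0_f4246r IH) (path_edge (s0_f5142r IH) (path_nil s0_v180))))
theorem s0_f5145 : ed sl_ff sq187 = s0_v180 :=
  gap_rel s0_rot1 (path_edge (s0_f5142r IH) (path_nil s0_v180))
theorem s0_f5145r : ed sl_ft s0_v180 = sq187 :=
  edge_flip (s0_f5145 IH)
theorem s0_f5148 : ed sl_ct s0_v64 = s0_v180 :=
  gap_rel s0_rot42 (path_edge (s0_f4249 IH) (path_edge (s0_f2487 IH) (path_edge (s0_f5145r IH) (path_nil s0_v180))))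
theorem s0_f5150 : ed sl_ft sq188 = s0_v181 :=
  rfl
theorem s0_f5150r : ed sl_ff s0_v181 = sq188 :=
  edge_flip (s0_f5150 IH)
theorem s0_f5151 : ed sl_ff sq188 = s0_v181 :=
  gap_rel s0_rot1 (path_edge (s0_f5150r IH) (path_nil s0_v181))
theorem s0_f3843r : ed sl_gf sq188 = sq122 :=
  edge_flip (s0_f3843 IH)
theorem s0_f5152 : ed sl_gf s0_v178 = s0_v181 :=
  gap_rel s0_rot2 (path_edge (s0_f5116 IH) (path_edge (s0_f2506 IH) (path_edge (s0_f3843r IH) (path_edge (s0_f5150r IH) (path_nil s0_v181)))))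
theorem s0_f5152r : ed sl_gt s0_v181 = s0_v178 :=
  edge_flip (s0_f5152 IH)
theorem s0_f5153 : ed sl_gt s0_v178 = s0_v181 :=
  gap_rel s0_rot25 (path_edge (s0_f5152r IH) (path_nil s0_v181))
theorem s0_f5164 : ed sl_gt sq191 = sq303 :=
  real_edge rels S fwd inv o lvl plet idx 16 IH Gen.g sp191 sp303 rfl rfl
theorem s0_f5173 : ed sl_bt sq640 = sq431 :=
  real_edge rels S fwd inv o lvl plet idx 16 IH Gen.b sp640 sp431 rfl rfl
theorem s0_f5178 : ed sl_at sq287 = sq431 :=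
  real_edge rels S fwd inv o lvl plet idx 16 IH Gen.a sp287 sp431 rfl rfl
theorem s0_f5179 : ed sl_bt sq431 = sq640 :=
  real_edge rels S fwd inv o lvl plet idx 16 IH Gen.b sp431 sp640 rfl rfl
theorem s0_f5180 : ed sl_ft sq1007 = sq1355 :=
  real_edge rels S fwd inv o lvl plet idx 16 IH Gen.f sp1007 sp1355 rfl rfl
theorem s0_f5182 : ed sl_gt sq193 = s0_v183 :=
  rfl
theorem s0_f5182r : ed sl_gf s0_v183 = sq193 :=
  edge_flip (s0_f5182 IH)
theorem s0_f470r : ed sl_df sq193 = sq126 :=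
  edge_flip (s0_f470 IH)
theorem s0_f5183 : ed sl_df s0_v67 = s0_v183 :=
  gap_rel s0_rot52 (path_edge (s0_f4294 IH) (path_edge (s0_f470r IH) (path_edge (s0_f5182r IH) (path_nil s0_v183))))
theorem s0_f5185 : ed sl_gf sq193 = s0_v183 :=
  gap_rel s0_rot76 (path_edge (s0_f5182r IH) (path_nil s0_v183))
theorem s0_f5190 : ed sl_ct sq339 = sq504 :=
  real_edge rels S fwd inv o lvl plet idx 16 IH Gen.c sp339 sp504 rfl rfl
theorem s0_f5201 : ed sl_gt sq196 = s0_v184 :=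
  rfl
theorem s0_f5202 : ed sl_at sq309 = sq196 :=
  real_edge rels S fwd inv o lvl plet idx 16 IH Gen.a sp309 sp196 rfl rfl
theorem s0_f5204 : ed sl_ct sq310 = sq196 :=
  real_edge rels S fwd inv o lvl plet idx 16 IH Gen.c sp310 sp196 rfl rfl
theorem s0_f5201r : ed sl_gf s0_v184 = sq196 :=
  edge_flip (s0_f5201 IH)
theorem s0_f5207 : ed sl_gf sq196 = s0_v184 :=
  gap_rel s0_rot76 (path_edge (s0_f5201r IH) (path_nil s0_v184))
theorem s0_f5207r : ed sl_gt s0_v184 = sq196 :=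
  edge_flip (s0_f5207 IH)
theorem s0_f5208 : ed sl_bt s0_v67 = s0_v184 :=
  gap_rel s0_rot26 (path_edge (s0_f4292 IH) (path_edge (s0_f1739 IH) (path_edge (s0_f3909 IH) (path_edge (s0_f3910 IH) (path_edge (s0_f5207r IH) (path_nil s0_v184))))))
theorem s0_f5210 : ed sl_at sq197 = s0_v185 :=
  rfl
theorem s0_f5210r : ed sl_af s0_v185 = sq197 :=
  edge_flip (s0_f5210 IH)
theorem s0_f5211 : ed sl_af sq197 = s0_v185 :=
  gap_rel s0_rot66 (path_edge (s0_f5210r IH) (path_nil s0_v185))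
theorem s0_f4325r : ed sl_ef sq197 = sq130 :=
  edge_flip (s0_f4325 IH)
theorem s0_f5213 : ed sl_ef s0_v69 = s0_v185 :=
  gap_rel s0_rot102 (path_edge (s0_f4316 IH) (path_edge (s0_f4325r IH) (path_edge (s0_f5210r IH) (path_nil s0_v185))))
theorem s0_f3806r : ed sl_ff sq197 = sq197 :=
  edge_flip (s0_f3806 IH)
theorem s0_f5214 : ed sl_ff s0_v185 = s0_v185 :=
  gap_rel s0_rot11 (path_edge (s0_f5211 IH) (path_edge (s0_f3806r IH) (path_edge (s0_f5210r IH) (path_nil s0_v185))))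
theorem s0_f5215 : ed sl_dt sq197 = sq308 :=
  real_edge rels S fwd inv o lvl plet idx 16 IH Gen.d sp197 sp308 rfl rfl
theorem s0_f5216 : ed sl_ct sq308 = sq465 :=
  real_edge rels S fwd inv o lvl plet idx 16 IH Gen.c sp308 sp465 rfl rfl
theorem s0_f5214r : ed sl_ft s0_v185 = s0_v185 :=
  edge_flip (s0_f5214 IH)
theorem s0_f5213r : ed sl_et s0_v185 = s0_v69 :=
  edge_flip (s0_f5213 IH)
theorem s0_f5217 : ed sl_et s0_v69 = s0_v185 :=
  gap_rel s0_rot37 (path_edge (s0_f4319r IH) (path_edge (s0_f5213r IH) (path_edge (s0_f5214r IH) (path_nil s0_v185))))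
theorem s0_f5218 : ed sl_ct sq197 = sq312 :=
  real_edge rels S fwd inv o lvl plet idx 16 IH Gen.c sp197 sp312 rfl rfl
theorem s0_f5220 : ed sl_bt sq198 = s0_v186 :=
  rfl
theorem s0_f5220r : ed sl_bf s0_v186 = sq198 :=
  edge_flip (s0_f5220 IH)
theorem s0_f5221 : ed sl_bf sq198 = s0_v186 :=
  gap_rel s0_rot44 (path_edge (s0_f5220r IH) (path_nil s0_v186))
theorem s0_f5224 : ed sl_et sq309 = sq198 :=
  real_edge rels S fwd inv o lvl plet idx 16 IH Gen.e sp309 sp198 rfl rfl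
theorem s0_f5226 : ed sl_ct sq198 = sq314 :=
  real_edge rels S fwd inv o lvl plet idx 16 IH Gen.c sp198 sp314 rfl rfl
theorem s0_f5227 : ed sl_dt sq198 = sq276 :=
  real_edge rels S fwd inv o lvl plet idx 16 IH Gen.d sp198 sp276 rfl rfl
theorem s0_f5228 : ed sl_et sq198 = sq309 :=
  real_edge rels S fwd inv o lvl plet idx 16 IH Gen.e sp198 sp309 rfl rfl
theorem s0_f5229 : ed sl_dt sq309 = sq462 :=
  real_edge rels S fwd inv o lvl plet idx 16 IH Gen.d sp309 sp462 rfl rfl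
theorem s0_f5230 : ed sl_ct sq462 = sq684 :=
  real_edge rels S fwd inv o lvl plet idx 16 IH Gen.c sp462 sp684 rfl rfl
theorem s0_f5231 : ed sl_ft sq198 = s0_v187 :=
  rfl
theorem s0_f5231r : ed sl_ff s0_v187 = sq198 :=
  edge_flip (s0_f5231 IH)
theorem s0_f5233 : ed sl_ff sq198 = s0_v187 :=
  gap_rel s0_rot1 (path_edge (s0_f5231r IH) (path_nil s0_v187))
theorem s0_f5233r : ed sl_ft s0_v187 = sq198 :=
  edge_flip (s0_f5233 IH)
theorem s0_f5235 : ed sl_at sq200 = s0_v187 :=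
  gap_rel s0_rot90 (path_edge (s0_f3841 IH) (path_edge (s0_f4307 IH) (path_edge (s0_f5233r IH) (path_nil s0_v187))))
theorem s0_f5238 : ed sl_gt sq198 = s0_v188 :=
  rfl
theorem s0_f5238r : ed sl_gf s0_v188 = sq198 :=
  edge_flip (s0_f5238 IH)
theorem s0_f5240 : ed sl_gf sq198 = s0_v188 :=
  gap_rel s0_rot76 (path_edge (s0_f5238r IH) (path_nil s0_v188))
theorem s0_f5249 : ed sl_gt sq200 = s0_v190 :=
  rfl
theorem s0_f5249r : ed sl_gf s0_v190 = sq200 :=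
  edge_flip (s0_f5249 IH)
theorem s0_f5250 : ed sl_gf sq200 = s0_v190 :=
  gap_rel s0_rot76 (path_edge (s0_f5249r IH) (path_nil s0_v190))
theorem s0_f5251 : ed sl_ff s0_v188 = s0_v190 :=
  gap_rel s0_rot92 (path_edge (s0_f5240 IH) (path_edge (s0_f5231r IH) (path_edge (s0_f5235 IH) (path_edge (s0_f5249r IH) (path_nil s0_v190)))))
theorem s0_f5251r : ed sl_ft s0_v190 = s0_v188 :=
  edge_flip (s0_f5251 IH)
theorem s0_f5252 : ed sl_ft s0_v188 = s0_v190 :=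
  gap_rel s0_rot16 (path_edge (s0_f5251r IH) (path_nil s0_v190))
theorem s0_f5262 : ed sl_at sq202 = s0_v192 :=
  rfl
theorem s0_f5262r : ed sl_af s0_v192 = sq202 :=
  edge_flip (s0_f5262 IH)
theorem s0_f5263 : ed sl_af sq202 = s0_v192 :=
  gap_rel s0_rot66 (path_edge (s0_f5262r IH) (path_nil s0_v192))
theorem s0_f5270 : ed sl_ft sq202 = s0_v192 :=
  gap_rel s0_rot107 (path_edge (s0_f2478 IH) (path_edge (s0_f3575 IH) (path_edge (s0_f3576 IH) (path_edge (s0_f5262r IH) (path_nil s0_v192)))))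
theorem s0_f5279 : ed sl_bt sq203 = sq319 :=
  real_edge rels S fwd inv o lvl plet idx 16 IH Gen.b sp203 sp319 rfl rfl
theorem s0_f5280 : ed sl_ct sq203 = sq295 :=
  real_edge rels S fwd inv o lvl plet idx 16 IH Gen.c sp203 sp295 rfl rfl
theorem s0_f5281 : ed sl_dt sq203 = sq280 :=
  real_edge rels S fwd inv o lvl plet idx 16 IH Gen.d sp203 sp280 rfl rfl
theorem s0_f5285 : ed sl_ft sq204 = sq131 :=
  real_edge rels S fwd inv o lvl plet idx 16 IH Gen.f sp204 sp131 rfl rfl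
theorem s0_f5287 : ed sl_bt sq205 = sq205 :=
  real_edge rels S fwd inv o lvl plet idx 16 IH Gen.b sp205 sp205 rfl rfl
theorem s0_f5292 : ed sl_at sq207 = s0_v193 :=
  rfl
theorem s0_f5292r : ed sl_af s0_v193 = sq207 :=
  edge_flip (s0_f5292 IH)
theorem s0_f5293 : ed sl_af sq207 = s0_v193 :=
  gap_rel s0_rot66 (path_edge (s0_f5292r IH) (path_nil s0_v193))
theorem s0_f5298 : ed sl_dt sq207 = s0_v194 :=
  rfl
theorem s0_f5304 : ed sl_bt s0_v44 = s0_v196 :=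
  rfl
theorem s0_f5304r : ed sl_bf s0_v196 = s0_v44 :=
  edge_flip (s0_f5304 IH)
theorem s0_f5305 : ed sl_bf s0_v44 = s0_v196 :=
  gap_rel s0_rot44 (path_edge (s0_f5304r IH) (path_nil s0_v196))
theorem s0_f5306 : ed sl_dt s0_v44 = s0_v197 :=
  rfl
theorem s0_f5306r : ed sl_df s0_v197 = s0_v44 :=
  edge_flip (s0_f5306 IH)
theorem s0_f5307 : ed sl_af s0_v45 = s0_v197 :=
  gap_rel s0_rot72 (path_edge (s0_f3986 IH) (path_edge (s0_f3979r IH) (path_edge (s0_f5306r IH) (path_nil s0_v197))))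
theorem s0_f5308 : ed sl_df s0_v44 = s0_v197 :=
  gap_rel s0_rot54 (path_edge (s0_f5306r IH) (path_nil s0_v197))
theorem s0_f5308r : ed sl_dt s0_v197 = s0_v44 :=
  edge_flip (s0_f5308 IH)
theorem s0_f3980r : ed sl_at s0_v44 = sq87 :=
  edge_flip (s0_f3980 IH)
theorem s0_f5309 : ed sl_at s0_v45 = s0_v197 :=
  gap_rel s0_rot58 (path_edge (s0_f3984 IH) (path_edge (s0_f3980r IH) (path_edge (s0_f5308r IH) (path_nil s0_v197))))
theorem s0_f5310 : ed sl_gt s0_v44 = s0_v198 :=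
  rfl
theorem s0_f5310r : ed sl_gf s0_v198 = s0_v44 :=
  edge_flip (s0_f5310 IH)
theorem s0_f5313 : ed sl_gf s0_v44 = s0_v198 :=
  gap_rel s0_rot76 (path_edge (s0_f5310r IH) (path_nil s0_v198))
theorem s0_f2481r : ed sl_ff sq87 = sq135 :=
  edge_flip (s0_f2481 IH)
theorem s0_f5314 : ed sl_ff s0_v140 = s0_v198 :=
  gap_rel s0_rot92 (path_edge (s0_f4657 IH) (path_edge (s0_f2481r IH) (path_edge (s0_f3980r IH) (path_edge (s0_f5310r IH) (path_nil s0_v198)))))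
theorem s0_f5314r : ed sl_ft s0_v198 = s0_v140 :=
  edge_flip (s0_f5314 IH)
theorem s0_f4656r : ed sl_ct s0_v140 = sq141 :=
  edge_flip (s0_f4656 IH)
theorem s0_f5315 : ed sl_ct s0_v74 = s0_v198 :=
  gap_rel s0_rot42 (path_edge (s0_f4363 IH) (path_edge (s0_f4656r IH) (path_edge (s0_f5314r IH) (path_nil s0_v198))))
theorem s0_f5316 : ed sl_ft s0_v140 = s0_v198 :=
  gap_rel s0_rot16 (path_edge (s0_f5314r IH) (path_nil s0_v198))
theorem s0_f5316r : ed sl_ff s0_v198 = s0_v140 :=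
  edge_flip (s0_f5316 IH)
theorem s0_f5317 : ed sl_at s0_v46 = s0_v198 :=
  gap_rel s0_rot6 (path_edge (s0_f3995 IH) (path_edge (s0_f2310r IH) (path_edge (s0_f4655r IH) (path_edge (s0_f5316r IH) (path_nil s0_v198)))))
theorem s0_f5318 : ed sl_ct s0_v45 = s0_v199 :=
  rfl
theorem s0_f5318r : ed sl_cf s0_v199 = s0_v45 :=
  edge_flip (s0_f5318 IH)
theorem s0_f5319 : ed sl_cf s0_v45 = s0_v199 :=
  gap_rel s0_rot40 (path_edge (s0_f5318r IH) (path_nil s0_v199))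
theorem s0_f5320 : ed sl_et s0_v45 = s0_v200 :=
  rfl
theorem s0_f5320r : ed sl_ef s0_v200 = s0_v45 :=
  edge_flip (s0_f5320 IH)
theorem s0_f5322 : ed sl_ef s0_v45 = s0_v200 :=
  gap_rel s0_rot34 (path_edge (s0_f5320r IH) (path_nil s0_v200))
theorem s0_f5322r : ed sl_et s0_v200 = s0_v45 :=
  edge_flip (s0_f5322 IH)
theorem s0_f3985r : ed sl_bt s0_v45 = s0_v12 :=
  edge_flip (s0_f3985 IH)
theorem s0_f5323 : ed sl_bt s0_v72 = s0_v200 :=
  gap_rel s0_rot108 (path_edge (s0_f4345 IH) (path_edge (s0_f3985r IH) (path_edge (s0_f5322r IH) (path_nil s0_v200))))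
theorem s0_f5324 : ed sl_gt s0_v45 = s0_v201 :=
  rfl
theorem s0_f5324r : ed sl_gf s0_v201 = s0_v45 :=
  edge_flip (s0_f5324 IH)
theorem s0_f5326 : ed sl_gf s0_v45 = s0_v201 :=
  gap_rel s0_rot76 (path_edge (s0_f5324r IH) (path_nil s0_v201))
theorem s0_f5336 : ed sl_bt s0_v48 = s0_v203 :=
  rfl
theorem s0_f5336r : ed sl_bf s0_v203 = s0_v48 :=
  edge_flip (s0_f5336 IH)
theorem s0_f4009r : ed sl_ef s0_v48 = s0_v13 :=
  edge_flip (s0_f4009 IH)
theorem s0_f5338 : ed sl_ef s0_v73 = s0_v203 :=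
  gap_rel s0_rot46 (path_edge (s0_f4354 IH) (path_edge (s0_f4009r IH) (path_edge (s0_f5336r IH) (path_nil s0_v203))))
theorem s0_f5338r : ed sl_et s0_v203 = s0_v73 :=
  edge_flip (s0_f5338 IH)
theorem s0_f5339 : ed sl_et s0_v73 = s0_v203 :=
  gap_rel s0_rot31 (path_edge (s0_f5338r IH) (path_nil s0_v203))
theorem s0_f5340 : ed sl_gt s0_v48 = s0_v204 :=
  rfl
theorem s0_f5340r : ed sl_gf s0_v204 = s0_v48 :=
  edge_flip (s0_f5340 IH)
theorem s0_f5343 : ed sl_gf s0_v48 = s0_v204 :=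
  gap_rel s0_rot76 (path_edge (s0_f5340r IH) (path_nil s0_v204))
theorem s0_f4007r : ed sl_at s0_v48 = sq91 :=
  edge_flip (s0_f4007 IH)
theorem s0_f351r : ed sl_ff sq91 = sq140 :=
  edge_flip (s0_f351 IH)
theorem s0_f418r : ed sl_gf sq140 = sq218 :=
  edge_flip (s0_f418 IH)
theorem s0_f5344 : ed sl_ff sq218 = s0_v204 :=
  gap_rel s0_rot92 (path_edge (s0_f418r IH) (path_edge (s0_f351r IH) (path_edge (s0_f4007r IH) (path_edge (s0_f5340r IH) (path_nil s0_v204)))))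
theorem s0_f5344r : ed sl_ft s0_v204 = sq218 :=
  edge_flip (s0_f5344 IH)
theorem s0_f5345 : ed sl_et s0_v74 = s0_v204 :=
  gap_rel s0_rot37 (path_edge (s0_f4363 IH) (path_edge (s0_f3885 IH) (path_edge (s0_f5344r IH) (path_nil s0_v204))))
theorem s0_f5356 : ed sl_bt s0_v50 = s0_v206 :=
  rfl
theorem s0_f5356r : ed sl_bf s0_v206 = s0_v50 :=
  edge_flip (s0_f5356 IH)
theorem s0_f5357 : ed sl_bf s0_v50 = s0_v206 :=
  gap_rel s0_rot44 (path_edge (s0_f5356r IH) (path_nil s0_v206))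
theorem s0_f4020r : ed sl_df s0_v50 = s0_v22 :=
  edge_flip (s0_f4020 IH)
theorem s0_f5358 : ed sl_df s0_v93 = s0_v206 :=
  gap_rel s0_rot8 (path_edge (s0_f4446 IH) (path_edge (s0_f4020r IH) (path_edge (s0_f5356r IH) (path_nil s0_v206))))
theorem s0_f5358r : ed sl_dt s0_v206 = s0_v93 :=
  edge_flip (s0_f5358 IH)
theorem s0_f5359 : ed sl_dt s0_v93 = s0_v206 :=
  gap_rel s0_rot28 (path_edge (s0_f5358r IH) (path_nil s0_v206))
theorem s0_f5365 : ed sl_at s0_v53 = s0_v208 :=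
  rfl
theorem s0_f5365r : ed sl_af s0_v208 = s0_v53 :=
  edge_flip (s0_f5365 IH)
theorem s0_f5366 : ed sl_af s0_v53 = s0_v208 :=
  gap_rel s0_rot66 (path_edge (s0_f5365r IH) (path_nil s0_v208))
theorem s0_f5367 : ed sl_cf s0_v208 = s0_v208 :=
  gap_rel s0_rot74 (path_edge (s0_f5366 IH) (path_edge (s0_f4061 IH) (path_edge (s0_f5365r IH) (path_nil s0_v208))))
theorem s0_f4073r : ed sl_gf s0_v53 = s0_v18 :=
  edge_flip (s0_f4073 IH)
theorem s0_f5368 : ed sl_gf s0_v79 = s0_v208 :=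
  gap_rel s0_rot47 (path_edge (s0_f4385 IH) (path_edge (s0_f4073r IH) (path_edge (s0_f5365r IH) (path_nil s0_v208))))
theorem s0_f5367r : ed sl_ct s0_v208 = s0_v208 :=
  edge_flip (s0_f5367 IH)
theorem s0_f5368r : ed sl_gt s0_v208 = s0_v79 :=
  edge_flip (s0_f5368 IH)
theorem s0_f4386r : ed sl_ct s0_v79 = s0_v79 :=
  edge_flip (s0_f4386 IH)
theorem s0_f5369 : ed sl_gt s0_v79 = s0_v208 :=
  gap_rel s0_rot88 (path_edge (s0_f4386r IH) (path_edge (s0_f5368r IH) (path_edge (s0_f5367r IH) (path_nil s0_v208))))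
theorem s0_f5373 : ed sl_at s0_v54 = s0_v210 :=
  rfl
theorem s0_f5373r : ed sl_af s0_v210 = s0_v54 :=
  edge_flip (s0_f5373 IH)
theorem s0_f5374 : ed sl_af s0_v54 = s0_v210 :=
  gap_rel s0_rot66 (path_edge (s0_f5373r IH) (path_nil s0_v210))
theorem s0_f4087r : ed sl_df s0_v54 = s0_v18 :=
  edge_flip (s0_f4087 IH)
theorem s0_f5375 : ed sl_df s0_v79 = s0_v210 :=
  gap_rel s0_rot51 (path_edge (s0_f4385 IH) (path_edge (s0_f4087r IH) (path_edge (s0_f5373r IH) (path_nil s0_v210))))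
theorem s0_f5375r : ed sl_dt s0_v210 = s0_v79 :=
  edge_flip (s0_f5375 IH)
theorem s0_f5376 : ed sl_dt s0_v79 = s0_v210 :=
  gap_rel s0_rot28 (path_edge (s0_f5375r IH) (path_nil s0_v210))
theorem s0_f5381 : ed sl_bt s0_v56 = s0_v212 :=
  rfl
theorem s0_f5381r : ed sl_bf s0_v212 = s0_v56 :=
  edge_flip (s0_f5381 IH)
theorem s0_f4103r : ed sl_ef s0_v56 = s0_v17 :=
  edge_flip (s0_f4103 IH)
theorem s0_f5383 : ed sl_ef s0_v78 = s0_v212 :=
  gap_rel s0_rot46 (path_edge (s0_f4381 IH) (path_edge (s0_f4103r IH) (path_edge (s0_f5381r IH) (path_nil s0_v212))))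
theorem s0_f5403 : ed sl_at s0_v60 = s0_v217 :=
  rfl
theorem s0_f5403r : ed sl_af s0_v217 = s0_v60 :=
  edge_flip (s0_f5403 IH)
theorem s0_f5404 : ed sl_af s0_v60 = s0_v217 :=
  gap_rel s0_rot66 (path_edge (s0_f5403r IH) (path_nil s0_v217))
theorem s0_f243r : ed sl_af sq110 = sq70 :=
  edge_flip (s0_f243 IH)
theorem s0_f242r : ed sl_bf sq70 = sq43 :=
  edge_flip (s0_f242 IH)
theorem s0_f342r : ed sl_af sq43 = sq26 :=
  edge_flip (s0_f342 IH)
theorem s0_f2412r : ed sl_bf sq26 = sq45 :=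
  edge_flip (s0_f2412 IH)
theorem s0_f3794r : ed sl_af sq45 = sq74 :=
  edge_flip (s0_f3794 IH)
theorem s0_f5405 : ed sl_bf s0_v85 = s0_v217 :=
  gap_rel s0_rot93 (path_edge (s0_f4407 IH) (path_edge (s0_f3796 IH) (path_edge (s0_f3794r IH) (path_edge (s0_f2412r IH) (path_edge (s0_f342r IH) (path_edge (s0_f242r IH) (path_edge (s0_f243r IH) (path_edge (s0_f4136r IH) (path_edge (s0_f5403r IH) (path_nil s0_v217))))))))))
theorem s0_f4152r : ed sl_ef s0_v60 = s0_v19 :=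
  edge_flip (s0_f4152 IH)
theorem s0_f5406 : ed sl_ef s0_v81 = s0_v217 :=
  gap_rel s0_rot102 (path_edge (s0_f4391 IH) (path_edge (s0_f4152r IH) (path_edge (s0_f5403r IH) (path_nil s0_v217))))
theorem s0_f5406r : ed sl_et s0_v217 = s0_v81 :=
  edge_flip (s0_f5406 IH)
theorem s0_f5407 : ed sl_bt s0_v85 = s0_v217 :=
  gap_rel s0_rot108 (path_edge (s0_f4409 IH) (path_edge (s0_f4392r IH) (path_edge (s0_f5406r IH) (path_nil s0_v217))))
theorem s0_f5409 : ed sl_ct s0_v60 = s0_v218 :=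
  rfl
theorem s0_f5409r : ed sl_cf s0_v218 = s0_v60 :=
  edge_flip (s0_f5409 IH)
theorem s0_f5411 : ed sl_ef s0_v82 = s0_v218 :=
  gap_rel s0_rot48 (path_edge (s0_f4397 IH) (path_edge (s0_f4152r IH) (path_edge (s0_f5409r IH) (path_nil s0_v218))))
theorem s0_f5411r : ed sl_et s0_v218 = s0_v82 :=
  edge_flip (s0_f5411 IH)
theorem s0_f5412 : ed sl_et s0_v82 = s0_v218 :=
  gap_rel s0_rot31 (path_edge (s0_f5411r IH) (path_nil s0_v218))
theorem s0_f5413 : ed sl_ft s0_v60 = s0_v219 :=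
  rfl
theorem s0_f5413r : ed sl_ff s0_v219 = s0_v60 :=
  edge_flip (s0_f5413 IH)
theorem s0_f5415 : ed sl_ff s0_v60 = s0_v219 :=
  gap_rel s0_rot1 (path_edge (s0_f5413r IH) (path_nil s0_v219))
theorem s0_f5417 : ed sl_gt s0_v60 = s0_v220 :=
  rfl
theorem s0_f5417r : ed sl_gf s0_v220 = s0_v60 :=
  edge_flip (s0_f5417 IH)
theorem s0_f5419 : ed sl_gf s0_v60 = s0_v220 :=
  gap_rel s0_rot76 (path_edge (s0_f5417r IH) (path_nil s0_v220))
theorem s0_f5419r : ed sl_gt s0_v220 = s0_v60 :=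
  edge_flip (s0_f5419 IH)
theorem s0_f5420 : ed sl_et s0_v84 = s0_v220 :=
  gap_rel s0_rot49 (path_edge (s0_f4402 IH) (path_edge (s0_f4139r IH) (path_edge (s0_f5419r IH) (path_nil s0_v220))))
theorem s0_f5421 : ed sl_at s0_v61 = s0_v221 :=
  rfl
theorem s0_f5421r : ed sl_af s0_v221 = s0_v61 :=
  edge_flip (s0_f5421 IH)
theorem s0_f5422 : ed sl_af s0_v61 = s0_v221 :=
  gap_rel s0_rot66 (path_edge (s0_f5421r IH) (path_nil s0_v221))
theorem s0_f4161r : ed sl_df s0_v61 = s0_v21 :=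
  edge_flip (s0_f4161 IH)
theorem s0_f5423 : ed sl_df s0_v89 = s0_v221 :=
  gap_rel s0_rot51 (path_edge (s0_f4424 IH) (path_edge (s0_f4161r IH) (path_edge (s0_f5421r IH) (path_nil s0_v221))))
theorem s0_f5423r : ed sl_dt s0_v221 = s0_v89 :=
  edge_flip (s0_f5423 IH)
theorem s0_f5424 : ed sl_dt s0_v89 = s0_v221 :=
  gap_rel s0_rot28 (path_edge (s0_f5423r IH) (path_nil s0_v221))
theorem s0_f5425 : ed sl_ct s0_v61 = s0_v222 :=
  rfl
theorem s0_f5425r : ed sl_cf s0_v222 = s0_v61 :=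
  edge_flip (s0_f5425 IH)
theorem s0_f5426 : ed sl_cf s0_v61 = s0_v222 :=
  gap_rel s0_rot40 (path_edge (s0_f5425r IH) (path_nil s0_v222))
theorem s0_f5427 : ed sl_ft s0_v61 = s0_v223 :=
  rfl
theorem s0_f5427r : ed sl_ff s0_v223 = s0_v61 :=
  edge_flip (s0_f5427 IH)
theorem s0_f2311r : ed sl_ff sq112 = sq116 :=
  edge_flip (s0_f2311 IH)
theorem s0_f432r : ed sl_bf sq116 = sq179 :=
  edge_flip (s0_f432 IH)
theorem s0_f5428 : ed sl_bf s0_v174 = s0_v223 :=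
  gap_rel s0_rot104 (path_edge (s0_f5059 IH) (path_edge (s0_f432r IH) (path_edge (s0_f2311r IH) (path_edge (s0_f4156r IH) (path_edge (s0_f5427r IH) (path_nil s0_v223))))))
theorem s0_f5430 : ed sl_ff s0_v61 = s0_v223 :=
  gap_rel s0_rot1 (path_edge (s0_f5427r IH) (path_nil s0_v223))
theorem s0_f5430r : ed sl_ft s0_v223 = s0_v61 :=
  edge_flip (s0_f5430 IH)
theorem s0_f4157r : ed sl_bt s0_v61 = sq112 :=
  edge_flip (s0_f4157 IH)
theorem s0_f5431 : ed sl_bt s0_v174 = s0_v223 :=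
  gap_rel s0_rot12 (path_edge (s0_f5057 IH) (path_edge (s0_f2289 IH) (path_edge (s0_f2294 IH) (path_edge (s0_f4157r IH) (path_edge (s0_f5430r IH) (path_nil s0_v223))))))
theorem s0_f5432 : ed sl_dt s0_v91 = s0_v223 :=
  gap_rel s0_rot29 (path_edge (s0_f4428 IH) (path_edge (s0_f4158r IH) (path_edge (s0_f5430r IH) (path_nil s0_v223))))
theorem s0_f5433 : ed sl_gt s0_v61 = s0_v224 :=
  rfl
theorem s0_f5433r : ed sl_gf s0_v224 = s0_v61 :=
  edge_flip (s0_f5433 IH)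
theorem s0_f2295r : ed sl_gf sq112 = sq69 :=
  edge_flip (s0_f2295 IH)
theorem s0_f5434 : ed sl_bf s0_v84 = s0_v224 :=
  gap_rel s0_rot75 (path_edge (s0_f4404 IH) (path_edge (s0_f3769 IH) (path_edge (s0_f2295r IH) (path_edge (s0_f4156r IH) (path_edge (s0_f5433r IH) (path_nil s0_v224))))))
theorem s0_f5436 : ed sl_gf s0_v61 = s0_v224 :=
  gap_rel s0_rot76 (path_edge (s0_f5433r IH) (path_nil s0_v224))
theorem s0_f5436r : ed sl_gt s0_v224 = s0_v61 :=
  edge_flip (s0_f5436 IH)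
theorem s0_f5437 : ed sl_bt s0_v84 = s0_v224 :=
  gap_rel s0_rot26 (path_edge (s0_f4402 IH) (path_edge (s0_f3768 IH) (path_edge (s0_f3772 IH) (path_edge (s0_f4157r IH) (path_edge (s0_f5436r IH) (path_nil s0_v224))))))
theorem s0_f5439 : ed sl_at s0_v62 = s0_v225 :=
  rfl
theorem s0_f5439r : ed sl_af s0_v225 = s0_v62 :=
  edge_flip (s0_f5439 IH)
theorem s0_f5440 : ed sl_af s0_v62 = s0_v225 :=
  gap_rel s0_rot66 (path_edge (s0_f5439r IH) (path_nil s0_v225))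
theorem s0_f5443 : ed sl_ct s0_v62 = s0_v226 :=
  rfl
theorem s0_f5443r : ed sl_cf s0_v226 = s0_v62 :=
  edge_flip (s0_f5443 IH)
theorem s0_f5444 : ed sl_cf s0_v62 = s0_v226 :=
  gap_rel s0_rot40 (path_edge (s0_f5443r IH) (path_nil s0_v226))
theorem s0_f5445 : ed sl_ft s0_v62 = s0_v227 :=
  rfl
theorem s0_f5453 : ed sl_at s0_v63 = s0_v229 :=
  rfl
theorem s0_f5453r : ed sl_af s0_v229 = s0_v63 :=
  edge_flip (s0_f5453 IH)
theorem s0_f4240r : ed sl_ef s0_v63 = s0_v21 :=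
  edge_flip (s0_f4240 IH)
theorem s0_f5455 : ed sl_ef s0_v89 = s0_v229 :=
  gap_rel s0_rot102 (path_edge (s0_f4424 IH) (path_edge (s0_f4240r IH) (path_edge (s0_f5453r IH) (path_nil s0_v229))))
theorem s0_f5455r : ed sl_et s0_v229 = s0_v89 :=
  edge_flip (s0_f5455 IH)
theorem s0_f5456 : ed sl_et s0_v89 = s0_v229 :=
  gap_rel s0_rot31 (path_edge (s0_f5455r IH) (path_nil s0_v229))
theorem s0_f5457 : ed sl_ct s0_v63 = s0_v230 :=
  rfl
theorem s0_f5457r : ed sl_cf s0_v230 = s0_v63 :=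
  edge_flip (s0_f5457 IH)
theorem s0_f5458 : ed sl_cf s0_v63 = s0_v230 :=
  gap_rel s0_rot40 (path_edge (s0_f5457r IH) (path_nil s0_v230))
theorem s0_f5459 : ed sl_ef s0_v90 = s0_v230 :=
  gap_rel s0_rot48 (path_edge (s0_f4426 IH) (path_edge (s0_f4240r IH) (path_edge (s0_f5457r IH) (path_nil s0_v230))))
theorem s0_f5459r : ed sl_et s0_v230 = s0_v90 :=
  edge_flip (s0_f5459 IH)
theorem s0_f5460 : ed sl_et s0_v90 = s0_v230 :=
  gap_rel s0_rot31 (path_edge (s0_f5459r IH) (path_nil s0_v230))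
theorem s0_f5462 : ed sl_ft s0_v63 = s0_v231 :=
  rfl
theorem s0_f5462r : ed sl_ff s0_v231 = s0_v63 :=
  edge_flip (s0_f5462 IH)
theorem s0_f5465 : ed sl_ff s0_v63 = s0_v231 :=
  gap_rel s0_rot1 (path_edge (s0_f5462r IH) (path_nil s0_v231))
theorem s0_f5465r : ed sl_ft s0_v231 = s0_v63 :=
  edge_flip (s0_f5465 IH)
theorem s0_f4228r : ed sl_bt s0_v63 = sq121 :=
  edge_flip (s0_f4228 IH)
theorem s0_f5466 : ed sl_bt sq311 = s0_v231 :=
  gap_rel s0_rot12 (path_edge (s0_f4241 IH) (path_edge (s0_f3819 IH) (path_edge (s0_f3818 IH) (path_edge (s0_f4228r IH) (path_edge (s0_f5465r IH) (path_nil s0_v231))))))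
theorem s0_f5467 : ed sl_et s0_v91 = s0_v231 :=
  gap_rel s0_rot37 (path_edge (s0_f4428 IH) (path_edge (s0_f4231r IH) (path_edge (s0_f5465r IH) (path_nil s0_v231))))
theorem s0_f5468 : ed sl_ct sq468 = sq311 :=
  real_edge rels S fwd inv o lvl plet idx 16 IH Gen.c sp468 sp311 rfl rfl
theorem s0_f5469 : ed sl_ft sq310 = sq468 :=
  real_edge rels S fwd inv o lvl plet idx 16 IH Gen.f sp310 sp468 rfl rfl
theorem s0_f5470 : ed sl_at sq467 = sq310 :=
  real_edge rels S fwd inv o lvl plet idx 16 IH Gen.a sp467 sp310 rfl rfl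
theorem s0_f5478 : ed sl_gt s0_v64 = s0_v233 :=
  rfl
theorem s0_f5478r : ed sl_gf s0_v233 = s0_v64 :=
  edge_flip (s0_f5478 IH)
theorem s0_f4254r : ed sl_gf sq122 = sq188 :=
  edge_flip (s0_f4254 IH)
theorem s0_f5153r : ed sl_gf s0_v181 = s0_v178 :=
  edge_flip (s0_f5153 IH)
theorem s0_f5480 : ed sl_ff s0_v179 = s0_v233 :=
  gap_rel s0_rot22 (path_edge (s0_f5132 IH) (path_edge (s0_f5113r IH) (path_edge (s0_f5153r IH) (path_edge (s0_f5151 IH) (path_edge (s0_f4254r IH) (path_edge (s0_f4249r IH) (path_edge (s0_f5478r IH) (path_nil s0_v233))))))))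
theorem s0_f5481 : ed sl_gf s0_v64 = s0_v233 :=
  gap_rel s0_rot76 (path_edge (s0_f5478r IH) (path_nil s0_v233))
theorem s0_f5481r : ed sl_gt s0_v233 = s0_v64 :=
  edge_flip (s0_f5481 IH)
theorem s0_f5482 : ed sl_at s0_v181 = s0_v233 :=
  gap_rel s0_rot96 (path_edge (s0_f5153 IH) (path_edge (s0_f5117 IH) (path_edge (s0_f5481r IH) (path_nil s0_v233))))
theorem s0_f5484 : ed sl_bt s0_v65 = s0_v234 :=
  rfl
theorem s0_f5484r : ed sl_bf s0_v234 = s0_v65 :=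
  edge_flip (s0_f5484 IH)
theorem s0_f5485 : ed sl_bf s0_v65 = s0_v234 :=
  gap_rel s0_rot44 (path_edge (s0_f5484r IH) (path_nil s0_v234))
theorem s0_f4278r : ed sl_ef s0_v65 = s0_v22 :=
  edge_flip (s0_f4278 IH)
theorem s0_f5486 : ed sl_ef s0_v93 = s0_v234 :=
  gap_rel s0_rot46 (path_edge (s0_f4446 IH) (path_edge (s0_f4278r IH) (path_edge (s0_f5484r IH) (path_nil s0_v234))))
theorem s0_f5486r : ed sl_et s0_v234 = s0_v93 :=
  edge_flip (s0_f5486 IH)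
theorem s0_f5487 : ed sl_et s0_v93 = s0_v234 :=
  gap_rel s0_rot31 (path_edge (s0_f5486r IH) (path_nil s0_v234))
theorem s0_f5507 : ed sl_ft s0_v68 = s0_v238 :=
  rfl
theorem s0_f5507r : ed sl_ff s0_v238 = s0_v68 :=
  edge_flip (s0_f5507 IH)
theorem s0_f5509 : ed sl_ff s0_v68 = s0_v238 :=
  gap_rel s0_rot1 (path_edge (s0_f5507r IH) (path_nil s0_v238))
theorem s0_f5252r : ed sl_ff s0_v190 = s0_v188 :=
  edge_flip (s0_f5252 IH)
theorem s0_f5510 : ed sl_gf s0_v187 = s0_v238 :=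
  gap_rel s0_rot19 (path_edge (s0_f5233 IH) (path_edge (s0_f5238r IH) (path_edge (s0_f5252r IH) (path_edge (s0_f5250 IH) (path_edge (s0_f3618r IH) (path_edge (s0_f4306r IH) (path_edge (s0_f5507r IH) (path_nil s0_v238))))))))
theorem s0_f5513 : ed sl_bt s0_v69 = s0_v239 :=
  rfl
theorem s0_f5513r : ed sl_bf s0_v239 = s0_v69 :=
  edge_flip (s0_f5513 IH)
theorem s0_f5514 : ed sl_bf s0_v69 = s0_v239 :=
  gap_rel s0_rot44 (path_edge (s0_f5513r IH) (path_nil s0_v239))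
theorem s0_f5515 : ed sl_bt s0_v70 = s0_v240 :=
  rfl
theorem s0_f5515r : ed sl_bf s0_v240 = s0_v70 :=
  edge_flip (s0_f5515 IH)
theorem s0_f5516 : ed sl_bf s0_v70 = s0_v240 :=
  gap_rel s0_rot44 (path_edge (s0_f5515r IH) (path_nil s0_v240))
theorem s0_f4336r : ed sl_df s0_v70 = s0_v25 :=
  edge_flip (s0_f4336 IH)
theorem s0_f5517 : ed sl_df s0_v97 = s0_v240 :=
  gap_rel s0_rot8 (path_edge (s0_f4463 IH) (path_edge (s0_f4336r IH) (path_edge (s0_f5515r IH) (path_nil s0_v240))))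
theorem s0_f5517r : ed sl_dt s0_v240 = s0_v97 :=
  edge_flip (s0_f5517 IH)
theorem s0_f5518 : ed sl_dt s0_v97 = s0_v240 :=
  gap_rel s0_rot28 (path_edge (s0_f5517r IH) (path_nil s0_v240))
theorem s0_f5519 : ed sl_gt s0_v70 = s0_v241 :=
  rfl
theorem s0_f5519r : ed sl_gf s0_v241 = s0_v70 :=
  edge_flip (s0_f5519 IH)
theorem s0_f5522 : ed sl_gf s0_v70 = s0_v241 :=
  gap_rel s0_rot76 (path_edge (s0_f5519r IH) (path_nil s0_v241))
theorem s0_f4332r : ed sl_at s0_v70 = sq133 :=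
  edge_flip (s0_f4332 IH)
theorem s0_f5523 : ed sl_ff s0_v183 = s0_v241 :=
  gap_rel s0_rot92 (path_edge (s0_f5185 IH) (path_edge (s0_f316r IH) (path_edge (s0_f4332r IH) (path_edge (s0_f5519r IH) (path_nil s0_v241)))))
theorem s0_f5523r : ed sl_ft s0_v241 = s0_v183 :=
  edge_flip (s0_f5523 IH)
theorem s0_f5183r : ed sl_dt s0_v183 = s0_v67 :=
  edge_flip (s0_f5183 IH)
theorem s0_f5524 : ed sl_dt s0_v99 = s0_v241 :=
  gap_rel s0_rot29 (path_edge (s0_f4478 IH) (path_edge (s0_f5183r IH) (path_edge (s0_f5523r IH) (path_nil s0_v241))))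
theorem s0_f5525 : ed sl_ft s0_v183 = s0_v241 :=
  gap_rel s0_rot16 (path_edge (s0_f5523r IH) (path_nil s0_v241))
theorem s0_f5535 : ed sl_at s0_v73 = s0_v243 :=
  rfl
theorem s0_f5535r : ed sl_af s0_v243 = s0_v73 :=
  edge_flip (s0_f5535 IH)
theorem s0_f5536 : ed sl_af s0_v73 = s0_v243 :=
  gap_rel s0_rot66 (path_edge (s0_f5535r IH) (path_nil s0_v243))
theorem s0_f92r : ed sl_af sq33 = sq27 :=
  edge_flip (s0_f92 IH)
theorem s0_f5537 : ed sl_bf s0_v118 = s0_v243 :=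
  gap_rel s0_rot93 (path_edge (s0_f4563 IH) (path_edge (s0_f3938 IH) (path_edge (s0_f3609 IH) (path_edge (s0_f72r IH) (path_edge (s0_f92r IH) (path_edge (s0_f73r IH) (path_edge (s0_f3651r IH) (path_edge (s0_f4353r IH) (path_edge (s0_f5535r IH) (path_nil s0_v243))))))))))
theorem s0_f4356r : ed sl_df s0_v73 = s0_v35 :=
  edge_flip (s0_f4356 IH)
theorem s0_f5538 : ed sl_df s0_v118 = s0_v243 :=
  gap_rel s0_rot51 (path_edge (s0_f4563 IH) (path_edge (s0_f4356r IH) (path_edge (s0_f5535r IH) (path_nil s0_v243))))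
theorem s0_f5538r : ed sl_dt s0_v243 = s0_v118 :=
  edge_flip (s0_f5538 IH)
theorem s0_f5539 : ed sl_dt s0_v118 = s0_v243 :=
  gap_rel s0_rot28 (path_edge (s0_f5538r IH) (path_nil s0_v243))
theorem s0_f5537r : ed sl_bt s0_v243 = s0_v118 :=
  edge_flip (s0_f5537 IH)
theorem s0_f5540 : ed sl_bt s0_v118 = s0_v243 :=
  gap_rel s0_rot68 (path_edge (s0_f5537r IH) (path_nil s0_v243))
theorem s0_f5541 : ed sl_ct s0_v73 = s0_v244 :=
  rfl
theorem s0_f5541r : ed sl_cf s0_v244 = s0_v73 :=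
  edge_flip (s0_f5541 IH)
theorem s0_f5542 : ed sl_cf s0_v73 = s0_v244 :=
  gap_rel s0_rot40 (path_edge (s0_f5541r IH) (path_nil s0_v244))
theorem s0_f5543 : ed sl_ft s0_v73 = s0_v245 :=
  rfl
theorem s0_f5543r : ed sl_ff s0_v245 = s0_v73 :=
  edge_flip (s0_f5543 IH)
theorem s0_f5545 : ed sl_ff s0_v73 = s0_v245 :=
  gap_rel s0_rot1 (path_edge (s0_f5543r IH) (path_nil s0_v245))
theorem s0_f5547 : ed sl_gt s0_v73 = s0_v246 :=
  rfl
theorem s0_f5547r : ed sl_gf s0_v246 = s0_v73 :=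
  edge_flip (s0_f5547 IH)
theorem s0_f5549 : ed sl_gf s0_v73 = s0_v246 :=
  gap_rel s0_rot76 (path_edge (s0_f5547r IH) (path_nil s0_v246))
theorem s0_f5549r : ed sl_gt s0_v246 = s0_v73 :=
  edge_flip (s0_f5549 IH)
theorem s0_f5550 : ed sl_dt s0_v121 = s0_v246 :=
  gap_rel s0_rot91 (path_edge (s0_f4568 IH) (path_edge (s0_f4355r IH) (path_edge (s0_f5549r IH) (path_nil s0_v246))))
theorem s0_f5551 : ed sl_bt s0_v74 = s0_v247 :=
  rfl
theorem s0_f5551r : ed sl_bf s0_v247 = s0_v74 :=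
  edge_flip (s0_f5551 IH)
theorem s0_f5552 : ed sl_bf s0_v74 = s0_v247 :=
  gap_rel s0_rot44 (path_edge (s0_f5551r IH) (path_nil s0_v247))
theorem s0_f4362r : ed sl_df s0_v74 = s0_v37 :=
  edge_flip (s0_f4362 IH)
theorem s0_f5553 : ed sl_df s0_v125 = s0_v247 :=
  gap_rel s0_rot8 (path_edge (s0_f4585 IH) (path_edge (s0_f4362r IH) (path_edge (s0_f5551r IH) (path_nil s0_v247))))
theorem s0_f5555 : ed sl_bt s0_v75 = s0_v248 :=
  rfl
theorem s0_f5555r : ed sl_bf s0_v248 = s0_v75 :=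
  edge_flip (s0_f5555 IH)
theorem s0_f4371r : ed sl_df s0_v75 = s0_v40 :=
  edge_flip (s0_f4371 IH)
theorem s0_f5557 : ed sl_df s0_v131 = s0_v248 :=
  gap_rel s0_rot8 (path_edge (s0_f4612 IH) (path_edge (s0_f4371r IH) (path_edge (s0_f5555r IH) (path_nil s0_v248))))
theorem s0_f3659r : ed sl_bf s0_v14 = s0_v8 :=
  edge_flip (s0_f3659 IH)
theorem s0_f5558 : ed sl_ff s0_v131 = s0_v248 :=
  gap_rel s0_rot70 (path_edge (s0_f4612 IH) (path_edge (s0_f3959 IH) (path_edge (s0_f3659r IH) (path_edge (s0_f4365r IH) (path_edge (s0_f5555r IH) (path_nil s0_v248))))))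
theorem s0_f5558r : ed sl_ft s0_v248 = s0_v131 :=
  edge_flip (s0_f5558 IH)
theorem s0_f5559 : ed sl_ft s0_v131 = s0_v248 :=
  gap_rel s0_rot16 (path_edge (s0_f5558r IH) (path_nil s0_v248))
theorem s0_f5557r : ed sl_dt s0_v248 = s0_v131 :=
  edge_flip (s0_f5557 IH)
theorem s0_f5560 : ed sl_dt s0_v131 = s0_v248 :=
  gap_rel s0_rot28 (path_edge (s0_f5557r IH) (path_nil s0_v248))
theorem s0_f5569 : ed sl_gt s0_v76 = s0_v251 :=
  rfl
theorem s0_f5569r : ed sl_gf s0_v251 = s0_v76 :=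
  edge_flip (s0_f5569 IH)
theorem s0_f5572 : ed sl_gf s0_v76 = s0_v251 :=
  gap_rel s0_rot76 (path_edge (s0_f5569r IH) (path_nil s0_v251))
theorem s0_f5572r : ed sl_gt s0_v251 = s0_v76 :=
  edge_flip (s0_f5572 IH)
theorem s0_f4375r : ed sl_et s0_v76 = s0_v30 :=
  edge_flip (s0_f4375 IH)
theorem s0_f5574 : ed sl_et s0_v109 = s0_v251 :=
  gap_rel s0_rot49 (path_edge (s0_f4525 IH) (path_edge (s0_f4375r IH) (path_edge (s0_f5572r IH) (path_nil s0_v251))))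
theorem s0_f5575 : ed sl_at s0_v77 = s0_v252 :=
  rfl
theorem s0_f5575r : ed sl_af s0_v252 = s0_v77 :=
  edge_flip (s0_f5575 IH)
theorem s0_f5576 : ed sl_af s0_v77 = s0_v252 :=
  gap_rel s0_rot66 (path_edge (s0_f5575r IH) (path_nil s0_v252))
theorem s0_f5577 : ed sl_cf s0_v252 = s0_v252 :=
  gap_rel s0_rot74 (path_edge (s0_f5576 IH) (path_edge (s0_f4379 IH) (path_edge (s0_f5575r IH) (path_nil s0_v252))))
theorem s0_f5578 : ed sl_ft s0_v77 = s0_v253 :=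
  rfl
theorem s0_f5578r : ed sl_ff s0_v253 = s0_v77 :=
  edge_flip (s0_f5578 IH)
theorem s0_f5580 : ed sl_ff s0_v77 = s0_v253 :=
  gap_rel s0_rot1 (path_edge (s0_f5578r IH) (path_nil s0_v253))
theorem s0_f5580r : ed sl_ft s0_v253 = s0_v77 :=
  edge_flip (s0_f5580 IH)
theorem s0_f4378r : ed sl_bt s0_v77 = s0_v16 :=
  edge_flip (s0_f4378 IH)
theorem s0_f3676r : ed sl_ft s0_v16 = s0_v4 :=
  edge_flip (s0_f3676 IH)
theorem s0_f5581 : ed sl_bt s0_v108 = s0_v253 :=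
  gap_rel s0_rot12 (path_edge (s0_f4523 IH) (path_edge (s0_f3926 IH) (path_edge (s0_f3676r IH) (path_edge (s0_f4378r IH) (path_edge (s0_f5580r IH) (path_nil s0_v253))))))
theorem s0_f5600 : ed sl_gt s0_v78 = s0_v258 :=
  rfl
theorem s0_f5600r : ed sl_gf s0_v258 = s0_v78 :=
  edge_flip (s0_f5600 IH)
theorem s0_f5603 : ed sl_gf s0_v78 = s0_v258 :=
  gap_rel s0_rot76 (path_edge (s0_f5600r IH) (path_nil s0_v258))
theorem s0_f5603r : ed sl_gt s0_v258 = s0_v78 :=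
  edge_flip (s0_f5603 IH)
theorem s0_f4381r : ed sl_bt s0_v78 = s0_v17 :=
  edge_flip (s0_f4381 IH)
theorem s0_f3760r : ed sl_gt s0_v17 = s0_v12 :=
  edge_flip (s0_f3760 IH)
theorem s0_f5604 : ed sl_bt s0_v201 = s0_v258 :=
  gap_rel s0_rot26 (path_edge (s0_f5324 IH) (path_edge (s0_f3992 IH) (path_edge (s0_f3760r IH) (path_edge (s0_f4381r IH) (path_edge (s0_f5603r IH) (path_nil s0_v258))))))
theorem s0_f5606 : ed sl_bt s0_v79 = s0_v259 :=
  rfl
theorem s0_f5606r : ed sl_bf s0_v259 = s0_v79 :=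
  edge_flip (s0_f5606 IH)
theorem s0_f5607 : ed sl_bf s0_v79 = s0_v259 :=
  gap_rel s0_rot44 (path_edge (s0_f5606r IH) (path_nil s0_v259))
theorem s0_f5622 : ed sl_ct s0_v81 = s0_v262 :=
  rfl
theorem s0_f5622r : ed sl_cf s0_v262 = s0_v81 :=
  edge_flip (s0_f5622 IH)
theorem s0_f5623 : ed sl_af s0_v82 = s0_v262 :=
  gap_rel s0_rot10 (path_edge (s0_f4397 IH) (path_edge (s0_f4390r IH) (path_edge (s0_f5622r IH) (path_nil s0_v262))))
theorem s0_f5624 : ed sl_cf s0_v81 = s0_v262 :=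
  gap_rel s0_rot40 (path_edge (s0_f5622r IH) (path_nil s0_v262))
theorem s0_f5624r : ed sl_ct s0_v262 = s0_v81 :=
  edge_flip (s0_f5624 IH)
theorem s0_f4391r : ed sl_at s0_v81 = s0_v19 :=
  edge_flip (s0_f4391 IH)
theorem s0_f5625 : ed sl_at s0_v82 = s0_v262 :=
  gap_rel s0_rot64 (path_edge (s0_f4396 IH) (path_edge (s0_f4391r IH) (path_edge (s0_f5624r IH) (path_nil s0_v262))))
theorem s0_f5625r : ed sl_af s0_v262 = s0_v82 :=
  edge_flip (s0_f5625 IH)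
theorem s0_f5626 : ed sl_bf s0_v107 = s0_v262 :=
  gap_rel s0_rot93 (path_edge (s0_f4522 IH) (path_edge (s0_f3927 IH) (path_edge (s0_f3556 IH) (path_edge (s0_f118r IH) (path_edge (s0_f3538r IH) (path_edge (s0_f2309r IH) (path_edge (s0_f4689r IH) (path_eq (s0_f4709 IH) (path_edge (s0_f4697 IH) (path_edge (s0_f5625r IH) (path_nil s0_v262)))))))))))
theorem s0_f5626r : ed sl_bt s0_v262 = s0_v107 :=
  edge_flip (s0_f5626 IH)
theorem s0_f5627 : ed sl_bt s0_v107 = s0_v262 :=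
  gap_rel s0_rot68 (path_edge (s0_f5626r IH) (path_nil s0_v262))
theorem s0_f5628 : ed sl_bt s0_v134 = s0_v110 :=
  gap_rel s0_rot41 (path_edge (s0_f4627 IH) (path_edge (s0_f5626r IH) (path_edge (s0_f5622 IH) (path_edge (s0_f4395 IH) (path_edge (s0_f4531r IH) (path_nil s0_v110))))))
theorem s0_f4532r : ed sl_af s0_v110 = s0_v32 :=
  edge_flip (s0_f4532 IH)
theorem s0_f3932r : ed sl_bf s0_v32 = s0_v32 :=
  edge_flip (s0_f3932 IH)
theorem s0_f5628r : ed sl_bf s0_v110 = s0_v134 :=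
  edge_flip (s0_f5628 IH)
theorem s0_f5629 : ed sl_bf s0_v134 = s0_v110 :=
  gap_rel s0_rot93 (path_edge (s0_f4625 IH) (path_edge (s0_f3976 IH) (path_edge (s0_f3638r IH) (path_edge (s0_f3975r IH) (path_edge (s0_f4624r IH) (path_edge (s0_f5628r IH) (path_edge (s0_f4530 IH) (path_edge (s0_f3932r IH) (path_edge (s0_f4532r IH) (path_nil s0_v110))))))))))
theorem s0_f5630 : ed sl_ft s0_v81 = s0_v263 :=
  rfl
theorem s0_f5630r : ed sl_ff s0_v263 = s0_v81 :=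
  edge_flip (s0_f5630 IH)
theorem s0_f5633 : ed sl_ff s0_v81 = s0_v263 :=
  gap_rel s0_rot1 (path_edge (s0_f5630r IH) (path_nil s0_v263))
theorem s0_f5633r : ed sl_ft s0_v263 = s0_v81 :=
  edge_flip (s0_f5633 IH)
theorem s0_f5634 : ed sl_at s0_v83 = s0_v263 :=
  gap_rel s0_rot90 (path_edge (s0_f4398 IH) (path_edge (s0_f4391r IH) (path_edge (s0_f5633r IH) (path_nil s0_v263))))
theorem s0_f5636 : ed sl_gt s0_v81 = s0_v264 :=
  rfl
theorem s0_f5636r : ed sl_gf s0_v264 = s0_v81 :=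
  edge_flip (s0_f5636 IH)
theorem s0_f5637 : ed sl_af s0_v84 = s0_v264 :=
  gap_rel s0_rot78 (path_edge (s0_f4404 IH) (path_edge (s0_f4390r IH) (path_edge (s0_f5636r IH) (path_nil s0_v264))))
theorem s0_f5639 : ed sl_gf s0_v81 = s0_v264 :=
  gap_rel s0_rot76 (path_edge (s0_f5636r IH) (path_nil s0_v264))
theorem s0_f5639r : ed sl_gt s0_v264 = s0_v81 :=
  edge_flip (s0_f5639 IH)
theorem s0_f5640 : ed sl_at s0_v84 = s0_v264 :=
  gap_rel s0_rot96 (path_edge (s0_f4402 IH) (path_edge (s0_f4391r IH) (path_edge (s0_f5639r IH) (path_nil s0_v264))))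
theorem s0_f5644 : ed sl_ft s0_v82 = s0_v266 :=
  rfl
theorem s0_f5644r : ed sl_ff s0_v266 = s0_v82 :=
  edge_flip (s0_f5644 IH)
theorem s0_f5646 : ed sl_ff s0_v82 = s0_v266 :=
  gap_rel s0_rot1 (path_edge (s0_f5644r IH) (path_nil s0_v266))
theorem s0_f5646r : ed sl_ft s0_v266 = s0_v82 :=
  edge_flip (s0_f5646 IH)
theorem s0_f4397r : ed sl_ct s0_v82 = s0_v19 :=
  edge_flip (s0_f4397 IH)
theorem s0_f5647 : ed sl_ct s0_v83 = s0_v266 :=
  gap_rel s0_rot42 (path_edge (s0_f4398 IH) (path_edge (s0_f4397r IH) (path_edge (s0_f5646r IH) (path_nil s0_v266))))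
theorem s0_f5648 : ed sl_gt s0_v82 = s0_v267 :=
  rfl
theorem s0_f5648r : ed sl_gf s0_v267 = s0_v82 :=
  edge_flip (s0_f5648 IH)
theorem s0_f5650 : ed sl_gf s0_v82 = s0_v267 :=
  gap_rel s0_rot76 (path_edge (s0_f5648r IH) (path_nil s0_v267))
theorem s0_f5652 : ed sl_gt s0_v83 = s0_v268 :=
  rfl
theorem s0_f5652r : ed sl_gf s0_v268 = s0_v83 :=
  edge_flip (s0_f5652 IH)
theorem s0_f5654 : ed sl_gf s0_v83 = s0_v268 :=
  gap_rel s0_rot76 (path_edge (s0_f5652r IH) (path_nil s0_v268))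
theorem s0_f5655 : ed sl_ff s0_v264 = s0_v268 :=
  gap_rel s0_rot92 (path_edge (s0_f5639 IH) (path_edge (s0_f5630r IH) (path_edge (s0_f5634 IH) (path_edge (s0_f5652r IH) (path_nil s0_v268)))))
theorem s0_f5655r : ed sl_ft s0_v268 = s0_v264 :=
  edge_flip (s0_f5655 IH)
theorem s0_f5657 : ed sl_ft s0_v264 = s0_v268 :=
  gap_rel s0_rot16 (path_edge (s0_f5655r IH) (path_nil s0_v268))
theorem s0_f5658 : ed sl_ft s0_v84 = s0_v269 :=
  rfl
theorem s0_f5658r : ed sl_ff s0_v269 = s0_v84 :=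
  edge_flip (s0_f5658 IH)
theorem s0_f5657r : ed sl_ff s0_v268 = s0_v264 :=
  edge_flip (s0_f5657 IH)
theorem s0_f5662 : ed sl_gf s0_v263 = s0_v269 :=
  gap_rel s0_rot19 (path_edge (s0_f5633 IH) (path_edge (s0_f5636r IH) (path_edge (s0_f5657r IH) (path_edge (s0_f5654 IH) (path_edge (s0_f4400 IH) (path_edge (s0_f4402r IH) (path_edge (s0_f5658r IH) (path_nil s0_v269))))))))
theorem s0_f5662r : ed sl_gt s0_v269 = s0_v263 :=
  edge_flip (s0_f5662 IH)
theorem s0_f5665 : ed sl_gt s0_v263 = s0_v269 :=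
  gap_rel s0_rot25 (path_edge (s0_f5662r IH) (path_nil s0_v269))
theorem s0_f5672 : ed sl_ft s0_v85 = s0_v271 :=
  rfl
theorem s0_f5672r : ed sl_ff s0_v271 = s0_v85 :=
  edge_flip (s0_f5672 IH)
theorem s0_f5675 : ed sl_ff s0_v85 = s0_v271 :=
  gap_rel s0_rot1 (path_edge (s0_f5672r IH) (path_nil s0_v271))
theorem s0_f5675r : ed sl_ft s0_v271 = s0_v85 :=
  edge_flip (s0_f5675 IH)
theorem s0_f4407r : ed sl_at s0_v85 = s0_v20 :=
  edge_flip (s0_f4407 IH)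
theorem s0_f5676 : ed sl_at s0_v87 = s0_v271 :=
  gap_rel s0_rot90 (path_edge (s0_f4415 IH) (path_edge (s0_f4407r IH) (path_edge (s0_f5675r IH) (path_nil s0_v271))))
theorem s0_f5677 : ed sl_et s0_v111 = s0_v271 :=
  gap_rel s0_rot37 (path_edge (s0_f4533 IH) (path_edge (s0_f4408r IH) (path_edge (s0_f5675r IH) (path_nil s0_v271))))
theorem s0_f5678 : ed sl_gt s0_v85 = s0_v272 :=
  rfl
theorem s0_f5678r : ed sl_gf s0_v272 = s0_v85 :=
  edge_flip (s0_f5678 IH)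
theorem s0_f5681 : ed sl_gf s0_v85 = s0_v272 :=
  gap_rel s0_rot76 (path_edge (s0_f5678r IH) (path_nil s0_v272))
theorem s0_f5681r : ed sl_gt s0_v272 = s0_v85 :=
  edge_flip (s0_f5681 IH)
theorem s0_f5683 : ed sl_et s0_v112 = s0_v272 :=
  gap_rel s0_rot49 (path_edge (s0_f4537 IH) (path_edge (s0_f4408r IH) (path_edge (s0_f5681r IH) (path_nil s0_v272))))
theorem s0_f5699 : ed sl_gt s0_v87 = s0_v276 :=
  rfl
theorem s0_f5699r : ed sl_gf s0_v276 = s0_v87 :=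
  edge_flip (s0_f5699 IH)
theorem s0_f5701 : ed sl_gf s0_v87 = s0_v276 :=
  gap_rel s0_rot76 (path_edge (s0_f5699r IH) (path_nil s0_v276))
theorem s0_f5702 : ed sl_ff s0_v272 = s0_v276 :=
  gap_rel s0_rot92 (path_edge (s0_f5681 IH) (path_edge (s0_f5672r IH) (path_edge (s0_f5676 IH) (path_edge (s0_f5699r IH) (path_nil s0_v276)))))
theorem s0_f5702r : ed sl_ft s0_v276 = s0_v272 :=
  edge_flip (s0_f5702 IH)
theorem s0_f5704 : ed sl_ft s0_v272 = s0_v276 :=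
  gap_rel s0_rot16 (path_edge (s0_f5702r IH) (path_nil s0_v276))
theorem s0_f5705 : ed sl_ft s0_v88 = s0_v277 :=
  rfl
theorem s0_f5705r : ed sl_ff s0_v277 = s0_v88 :=
  edge_flip (s0_f5705 IH)
theorem s0_f5704r : ed sl_ff s0_v276 = s0_v272 :=
  edge_flip (s0_f5704 IH)
theorem s0_f5709 : ed sl_gf s0_v271 = s0_v277 :=
  gap_rel s0_rot19 (path_edge (s0_f5675 IH) (path_edge (s0_f5678r IH) (path_edge (s0_f5704r IH) (path_edge (s0_f5701 IH) (path_edge (s0_f4417 IH) (path_edge (s0_f4419r IH) (path_edge (s0_f5705r IH) (path_nil s0_v277))))))))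
theorem s0_f5713 : ed sl_bt s0_v89 = s0_v278 :=
  rfl
theorem s0_f5713r : ed sl_bf s0_v278 = s0_v89 :=
  edge_flip (s0_f5713 IH)
theorem s0_f5714 : ed sl_bf s0_v89 = s0_v278 :=
  gap_rel s0_rot44 (path_edge (s0_f5713r IH) (path_nil s0_v278))
theorem s0_f5714r : ed sl_bt s0_v278 = s0_v89 :=
  edge_flip (s0_f5714 IH)
theorem s0_f4424r : ed sl_at s0_v89 = s0_v21 :=
  edge_flip (s0_f4424 IH)
theorem s0_f5715 : ed sl_at s0_v278 = s0_v278 :=
  gap_rel s0_rot82 (path_edge (s0_f5713 IH) (path_edge (s0_f4423 IH) (path_edge (s0_f3830 IH) (path_edge (s0_f3601 IH) (path_edge (s0_f3602 IH) (path_edge (s0_f3829 IH) (path_edge (s0_f3831r IH) (path_edge (s0_f4424r IH) (path_edge (s0_f5714r IH) (path_nil s0_v278))))))))))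
theorem s0_f5716 : ed sl_ct s0_v89 = s0_v279 :=
  rfl
theorem s0_f5716r : ed sl_cf s0_v279 = s0_v89 :=
  edge_flip (s0_f5716 IH)
theorem s0_f5717 : ed sl_af s0_v90 = s0_v279 :=
  gap_rel s0_rot10 (path_edge (s0_f4426 IH) (path_edge (s0_f4423r IH) (path_edge (s0_f5716r IH) (path_nil s0_v279))))
theorem s0_f5718 : ed sl_cf s0_v89 = s0_v279 :=
  gap_rel s0_rot40 (path_edge (s0_f5716r IH) (path_nil s0_v279))
theorem s0_f5720 : ed sl_ft s0_v89 = s0_v280 :=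
  rfl
theorem s0_f5720r : ed sl_ff s0_v280 = s0_v89 :=
  edge_flip (s0_f5720 IH)
theorem s0_f5722 : ed sl_ff s0_v89 = s0_v280 :=
  gap_rel s0_rot1 (path_edge (s0_f5720r IH) (path_nil s0_v280))
theorem s0_f5722r : ed sl_ft s0_v280 = s0_v89 :=
  edge_flip (s0_f5722 IH)
theorem s0_f5723 : ed sl_at s0_v91 = s0_v280 :=
  gap_rel s0_rot90 (path_edge (s0_f4428 IH) (path_edge (s0_f4424r IH) (path_edge (s0_f5722r IH) (path_nil s0_v280))))
theorem s0_f5724 : ed sl_gt s0_v89 = s0_v281 :=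
  rfl
theorem s0_f5724r : ed sl_gf s0_v281 = s0_v89 :=
  edge_flip (s0_f5724 IH)
theorem s0_f5725 : ed sl_af s0_v92 = s0_v281 :=
  gap_rel s0_rot78 (path_edge (s0_f4443 IH) (path_edge (s0_f4423r IH) (path_edge (s0_f5724r IH) (path_nil s0_v281))))
theorem s0_f5726 : ed sl_gf s0_v89 = s0_v281 :=
  gap_rel s0_rot76 (path_edge (s0_f5724r IH) (path_nil s0_v281))
theorem s0_f5726r : ed sl_gt s0_v281 = s0_v89 :=
  edge_flip (s0_f5726 IH)
theorem s0_f5727 : ed sl_at s0_v92 = s0_v281 :=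
  gap_rel s0_rot96 (path_edge (s0_f4441 IH) (path_edge (s0_f4424r IH) (path_edge (s0_f5726r IH) (path_nil s0_v281))))
theorem s0_f5728 : ed sl_dt s0_v90 = s0_v282 :=
  rfl
theorem s0_f5728r : ed sl_df s0_v282 = s0_v90 :=
  edge_flip (s0_f5728 IH)
theorem s0_f5729 : ed sl_df s0_v90 = s0_v282 :=
  gap_rel s0_rot54 (path_edge (s0_f5728r IH) (path_nil s0_v282))
theorem s0_f5729r : ed sl_dt s0_v282 = s0_v90 :=
  edge_flip (s0_f5729 IH)
theorem s0_f5730 : ed sl_bt s0_v282 = s0_v282 :=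
  gap_rel s0_rot69 (path_edge (s0_f5728 IH) (path_edge (s0_f4427 IH) (path_edge (s0_f5729r IH) (path_nil s0_v282))))
theorem s0_f5731 : ed sl_ft s0_v90 = s0_v283 :=
  rfl
theorem s0_f5731r : ed sl_ff s0_v283 = s0_v90 :=
  edge_flip (s0_f5731 IH)
theorem s0_f5733 : ed sl_ff s0_v90 = s0_v283 :=
  gap_rel s0_rot1 (path_edge (s0_f5731r IH) (path_nil s0_v283))
theorem s0_f5733r : ed sl_ft s0_v283 = s0_v90 :=
  edge_flip (s0_f5733 IH)
theorem s0_f5734 : ed sl_ct s0_v91 = s0_v283 :=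
  gap_rel s0_rot42 (path_edge (s0_f4428 IH) (path_edge (s0_f4426r IH) (path_edge (s0_f5733r IH) (path_nil s0_v283))))
theorem s0_f5735 : ed sl_gt s0_v90 = s0_v284 :=
  rfl
theorem s0_f5735r : ed sl_gf s0_v284 = s0_v90 :=
  edge_flip (s0_f5735 IH)
theorem s0_f5737 : ed sl_gf s0_v90 = s0_v284 :=
  gap_rel s0_rot76 (path_edge (s0_f5735r IH) (path_nil s0_v284))
theorem s0_f5737r : ed sl_gt s0_v284 = s0_v90 :=
  edge_flip (s0_f5737 IH)
theorem s0_f5738 : ed sl_ct s0_v92 = s0_v284 :=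
  gap_rel s0_rot39 (path_edge (s0_f4441 IH) (path_edge (s0_f4426r IH) (path_edge (s0_f5737r IH) (path_nil s0_v284))))
theorem s0_f5739 : ed sl_gt s0_v91 = s0_v285 :=
  rfl
theorem s0_f5739r : ed sl_gf s0_v285 = s0_v91 :=
  edge_flip (s0_f5739 IH)
theorem s0_f5740 : ed sl_gf s0_v91 = s0_v285 :=
  gap_rel s0_rot76 (path_edge (s0_f5739r IH) (path_nil s0_v285))
theorem s0_f5741 : ed sl_ff s0_v281 = s0_v285 :=
  gap_rel s0_rot92 (path_edge (s0_f5726 IH) (path_edge (s0_f5720r IH) (path_edge (s0_f5723 IH) (path_edge (s0_f5739r IH) (path_nil s0_v285)))))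
theorem s0_f5741r : ed sl_ft s0_v285 = s0_v281 :=
  edge_flip (s0_f5741 IH)
theorem s0_f5742 : ed sl_ft s0_v281 = s0_v285 :=
  gap_rel s0_rot16 (path_edge (s0_f5741r IH) (path_nil s0_v285))
theorem s0_f5743 : ed sl_ft s0_v92 = s0_v286 :=
  rfl
theorem s0_f5743r : ed sl_ff s0_v286 = s0_v92 :=
  edge_flip (s0_f5743 IH)
theorem s0_f5745 : ed sl_ff s0_v92 = s0_v286 :=
  gap_rel s0_rot1 (path_edge (s0_f5743r IH) (path_nil s0_v286))
theorem s0_f5742r : ed sl_ff s0_v285 = s0_v281 :=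
  edge_flip (s0_f5742 IH)
theorem s0_f5746 : ed sl_gf s0_v280 = s0_v286 :=
  gap_rel s0_rot19 (path_edge (s0_f5722 IH) (path_edge (s0_f5724r IH) (path_edge (s0_f5742r IH) (path_edge (s0_f5740 IH) (path_edge (s0_f4430 IH) (path_edge (s0_f4441r IH) (path_edge (s0_f5743r IH) (path_nil s0_v286))))))))
theorem s0_f5746r : ed sl_gt s0_v286 = s0_v280 :=
  edge_flip (s0_f5746 IH)
theorem s0_f5748 : ed sl_gt s0_v280 = s0_v286 :=
  gap_rel s0_rot25 (path_edge (s0_f5746r IH) (path_nil s0_v286))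
theorem s0_f5749 : ed sl_at s0_v93 = s0_v287 :=
  rfl
theorem s0_f5749r : ed sl_af s0_v287 = s0_v93 :=
  edge_flip (s0_f5749 IH)
theorem s0_f5750 : ed sl_af s0_v93 = s0_v287 :=
  gap_rel s0_rot66 (path_edge (s0_f5749r IH) (path_nil s0_v287))
theorem s0_f5751 : ed sl_ct s0_v93 = s0_v288 :=
  rfl
theorem s0_f5751r : ed sl_cf s0_v288 = s0_v93 :=
  edge_flip (s0_f5751 IH)
theorem s0_f5752 : ed sl_cf s0_v93 = s0_v288 :=
  gap_rel s0_rot40 (path_edge (s0_f5751r IH) (path_nil s0_v288))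
theorem s0_f5753 : ed sl_ft s0_v93 = s0_v289 :=
  rfl
theorem s0_f5753r : ed sl_ff s0_v289 = s0_v93 :=
  edge_flip (s0_f5753 IH)
theorem s0_f3869r : ed sl_ff s0_v22 = s0_v6 :=
  edge_flip (s0_f3869 IH)
theorem s0_f5754 : ed sl_bf s0_v120 = s0_v289 :=
  gap_rel s0_rot104 (path_edge (s0_f4567 IH) (path_edge (s0_f3938 IH) (path_edge (s0_f3869r IH) (path_edge (s0_f4445r IH) (path_edge (s0_f5753r IH) (path_nil s0_v289))))))
theorem s0_f5755 : ed sl_ff s0_v93 = s0_v289 :=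
  gap_rel s0_rot1 (path_edge (s0_f5753r IH) (path_nil s0_v289))
theorem s0_f5757 : ed sl_gt s0_v93 = s0_v290 :=
  rfl
theorem s0_f5757r : ed sl_gf s0_v290 = s0_v93 :=
  edge_flip (s0_f5757 IH)
theorem s0_f5758 : ed sl_gf s0_v93 = s0_v290 :=
  gap_rel s0_rot76 (path_edge (s0_f5757r IH) (path_nil s0_v290))
theorem s0_f5783 : ed sl_at s0_v97 = s0_v297 :=
  rfl
theorem s0_f5783r : ed sl_af s0_v297 = s0_v97 :=
  edge_flip (s0_f5783 IH)
theorem s0_f5784 : ed sl_af s0_v97 = s0_v297 :=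
  gap_rel s0_rot66 (path_edge (s0_f5783r IH) (path_nil s0_v297))
theorem s0_f4465r : ed sl_ef s0_v97 = s0_v35 :=
  edge_flip (s0_f4465 IH)
theorem s0_f5785 : ed sl_ef s0_v118 = s0_v297 :=
  gap_rel s0_rot102 (path_edge (s0_f4563 IH) (path_edge (s0_f4465r IH) (path_edge (s0_f5783r IH) (path_nil s0_v297))))
theorem s0_f5785r : ed sl_et s0_v297 = s0_v118 :=
  edge_flip (s0_f5785 IH)
theorem s0_f5786 : ed sl_et s0_v118 = s0_v297 :=
  gap_rel s0_rot31 (path_edge (s0_f5785r IH) (path_nil s0_v297))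
theorem s0_f5791 : ed sl_ft s0_v97 = s0_v299 :=
  rfl
theorem s0_f5791r : ed sl_ff s0_v299 = s0_v97 :=
  edge_flip (s0_f5791 IH)
theorem s0_f5793 : ed sl_ff s0_v97 = s0_v299 :=
  gap_rel s0_rot1 (path_edge (s0_f5791r IH) (path_nil s0_v299))
theorem s0_f5793r : ed sl_ft s0_v299 = s0_v97 :=
  edge_flip (s0_f5793 IH)
theorem s0_f5794 : ed sl_et s0_v120 = s0_v299 :=
  gap_rel s0_rot37 (path_edge (s0_f4566 IH) (path_edge (s0_f4464r IH) (path_edge (s0_f5793r IH) (path_nil s0_v299))))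
theorem s0_f5795 : ed sl_gt s0_v97 = s0_v300 :=
  rfl
theorem s0_f5795r : ed sl_gf s0_v300 = s0_v97 :=
  edge_flip (s0_f5795 IH)
theorem s0_f5797 : ed sl_gf s0_v97 = s0_v300 :=
  gap_rel s0_rot76 (path_edge (s0_f5795r IH) (path_nil s0_v300))
theorem s0_f5797r : ed sl_gt s0_v300 = s0_v97 :=
  edge_flip (s0_f5797 IH)
theorem s0_f5798 : ed sl_et s0_v121 = s0_v300 :=
  gap_rel s0_rot49 (path_edge (s0_f4568 IH) (path_edge (s0_f4464r IH) (path_edge (s0_f5797r IH) (path_nil s0_v300))))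
theorem s0_f5817 : ed sl_bt s0_v99 = s0_v304 :=
  rfl
theorem s0_f5817r : ed sl_bf s0_v304 = s0_v99 :=
  edge_flip (s0_f5817 IH)
theorem s0_f5818 : ed sl_bf s0_v99 = s0_v304 :=
  gap_rel s0_rot44 (path_edge (s0_f5817r IH) (path_nil s0_v304))
theorem s0_f4477r : ed sl_ef s0_v99 = s0_v37 :=
  edge_flip (s0_f4477 IH)
theorem s0_f5819 : ed sl_ef s0_v125 = s0_v304 :=
  gap_rel s0_rot46 (path_edge (s0_f4585 IH) (path_edge (s0_f4477r IH) (path_edge (s0_f5817r IH) (path_nil s0_v304))))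
theorem s0_f5902 : ed sl_gt s0_v107 = s0_v319 :=
  rfl
theorem s0_f5902r : ed sl_gf s0_v319 = s0_v107 :=
  edge_flip (s0_f5902 IH)
theorem s0_f5903 : ed sl_af s0_v109 = s0_v319 :=
  gap_rel s0_rot78 (path_edge (s0_f4527 IH) (path_edge (s0_f4521r IH) (path_edge (s0_f5902r IH) (path_nil s0_v319))))
theorem s0_f5904 : ed sl_gf s0_v107 = s0_v319 :=
  gap_rel s0_rot76 (path_edge (s0_f5902r IH) (path_nil s0_v319))
theorem s0_f5904r : ed sl_gt s0_v319 = s0_v107 :=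
  edge_flip (s0_f5904 IH)
theorem s0_f4522r : ed sl_at s0_v107 = s0_v30 :=
  edge_flip (s0_f4522 IH)
theorem s0_f5905 : ed sl_at s0_v109 = s0_v319 :=
  gap_rel s0_rot96 (path_edge (s0_f4525 IH) (path_edge (s0_f4522r IH) (path_edge (s0_f5904r IH) (path_nil s0_v319))))
theorem s0_f5920 : ed sl_ft s0_v110 = s0_v323 :=
  rfl
theorem s0_f5920r : ed sl_ff s0_v323 = s0_v110 :=
  edge_flip (s0_f5920 IH)
theorem s0_f5922 : ed sl_cf s0_v111 = s0_v323 :=
  gap_rel s0_rot65 (path_edge (s0_f4535 IH) (path_edge (s0_f4529r IH) (path_edge (s0_f5920r IH) (path_nil s0_v323))))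
theorem s0_f5923 : ed sl_ff s0_v110 = s0_v323 :=
  gap_rel s0_rot1 (path_edge (s0_f5920r IH) (path_nil s0_v323))
theorem s0_f5923r : ed sl_ft s0_v323 = s0_v110 :=
  edge_flip (s0_f5923 IH)
theorem s0_f4530r : ed sl_at s0_v110 = s0_v32 :=
  edge_flip (s0_f4530 IH)
theorem s0_f5924 : ed sl_at s0_v114 = s0_v323 :=
  gap_rel s0_rot90 (path_edge (s0_f4544 IH) (path_edge (s0_f4530r IH) (path_edge (s0_f5923r IH) (path_nil s0_v323))))
theorem s0_f5926 : ed sl_gt s0_v110 = s0_v324 :=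
  rfl
theorem s0_f5926r : ed sl_gf s0_v324 = s0_v110 :=
  edge_flip (s0_f5926 IH)
theorem s0_f5929 : ed sl_gf s0_v110 = s0_v324 :=
  gap_rel s0_rot76 (path_edge (s0_f5926r IH) (path_nil s0_v324))
theorem s0_f5932 : ed sl_bt s0_v111 = s0_v325 :=
  rfl
theorem s0_f5932r : ed sl_bf s0_v325 = s0_v111 :=
  edge_flip (s0_f5932 IH)
theorem s0_f5933 : ed sl_bf s0_v111 = s0_v325 :=
  gap_rel s0_rot44 (path_edge (s0_f5932r IH) (path_nil s0_v325))
theorem s0_f5934 : ed sl_bt s0_v112 = s0_v326 :=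
  rfl
theorem s0_f5934r : ed sl_bf s0_v326 = s0_v112 :=
  edge_flip (s0_f5934 IH)
theorem s0_f5935 : ed sl_bf s0_v112 = s0_v326 :=
  gap_rel s0_rot44 (path_edge (s0_f5934r IH) (path_nil s0_v326))
theorem s0_f5949 : ed sl_bt s0_v114 = s0_v331 :=
  rfl
theorem s0_f5949r : ed sl_bf s0_v331 = s0_v114 :=
  edge_flip (s0_f5949 IH)
theorem s0_f5950 : ed sl_bf s0_v114 = s0_v331 :=
  gap_rel s0_rot44 (path_edge (s0_f5949r IH) (path_nil s0_v331))
theorem s0_f5951 : ed sl_ff s0_v331 = s0_v331 :=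
  gap_rel s0_rot70 (path_edge (s0_f5950 IH) (path_edge (s0_f4546 IH) (path_edge (s0_f3932r IH) (path_edge (s0_f4544r IH) (path_edge (s0_f5949r IH) (path_nil s0_v331))))))
theorem s0_f5952 : ed sl_gt s0_v114 = s0_v332 :=
  rfl
theorem s0_f5952r : ed sl_gf s0_v332 = s0_v114 :=
  edge_flip (s0_f5952 IH)
theorem s0_f5954 : ed sl_gf s0_v114 = s0_v332 :=
  gap_rel s0_rot76 (path_edge (s0_f5952r IH) (path_nil s0_v332))
theorem s0_f5955 : ed sl_ff s0_v324 = s0_v332 :=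
  gap_rel s0_rot92 (path_edge (s0_f5929 IH) (path_edge (s0_f5920r IH) (path_edge (s0_f5924 IH) (path_edge (s0_f5952r IH) (path_nil s0_v332)))))
theorem s0_f5955r : ed sl_ft s0_v332 = s0_v324 :=
  edge_flip (s0_f5955 IH)
theorem s0_f5957 : ed sl_ft s0_v324 = s0_v332 :=
  gap_rel s0_rot16 (path_edge (s0_f5955r IH) (path_nil s0_v332))
theorem s0_f5958 : ed sl_bt s0_v115 = s0_v333 :=
  rfl
theorem s0_f5958r : ed sl_bf s0_v333 = s0_v115 :=
  edge_flip (s0_f5958 IH)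
theorem s0_f5959 : ed sl_bf s0_v115 = s0_v333 :=
  gap_rel s0_rot44 (path_edge (s0_f5958r IH) (path_nil s0_v333))
theorem s0_f5960 : ed sl_gf s0_v333 = s0_v333 :=
  gap_rel s0_rot24 (path_edge (s0_f5959 IH) (path_edge (s0_f4550 IH) (path_edge (s0_f3932r IH) (path_edge (s0_f4548r IH) (path_edge (s0_f5958r IH) (path_nil s0_v333))))))
theorem s0_f5961 : ed sl_ft s0_v115 = s0_v334 :=
  rfl
theorem s0_f5961r : ed sl_ff s0_v334 = s0_v115 :=
  edge_flip (s0_f5961 IH)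
theorem s0_f5957r : ed sl_ff s0_v332 = s0_v324 :=
  edge_flip (s0_f5957 IH)
theorem s0_f5965 : ed sl_gf s0_v323 = s0_v334 :=
  gap_rel s0_rot19 (path_edge (s0_f5923 IH) (path_edge (s0_f5926r IH) (path_edge (s0_f5957r IH) (path_edge (s0_f5954 IH) (path_edge (s0_f4546 IH) (path_edge (s0_f4548r IH) (path_edge (s0_f5961r IH) (path_nil s0_v334))))))))
theorem s0_f5965r : ed sl_gt s0_v334 = s0_v323 :=
  edge_flip (s0_f5965 IH)
theorem s0_f5922r : ed sl_ct s0_v323 = s0_v111 :=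
  edge_flip (s0_f5922 IH)
theorem s0_f5967 : ed sl_ct s0_v117 = s0_v334 :=
  gap_rel s0_rot39 (path_edge (s0_f4561 IH) (path_edge (s0_f5922r IH) (path_edge (s0_f5965r IH) (path_nil s0_v334))))
theorem s0_f5969 : ed sl_bt s0_v116 = s0_v335 :=
  rfl
theorem s0_f5969r : ed sl_bf s0_v335 = s0_v116 :=
  edge_flip (s0_f5969 IH)
theorem s0_f5970 : ed sl_bf s0_v116 = s0_v335 :=
  gap_rel s0_rot44 (path_edge (s0_f5969r IH) (path_nil s0_v335))
theorem s0_f5971 : ed sl_bt s0_v117 = s0_v336 :=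
  rfl
theorem s0_f5971r : ed sl_bf s0_v336 = s0_v117 :=
  edge_flip (s0_f5971 IH)
theorem s0_f5972 : ed sl_bf s0_v117 = s0_v336 :=
  gap_rel s0_rot44 (path_edge (s0_f5971r IH) (path_nil s0_v336))
theorem s0_f5973 : ed sl_ct s0_v118 = s0_v337 :=
  rfl
theorem s0_f5973r : ed sl_cf s0_v337 = s0_v118 :=
  edge_flip (s0_f5973 IH)
theorem s0_f5974 : ed sl_af s0_v119 = s0_v337 :=
  gap_rel s0_rot10 (path_edge (s0_f4565 IH) (path_edge (s0_f4562r IH) (path_edge (s0_f5973r IH) (path_nil s0_v337))))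
theorem s0_f5975 : ed sl_cf s0_v118 = s0_v337 :=
  gap_rel s0_rot40 (path_edge (s0_f5973r IH) (path_nil s0_v337))
theorem s0_f5977 : ed sl_ft s0_v118 = s0_v338 :=
  rfl
theorem s0_f5977r : ed sl_ff s0_v338 = s0_v118 :=
  edge_flip (s0_f5977 IH)
theorem s0_f5979 : ed sl_ff s0_v118 = s0_v338 :=
  gap_rel s0_rot1 (path_edge (s0_f5977r IH) (path_nil s0_v338))
theorem s0_f5979r : ed sl_ft s0_v338 = s0_v118 :=
  edge_flip (s0_f5979 IH)
theorem s0_f4563r : ed sl_at s0_v118 = s0_v35 :=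
  edge_flip (s0_f4563 IH)
theorem s0_f5980 : ed sl_at s0_v120 = s0_v338 :=
  gap_rel s0_rot90 (path_edge (s0_f4566 IH) (path_edge (s0_f4563r IH) (path_edge (s0_f5979r IH) (path_nil s0_v338))))
theorem s0_f5981 : ed sl_gt s0_v118 = s0_v339 :=
  rfl
theorem s0_f5981r : ed sl_gf s0_v339 = s0_v118 :=
  edge_flip (s0_f5981 IH)
theorem s0_f5982 : ed sl_af s0_v121 = s0_v339 :=
  gap_rel s0_rot78 (path_edge (s0_f4569 IH) (path_edge (s0_f4562r IH) (path_edge (s0_f5981r IH) (path_nil s0_v339))))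
theorem s0_f5983 : ed sl_gf s0_v118 = s0_v339 :=
  gap_rel s0_rot76 (path_edge (s0_f5981r IH) (path_nil s0_v339))
theorem s0_f5985 : ed sl_bt s0_v119 = s0_v340 :=
  rfl
theorem s0_f5985r : ed sl_bf s0_v340 = s0_v119 :=
  edge_flip (s0_f5985 IH)
theorem s0_f5986 : ed sl_bf s0_v119 = s0_v340 :=
  gap_rel s0_rot44 (path_edge (s0_f5985r IH) (path_nil s0_v340))
theorem s0_f5989 : ed sl_dt s0_v119 = s0_v341 :=
  rfl
theorem s0_f5989r : ed sl_df s0_v341 = s0_v119 :=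
  edge_flip (s0_f5989 IH)
theorem s0_f5990 : ed sl_df s0_v119 = s0_v341 :=
  gap_rel s0_rot54 (path_edge (s0_f5989r IH) (path_nil s0_v341))
theorem s0_f5991 : ed sl_ft s0_v119 = s0_v342 :=
  rfl
theorem s0_f5995 : ed sl_gt s0_v119 = s0_v343 :=
  rfl
theorem s0_f5995r : ed sl_gf s0_v343 = s0_v119 :=
  edge_flip (s0_f5995 IH)
theorem s0_f5996 : ed sl_cf s0_v121 = s0_v343 :=
  gap_rel s0_rot43 (path_edge (s0_f4569 IH) (path_edge (s0_f4564r IH) (path_edge (s0_f5995r IH) (path_nil s0_v343))))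
theorem s0_f5997 : ed sl_gf s0_v119 = s0_v343 :=
  gap_rel s0_rot76 (path_edge (s0_f5995r IH) (path_nil s0_v343))
theorem s0_f5999 : ed sl_gt s0_v120 = s0_v344 :=
  rfl
theorem s0_f5999r : ed sl_gf s0_v344 = s0_v120 :=
  edge_flip (s0_f5999 IH)
theorem s0_f6000 : ed sl_gf s0_v120 = s0_v344 :=
  gap_rel s0_rot76 (path_edge (s0_f5999r IH) (path_nil s0_v344))
theorem s0_f6001 : ed sl_ff s0_v339 = s0_v344 :=
  gap_rel s0_rot92 (path_edge (s0_f5983 IH) (path_edge (s0_f5977r IH) (path_edge (s0_f5980 IH) (path_edge (s0_f5999r IH) (path_nil s0_v344)))))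
theorem s0_f6001r : ed sl_ft s0_v344 = s0_v339 :=
  edge_flip (s0_f6001 IH)
theorem s0_f6002 : ed sl_ft s0_v339 = s0_v344 :=
  gap_rel s0_rot16 (path_edge (s0_f6001r IH) (path_nil s0_v344))
theorem s0_f6003 : ed sl_bt s0_v121 = s0_v345 :=
  rfl
theorem s0_f6003r : ed sl_bf s0_v345 = s0_v121 :=
  edge_flip (s0_f6003 IH)
theorem s0_f6004 : ed sl_bf s0_v121 = s0_v345 :=
  gap_rel s0_rot44 (path_edge (s0_f6003r IH) (path_nil s0_v345))
theorem s0_f6005 : ed sl_gf s0_v125 = s0_v345 :=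
  gap_rel s0_rot24 (path_edge (s0_f4585 IH) (path_edge (s0_f3945 IH) (path_edge (s0_f3937r IH) (path_edge (s0_f4568r IH) (path_edge (s0_f6003r IH) (path_nil s0_v345))))))
theorem s0_f6005r : ed sl_gt s0_v345 = s0_v125 :=
  edge_flip (s0_f6005 IH)
theorem s0_f6006 : ed sl_gt s0_v125 = s0_v345 :=
  gap_rel s0_rot25 (path_edge (s0_f6005r IH) (path_nil s0_v345))
theorem s0_f6007 : ed sl_ft s0_v121 = s0_v346 :=
  rfl
theorem s0_f6007r : ed sl_ff s0_v346 = s0_v121 :=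
  edge_flip (s0_f6007 IH)
theorem s0_f6008 : ed sl_af s0_v344 = s0_v346 :=
  gap_rel s0_rot0 (path_edge (s0_f6001 IH) (path_edge (s0_f5982 IH) (path_edge (s0_f6007r IH) (path_nil s0_v346))))
theorem s0_f6009 : ed sl_ff s0_v121 = s0_v346 :=
  gap_rel s0_rot1 (path_edge (s0_f6007r IH) (path_nil s0_v346))
theorem s0_f6002r : ed sl_ff s0_v344 = s0_v339 :=
  edge_flip (s0_f6002 IH)
theorem s0_f6010 : ed sl_gf s0_v338 = s0_v346 :=
  gap_rel s0_rot19 (path_edge (s0_f5979 IH) (path_edge (s0_f5981r IH) (path_edge (s0_f6002r IH) (path_edge (s0_f6000 IH) (path_edge (s0_f4567 IH) (path_edge (s0_f4568r IH) (path_edge (s0_f6007r IH) (path_nil s0_v346))))))))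
theorem s0_f6010r : ed sl_gt s0_v346 = s0_v338 :=
  edge_flip (s0_f6010 IH)
theorem s0_f6012 : ed sl_gt s0_v338 = s0_v346 :=
  gap_rel s0_rot25 (path_edge (s0_f6010r IH) (path_nil s0_v346))
theorem s0_f6024 : ed sl_ct s0_v123 = s0_v351 :=
  rfl
theorem s0_f6024r : ed sl_cf s0_v351 = s0_v123 :=
  edge_flip (s0_f6024 IH)
theorem s0_f6026 : ed sl_cf s0_v123 = s0_v351 :=
  gap_rel s0_rot40 (path_edge (s0_f6024r IH) (path_nil s0_v351))
theorem s0_f489r : ed sl_cf sq56 = sq87 :=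
  edge_flip (s0_f489 IH)
theorem s0_f6027 : ed sl_df s0_v199 = s0_v351 :=
  gap_rel s0_rot62 (path_edge (s0_f5319 IH) (path_edge (s0_f3986 IH) (path_edge (s0_f489r IH) (path_edge (s0_f74 IH) (path_edge (s0_f3610r IH) (path_edge (s0_f3940r IH) (path_edge (s0_f4572r IH) (path_edge (s0_f6024r IH) (path_nil s0_v351)))))))))
theorem s0_f6027r : ed sl_dt s0_v351 = s0_v199 :=
  edge_flip (s0_f6027 IH)
theorem s0_f6028 : ed sl_dt s0_v199 = s0_v351 :=
  gap_rel s0_rot28 (path_edge (s0_f6027r IH) (path_nil s0_v351))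
theorem s0_f6042 : ed sl_bt s0_v124 = s0_v354 :=
  rfl
theorem s0_f6042r : ed sl_bf s0_v354 = s0_v124 :=
  edge_flip (s0_f6042 IH)
theorem s0_f6043 : ed sl_bf s0_v124 = s0_v354 :=
  gap_rel s0_rot44 (path_edge (s0_f6042r IH) (path_nil s0_v354))
theorem s0_f6044 : ed sl_at s0_v125 = s0_v355 :=
  rfl

end

end

end Cfsg.Agent.Helper28.S1680
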