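import Cfsg.Agent.Lib.Helper28.S1680.Seeds4

set_option autoImplicit false
set_option maxRecDepth 100000
set_option linter.all false

namespace Cfsg.Agent.Helper28.S1680

open Cfsg.Agent.Helper28
open Cfsg.Spor.Suz (Gen)

noncomputable section

section
variable (IH : ∀ y q, lvl y q < 16 → EntryOK rels S fwd inv o plet idx y q)
include IH

theorem s0_f6044r : ed sl_af s0_v355 = s0_v125 :=
  edge_flip (s0_f6044 IH)
theorem s0_f6045 : ed sl_af s0_v125 = s0_v355 :=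
  gap_rel s0_rot66 (path_edge (s0_f6044r IH) (path_nil s0_v355))
theorem s0_f6046 : ed sl_ct s0_v125 = s0_v356 :=
  rfl
theorem s0_f6046r : ed sl_cf s0_v356 = s0_v125 :=
  edge_flip (s0_f6046 IH)
theorem s0_f6047 : ed sl_cf s0_v125 = s0_v356 :=
  gap_rel s0_rot40 (path_edge (s0_f6046r IH) (path_nil s0_v356))
theorem s0_f6048 : ed sl_ft s0_v125 = s0_v357 :=
  rfl
theorem s0_f6048r : ed sl_ff s0_v357 = s0_v125 :=
  edge_flip (s0_f6048 IH)
theorem s0_f3947r : ed sl_ff s0_v37 = s0_v24 :=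
  edge_flip (s0_f3947 IH)
theorem s0_f6049 : ed sl_bf s0_v238 = s0_v357 :=
  gap_rel s0_rot104 (path_edge (s0_f5509 IH) (path_edge (s0_f4308 IH) (path_edge (s0_f3947r IH) (path_edge (s0_f4584r IH) (path_edge (s0_f6048r IH) (path_nil s0_v357))))))
theorem s0_f6052 : ed sl_dt s0_v126 = s0_v358 :=
  rfl
theorem s0_f6052r : ed sl_df s0_v358 = s0_v126 :=
  edge_flip (s0_f6052 IH)
theorem s0_f6054 : ed sl_cf s0_v197 = s0_v358 :=
  gap_rel s0_rot109 (path_edge (s0_f5308 IH) (path_edge (s0_f3981 IH) (path_edge (s0_f3653 IH) (path_edge (s0_f3939r IH) (path_edge (s0_f4572r IH) (path_edge (s0_f6024r IH) (path_edge (s0_f6027 IH) (path_edge (s0_f5319 IH) (path_edge (s0_f3986 IH) (path_edge (s0_f489r IH) (path_edge (s0_f74 IH) (path_edge (s0_f3610r IH) (path_edge (s0_f3949r IH) (path_edge (s0_f4586r IH) (path_edge (s0_f6052r IH) (path_nil s0_v358))))))))))))))))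
theorem s0_f6055 : ed sl_df s0_v126 = s0_v358 :=
  gap_rel s0_rot54 (path_edge (s0_f6052r IH) (path_nil s0_v358))
theorem s0_f6055r : ed sl_dt s0_v358 = s0_v126 :=
  edge_flip (s0_f6055 IH)
theorem s0_f6057 : ed sl_bt s0_v358 = s0_v358 :=
  gap_rel s0_rot69 (path_edge (s0_f6052 IH) (path_edge (s0_f4588 IH) (path_edge (s0_f6055r IH) (path_nil s0_v358))))
theorem s0_f6026r : ed sl_ct s0_v351 = s0_v123 :=
  edge_flip (s0_f6026 IH)
theorem s0_f4574r : ed sl_dt s0_v123 = s0_v36 :=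
  edge_flip (s0_f4574 IH)
theorem s0_f3941r : ed sl_ct s0_v36 = s0_v6 :=
  edge_flip (s0_f3941 IH)
theorem s0_f6058 : ed sl_ct s0_v197 = s0_v358 :=
  gap_rel s0_rot110 (path_edge (s0_f5306 IH) (path_edge (s0_f3983 IH) (path_edge (s0_f3654 IH) (path_edge (s0_f3941r IH) (path_edge (s0_f4574r IH) (path_edge (s0_f6026r IH) (path_edge (s0_f6028 IH) (path_edge (s0_f5318 IH) (path_edge (s0_f3984 IH) (path_edge (s0_f480 IH) (path_edge (s0_f476 IH) (path_edge (s0_f3612r IH) (path_edge (s0_f3951r IH) (path_edge (s0_f4587r IH) (path_edge (s0_f6055r IH) (path_nil s0_v358))))))))))))))))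
theorem s0_f6098 : ed sl_at s0_v131 = s0_v367 :=
  rfl
theorem s0_f6098r : ed sl_af s0_v367 = s0_v131 :=
  edge_flip (s0_f6098 IH)
theorem s0_f6099 : ed sl_af s0_v131 = s0_v367 :=
  gap_rel s0_rot66 (path_edge (s0_f6098r IH) (path_nil s0_v367))
theorem s0_f6102 : ed sl_gt s0_v131 = s0_v369 :=
  rfl
theorem s0_f6102r : ed sl_gf s0_v369 = s0_v131 :=
  edge_flip (s0_f6102 IH)
theorem s0_f3962r : ed sl_gf s0_v40 = s0_v22 :=
  edge_flip (s0_f3962 IH)
theorem s0_f6103 : ed sl_bf s0_v290 = s0_v369 :=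
  gap_rel s0_rot75 (path_edge (s0_f5758 IH) (path_edge (s0_f4446 IH) (path_edge (s0_f3962r IH) (path_edge (s0_f4611r IH) (path_edge (s0_f6102r IH) (path_nil s0_v369))))))
theorem s0_f6104 : ed sl_gf s0_v131 = s0_v369 :=
  gap_rel s0_rot76 (path_edge (s0_f6102r IH) (path_nil s0_v369))
theorem s0_f6140 : ed sl_at sq208 = s0_v376 :=
  rfl
theorem s0_f6140r : ed sl_af s0_v376 = sq208 :=
  edge_flip (s0_f6140 IH)
theorem s0_f6141 : ed sl_af sq208 = s0_v376 :=
  gap_rel s0_rot66 (path_edge (s0_f6140r IH) (path_nil s0_v376))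
theorem s0_f269r : ed sl_df sq208 = sq134 :=
  edge_flip (s0_f269 IH)
theorem s0_f6142 : ed sl_df s0_v136 = s0_v376 :=
  gap_rel s0_rot51 (path_edge (s0_f4634 IH) (path_edge (s0_f269r IH) (path_edge (s0_f6140r IH) (path_nil s0_v376))))
theorem s0_f6142r : ed sl_dt s0_v376 = s0_v136 :=
  edge_flip (s0_f6142 IH)
theorem s0_f6143 : ed sl_dt s0_v136 = s0_v376 :=
  gap_rel s0_rot28 (path_edge (s0_f6142r IH) (path_nil s0_v376))
theorem s0_f6144 : ed sl_ft sq208 = sq329 :=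
  real_edge rels S fwd inv o lvl plet idx 16 IH Gen.f sp208 sp329 rfl rfl
theorem s0_f6146 : ed sl_ft sq1027 = sq1372 :=
  real_edge rels S fwd inv o lvl plet idx 16 IH Gen.f sp1027 sp1372 rfl rfl
theorem s0_f6154 : ed sl_gt sq208 = s0_v378 :=
  rfl
theorem s0_f6154r : ed sl_gf s0_v378 = sq208 :=
  edge_flip (s0_f6154 IH)
theorem s0_f6156 : ed sl_gf sq208 = s0_v378 :=
  gap_rel s0_rot76 (path_edge (s0_f6154r IH) (path_nil s0_v378))
theorem s0_f6156r : ed sl_gt s0_v378 = sq208 :=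
  edge_flip (s0_f6156 IH)
theorem s0_f6157 : ed sl_dt s0_v137 = s0_v378 :=
  gap_rel s0_rot91 (path_edge (s0_f4639 IH) (path_edge (s0_f491 IH) (path_edge (s0_f6156r IH) (path_nil s0_v378))))
theorem s0_f6158 : ed sl_at sq209 = s0_v379 :=
  rfl
theorem s0_f6158r : ed sl_af s0_v379 = sq209 :=
  edge_flip (s0_f6158 IH)
theorem s0_f2357r : ed sl_ff sq209 = sq134 :=
  edge_flip (s0_f2357 IH)
theorem s0_f6162 : ed sl_ff s0_v136 = s0_v379 :=
  gap_rel s0_rot11 (path_edge (s0_f4634 IH) (path_edge (s0_f2357r IH) (path_edge (s0_f6158r IH) (path_nil s0_v379))))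
theorem s0_f6162r : ed sl_ft s0_v379 = s0_v136 :=
  edge_flip (s0_f6162 IH)
theorem s0_f6165 : ed sl_ft s0_v136 = s0_v379 :=
  gap_rel s0_rot16 (path_edge (s0_f6162r IH) (path_nil s0_v379))
theorem s0_f6166 : ed sl_gt sq209 = s0_v380 :=
  rfl
theorem s0_f6166r : ed sl_gf s0_v380 = sq209 :=
  edge_flip (s0_f6166 IH)
theorem s0_f2281r : ed sl_ef sq209 = sq135 :=
  edge_flip (s0_f2281 IH)
theorem s0_f6168 : ed sl_ef s0_v140 = s0_v380 :=
  gap_rel s0_rot36 (path_edge (s0_f4657 IH) (path_edge (s0_f2281r IH) (path_edge (s0_f6166r IH) (path_nil s0_v380))))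
theorem s0_f6169 : ed sl_gf sq209 = s0_v380 :=
  gap_rel s0_rot76 (path_edge (s0_f6166r IH) (path_nil s0_v380))
theorem s0_f6180 : ed sl_dt sq210 = s0_v382 :=
  rfl
theorem s0_f6180r : ed sl_df s0_v382 = sq210 :=
  edge_flip (s0_f6180 IH)
theorem s0_f1760r : ed sl_ff sq210 = sq138 :=
  edge_flip (s0_f1760 IH)
theorem s0_f6183 : ed sl_ff s0_v142 = s0_v382 :=
  gap_rel s0_rot100 (path_edge (s0_f4667 IH) (path_edge (s0_f1760r IH) (path_edge (s0_f6180r IH) (path_nil s0_v382))))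
theorem s0_f6183r : ed sl_ft s0_v382 = s0_v142 :=
  edge_flip (s0_f6183 IH)
theorem s0_f6185 : ed sl_ft s0_v142 = s0_v382 :=
  gap_rel s0_rot16 (path_edge (s0_f6183r IH) (path_nil s0_v382))
theorem s0_f6186 : ed sl_gt sq210 = s0_v383 :=
  rfl
theorem s0_f6186r : ed sl_gf s0_v383 = sq210 :=
  edge_flip (s0_f6186 IH)
theorem s0_f1752r : ed sl_cf sq210 = sq153 :=
  edge_flip (s0_f1752 IH)
theorem s0_f6187 : ed sl_cf s0_v154 = s0_v383 :=
  gap_rel s0_rot43 (path_edge (s0_f4831 IH) (path_edge (s0_f1752r IH) (path_edge (s0_f6186r IH) (path_nil s0_v383))))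
theorem s0_f6190 : ed sl_et sq211 = s0_v384 :=
  rfl
theorem s0_f6190r : ed sl_ef s0_v384 = sq211 :=
  edge_flip (s0_f6190 IH)
theorem s0_f6191 : ed sl_af sq367 = s0_v384 :=
  gap_rel s0_rot67 (path_edge (s0_f2802 IH) (path_edge (s0_f3067r IH) (path_edge (s0_f6190r IH) (path_nil s0_v384))))
theorem s0_f6192 : ed sl_cf s0_v141 = s0_v384 :=
  gap_rel s0_rot38 (path_edge (s0_f4662 IH) (path_edge (s0_f144r IH) (path_edge (s0_f6190r IH) (path_nil s0_v384))))
theorem s0_f6193 : ed sl_ef sq211 = s0_v384 :=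
  gap_rel s0_rot34 (path_edge (s0_f6190r IH) (path_nil s0_v384))
theorem s0_f6193r : ed sl_et s0_v384 = sq211 :=
  edge_flip (s0_f6193 IH)
theorem s0_f6195 : ed sl_ct s0_v141 = s0_v384 :=
  gap_rel s0_rot60 (path_edge (s0_f4659 IH) (path_edge (s0_f1452 IH) (path_edge (s0_f6193r IH) (path_nil s0_v384))))
theorem s0_f6196 : ed sl_et sq212 = s0_v385 :=
  rfl
theorem s0_f6196r : ed sl_ef s0_v385 = sq212 :=
  edge_flip (s0_f6196 IH)
theorem s0_f3022r : ed sl_gf sq212 = sq161 :=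
  edge_flip (s0_f3022 IH)
theorem s0_f3514r : ed sl_ef sq161 = sq244 :=
  edge_flip (s0_f3514 IH)
theorem s0_f6200 : ed sl_gf sq244 = s0_v385 :=
  gap_rel s0_rot18 (path_edge (s0_f3514r IH) (path_edge (s0_f3022r IH) (path_edge (s0_f6196r IH) (path_nil s0_v385))))
theorem s0_f6200r : ed sl_gt s0_v385 = sq244 :=
  edge_flip (s0_f6200 IH)
theorem s0_f6203 : ed sl_ft s0_v141 = s0_v385 :=
  gap_rel s0_rot73 (path_edge (s0_f4896r IH) (path_edge (s0_f4893 IH) (path_edge (s0_f2789 IH) (path_edge (s0_f6200r IH) (path_nil s0_v385)))))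
theorem s0_f6204 : ed sl_ft sq355 = sq525 :=
  real_edge rels S fwd inv o lvl plet idx 16 IH Gen.f sp355 sp525 rfl rfl
theorem s0_f6205 : ed sl_ft sq523 = sq371 :=
  real_edge rels S fwd inv o lvl plet idx 16 IH Gen.f sp523 sp371 rfl rfl
theorem s0_f6246 : ed sl_at sq217 = s0_v393 :=
  rfl
theorem s0_f6246r : ed sl_af s0_v393 = sq217 :=
  edge_flip (s0_f6246 IH)
theorem s0_f6247 : ed sl_af sq217 = s0_v393 :=
  gap_rel s0_rot66 (path_edge (s0_f6246r IH) (path_nil s0_v393))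
theorem s0_f6250 : ed sl_ff s0_v143 = s0_v393 :=
  gap_rel s0_rot11 (path_edge (s0_f4670 IH) (path_edge (s0_f509r IH) (path_edge (s0_f6246r IH) (path_nil s0_v393))))
theorem s0_f6250r : ed sl_ft s0_v393 = s0_v143 :=
  edge_flip (s0_f6250 IH)
theorem s0_f6253 : ed sl_ft s0_v143 = s0_v393 :=
  gap_rel s0_rot16 (path_edge (s0_f6250r IH) (path_nil s0_v393))
theorem s0_f6254 : ed sl_at sq219 = s0_v394 :=
  rfl
theorem s0_f6254r : ed sl_af s0_v394 = sq219 :=
  edge_flip (s0_f6254 IH)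
theorem s0_f6255 : ed sl_af sq219 = s0_v394 :=
  gap_rel s0_rot66 (path_edge (s0_f6254r IH) (path_nil s0_v394))
theorem s0_f411r : ed sl_gf sq219 = sq179 :=
  edge_flip (s0_f411 IH)
theorem s0_f2288r : ed sl_af sq179 = sq276 :=
  edge_flip (s0_f2288 IH)
theorem s0_f6257 : ed sl_gf sq276 = s0_v394 :=
  gap_rel s0_rot47 (path_edge (s0_f2288r IH) (path_edge (s0_f411r IH) (path_edge (s0_f6254r IH) (path_nil s0_v394))))
theorem s0_f6259 : ed sl_et sq276 = sq411 :=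
  real_edge rels S fwd inv o lvl plet idx 16 IH Gen.e sp276 sp411 rfl rfl
theorem s0_f6261 : ed sl_et sq411 = sq276 :=
  real_edge rels S fwd inv o lvl plet idx 16 IH Gen.e sp411 sp276 rfl rfl
theorem s0_f6262 : ed sl_ct sq219 = s0_v395 :=
  rfl
theorem s0_f6262r : ed sl_cf s0_v395 = sq219 :=
  edge_flip (s0_f6262 IH)
theorem s0_f2292r : ed sl_cf sq179 = sq277 :=
  edge_flip (s0_f2292 IH)
theorem s0_f6264 : ed sl_gf sq277 = s0_v395 :=
  gap_rel s0_rot5 (path_edge (s0_f2292r IH) (path_edge (s0_f411r IH) (path_edge (s0_f6262r IH) (path_nil s0_v395))))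
theorem s0_f6265 : ed sl_et sq277 = sq412 :=
  real_edge rels S fwd inv o lvl plet idx 16 IH Gen.e sp277 sp412 rfl rfl
theorem s0_f6264r : ed sl_gt s0_v395 = sq277 :=
  edge_flip (s0_f6264 IH)
theorem s0_f6266 : ed sl_gt sq277 = s0_v395 :=
  gap_rel s0_rot25 (path_edge (s0_f6264r IH) (path_nil s0_v395))
theorem s0_f6268 : ed sl_ft sq219 = s0_v396 :=
  rfl
theorem s0_f6268r : ed sl_ff s0_v396 = sq219 :=
  edge_flip (s0_f6268 IH)
theorem s0_f6270 : ed sl_ff sq219 = s0_v396 :=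
  gap_rel s0_rot1 (path_edge (s0_f6268r IH) (path_nil s0_v396))
theorem s0_f6272 : ed sl_at sq221 = s0_v397 :=
  rfl
theorem s0_f6272r : ed sl_af s0_v397 = sq221 :=
  edge_flip (s0_f6272 IH)
theorem s0_f3786r : ed sl_ef sq221 = sq143 :=
  edge_flip (s0_f3786 IH)
theorem s0_f6274 : ed sl_ef s0_v146 = s0_v397 :=
  gap_rel s0_rot102 (path_edge (s0_f4690 IH) (path_edge (s0_f3786r IH) (path_edge (s0_f6272r IH) (path_nil s0_v397))))
theorem s0_f6274r : ed sl_et s0_v397 = s0_v146 :=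
  edge_flip (s0_f6274 IH)
theorem s0_f4697r : ed sl_bt s0_v147 = s0_v82 :=
  edge_flip (s0_f4697 IH)
theorem s0_f6278 : ed sl_bt s0_v218 = s0_v397 :=
  gap_rel s0_rot108 (path_edge (s0_f5412 IH) (path_edge (s0_f4697r IH) (path_eq (s0_f4709 IH).symm (path_edge (s0_f6274r IH) (path_nil s0_v397)))))
theorem s0_f6279 : ed sl_ct sq221 = s0_v397 :=
  gap_rel s0_rot60 (path_edge (s0_f3786 IH) (path_edge (s0_f4698r IH) (path_eq (s0_f4709 IH).symm (path_edge (s0_f6274r IH) (path_nil s0_v397)))))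
theorem s0_f6283 : ed sl_ft sq221 = sq345 :=
  real_edge rels S fwd inv o lvl plet idx 16 IH Gen.f sp221 sp345 rfl rfl
theorem s0_f6284 : ed sl_bt sq510 = sq746 :=
  real_edge rels S fwd inv o lvl plet idx 16 IH Gen.b sp510 sp746 rfl rfl
theorem s0_f6288 : ed sl_ct sq510 = sq344 :=
  real_edge rels S fwd inv o lvl plet idx 16 IH Gen.c sp510 sp344 rfl rfl
theorem s0_f6289 : ed sl_dt sq747 = sq510 :=
  real_edge rels S fwd inv o lvl plet idx 16 IH Gen.d sp747 sp510 rfl rfl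
theorem s0_f6290 : ed sl_bt sq1081 = sq747 :=
  real_edge rels S fwd inv o lvl plet idx 16 IH Gen.b sp1081 sp747 rfl rfl
theorem s0_f3789r : ed sl_df sq747 = sq510 :=
  edge_flip (s0_f3789 IH)
theorem s0_f3788r : ed sl_cf sq510 = sq344 :=
  edge_flip (s0_f3788 IH)
theorem s0_f3787r : ed sl_df sq344 = sq221 :=
  edge_flip (s0_f3787 IH)
theorem s0_f6279r : ed sl_cf s0_v397 = sq221 :=
  edge_flip (s0_f6279 IH)
theorem s0_f3595r : ed sl_df sq221 = sq344 :=
  edge_flip (s0_f3595 IH)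
theorem s0_f6288r : ed sl_cf sq344 = sq510 :=
  edge_flip (s0_f6288 IH)
theorem s0_f6289r : ed sl_df sq510 = sq747 :=
  edge_flip (s0_f6289 IH)
theorem s0_f6291 : ed sl_cf sq747 = sq747 :=
  gap_rel s0_rot111 (path_edge (s0_f6289r IH) (path_edge (s0_f6288r IH) (path_edge (s0_f3595r IH) (path_edge (s0_f6279r IH) (path_edge (s0_f6272 IH) (path_edge (s0_f3787r IH) (path_edge (s0_f3788r IH) (path_edge (s0_f3789r IH) (path_nil sq747)))))))))
theorem s0_f6299 : ed sl_bt sq747 = sq1081 :=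
  real_edge rels S fwd inv o lvl plet idx 16 IH Gen.b sp747 sp1081 rfl rfl
theorem s0_f6291r : ed sl_ct sq747 = sq747 :=
  edge_flip (s0_f6291 IH)
theorem s0_f6300 : ed sl_bt sq1431 = sq1431 :=
  gap_rel s0_rot41 (path_edge (s0_f132 IH) (path_edge (s0_f6299 IH) (path_edge (s0_f6291r IH) (path_edge (s0_f6290 IH) (path_edge (s0_f2733 IH) (path_nil sq1431))))))
theorem s0_f6307 : ed sl_gt sq1084 = sq747 :=
  real_edge rels S fwd inv o lvl plet idx 16 IH Gen.g sp1084 sp747 rfl rfl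
theorem s0_f6310 : ed sl_bt sq746 = sq510 :=
  real_edge rels S fwd inv o lvl plet idx 16 IH Gen.b sp746 sp510 rfl rfl
theorem s0_f6312 : ed sl_dt sq280 = sq203 :=
  real_edge rels S fwd inv o lvl plet idx 16 IH Gen.d sp280 sp203 rfl rfl
theorem s0_f6313 : ed sl_bt sq864 = sq587 :=
  real_edge rels S fwd inv o lvl plet idx 16 IH Gen.b sp864 sp587 rfl rfl
theorem s0_f6316 : ed sl_dt sq441 = sq295 :=
  real_edge rels S fwd inv o lvl plet idx 16 IH Gen.d sp441 sp295 rfl rfl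
theorem s0_f6317 : ed sl_ct sq295 = sq203 :=
  real_edge rels S fwd inv o lvl plet idx 16 IH Gen.c sp295 sp203 rfl rfl
theorem s0_f6318 : ed sl_et sq319 = sq417 :=
  real_edge rels S fwd inv o lvl plet idx 16 IH Gen.e sp319 sp417 rfl rfl
theorem s0_f6321 : ed sl_bt sq319 = sq203 :=
  real_edge rels S fwd inv o lvl plet idx 16 IH Gen.b sp319 sp203 rfl rfl
theorem s0_f6322 : ed sl_ct sq475 = sq319 :=
  real_edge rels S fwd inv o lvl plet idx 16 IH Gen.c sp475 sp319 rfl rfl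
theorem s0_f6323 : ed sl_dt sq319 = sq417 :=
  real_edge rels S fwd inv o lvl plet idx 16 IH Gen.d sp319 sp417 rfl rfl
theorem s0_f6324 : ed sl_ct sq417 = sq616 :=
  real_edge rels S fwd inv o lvl plet idx 16 IH Gen.c sp417 sp616 rfl rfl
theorem s0_f6327 : ed sl_et sq1301 = sq949 :=
  real_edge rels S fwd inv o lvl plet idx 16 IH Gen.e sp1301 sp949 rfl rfl
theorem s0_f6328 : ed sl_bt sq950 = sq1301 :=
  real_edge rels S fwd inv o lvl plet idx 16 IH Gen.b sp950 sp1301 rfl rfl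
theorem s0_f6329 : ed sl_ct sq651 = sq950 :=
  real_edge rels S fwd inv o lvl plet idx 16 IH Gen.c sp651 sp950 rfl rfl
theorem s0_f6330 : ed sl_dt sq862 = sq651 :=
  real_edge rels S fwd inv o lvl plet idx 16 IH Gen.d sp862 sp651 rfl rfl
theorem s0_f6334 : ed sl_dt sq1084 = sq749 :=
  real_edge rels S fwd inv o lvl plet idx 16 IH Gen.d sp1084 sp749 rfl rfl
theorem s0_f6352 : ed sl_ct sq748 = sq511 :=
  real_edge rels S fwd inv o lvl plet idx 16 IH Gen.c sp748 sp511 rfl rfl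
theorem s0_f6356 : ed sl_bt sq1085 = sq748 :=
  real_edge rels S fwd inv o lvl plet idx 16 IH Gen.b sp1085 sp748 rfl rfl
theorem s0_f6376 : ed sl_ct sq402 = sq596 :=
  real_edge rels S fwd inv o lvl plet idx 16 IH Gen.c sp402 sp596 rfl rfl
theorem s0_f6377 : ed sl_dt sq299 = sq402 :=
  real_edge rels S fwd inv o lvl plet idx 16 IH Gen.d sp299 sp402 rfl rfl
theorem s0_f6399 : ed sl_at sq222 = s0_v398 :=
  rfl
theorem s0_f6399r : ed sl_af s0_v398 = sq222 :=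
  edge_flip (s0_f6399 IH)
theorem s0_f4695r : ed sl_ff sq222 = sq143 :=
  edge_flip (s0_f4695 IH)
theorem s0_f6402 : ed sl_ff s0_v146 = s0_v398 :=
  gap_rel s0_rot11 (path_edge (s0_f4690 IH) (path_edge (s0_f4695r IH) (path_edge (s0_f6399r IH) (path_nil s0_v398))))
theorem s0_f6402r : ed sl_ft s0_v398 = s0_v146 :=
  edge_flip (s0_f6402 IH)
theorem s0_f6404 : ed sl_ft s0_v146 = s0_v398 :=
  gap_rel s0_rot16 (path_edge (s0_f6402r IH) (path_nil s0_v398))
theorem s0_f6404r : ed sl_ff s0_v398 = s0_v146 :=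
  edge_flip (s0_f6404 IH)
theorem s0_f4692r : ed sl_ff sq143 = sq222 :=
  edge_flip (s0_f4692 IH)
theorem s0_f6405 : ed sl_cf sq222 = s0_v398 :=
  gap_rel s0_rot65 (path_edge (s0_f4692r IH) (path_edge (s0_f4696r IH) (path_eq (s0_f4709 IH).symm (path_edge (s0_f6404r IH) (path_nil s0_v398)))))
theorem s0_f6406 : ed sl_bt sq222 = s0_v399 :=
  rfl
theorem s0_f6406r : ed sl_bf s0_v399 = sq222 :=
  edge_flip (s0_f6406 IH)
theorem s0_f1765r : ed sl_ff sq95 = sq145 :=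
  edge_flip (s0_f1765 IH)
theorem s0_f760r : ed sl_bf sq145 = sq227 :=
  edge_flip (s0_f760 IH)
theorem s0_f6408 : ed sl_ff sq227 = s0_v399 :=
  gap_rel s0_rot70 (path_edge (s0_f760r IH) (path_edge (s0_f1765r IH) (path_edge (s0_f2309r IH) (path_edge (s0_f4695r IH) (path_edge (s0_f6406r IH) (path_nil s0_v399))))))
theorem s0_f6408r : ed sl_ft s0_v399 = sq227 :=
  edge_flip (s0_f6408 IH)
theorem s0_f6409 : ed sl_ft sq227 = s0_v399 :=
  gap_rel s0_rot16 (path_edge (s0_f6408r IH) (path_nil s0_v399))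
theorem s0_f6410 : ed sl_et sq351 = sq227 :=
  real_edge rels S fwd inv o lvl plet idx 16 IH Gen.e sp351 sp227 rfl rfl
theorem s0_f6411 : ed sl_dt sq222 = s0_v400 :=
  rfl
theorem s0_f6411r : ed sl_df s0_v400 = sq222 :=
  edge_flip (s0_f6411 IH)
theorem s0_f6413 : ed sl_ff s0_v148 = s0_v400 :=
  gap_rel s0_rot100 (path_edge (s0_f4702 IH) (path_edge (s0_f4695r IH) (path_edge (s0_f6411r IH) (path_nil s0_v400))))
theorem s0_f6413r : ed sl_ft s0_v400 = s0_v148 :=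
  edge_flip (s0_f6413 IH)
theorem s0_f6415 : ed sl_ft s0_v148 = s0_v400 :=
  gap_rel s0_rot16 (path_edge (s0_f6413r IH) (path_nil s0_v400))
theorem s0_f6417 : ed sl_gt sq222 = s0_v401 :=
  rfl
theorem s0_f6417r : ed sl_gf s0_v401 = sq222 :=
  edge_flip (s0_f6417 IH)
theorem s0_f6418 : ed sl_gf sq222 = s0_v401 :=
  gap_rel s0_rot76 (path_edge (s0_f6417r IH) (path_nil s0_v401))
theorem s0_f6419 : ed sl_at sq223 = s0_v402 :=
  rfl
theorem s0_f6419r : ed sl_af s0_v402 = sq223 :=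
  edge_flip (s0_f6419 IH)
theorem s0_f6423 : ed sl_ft s0_v401 = s0_v402 :=
  gap_rel s0_rot107 (path_edge (s0_f6417 IH) (path_edge (s0_f4695 IH) (path_edge (s0_f4693 IH) (path_edge (s0_f6419r IH) (path_nil s0_v402)))))
theorem s0_f6423r : ed sl_ff s0_v402 = s0_v401 :=
  edge_flip (s0_f6423 IH)
theorem s0_f6424 : ed sl_ff s0_v401 = s0_v402 :=
  gap_rel s0_rot1 (path_edge (s0_f6423r IH) (path_nil s0_v402))
theorem s0_f6424r : ed sl_ft s0_v402 = s0_v401 :=
  edge_flip (s0_f6424 IH)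
theorem s0_f6418r : ed sl_gt s0_v401 = sq222 :=
  edge_flip (s0_f6418 IH)
theorem s0_f6425 : ed sl_gt s0_v146 = s0_v402 :=
  gap_rel s0_rot112 (path_edge (s0_f4690 IH) (path_edge (s0_f4692 IH) (path_edge (s0_f6418r IH) (path_edge (s0_f6424r IH) (path_nil s0_v402)))))
theorem s0_f6425r : ed sl_gf s0_v402 = s0_v146 :=
  edge_flip (s0_f6425 IH)
theorem s0_f4693r : ed sl_gf sq143 = sq223 :=
  edge_flip (s0_f4693 IH)
theorem s0_f6426 : ed sl_cf sq223 = s0_v402 :=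
  gap_rel s0_rot43 (path_edge (s0_f4693r IH) (path_edge (s0_f4696r IH) (path_eq (s0_f4709 IH).symm (path_edge (s0_f6425r IH) (path_nil s0_v402)))))
theorem s0_f6427 : ed sl_bt sq223 = sq347 :=
  real_edge rels S fwd inv o lvl plet idx 16 IH Gen.b sp223 sp347 rfl rfl
theorem s0_f6426r : ed sl_ct s0_v402 = sq223 :=
  edge_flip (s0_f6426 IH)
theorem s0_f6428 : ed sl_ct sq223 = s0_v402 :=
  gap_rel s0_rot59 (path_edge (s0_f6426r IH) (path_nil s0_v402))
theorem s0_f6431 : ed sl_dt sq223 = s0_v403 :=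
  rfl
theorem s0_f6431r : ed sl_df s0_v403 = sq223 :=
  edge_flip (s0_f6431 IH)
theorem s0_f6432 : ed sl_df sq223 = s0_v403 :=
  gap_rel s0_rot54 (path_edge (s0_f6431r IH) (path_nil s0_v403))
theorem s0_f4694r : ed sl_gf sq223 = sq143 :=
  edge_flip (s0_f4694 IH)
theorem s0_f6433 : ed sl_gf s0_v148 = s0_v403 :=
  gap_rel s0_rot45 (path_edge (s0_f4702 IH) (path_edge (s0_f4694r IH) (path_edge (s0_f6431r IH) (path_nil s0_v403))))
theorem s0_f6433r : ed sl_gt s0_v403 = s0_v148 :=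
  edge_flip (s0_f6433 IH)
theorem s0_f6434 : ed sl_ct s0_v152 = s0_v403 :=
  gap_rel s0_rot39 (path_edge (s0_f4797 IH) (path_edge (s0_f4707r IH) (path_edge (s0_f6433r IH) (path_nil s0_v403))))
theorem s0_f6435 : ed sl_gt s0_v148 = s0_v403 :=
  gap_rel s0_rot25 (path_edge (s0_f6433r IH) (path_nil s0_v403))
theorem s0_f6437 : ed sl_ft sq223 = s0_v404 :=
  rfl
theorem s0_f6437r : ed sl_ff s0_v404 = sq223 :=
  edge_flip (s0_f6437 IH)
theorem s0_f6440 : ed sl_ff sq223 = s0_v404 :=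
  gap_rel s0_rot1 (path_edge (s0_f6437r IH) (path_nil s0_v404))
theorem s0_f6441 : ed sl_gf s0_v398 = s0_v404 :=
  gap_rel s0_rot19 (path_edge (s0_f6402 IH) (path_edge (s0_f6425r IH) (path_edge (s0_f6424 IH) (path_edge (s0_f6418 IH) (path_edge (s0_f4692r IH) (path_edge (s0_f4694r IH) (path_edge (s0_f6437r IH) (path_nil s0_v404))))))))
theorem s0_f6441r : ed sl_gt s0_v404 = s0_v398 :=
  edge_flip (s0_f6441 IH)
theorem s0_f6444 : ed sl_gt s0_v398 = s0_v404 :=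
  gap_rel s0_rot25 (path_edge (s0_f6441r IH) (path_nil s0_v404))
theorem s0_f6445 : ed sl_gt sq347 = sq228 :=
  real_edge rels S fwd inv o lvl plet idx 16 IH Gen.g sp347 sp228 rfl rfl
theorem s0_f6446 : ed sl_et sq224 = s0_v405 :=
  rfl
theorem s0_f6446r : ed sl_ef s0_v405 = sq224 :=
  edge_flip (s0_f6446 IH)
theorem s0_f6450 : ed sl_ef sq224 = s0_v405 :=
  gap_rel s0_rot34 (path_edge (s0_f6446r IH) (path_nil s0_v405))
theorem s0_f6451 : ed sl_ft sq349 = sq224 :=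
  real_edge rels S fwd inv o lvl plet idx 16 IH Gen.f sp349 sp224 rfl rfl
theorem s0_f6452 : ed sl_gt sq350 = sq224 :=
  real_edge rels S fwd inv o lvl plet idx 16 IH Gen.g sp350 sp224 rfl rfl
theorem s0_f6450r : ed sl_et s0_v405 = sq224 :=
  edge_flip (s0_f6450 IH)
theorem s0_f6454 : ed sl_dt s0_v151 = s0_v405 :=
  gap_rel s0_rot106 (path_edge (s0_f4786 IH) (path_edge (s0_f4032 IH) (path_edge (s0_f4035 IH) (path_edge (s0_f4036 IH) (path_edge (s0_f6450r IH) (path_nil s0_v405))))))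
theorem s0_f6462 : ed sl_gt sq226 = sq144 :=
  real_edge rels S fwd inv o lvl plet idx 16 IH Gen.g sp226 sp144 rfl rfl
theorem s0_f6463 : ed sl_at sq227 = s0_v406 :=
  rfl
theorem s0_f6463r : ed sl_af s0_v406 = sq227 :=
  edge_flip (s0_f6463 IH)
theorem s0_f6464 : ed sl_af sq227 = s0_v406 :=
  gap_rel s0_rot66 (path_edge (s0_f6463r IH) (path_nil s0_v406))
theorem s0_f163r : ed sl_bf sq227 = sq145 :=
  edge_flip (s0_f163 IH)
theorem s0_f162r : ed sl_cf sq145 = sq111 :=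
  edge_flip (s0_f162 IH)
theorem s0_f100r : ed sl_cf sq23 = sq12 :=
  edge_flip (s0_f100 IH)
theorem s0_f2219r : ed sl_af sq52 = sq52 :=
  edge_flip (s0_f2219 IH)
theorem s0_f6465 : ed sl_ff s0_v288 = s0_v406 :=
  gap_rel s0_rot98 (path_edge (s0_f5752 IH) (path_edge (s0_f4446 IH) (path_edge (s0_f3865 IH) (path_edge (s0_f474r IH) (path_edge (s0_f3610r IH) (path_edge (s0_f3611 IH) (path_edge (s0_f2219r IH) (path_edge (s0_f159r IH) (path_edge (s0_f113r IH) (path_edge (s0_f148r IH) (path_edge (s0_f96r IH) (path_edge (s0_f157 IH) (path_edge (s0_f100r IH) (path_edge (s0_f101r IH) (path_edge (s0_f160r IH) (path_edge (s0_f161r IH) (path_edge (s0_f162r IH) (path_edge (s0_f163r IH) (path_edge (s0_f6463r IH) (path_nil s0_v406))))))))))))))))))))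
theorem s0_f6465r : ed sl_ft s0_v406 = s0_v288 :=
  edge_flip (s0_f6465 IH)
theorem s0_f6468 : ed sl_ft s0_v288 = s0_v406 :=
  gap_rel s0_rot16 (path_edge (s0_f6465r IH) (path_nil s0_v406))
theorem s0_f6409r : ed sl_ff s0_v399 = sq227 :=
  edge_flip (s0_f6409 IH)
theorem s0_f6468r : ed sl_ff s0_v406 = s0_v288 :=
  edge_flip (s0_f6468 IH)
theorem s0_f6469 : ed sl_af s0_v288 = s0_v399 :=
  gap_rel s0_rot0 (path_edge (s0_f6468r IH) (path_edge (s0_f6464 IH) (path_edge (s0_f6409r IH) (path_nil s0_v399))))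
theorem s0_f6470 : ed sl_cf s0_v289 = s0_v406 :=
  gap_rel s0_rot65 (path_edge (s0_f5755 IH) (path_edge (s0_f5751r IH) (path_edge (s0_f6468r IH) (path_nil s0_v406))))
theorem s0_f5980r : ed sl_af s0_v338 = s0_v120 :=
  edge_flip (s0_f5980 IH)
theorem s0_f2307r : ed sl_ff sq69 = sq111 :=
  edge_flip (s0_f2307 IH)
theorem s0_f2303r : ed sl_af sq111 = sq71 :=
  edge_flip (s0_f2303 IH)
theorem s0_f466r : ed sl_cf sq92 = sq135 :=
  edge_flip (s0_f466 IH)
theorem s0_f6471 : s0_v196 = s0_v337 :=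
  (loop_rel s0_rot113 (path_edge (s0_f5305 IH) (path_edge (s0_f3980 IH) (path_edge (s0_f2310r IH) (path_edge (s0_f466r IH) (path_edge (s0_f376 IH) (path_edge (s0_f2303r IH) (path_edge (s0_f2307r IH) (path_edge (s0_f2308r IH) (path_edge (s0_f2309r IH) (path_edge (s0_f4689r IH) (path_edge (s0_f6404r IH) (path_edge (s0_f6405 IH) (path_edge (s0_f6406r IH) (path_edge (s0_f6469 IH) (path_edge (s0_f6468r IH) (path_edge (s0_f6470 IH) (path_edge (s0_f5754 IH) (path_edge (s0_f5980r IH) (path_edge (s0_f5979 IH) (path_edge (s0_f5973r IH) (path_nil s0_v337)))))))))))))))))))))).symm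
theorem s0_f6472 : s0_v243 = s0_v244 :=
  (loop_rel s0_rot61 (path_edge (s0_f5537 IH) (path_edge (s0_f5973r IH) (path_eq (s0_f6471 IH) (path_edge (s0_f5305 IH) (path_edge (s0_f3981 IH) (path_edge (s0_f4353r IH) (path_edge (s0_f5541r IH) (path_nil s0_v244))))))))).symm
theorem s0_f6474 : ed sl_af s0_v259 = s0_v340 :=
  gap_rel s0_rot114 (path_edge (s0_f5607 IH) (path_edge (s0_f4385 IH) (path_edge (s0_f3765 IH) (path_edge (s0_f2701r IH) (path_edge (s0_f3513r IH) (path_edge (s0_f3979r IH) (path_edge (s0_f5304r IH) (path_eq (s0_f6471 IH).symm (path_edge (s0_f5974 IH) (path_edge (s0_f5985r IH) (path_nil s0_v340)))))))))))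
theorem s0_f6474r : ed sl_at s0_v340 = s0_v259 :=
  edge_flip (s0_f6474 IH)
theorem s0_f6475 : ed sl_at s0_v259 = s0_v340 :=
  gap_rel s0_rot83 (path_edge (s0_f6474r IH) (path_nil s0_v340))
theorem s0_f6469r : ed sl_at s0_v399 = s0_v288 :=
  edge_flip (s0_f6469 IH)
theorem s0_f5752r : ed sl_ct s0_v288 = s0_v93 :=
  edge_flip (s0_f5752 IH)
theorem s0_f6478 : ed sl_ct s0_v287 = s0_v399 :=
  gap_rel s0_rot115 (path_edge (s0_f5749 IH) (path_edge (s0_f5752r IH) (path_edge (s0_f6469r IH) (path_nil s0_v399))))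
theorem s0_f6480 : ed sl_ct sq227 = s0_v407 :=
  rfl
theorem s0_f6480r : ed sl_cf s0_v407 = sq227 :=
  edge_flip (s0_f6480 IH)
theorem s0_f6482 : ed sl_bf sq266 = s0_v407 :=
  gap_rel s0_rot61 (path_edge (s0_f3560r IH) (path_edge (s0_f441r IH) (path_edge (s0_f162r IH) (path_edge (s0_f163r IH) (path_edge (s0_f6480r IH) (path_nil s0_v407))))))
theorem s0_f6478r : ed sl_cf s0_v399 = s0_v287 :=
  edge_flip (s0_f6478 IH)
theorem s0_f6484 : ed sl_ff s0_v287 = s0_v407 :=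
  gap_rel s0_rot95 (path_edge (s0_f6478r IH) (path_edge (s0_f6408 IH) (path_edge (s0_f6480r IH) (path_nil s0_v407))))
theorem s0_f6484r : ed sl_ft s0_v407 = s0_v287 :=
  edge_flip (s0_f6484 IH)
theorem s0_f6486 : ed sl_ft s0_v287 = s0_v407 :=
  gap_rel s0_rot16 (path_edge (s0_f6484r IH) (path_nil s0_v407))
theorem s0_f6506 : ed sl_ct sq228 = s0_v411 :=
  rfl
theorem s0_f6506r : ed sl_cf s0_v411 = sq228 :=
  edge_flip (s0_f6506 IH)
theorem s0_f3135r : ed sl_bf sq228 = sq146 :=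
  edge_flip (s0_f3135 IH)
theorem s0_f3852r : ed sl_cf sq146 = sq112 :=
  edge_flip (s0_f3852 IH)
theorem s0_f6507 : ed sl_bf s0_v222 = s0_v411 :=
  gap_rel s0_rot61 (path_edge (s0_f5426 IH) (path_edge (s0_f4157 IH) (path_edge (s0_f3852r IH) (path_edge (s0_f3135r IH) (path_edge (s0_f6506r IH) (path_nil s0_v411))))))
theorem s0_f6508 : ed sl_cf sq228 = s0_v411 :=
  gap_rel s0_rot40 (path_edge (s0_f6506r IH) (path_nil s0_v411))
theorem s0_f6510 : ed sl_dt sq516 = sq598 :=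
  real_edge rels S fwd inv o lvl plet idx 16 IH Gen.d sp516 sp598 rfl rfl
theorem s0_f6512 : ed sl_bt sq404 = sq603 :=
  real_edge rels S fwd inv o lvl plet idx 16 IH Gen.b sp404 sp603 rfl rfl
theorem s0_f6513 : ed sl_dt sq407 = sq603 :=
  real_edge rels S fwd inv o lvl plet idx 16 IH Gen.d sp407 sp603 rfl rfl
theorem s0_f6514 : ed sl_dt sq228 = s0_v412 :=
  rfl
theorem s0_f6514r : ed sl_df s0_v412 = sq228 :=
  edge_flip (s0_f6514 IH)
theorem s0_f6515 : ed sl_bf s0_v150 = s0_v412 :=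
  gap_rel s0_rot103 (path_edge (s0_f4749 IH) (path_edge (s0_f3135r IH) (path_edge (s0_f6514r IH) (path_nil s0_v412))))
theorem s0_f6516 : ed sl_df sq228 = s0_v412 :=
  gap_rel s0_rot54 (path_edge (s0_f6514r IH) (path_nil s0_v412))
theorem s0_f6522 : ed sl_ft sq228 = s0_v413 :=
  rfl
theorem s0_f6533 : ed sl_gt sq230 = sq357 :=
  real_edge rels S fwd inv o lvl plet idx 16 IH Gen.g sp230 sp357 rfl rfl
theorem s0_f6535 : ed sl_ct sq358 = sq357 :=
  real_edge rels S fwd inv o lvl plet idx 16 IH Gen.c sp358 sp357 rfl rfl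
theorem s0_f6541 : ed sl_ct sq766 = sq523 :=
  real_edge rels S fwd inv o lvl plet idx 16 IH Gen.c sp766 sp523 rfl rfl
theorem s0_f6542 : ed sl_dt sq1105 = sq766 :=
  real_edge rels S fwd inv o lvl plet idx 16 IH Gen.d sp1105 sp766 rfl rfl
theorem s0_f6553 : ed sl_dt sq358 = sq525 :=
  real_edge rels S fwd inv o lvl plet idx 16 IH Gen.d sp358 sp525 rfl rfl
theorem s0_f6554 : ed sl_at sq231 = s0_v415 :=
  rfl
theorem s0_f6554r : ed sl_af s0_v415 = sq231 :=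
  edge_flip (s0_f6554 IH)
theorem s0_f2981r : ed sl_gf sq231 = sq147 :=
  edge_flip (s0_f2981 IH)
theorem s0_f6559 : ed sl_gf s0_v151 = s0_v415 :=
  gap_rel s0_rot47 (path_edge (s0_f4776 IH) (path_edge (s0_f2981r IH) (path_edge (s0_f6554r IH) (path_nil s0_v415))))
theorem s0_f6563 : ed sl_ft sq357 = s0_v415 :=
  gap_rel s0_rot107 (path_edge (s0_f6533 IH) (path_edge (s0_f4787 IH) (path_edge (s0_f2760 IH) (path_edge (s0_f6554r IH) (path_nil s0_v415)))))
theorem s0_f6563r : ed sl_ff s0_v415 = sq357 :=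
  edge_flip (s0_f6563 IH)
theorem s0_f6535r : ed sl_cf sq357 = sq358 :=
  edge_flip (s0_f6535 IH)
theorem s0_f4780r : ed sl_ff sq358 = sq231 :=
  edge_flip (s0_f4780 IH)
theorem s0_f6564 : ed sl_cf sq231 = s0_v415 :=
  gap_rel s0_rot65 (path_edge (s0_f4780r IH) (path_edge (s0_f6535r IH) (path_edge (s0_f6563r IH) (path_nil s0_v415))))
theorem s0_f6566 : ed sl_ft sq245 = sq356 :=
  real_edge rels S fwd inv o lvl plet idx 16 IH Gen.f sp245 sp356 rfl rfl
theorem s0_f6564r : ed sl_ct s0_v415 = sq231 :=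
  edge_flip (s0_f6564 IH)
theorem s0_f6567 : ed sl_et s0_v150 = s0_v415 :=
  gap_rel s0_rot33 (path_edge (s0_f4760 IH) (path_edge (s0_f4768 IH) (path_edge (s0_f6564r IH) (path_nil s0_v415))))
theorem s0_f6573 : ed sl_bt sq231 = s0_v416 :=
  rfl
theorem s0_f6573r : ed sl_bf s0_v416 = sq231 :=
  edge_flip (s0_f6573 IH)
theorem s0_f2521r : ed sl_bf sq147 = sq101 :=
  edge_flip (s0_f2521 IH)
theorem s0_f6576 : ed sl_gf s0_v157 = s0_v416 :=
  gap_rel s0_rot24 (path_edge (s0_f4871 IH) (path_edge (s0_f2747 IH) (path_edge (s0_f2521r IH) (path_edge (s0_f2981r IH) (path_edge (s0_f6573r IH) (path_nil s0_v416))))))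
theorem s0_f6576r : ed sl_gt s0_v416 = s0_v157 :=
  edge_flip (s0_f6576 IH)
theorem s0_f6578 : ed sl_gt s0_v157 = s0_v416 :=
  gap_rel s0_rot25 (path_edge (s0_f6576r IH) (path_nil s0_v416))
theorem s0_f6585 : ed sl_ct sq232 = s0_v418 :=
  rfl
theorem s0_f6585r : ed sl_cf s0_v418 = sq232 :=
  edge_flip (s0_f6585 IH)
theorem s0_f4767r : ed sl_ff sq232 = sq159 :=
  edge_flip (s0_f4767 IH)
theorem s0_f1792r : ed sl_cf sq159 = sq246 :=
  edge_flip (s0_f1792 IH)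
theorem s0_f6587 : ed sl_ff sq246 = s0_v418 :=
  gap_rel s0_rot95 (path_edge (s0_f1792r IH) (path_edge (s0_f4767r IH) (path_edge (s0_f6585r IH) (path_nil s0_v418))))
theorem s0_f6588 : ed sl_bt sq601 = sq403 :=
  real_edge rels S fwd inv o lvl plet idx 16 IH Gen.b sp601 sp403 rfl rfl
theorem s0_f6587r : ed sl_ft s0_v418 = sq246 :=
  edge_flip (s0_f6587 IH)
theorem s0_f6590 : ed sl_ft sq246 = s0_v418 :=
  gap_rel s0_rot16 (path_edge (s0_f6587r IH) (path_nil s0_v418))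
theorem s0_f6591 : ed sl_et sq372 = sq246 :=
  real_edge rels S fwd inv o lvl plet idx 16 IH Gen.e sp372 sp246 rfl rfl
theorem s0_f6609 : ed sl_bt sq234 = s0_v421 :=
  rfl
theorem s0_f6609r : ed sl_bf s0_v421 = sq234 :=
  edge_flip (s0_f6609 IH)
theorem s0_f6610 : ed sl_bf sq234 = s0_v421 :=
  gap_rel s0_rot44 (path_edge (s0_f6609r IH) (path_nil s0_v421))
theorem s0_f4733r : ed sl_df sq234 = sq155 :=
  edge_flip (s0_f4733 IH)
theorem s0_f6611 : ed sl_df s0_v156 = s0_v421 :=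
  gap_rel s0_rot8 (path_edge (s0_f4853 IH) (path_edge (s0_f4733r IH) (path_edge (s0_f6609r IH) (path_nil s0_v421))))
theorem s0_f6619 : ed sl_at sq235 = sq348 :=
  real_edge rels S fwd inv o lvl plet idx 16 IH Gen.a sp235 sp348 rfl rfl
theorem s0_f6620 : ed sl_et sq235 = sq353 :=
  real_edge rels S fwd inv o lvl plet idx 16 IH Gen.e sp235 sp353 rfl rfl
theorem s0_f6624 : ed sl_ft sq236 = sq150 :=
  real_edge rels S fwd inv o lvl plet idx 16 IH Gen.f sp236 sp150 rfl rfl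
theorem s0_f6626 : ed sl_bt sq237 = s0_v422 :=
  rfl
theorem s0_f6633 : ed sl_ft sq365 = sq237 :=
  real_edge rels S fwd inv o lvl plet idx 16 IH Gen.f sp365 sp237 rfl rfl
theorem s0_f6626r : ed sl_bf s0_v422 = sq237 :=
  edge_flip (s0_f6626 IH)
theorem s0_f3110r : ed sl_gf sq237 = sq150 :=
  edge_flip (s0_f3110 IH)
theorem s0_f3109r : ed sl_bf sq150 = sq103 :=
  edge_flip (s0_f3109 IH)
theorem s0_f6634 : ed sl_gf s0_v166 = s0_v422 :=
  gap_rel s0_rot24 (path_edge (s0_f4977 IH) (path_edge (s0_f2786r IH) (path_edge (s0_f3109r IH) (path_edge (s0_f3110r IH) (path_edge (s0_f6626r IH) (path_nil s0_v422))))))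
theorem s0_f6638 : ed sl_gt sq349 = sq365 :=
  real_edge rels S fwd inv o lvl plet idx 16 IH Gen.g sp349 sp365 rfl rfl
theorem s0_f6639 : ed sl_bt sq517 = sq349 :=
  real_edge rels S fwd inv o lvl plet idx 16 IH Gen.b sp517 sp349 rfl rfl
theorem s0_f6634r : ed sl_gt s0_v422 = s0_v166 :=
  edge_flip (s0_f6634 IH)
theorem s0_f4978r : ed sl_dt s0_v166 = s0_v59 :=
  edge_flip (s0_f4978 IH)
theorem s0_f6642 : ed sl_dt s0_v153 = s0_v422 :=
  gap_rel s0_rot91 (path_edge (s0_f4823 IH) (path_edge (s0_f4978r IH) (path_edge (s0_f6634r IH) (path_nil s0_v422))))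
theorem s0_f6650 : ed sl_gt sq238 = s0_v423 :=
  rfl
theorem s0_f6651 : ed sl_gt sq384 = sq366 :=
  real_edge rels S fwd inv o lvl plet idx 16 IH Gen.g sp384 sp366 rfl rfl
theorem s0_f6650r : ed sl_gf s0_v423 = sq238 :=
  edge_flip (s0_f6650 IH)
theorem s0_f1884r : ed sl_af sq238 = sq366 :=
  edge_flip (s0_f1884 IH)
theorem s0_f6651r : ed sl_gf sq366 = sq384 :=
  edge_flip (s0_f6651 IH)
theorem s0_f6652 : ed sl_af sq384 = s0_v423 :=
  gap_rel s0_rot78 (path_edge (s0_f6651r IH) (path_edge (s0_f1884r IH) (path_edge (s0_f6650r IH) (path_nil s0_v423))))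
theorem s0_f6653 : ed sl_gt sq239 = sq151 :=
  real_edge rels S fwd inv o lvl plet idx 16 IH Gen.g sp239 sp151 rfl rfl
theorem s0_f6655 : ed sl_gf sq238 = s0_v423 :=
  gap_rel s0_rot76 (path_edge (s0_f6650r IH) (path_nil s0_v423))
theorem s0_f6655r : ed sl_gt s0_v423 = sq238 :=
  edge_flip (s0_f6655 IH)
theorem s0_f6657 : ed sl_et s0_v154 = s0_v423 :=
  gap_rel s0_rot49 (path_edge (s0_f4827 IH) (path_edge (s0_f2277 IH) (path_edge (s0_f6655r IH) (path_nil s0_v423))))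
theorem s0_f6658 : ed sl_dt sq565 = sq384 :=
  real_edge rels S fwd inv o lvl plet idx 16 IH Gen.d sp565 sp384 rfl rfl
theorem s0_f6663 : ed sl_bt sq239 = s0_v424 :=
  rfl
theorem s0_f6663r : ed sl_bf s0_v424 = sq239 :=
  edge_flip (s0_f6663 IH)
theorem s0_f6664 : ed sl_bf sq239 = s0_v424 :=
  gap_rel s0_rot44 (path_edge (s0_f6663r IH) (path_nil s0_v424))
theorem s0_f6678 : ed sl_bt sq240 = s0_v425 :=
  rfl
theorem s0_f6678r : ed sl_bf s0_v425 = sq240 :=
  edge_flip (s0_f6678 IH)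
theorem s0_f6679 : ed sl_bf sq240 = s0_v425 :=
  gap_rel s0_rot44 (path_edge (s0_f6678r IH) (path_nil s0_v425))
theorem s0_f4860r : ed sl_ef sq240 = sq155 :=
  edge_flip (s0_f4860 IH)
theorem s0_f6681 : ed sl_ef s0_v156 = s0_v425 :=
  gap_rel s0_rot46 (path_edge (s0_f4853 IH) (path_edge (s0_f4860r IH) (path_edge (s0_f6678r IH) (path_nil s0_v425))))
theorem s0_f6681r : ed sl_et s0_v425 = s0_v156 :=
  edge_flip (s0_f6681 IH)
theorem s0_f6686 : ed sl_et s0_v156 = s0_v425 :=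
  gap_rel s0_rot31 (path_edge (s0_f6681r IH) (path_nil s0_v425))
theorem s0_f6687 : ed sl_ct sq240 = sq178 :=
  real_edge rels S fwd inv o lvl plet idx 16 IH Gen.c sp240 sp178 rfl rfl
theorem s0_f6688 : ed sl_ct sq275 = sq413 :=
  real_edge rels S fwd inv o lvl plet idx 16 IH Gen.c sp275 sp413 rfl rfl
theorem s0_f6710 : ed sl_at sq243 = s0_v429 :=
  rfl
theorem s0_f6710r : ed sl_af s0_v429 = sq243 :=
  edge_flip (s0_f6710 IH)
theorem s0_f6711 : ed sl_af sq243 = s0_v429 :=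
  gap_rel s0_rot66 (path_edge (s0_f6710r IH) (path_nil s0_v429))
theorem s0_f6712 : ed sl_at sq540 = sq368 :=
  real_edge rels S fwd inv o lvl plet idx 16 IH Gen.a sp540 sp368 rfl rfl
theorem s0_f6713 : ed sl_bt sq788 = sq540 :=
  real_edge rels S fwd inv o lvl plet idx 16 IH Gen.b sp788 sp540 rfl rfl
theorem s0_f6716 : ed sl_gf s0_v384 = s0_v429 :=
  gap_rel s0_rot47 (path_edge (s0_f6191 IH) (path_edge (s0_f2782 IH) (path_edge (s0_f6710r IH) (path_nil s0_v429))))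
theorem s0_f6716r : ed sl_gt s0_v429 = s0_v384 :=
  edge_flip (s0_f6716 IH)
theorem s0_f6192r : ed sl_ct s0_v384 = s0_v141 :=
  edge_flip (s0_f6192 IH)
theorem s0_f6719 : ed sl_ct s0_v159 = s0_v429 :=
  gap_rel s0_rot39 (path_edge (s0_f4900 IH) (path_edge (s0_f6192r IH) (path_edge (s0_f6716r IH) (path_nil s0_v429))))
theorem s0_f6730 : ed sl_ft sq766 = sq546 :=
  real_edge rels S fwd inv o lvl plet idx 16 IH Gen.f sp766 sp546 rfl rfl
theorem s0_f6738 : ed sl_dt sq371 = sq245 :=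
  real_edge rels S fwd inv o lvl plet idx 16 IH Gen.d sp371 sp245 rfl rfl
theorem s0_f6753 : ed sl_dt sq372 = sq547 :=
  real_edge rels S fwd inv o lvl plet idx 16 IH Gen.d sp372 sp547 rfl rfl
theorem s0_f6754 : ed sl_ct sq547 = sq803 :=
  real_edge rels S fwd inv o lvl plet idx 16 IH Gen.c sp547 sp803 rfl rfl
theorem s0_f6755 : ed sl_dt sq803 = sq1148 :=
  real_edge rels S fwd inv o lvl plet idx 16 IH Gen.d sp803 sp1148 rfl rfl
theorem s0_f6762 : ed sl_dt sq247 = s0_v437 :=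
  rfl
theorem s0_f6762r : ed sl_df s0_v437 = sq247 :=
  edge_flip (s0_f6762 IH)
theorem s0_f6764 : ed sl_df sq247 = s0_v437 :=
  gap_rel s0_rot54 (path_edge (s0_f6762r IH) (path_nil s0_v437))
theorem s0_f6767 : ed sl_ct sq526 = sq373 :=
  real_edge rels S fwd inv o lvl plet idx 16 IH Gen.c sp526 sp373 rfl rfl
theorem s0_f6764r : ed sl_dt s0_v437 = sq247 :=
  edge_flip (s0_f6764 IH)
theorem s0_f6768 : ed sl_bt s0_v164 = s0_v437 :=
  gap_rel s0_rot69 (path_edge (s0_f4942 IH) (path_edge (s0_f4933 IH) (path_edge (s0_f6764r IH) (path_nil s0_v437))))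
theorem s0_f6772 : ed sl_at sq248 = s0_v438 :=
  rfl
theorem s0_f6772r : ed sl_af s0_v438 = sq248 :=
  edge_flip (s0_f6772 IH)
theorem s0_f6780 : ed sl_ft s0_v164 = s0_v438 :=
  gap_rel s0_rot107 (path_edge (s0_f4943 IH) (path_edge (s0_f3097 IH) (path_edge (s0_f3079 IH) (path_edge (s0_f6772r IH) (path_nil s0_v438)))))
theorem s0_f6780r : ed sl_ff s0_v438 = s0_v164 :=
  edge_flip (s0_f6780 IH)
theorem s0_f4942r : ed sl_df s0_v164 = sq160 :=
  edge_flip (s0_f4942 IH)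
theorem s0_f6784 : ed sl_df sq248 = s0_v438 :=
  gap_rel s0_rot56 (path_edge (s0_f3069r IH) (path_edge (s0_f4942r IH) (path_edge (s0_f6780r IH) (path_nil s0_v438))))
theorem s0_f6784r : ed sl_dt s0_v438 = sq248 :=
  edge_flip (s0_f6784 IH)
theorem s0_f6785 : ed sl_dt sq248 = s0_v438 :=
  gap_rel s0_rot28 (path_edge (s0_f6784r IH) (path_nil s0_v438))
theorem s0_f6814 : ed sl_at sq255 = s0_v442 :=
  rfl
theorem s0_f6814r : ed sl_af s0_v442 = sq255 :=
  edge_flip (s0_f6814 IH)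
theorem s0_f6815 : ed sl_af sq255 = s0_v442 :=
  gap_rel s0_rot66 (path_edge (s0_f6814r IH) (path_nil s0_v442))
theorem s0_f6822 : ed sl_ft sq255 = s0_v445 :=
  rfl
theorem s0_f6822r : ed sl_ff s0_v445 = sq255 :=
  edge_flip (s0_f6822 IH)
theorem s0_f6823 : ed sl_ff sq255 = s0_v445 :=
  gap_rel s0_rot1 (path_edge (s0_f6822r IH) (path_nil s0_v445))
theorem s0_f6824 : ed sl_gt sq255 = s0_v446 :=
  rfl
theorem s0_f6838 : ed sl_et sq385 = sq257 :=
  real_edge rels S fwd inv o lvl plet idx 16 IH Gen.e sp385 sp257 rfl rfl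
theorem s0_f6839 : ed sl_ct sq257 = sq387 :=
  real_edge rels S fwd inv o lvl plet idx 16 IH Gen.c sp257 sp387 rfl rfl
theorem s0_f6841 : ed sl_dt sq385 = sq566 :=
  real_edge rels S fwd inv o lvl plet idx 16 IH Gen.d sp385 sp566 rfl rfl
theorem s0_f6842 : ed sl_ct sq566 = sq833 :=
  real_edge rels S fwd inv o lvl plet idx 16 IH Gen.c sp566 sp833 rfl rfl
theorem s0_f6846 : ed sl_dt sq566 = sq385 :=
  real_edge rels S fwd inv o lvl plet idx 16 IH Gen.d sp566 sp385 rfl rfl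
theorem s0_f6848 : ed sl_ft sq257 = s0_v451 :=
  rfl
theorem s0_f6848r : ed sl_ff s0_v451 = sq257 :=
  edge_flip (s0_f6848 IH)
theorem s0_f6850 : ed sl_ff sq257 = s0_v451 :=
  gap_rel s0_rot1 (path_edge (s0_f6848r IH) (path_nil s0_v451))
theorem s0_f6856 : ed sl_ft sq258 = s0_v453 :=
  rfl
theorem s0_f6856r : ed sl_ff s0_v453 = sq258 :=
  edge_flip (s0_f6856 IH)
theorem s0_f6859 : ed sl_ff sq258 = s0_v453 :=
  gap_rel s0_rot1 (path_edge (s0_f6856r IH) (path_nil s0_v453))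
theorem s0_f6859r : ed sl_ft s0_v453 = sq258 :=
  edge_flip (s0_f6859 IH)
theorem s0_f6860 : ed sl_bt s0_v453 = s0_v453 :=
  gap_rel s0_rot12 (path_edge (s0_f6856 IH) (path_edge (s0_f2612 IH) (path_edge (s0_f2635 IH) (path_edge (s0_f2631 IH) (path_edge (s0_f6859r IH) (path_nil s0_v453))))))
theorem s0_f6867 : ed sl_dt sq259 = s0_v455 :=
  rfl
theorem s0_f6867r : ed sl_df s0_v455 = sq259 :=
  edge_flip (s0_f6867 IH)
theorem s0_f6868 : ed sl_df sq259 = s0_v455 :=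
  gap_rel s0_rot54 (path_edge (s0_f6867r IH) (path_nil s0_v455))
theorem s0_f2629r : ed sl_ff sq259 = sq259 :=
  edge_flip (s0_f2629 IH)
theorem s0_f6869 : ed sl_ff s0_v455 = s0_v455 :=
  gap_rel s0_rot100 (path_edge (s0_f6868 IH) (path_edge (s0_f2629r IH) (path_edge (s0_f6867r IH) (path_nil s0_v455))))
theorem s0_f3529r : ed sl_gf sq259 = sq259 :=
  edge_flip (s0_f3529 IH)
theorem s0_f6870 : ed sl_gf s0_v455 = s0_v455 :=
  gap_rel s0_rot45 (path_edge (s0_f6868 IH) (path_edge (s0_f3529r IH) (path_edge (s0_f6867r IH) (path_nil s0_v455))))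
theorem s0_f6870r : ed sl_gt s0_v455 = s0_v455 :=
  edge_flip (s0_f6870 IH)
theorem s0_f6869r : ed sl_ft s0_v455 = s0_v455 :=
  edge_flip (s0_f6869 IH)
theorem s0_f6871 : ed sl_af s0_v455 = s0_v455 :=
  gap_rel s0_rot81 (path_edge (s0_f6869r IH) (path_edge (s0_f6870r IH) (path_edge (s0_f6869r IH) (path_edge (s0_f6870r IH) (path_nil s0_v455)))))
theorem s0_f6882 : ed sl_bt sq263 = s0_v457 :=
  rfl
theorem s0_f6882r : ed sl_bf s0_v457 = sq263 :=
  edge_flip (s0_f6882 IH)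
theorem s0_f4164r : ed sl_df sq263 = sq172 :=
  edge_flip (s0_f4164 IH)
theorem s0_f6884 : ed sl_df s0_v172 = s0_v457 :=
  gap_rel s0_rot8 (path_edge (s0_f5020 IH) (path_edge (s0_f4164r IH) (path_edge (s0_f6882r IH) (path_nil s0_v457))))
theorem s0_f6888 : ed sl_et sq522 = sq362 :=
  real_edge rels S fwd inv o lvl plet idx 16 IH Gen.e sp522 sp362 rfl rfl
theorem s0_f6892 : ed sl_bt sq392 = sq578 :=
  real_edge rels S fwd inv o lvl plet idx 16 IH Gen.b sp392 sp578 rfl rfl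
theorem s0_f6893 : ed sl_ct sq273 = sq408 :=
  real_edge rels S fwd inv o lvl plet idx 16 IH Gen.c sp273 sp408 rfl rfl
theorem s0_f6894 : ed sl_ft sq264 = s0_v458 :=
  rfl
theorem s0_f6894r : ed sl_ff s0_v458 = sq264 :=
  edge_flip (s0_f6894 IH)
theorem s0_f2350r : ed sl_bf sq264 = sq171 :=
  edge_flip (s0_f2350 IH)
theorem s0_f244r : ed sl_ff sq171 = sq110 :=
  edge_flip (s0_f244 IH)
theorem s0_f6896 : ed sl_bf s0_v219 = s0_v458 :=
  gap_rel s0_rot104 (path_edge (s0_f5415 IH) (path_edge (s0_f4137 IH) (path_edge (s0_f244r IH) (path_edge (s0_f2350r IH) (path_edge (s0_f6894r IH) (path_nil s0_v458))))))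
theorem s0_f6900 : ed sl_ff sq264 = s0_v458 :=
  gap_rel s0_rot1 (path_edge (s0_f6894r IH) (path_nil s0_v458))
theorem s0_f6900r : ed sl_ft s0_v458 = sq264 :=
  edge_flip (s0_f6900 IH)
theorem s0_f6903 : ed sl_at sq395 = s0_v458 :=
  gap_rel s0_rot90 (path_edge (s0_f3694r IH) (path_edge (s0_f2351 IH) (path_edge (s0_f6900r IH) (path_nil s0_v458))))
theorem s0_f6910 : ed sl_dt sq1291 = sq939 :=
  real_edge rels S fwd inv o lvl plet idx 16 IH Gen.d sp1291 sp939 rfl rfl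
theorem s0_f6911 : ed sl_bt sq265 = s0_v459 :=
  rfl
theorem s0_f6911r : ed sl_bf s0_v459 = sq265 :=
  edge_flip (s0_f6911 IH)
theorem s0_f6912 : ed sl_bf sq265 = s0_v459 :=
  gap_rel s0_rot44 (path_edge (s0_f6911r IH) (path_nil s0_v459))
theorem s0_f3683r : ed sl_df sq265 = sq186 :=
  edge_flip (s0_f3683 IH)
theorem s0_f3867r : ed sl_bf sq186 = sq291 :=
  edge_flip (s0_f3867 IH)
theorem s0_f6913 : ed sl_df sq291 = s0_v459 :=
  gap_rel s0_rot8 (path_edge (s0_f3867r IH) (path_edge (s0_f3683r IH) (path_edge (s0_f6911r IH) (path_nil s0_v459))))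
theorem s0_f6913r : ed sl_dt s0_v459 = sq291 :=
  edge_flip (s0_f6913 IH)
theorem s0_f6914 : ed sl_dt sq291 = s0_v459 :=
  gap_rel s0_rot28 (path_edge (s0_f6913r IH) (path_nil s0_v459))
theorem s0_f6915 : ed sl_et sq291 = sq434 :=
  real_edge rels S fwd inv o lvl plet idx 16 IH Gen.e sp291 sp434 rfl rfl
theorem s0_f6916 : ed sl_dt sq434 = sq640 :=
  real_edge rels S fwd inv o lvl plet idx 16 IH Gen.d sp434 sp640 rfl rfl
theorem s0_f6917 : ed sl_et sq434 = sq291 :=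
  real_edge rels S fwd inv o lvl plet idx 16 IH Gen.e sp434 sp291 rfl rfl
theorem s0_f6921 : ed sl_gt sq265 = s0_v460 :=
  rfl
theorem s0_f6921r : ed sl_gf s0_v460 = sq265 :=
  edge_flip (s0_f6921 IH)
theorem s0_f5038r : ed sl_gf sq173 = sq267 :=
  edge_flip (s0_f5038 IH)
theorem s0_f6922 : ed sl_af sq267 = s0_v460 :=
  gap_rel s0_rot78 (path_edge (s0_f5038r IH) (path_edge (s0_f2305r IH) (path_edge (s0_f6921r IH) (path_nil s0_v460))))
theorem s0_f6924 : ed sl_gf sq265 = s0_v460 :=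
  gap_rel s0_rot76 (path_edge (s0_f6921r IH) (path_nil s0_v460))
theorem s0_f6929 : ed sl_ct sq416 = sq279 :=
  real_edge rels S fwd inv o lvl plet idx 16 IH Gen.c sp416 sp279 rfl rfl
theorem s0_f6930 : ed sl_et sq267 = sq396 :=
  real_edge rels S fwd inv o lvl plet idx 16 IH Gen.e sp267 sp396 rfl rfl
theorem s0_f6931 : ed sl_gt sq266 = s0_v461 :=
  rfl
theorem s0_f6931r : ed sl_gf s0_v461 = sq266 :=
  edge_flip (s0_f6931 IH)
theorem s0_f6934 : ed sl_gf sq266 = s0_v461 :=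
  gap_rel s0_rot76 (path_edge (s0_f6931r IH) (path_nil s0_v461))
theorem s0_f6935 : ed sl_ff sq267 = s0_v461 :=
  gap_rel s0_rot92 (path_edge (s0_f5038r IH) (path_edge (s0_f5031r IH) (path_edge (s0_f5040 IH) (path_edge (s0_f6931r IH) (path_nil s0_v461)))))
theorem s0_f6935r : ed sl_ft s0_v461 = sq267 :=
  edge_flip (s0_f6935 IH)
theorem s0_f6936 : ed sl_dt s0_v181 = s0_v461 :=
  gap_rel s0_rot29 (path_edge (s0_f5150 IH) (path_edge (s0_f5135 IH) (path_edge (s0_f6935r IH) (path_nil s0_v461))))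
theorem s0_f6937 : ed sl_ft sq267 = s0_v461 :=
  gap_rel s0_rot16 (path_edge (s0_f6935r IH) (path_nil s0_v461))
theorem s0_f6943 : ed sl_dt sq414 = sq612 :=
  real_edge rels S fwd inv o lvl plet idx 16 IH Gen.d sp414 sp612 rfl rfl
theorem s0_f6944 : ed sl_ct sq612 = sq900 :=
  real_edge rels S fwd inv o lvl plet idx 16 IH Gen.c sp612 sp900 rfl rfl
theorem s0_f6934r : ed sl_gt s0_v461 = sq266 :=
  edge_flip (s0_f6934 IH)
theorem s0_f6945 : ed sl_ct sq267 = s0_v461 :=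
  gap_rel s0_rot39 (path_edge (s0_f3696 IH) (path_edge (s0_f3560 IH) (path_edge (s0_f6934r IH) (path_nil s0_v461))))
theorem s0_f6956 : ed sl_at sq271 = sq392 :=
  real_edge rels S fwd inv o lvl plet idx 16 IH Gen.a sp271 sp392 rfl rfl
theorem s0_f6957 : ed sl_ft sq271 = sq408 :=
  real_edge rels S fwd inv o lvl plet idx 16 IH Gen.f sp271 sp408 rfl rfl
theorem s0_f6964 : ed sl_ft sq274 = s0_v462 :=
  rfl
theorem s0_f6964r : ed sl_ff s0_v462 = sq274 :=
  edge_flip (s0_f6964 IH)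
theorem s0_f421r : ed sl_df sq274 = sq409 :=
  edge_flip (s0_f421 IH)
theorem s0_f2300r : ed sl_ff sq409 = sq610 :=
  edge_flip (s0_f2300 IH)
theorem s0_f6965 : ed sl_df sq610 = s0_v462 :=
  gap_rel s0_rot56 (path_edge (s0_f2300r IH) (path_edge (s0_f421r IH) (path_edge (s0_f6964r IH) (path_nil s0_v462))))
theorem s0_f6967 : ed sl_ff sq274 = s0_v462 :=
  gap_rel s0_rot1 (path_edge (s0_f6964r IH) (path_nil s0_v462))
theorem s0_f6967r : ed sl_ft s0_v462 = sq274 :=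
  edge_flip (s0_f6967 IH)
theorem s0_f6968 : ed sl_dt sq610 = s0_v462 :=
  gap_rel s0_rot29 (path_edge (s0_f2287 IH) (path_edge (s0_f405 IH) (path_edge (s0_f6967r IH) (path_nil s0_v462))))
theorem s0_f6969 : ed sl_et s0_v174 = s0_v462 :=
  gap_rel s0_rot37 (path_edge (s0_f5057 IH) (path_edge (s0_f409 IH) (path_edge (s0_f6967r IH) (path_nil s0_v462))))
theorem s0_f6972 : ed sl_ct sq899 = sq610 :=
  real_edge rels S fwd inv o lvl plet idx 16 IH Gen.c sp899 sp610 rfl rfl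
theorem s0_f6973 : ed sl_dt sq1260 = sq899 :=
  real_edge rels S fwd inv o lvl plet idx 16 IH Gen.d sp1260 sp899 rfl rfl
theorem s0_f6976 : ed sl_dt sq1261 = sq1594 :=
  real_edge rels S fwd inv o lvl plet idx 16 IH Gen.d sp1261 sp1594 rfl rfl
theorem s0_f6983 : ed sl_bt sq276 = s0_v464 :=
  rfl
theorem s0_f6983r : ed sl_bf s0_v464 = sq276 :=
  edge_flip (s0_f6983 IH)
theorem s0_f5227r : ed sl_df sq276 = sq198 :=
  edge_flip (s0_f5227 IH)
theorem s0_f6985 : ed sl_df s0_v186 = s0_v464 :=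
  gap_rel s0_rot8 (path_edge (s0_f5221 IH) (path_edge (s0_f5227r IH) (path_edge (s0_f6983r IH) (path_nil s0_v464))))
theorem s0_f6987 : ed sl_dt sq411 = sq608 :=
  real_edge rels S fwd inv o lvl plet idx 16 IH Gen.d sp411 sp608 rfl rfl
theorem s0_f6989 : ed sl_dt sq897 = sq1259 :=
  real_edge rels S fwd inv o lvl plet idx 16 IH Gen.d sp897 sp1259 rfl rfl
theorem s0_f6991 : ed sl_ct sq276 = s0_v465 :=
  rfl
theorem s0_f6991r : ed sl_cf s0_v465 = sq276 :=
  edge_flip (s0_f6991 IH)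
theorem s0_f431r : ed sl_af sq276 = sq179 :=
  edge_flip (s0_f431 IH)
theorem s0_f6992 : ed sl_af sq277 = s0_v465 :=
  gap_rel s0_rot10 (path_edge (s0_f2292r IH) (path_edge (s0_f431r IH) (path_edge (s0_f6991r IH) (path_nil s0_v465))))
theorem s0_f6993 : ed sl_cf sq276 = s0_v465 :=
  gap_rel s0_rot40 (path_edge (s0_f6991r IH) (path_nil s0_v465))
theorem s0_f6993r : ed sl_ct s0_v465 = sq276 :=
  edge_flip (s0_f6993 IH)
theorem s0_f6995 : ed sl_at sq277 = s0_v465 :=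
  gap_rel s0_rot64 (path_edge (s0_f438 IH) (path_edge (s0_f2288 IH) (path_edge (s0_f6993r IH) (path_nil s0_v465))))
theorem s0_f6996 : ed sl_ft sq276 = s0_v466 :=
  rfl
theorem s0_f6996r : ed sl_ff s0_v466 = sq276 :=
  edge_flip (s0_f6996 IH)
theorem s0_f6998 : ed sl_df s0_v187 = s0_v466 :=
  gap_rel s0_rot56 (path_edge (s0_f5233 IH) (path_edge (s0_f5227r IH) (path_edge (s0_f6996r IH) (path_nil s0_v466))))
theorem s0_f6999 : ed sl_ff sq276 = s0_v466 :=
  gap_rel s0_rot1 (path_edge (s0_f6996r IH) (path_nil s0_v466))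
theorem s0_f6255r : ed sl_at s0_v394 = sq219 :=
  edge_flip (s0_f6255 IH)
theorem s0_f7000 : ed sl_gf s0_v396 = s0_v466 :=
  gap_rel s0_rot2 (path_edge (s0_f6270 IH) (path_edge (s0_f6255r IH) (path_edge (s0_f6257 IH) (path_edge (s0_f6996r IH) (path_nil s0_v466)))))
theorem s0_f7000r : ed sl_gt s0_v466 = s0_v396 :=
  edge_flip (s0_f7000 IH)
theorem s0_f6270r : ed sl_ft s0_v396 = sq219 :=
  edge_flip (s0_f6270 IH)
theorem s0_f7003 : ed sl_bt s0_v192 = s0_v466 :=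
  gap_rel s0_rot4 (path_edge (s0_f5270 IH) (path_edge (s0_f2478 IH) (path_edge (s0_f2477 IH) (path_edge (s0_f2476 IH) (path_edge (s0_f2475 IH) (path_edge (s0_f2474 IH) (path_edge (s0_f2467 IH) (path_edge (s0_f190r IH) (path_edge (s0_f456 IH) (path_edge (s0_f457 IH) (path_edge (s0_f478 IH) (path_edge (s0_f2291 IH) (path_edge (s0_f6270r IH) (path_edge (s0_f7000r IH) (path_nil s0_v466)))))))))))))))
theorem s0_f7003r : ed sl_bf s0_v466 = s0_v192 :=
  edge_flip (s0_f7003 IH)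
theorem s0_f7004 : ed sl_bf s0_v192 = s0_v466 :=
  gap_rel s0_rot44 (path_edge (s0_f7003r IH) (path_nil s0_v466))
theorem s0_f5270r : ed sl_ff s0_v192 = sq202 :=
  edge_flip (s0_f5270 IH)
theorem s0_f3577r : ed sl_bf sq202 = sq188 :=
  edge_flip (s0_f3577 IH)
theorem s0_f7005 : s0_v181 = s0_v464 :=
  (loop_rel s0_rot70 (path_edge (s0_f5151 IH) (path_edge (s0_f3577r IH) (path_edge (s0_f5270r IH) (path_edge (s0_f7003r IH) (path_edge (s0_f6999 IH) (path_edge (s0_f6983r IH) (path_nil s0_v464)))))))).symm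
theorem s0_f6985r : ed sl_dt s0_v464 = s0_v186 :=
  edge_flip (s0_f6985 IH)
theorem s0_f7006 : s0_v186 = s0_v461 :=
  edge_fun (edge_congr (s0_f6985r IH) (s0_f7005 IH).symm) (s0_f6936 IH)
theorem s0_f5226r : ed sl_cf sq314 = sq198 :=
  edge_flip (s0_f5226 IH)
theorem s0_f6945r : ed sl_cf s0_v461 = sq267 :=
  edge_flip (s0_f6945 IH)
theorem s0_f5039r : ed sl_bf sq267 = sq279 :=
  edge_flip (s0_f5039 IH)
theorem s0_f6929r : ed sl_cf sq279 = sq416 :=
  edge_flip (s0_f6929 IH)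
theorem s0_f7007 : ed sl_bf sq416 = sq314 :=
  gap_rel s0_rot61 (path_edge (s0_f6929r IH) (path_edge (s0_f5039r IH) (path_edge (s0_f6945r IH) (path_eq (s0_f7006 IH) (path_edge (s0_f5221 IH) (path_edge (s0_f5226r IH) (path_nil sq314)))))))
theorem s0_f7014 : ed sl_et sq467 = sq314 :=
  real_edge rels S fwd inv o lvl plet idx 16 IH Gen.e sp467 sp314 rfl rfl
theorem s0_f7017 : ed sl_gt sq416 = sq278 :=
  real_edge rels S fwd inv o lvl plet idx 16 IH Gen.g sp416 sp278 rfl rfl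
theorem s0_f7019 : ed sl_at sq310 = sq467 :=
  real_edge rels S fwd inv o lvl plet idx 16 IH Gen.a sp310 sp467 rfl rfl
theorem s0_f7024 : ed sl_gt sq413 = sq613 :=
  real_edge rels S fwd inv o lvl plet idx 16 IH Gen.g sp413 sp613 rfl rfl
theorem s0_f7027 : ed sl_ct sq613 = sq414 :=
  real_edge rels S fwd inv o lvl plet idx 16 IH Gen.c sp613 sp414 rfl rfl
theorem s0_f7033 : ed sl_dt sq462 = sq309 :=
  real_edge rels S fwd inv o lvl plet idx 16 IH Gen.d sp462 sp309 rfl rfl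
theorem s0_f6999r : ed sl_ft s0_v466 = sq276 :=
  edge_flip (s0_f6999 IH)
theorem s0_f7048 : ed sl_at s0_v174 = s0_v466 :=
  gap_rel s0_rot90 (path_edge (s0_f5057 IH) (path_edge (s0_f2288 IH) (path_edge (s0_f6999r IH) (path_nil s0_v466))))
theorem s0_f7049 : ed sl_bt sq277 = s0_v467 :=
  rfl
theorem s0_f7049r : ed sl_bf s0_v467 = sq277 :=
  edge_flip (s0_f7049 IH)
theorem s0_f438r : ed sl_cf sq277 = sq179 :=
  edge_flip (s0_f438 IH)
theorem s0_f2289r : ed sl_bf sq179 = sq116 :=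
  edge_flip (s0_f2289 IH)
theorem s0_f4075r : ed sl_cf sq116 = sq154 :=
  edge_flip (s0_f4075 IH)
theorem s0_f7051 : ed sl_cf s0_v155 = s0_v467 :=
  gap_rel s0_rot27 (path_edge (s0_f4837 IH) (path_edge (s0_f4075r IH) (path_edge (s0_f2289r IH) (path_edge (s0_f438r IH) (path_edge (s0_f7049r IH) (path_nil s0_v467))))))
theorem s0_f7051r : ed sl_ct s0_v467 = s0_v155 :=
  edge_flip (s0_f7051 IH)
theorem s0_f7052 : ed sl_ct s0_v155 = s0_v467 :=
  gap_rel s0_rot59 (path_edge (s0_f7051r IH) (path_nil s0_v467))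
theorem s0_f7053 : ed sl_dt sq277 = s0_v468 :=
  rfl
theorem s0_f7053r : ed sl_df s0_v468 = sq277 :=
  edge_flip (s0_f7053 IH)
theorem s0_f7054 : ed sl_df sq277 = s0_v468 :=
  gap_rel s0_rot54 (path_edge (s0_f7053r IH) (path_nil s0_v468))
theorem s0_f7057 : ed sl_bt sq674 = sq455 :=
  real_edge rels S fwd inv o lvl plet idx 16 IH Gen.b sp674 sp455 rfl rfl
theorem s0_f7058 : ed sl_ct sq982 = sq674 :=
  real_edge rels S fwd inv o lvl plet idx 16 IH Gen.c sp982 sp674 rfl rfl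
theorem s0_f7060 : ed sl_ct sq602 = sq776 :=
  real_edge rels S fwd inv o lvl plet idx 16 IH Gen.c sp602 sp776 rfl rfl
theorem s0_f7061 : ed sl_bt sq776 = sq1116 :=
  real_edge rels S fwd inv o lvl plet idx 16 IH Gen.b sp776 sp1116 rfl rfl
theorem s0_f7063 : ed sl_ft sq277 = s0_v469 :=
  rfl
theorem s0_f7063r : ed sl_ff s0_v469 = sq277 :=
  edge_flip (s0_f7063 IH)
theorem s0_f7064 : ed sl_cf s0_v174 = s0_v469 :=
  gap_rel s0_rot65 (path_edge (s0_f5059 IH) (path_edge (s0_f438r IH) (path_edge (s0_f7063r IH) (path_nil s0_v469))))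
theorem s0_f7074 : ed sl_bt sq278 = s0_v471 :=
  rfl
theorem s0_f7074r : ed sl_bf s0_v471 = sq278 :=
  edge_flip (s0_f7074 IH)
theorem s0_f4321r : ed sl_cf sq278 = sq180 :=
  edge_flip (s0_f4321 IH)
theorem s0_f2472r : ed sl_bf sq180 = sq117 :=
  edge_flip (s0_f2472 IH)
theorem s0_f4845r : ed sl_cf sq117 = sq155 :=
  edge_flip (s0_f4845 IH)
theorem s0_f7076 : ed sl_cf s0_v156 = s0_v471 :=
  gap_rel s0_rot27 (path_edge (s0_f4853 IH) (path_edge (s0_f4845r IH) (path_edge (s0_f2472r IH) (path_edge (s0_f4321r IH) (path_edge (s0_f7074r IH) (path_nil s0_v471))))))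
theorem s0_f7076r : ed sl_ct s0_v471 = s0_v156 :=
  edge_flip (s0_f7076 IH)
theorem s0_f7078 : ed sl_ct s0_v156 = s0_v471 :=
  gap_rel s0_rot59 (path_edge (s0_f7076r IH) (path_nil s0_v471))
theorem s0_f7079 : ed sl_at sq279 = s0_v472 :=
  rfl
theorem s0_f7079r : ed sl_af s0_v472 = sq279 :=
  edge_flip (s0_f7079 IH)
theorem s0_f2473r : ed sl_gf sq279 = sq180 :=
  edge_flip (s0_f2473 IH)
theorem s0_f7083 : ed sl_gf s0_v175 = s0_v472 :=
  gap_rel s0_rot47 (path_edge (s0_f5066 IH) (path_edge (s0_f2473r IH) (path_edge (s0_f7079r IH) (path_nil s0_v472))))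
theorem s0_f7084 : ed sl_ft sq279 = s0_v472 :=
  gap_rel s0_rot107 (path_edge (s0_f2473 IH) (path_edge (s0_f3775 IH) (path_edge (s0_f3776 IH) (path_edge (s0_f7079r IH) (path_nil s0_v472)))))
theorem s0_f7084r : ed sl_ff s0_v472 = sq279 :=
  edge_flip (s0_f7084 IH)
theorem s0_f7086 : ed sl_ff sq279 = s0_v472 :=
  gap_rel s0_rot1 (path_edge (s0_f7084r IH) (path_nil s0_v472))
theorem s0_f7086r : ed sl_ft s0_v472 = sq279 :=
  edge_flip (s0_f7086 IH)
theorem s0_f5221r : ed sl_bt s0_v186 = sq198 :=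
  edge_flip (s0_f5221 IH)
theorem s0_f7088 : ed sl_bt s0_v187 = s0_v472 :=
  gap_rel s0_rot12 (path_edge (s0_f5231 IH) (path_edge (s0_f5221r IH) (path_eq (s0_f7006 IH).symm (path_edge (s0_f6937 IH) (path_edge (s0_f5039 IH) (path_edge (s0_f7086r IH) (path_nil s0_v472)))))))
theorem s0_f7095 : ed sl_ct sq283 = s0_v473 :=
  rfl
theorem s0_f7095r : ed sl_cf s0_v473 = sq283 :=
  edge_flip (s0_f7095 IH)
theorem s0_f4206r : ed sl_bf sq283 = sq182 :=
  edge_flip (s0_f4206 IH)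
theorem s0_f3584r : ed sl_cf sq182 = sq119 :=
  edge_flip (s0_f3584 IH)
theorem s0_f7097 : ed sl_bf s0_v226 = s0_v473 :=
  gap_rel s0_rot61 (path_edge (s0_f5444 IH) (path_edge (s0_f4182 IH) (path_edge (s0_f3584r IH) (path_edge (s0_f4206r IH) (path_edge (s0_f7095r IH) (path_nil s0_v473))))))
theorem s0_f7098 : ed sl_cf sq283 = s0_v473 :=
  gap_rel s0_rot40 (path_edge (s0_f7095r IH) (path_nil s0_v473))
theorem s0_f7102 : ed sl_ct sq912 = sq621 :=
  real_edge rels S fwd inv o lvl plet idx 16 IH Gen.c sp912 sp621 rfl rfl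
theorem s0_f7108 : ed sl_bt sq1235 = sq878 :=
  real_edge rels S fwd inv o lvl plet idx 16 IH Gen.b sp1235 sp878 rfl rfl
theorem s0_f7109 : ed sl_ct sq1579 = sq1235 :=
  real_edge rels S fwd inv o lvl plet idx 16 IH Gen.c sp1579 sp1235 rfl rfl
theorem s0_f7098r : ed sl_ct s0_v473 = sq283 :=
  edge_flip (s0_f7098 IH)
theorem s0_f7110 : ed sl_bt s0_v226 = s0_v473 :=
  gap_rel s0_rot41 (path_edge (s0_f5443 IH) (path_edge (s0_f4181 IH) (path_edge (s0_f3809 IH) (path_edge (s0_f4049 IH) (path_edge (s0_f7098r IH) (path_nil s0_v473))))))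
theorem s0_f7116 : ed sl_bt sq624 = sq444 :=
  real_edge rels S fwd inv o lvl plet idx 16 IH Gen.b sp624 sp444 rfl rfl
theorem s0_f7117 : ed sl_et sq444 = sq655 :=
  real_edge rels S fwd inv o lvl plet idx 16 IH Gen.e sp444 sp655 rfl rfl
theorem s0_f7129 : ed sl_ft sq287 = s0_v474 :=
  rfl
theorem s0_f7131 : ed sl_ct sq432 = sq287 :=
  real_edge rels S fwd inv o lvl plet idx 16 IH Gen.c sp432 sp287 rfl rfl
theorem s0_f7129r : ed sl_ff s0_v474 = sq287 :=
  edge_flip (s0_f7129 IH)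
theorem s0_f7134 : ed sl_ff sq287 = s0_v474 :=
  gap_rel s0_rot1 (path_edge (s0_f7129r IH) (path_nil s0_v474))
theorem s0_f7134r : ed sl_ft s0_v474 = sq287 :=
  edge_flip (s0_f7134 IH)
theorem s0_f7137 : ed sl_bt s0_v227 = s0_v474 :=
  gap_rel s0_rot12 (path_edge (s0_f5445 IH) (path_edge (s0_f4181 IH) (path_edge (s0_f4185 IH) (path_edge (s0_f4186 IH) (path_edge (s0_f7134r IH) (path_nil s0_v474))))))
theorem s0_f7142 : ed sl_dt sq288 = sq431 :=
  real_edge rels S fwd inv o lvl plet idx 16 IH Gen.d sp288 sp431 rfl rfl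
theorem s0_f7143 : ed sl_ft sq288 = s0_v475 :=
  rfl
theorem s0_f7145 : ed sl_dt sq431 = sq288 :=
  real_edge rels S fwd inv o lvl plet idx 16 IH Gen.d sp431 sp288 rfl rfl
theorem s0_f7143r : ed sl_ff s0_v475 = sq288 :=
  edge_flip (s0_f7143 IH)
theorem s0_f5112r : ed sl_ef sq288 = sq186 :=
  edge_flip (s0_f5112 IH)
theorem s0_f7146 : ed sl_ef s0_v178 = s0_v475 :=
  gap_rel s0_rot32 (path_edge (s0_f5116 IH) (path_edge (s0_f5112r IH) (path_edge (s0_f7143r IH) (path_nil s0_v475))))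
theorem s0_f7147 : ed sl_ff sq288 = s0_v475 :=
  gap_rel s0_rot1 (path_edge (s0_f7143r IH) (path_nil s0_v475))
theorem s0_f7147r : ed sl_ft s0_v475 = sq288 :=
  edge_flip (s0_f7147 IH)
theorem s0_f7149 : ed sl_et s0_v178 = s0_v475 :=
  gap_rel s0_rot37 (path_edge (s0_f5113 IH) (path_edge (s0_f5049 IH) (path_edge (s0_f7147r IH) (path_nil s0_v475))))
theorem s0_f7150 : ed sl_gt sq288 = s0_v476 :=
  rfl
theorem s0_f7150r : ed sl_gf s0_v476 = sq288 :=
  edge_flip (s0_f7150 IH)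
theorem s0_f7152 : ed sl_ef s0_v179 = s0_v476 :=
  gap_rel s0_rot36 (path_edge (s0_f5132 IH) (path_edge (s0_f5112r IH) (path_edge (s0_f7150r IH) (path_nil s0_v476))))
theorem s0_f7153 : ed sl_gf sq288 = s0_v476 :=
  gap_rel s0_rot76 (path_edge (s0_f7150r IH) (path_nil s0_v476))
theorem s0_f7158 : ed sl_dt sq290 = sq433 :=
  real_edge rels S fwd inv o lvl plet idx 16 IH Gen.d sp290 sp433 rfl rfl
theorem s0_f7161 : ed sl_dt sq289 = s0_v477 :=
  rfl
theorem s0_f7162 : ed sl_at sq435 = sq289 :=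
  real_edge rels S fwd inv o lvl plet idx 16 IH Gen.a sp435 sp289 rfl rfl
theorem s0_f7161r : ed sl_df s0_v477 = sq289 :=
  edge_flip (s0_f7161 IH)
theorem s0_f7163 : ed sl_df sq289 = s0_v477 :=
  gap_rel s0_rot54 (path_edge (s0_f7161r IH) (path_nil s0_v477))
theorem s0_f7163r : ed sl_dt s0_v477 = sq289 :=
  edge_flip (s0_f7163 IH)
theorem s0_f7168 : ed sl_bt s0_v477 = s0_v477 :=
  gap_rel s0_rot69 (path_edge (s0_f7161 IH) (path_edge (s0_f5110 IH) (path_edge (s0_f7163r IH) (path_nil s0_v477))))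
theorem s0_f7169 : ed sl_gt sq289 = sq436 :=
  real_edge rels S fwd inv o lvl plet idx 16 IH Gen.g sp289 sp436 rfl rfl
theorem s0_f7171 : ed sl_at sq641 = sq432 :=
  real_edge rels S fwd inv o lvl plet idx 16 IH Gen.a sp641 sp432 rfl rfl
theorem s0_f7177 : ed sl_ft sq289 = s0_v478 :=
  rfl
theorem s0_f7177r : ed sl_ff s0_v478 = sq289 :=
  edge_flip (s0_f7177 IH)
theorem s0_f7180 : ed sl_ff sq289 = s0_v478 :=
  gap_rel s0_rot1 (path_edge (s0_f7177r IH) (path_nil s0_v478))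
theorem s0_f7180r : ed sl_ft s0_v478 = sq289 :=
  edge_flip (s0_f7180 IH)
theorem s0_f7182 : ed sl_ct s0_v177 = s0_v478 :=
  gap_rel s0_rot42 (path_edge (s0_f5102 IH) (path_edge (s0_f2417 IH) (path_edge (s0_f7180r IH) (path_nil s0_v478))))
theorem s0_f7184 : ed sl_ft sq290 = s0_v479 :=
  rfl
theorem s0_f7184r : ed sl_ff s0_v479 = sq290 :=
  edge_flip (s0_f7184 IH)
theorem s0_f5140r : ed sl_ef sq290 = sq188 :=
  edge_flip (s0_f5140 IH)
theorem s0_f7185 : ed sl_ef s0_v181 = s0_v479 :=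
  gap_rel s0_rot32 (path_edge (s0_f5151 IH) (path_edge (s0_f5140r IH) (path_edge (s0_f7184r IH) (path_nil s0_v479))))
theorem s0_f7186 : ed sl_ff sq290 = s0_v479 :=
  gap_rel s0_rot1 (path_edge (s0_f7184r IH) (path_nil s0_v479))
theorem s0_f4243r : ed sl_gf sq290 = sq185 :=
  edge_flip (s0_f4243 IH)
theorem s0_f7187 : ed sl_gf s0_v475 = s0_v479 :=
  gap_rel s0_rot2 (path_edge (s0_f7147 IH) (path_edge (s0_f2499 IH) (path_edge (s0_f4243r IH) (path_edge (s0_f7184r IH) (path_nil s0_v479)))))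
theorem s0_f7187r : ed sl_gt s0_v479 = s0_v475 :=
  edge_flip (s0_f7187 IH)
theorem s0_f7146r : ed sl_et s0_v475 = s0_v178 :=
  edge_flip (s0_f7146 IH)
theorem s0_f7188 : ed sl_et s0_v181 = s0_v479 :=
  gap_rel s0_rot49 (path_edge (s0_f5153 IH) (path_edge (s0_f7146r IH) (path_edge (s0_f7187r IH) (path_nil s0_v479))))
theorem s0_f7189 : ed sl_gt s0_v475 = s0_v479 :=
  gap_rel s0_rot25 (path_edge (s0_f7187r IH) (path_nil s0_v479))
theorem s0_f7188r : ed sl_ef s0_v479 = s0_v181 :=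
  edge_flip (s0_f7188 IH)
theorem s0_f6261r : ed sl_ef sq276 = sq411 :=
  edge_flip (s0_f6261 IH)
theorem s0_f7190 : ed sl_bf sq411 = s0_v479 :=
  gap_rel s0_rot23 (path_edge (s0_f6261r IH) (path_edge (s0_f6983r IH) (path_eq (s0_f7005 IH) (path_edge (s0_f7188r IH) (path_nil s0_v479)))))
theorem s0_f7190r : ed sl_bt s0_v479 = sq411 :=
  edge_flip (s0_f7190 IH)
theorem s0_f7191 : ed sl_bt sq411 = s0_v479 :=
  gap_rel s0_rot68 (path_edge (s0_f7190r IH) (path_nil s0_v479))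
theorem s0_f7192 : ed sl_dt sq608 = sq411 :=
  real_edge rels S fwd inv o lvl plet idx 16 IH Gen.d sp608 sp411 rfl rfl
theorem s0_f7194 : ed sl_at sq291 = s0_v480 :=
  rfl
theorem s0_f7194r : ed sl_af s0_v480 = sq291 :=
  edge_flip (s0_f7194 IH)
theorem s0_f7195 : ed sl_af sq291 = s0_v480 :=
  gap_rel s0_rot66 (path_edge (s0_f7194r IH) (path_nil s0_v480))
theorem s0_f3870r : ed sl_bf sq291 = sq186 :=
  edge_flip (s0_f3870 IH)
theorem s0_f2506r : ed sl_af sq186 = sq122 :=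
  edge_flip (s0_f2506 IH)
theorem s0_f3572r : ed sl_af sq75 = sq46 :=
  edge_flip (s0_f3572 IH)
theorem s0_f7196 : ed sl_bf s0_v287 = s0_v480 :=
  gap_rel s0_rot93 (path_edge (s0_f5750 IH) (path_edge (s0_f4446 IH) (path_edge (s0_f3865 IH) (path_edge (s0_f450r IH) (path_edge (s0_f3572r IH) (path_edge (s0_f2505r IH) (path_edge (s0_f2506r IH) (path_edge (s0_f3870r IH) (path_edge (s0_f7194r IH) (path_nil s0_v480))))))))))
theorem s0_f7196r : ed sl_bt s0_v480 = s0_v287 :=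
  edge_flip (s0_f7196 IH)
theorem s0_f7197 : ed sl_bt s0_v287 = s0_v480 :=
  gap_rel s0_rot68 (path_edge (s0_f7196r IH) (path_nil s0_v480))
theorem s0_f6482r : ed sl_bt s0_v407 = sq266 :=
  edge_flip (s0_f6482 IH)
theorem s0_f7198 : ed sl_ft s0_v459 = s0_v480 :=
  gap_rel s0_rot116 (path_edge (s0_f6911 IH) (path_edge (s0_f3688 IH) (path_edge (s0_f6482r IH) (path_edge (s0_f6486 IH) (path_edge (s0_f7196r IH) (path_nil s0_v480))))))
theorem s0_f7198r : ed sl_ff s0_v480 = s0_v459 :=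
  edge_flip (s0_f7198 IH)
theorem s0_f7199 : ed sl_ff s0_v459 = s0_v480 :=
  gap_rel s0_rot1 (path_edge (s0_f7198r IH) (path_nil s0_v480))
theorem s0_f7200 : ed sl_ct sq291 = s0_v481 :=
  rfl
theorem s0_f7200r : ed sl_cf s0_v481 = sq291 :=
  edge_flip (s0_f7200 IH)
theorem s0_f7201 : ed sl_cf sq291 = s0_v481 :=
  gap_rel s0_rot40 (path_edge (s0_f7200r IH) (path_nil s0_v481))
theorem s0_f7202 : ed sl_ft sq291 = s0_v482 :=
  rfl
theorem s0_f7202r : ed sl_ff s0_v482 = sq291 :=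
  edge_flip (s0_f7202 IH)
theorem s0_f7205 : ed sl_ff sq291 = s0_v482 :=
  gap_rel s0_rot1 (path_edge (s0_f7202r IH) (path_nil s0_v482))
theorem s0_f7205r : ed sl_ft s0_v482 = sq291 :=
  edge_flip (s0_f7205 IH)
theorem s0_f7207 : ed sl_dt s0_v480 = s0_v482 :=
  gap_rel s0_rot29 (path_edge (s0_f7198 IH) (path_edge (s0_f6914 IH) (path_edge (s0_f7205r IH) (path_nil s0_v482))))
theorem s0_f7208 : ed sl_gt sq291 = s0_v483 :=
  rfl
theorem s0_f7210 : ed sl_bt sq292 = s0_v484 :=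
  rfl
theorem s0_f7210r : ed sl_bf s0_v484 = sq292 :=
  edge_flip (s0_f7210 IH)
theorem s0_f7211 : ed sl_bf sq292 = s0_v484 :=
  gap_rel s0_rot44 (path_edge (s0_f7210r IH) (path_nil s0_v484))
theorem s0_f7213 : ed sl_et sq292 = sq435 :=
  real_edge rels S fwd inv o lvl plet idx 16 IH Gen.e sp292 sp435 rfl rfl
theorem s0_f7214 : ed sl_ft sq292 = s0_v485 :=
  rfl
theorem s0_f7214r : ed sl_ff s0_v485 = sq292 :=
  edge_flip (s0_f7214 IH)
theorem s0_f4258r : ed sl_af sq292 = sq187 :=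
  edge_flip (s0_f4258 IH)
theorem s0_f7215 : ed sl_af s0_v180 = s0_v485 :=
  gap_rel s0_rot0 (path_edge (s0_f5145 IH) (path_edge (s0_f4258r IH) (path_edge (s0_f7214r IH) (path_nil s0_v485))))
theorem s0_f7217 : ed sl_ff sq292 = s0_v485 :=
  gap_rel s0_rot1 (path_edge (s0_f7214r IH) (path_nil s0_v485))
theorem s0_f7217r : ed sl_ft s0_v485 = sq292 :=
  edge_flip (s0_f7217 IH)
theorem s0_f7218 : ed sl_at s0_v180 = s0_v485 :=
  gap_rel s0_rot90 (path_edge (s0_f5142 IH) (path_edge (s0_f5122 IH) (path_edge (s0_f7217r IH) (path_nil s0_v485))))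
theorem s0_f7219 : ed sl_ct s0_v178 = s0_v485 :=
  gap_rel s0_rot42 (path_edge (s0_f5113 IH) (path_edge (s0_f5046 IH) (path_edge (s0_f7217r IH) (path_nil s0_v485))))
theorem s0_f7220 : ed sl_gt sq292 = s0_v486 :=
  rfl
theorem s0_f7220r : ed sl_gf s0_v486 = sq292 :=
  edge_flip (s0_f7220 IH)
theorem s0_f7223 : ed sl_gf sq292 = s0_v486 :=
  gap_rel s0_rot76 (path_edge (s0_f7220r IH) (path_nil s0_v486))
theorem s0_f7223r : ed sl_gt s0_v486 = sq292 :=
  edge_flip (s0_f7223 IH)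
theorem s0_f7225 : ed sl_ct s0_v179 = s0_v486 :=
  gap_rel s0_rot39 (path_edge (s0_f5130 IH) (path_edge (s0_f5046 IH) (path_edge (s0_f7223r IH) (path_nil s0_v486))))
theorem s0_f7233 : ed sl_bt sq881 = sq597 :=
  real_edge rels S fwd inv o lvl plet idx 16 IH Gen.b sp881 sp597 rfl rfl
theorem s0_f7249 : ed sl_bt sq295 = sq440 :=
  real_edge rels S fwd inv o lvl plet idx 16 IH Gen.b sp295 sp440 rfl rfl
theorem s0_f7259 : ed sl_gt sq297 = sq449 :=
  real_edge rels S fwd inv o lvl plet idx 16 IH Gen.g sp297 sp449 rfl rfl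
theorem s0_f7279 : ed sl_ft sq302 = sq448 :=
  real_edge rels S fwd inv o lvl plet idx 16 IH Gen.f sp302 sp448 rfl rfl
theorem s0_f7292 : ed sl_ct sq463 = sq307 :=
  real_edge rels S fwd inv o lvl plet idx 16 IH Gen.c sp463 sp307 rfl rfl
theorem s0_f7293 : ed sl_ft sq685 = sq463 :=
  real_edge rels S fwd inv o lvl plet idx 16 IH Gen.f sp685 sp463 rfl rfl
theorem s0_f7304 : ed sl_bt sq305 = s0_v492 :=
  rfl
theorem s0_f7304r : ed sl_bf s0_v492 = sq305 :=
  edge_flip (s0_f7304 IH)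
theorem s0_f7308 : ed sl_bf sq305 = s0_v492 :=
  gap_rel s0_rot44 (path_edge (s0_f7304r IH) (path_nil s0_v492))
theorem s0_f7318 : ed sl_bt sq681 = sq989 :=
  real_edge rels S fwd inv o lvl plet idx 16 IH Gen.b sp681 sp989 rfl rfl
theorem s0_f7319 : ed sl_ct sq305 = sq195 :=
  real_edge rels S fwd inv o lvl plet idx 16 IH Gen.c sp305 sp195 rfl rfl
theorem s0_f7320 : ed sl_dt sq305 = sq457 :=
  real_edge rels S fwd inv o lvl plet idx 16 IH Gen.d sp305 sp457 rfl rfl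
theorem s0_f7325 : ed sl_bt sq630 = sq924 :=
  real_edge rels S fwd inv o lvl plet idx 16 IH Gen.b sp630 sp924 rfl rfl
theorem s0_f7326 : ed sl_dt sq408 = sq604 :=
  real_edge rels S fwd inv o lvl plet idx 16 IH Gen.d sp408 sp604 rfl rfl
theorem s0_f7335 : ed sl_ft sq448 = sq302 :=
  real_edge rels S fwd inv o lvl plet idx 16 IH Gen.f sp448 sp302 rfl rfl
theorem s0_f7345 : ed sl_dt sq1325 = sq974 :=
  real_edge rels S fwd inv o lvl plet idx 16 IH Gen.d sp1325 sp974 rfl rfl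
theorem s0_f7347 : ed sl_gt sq306 = s0_v495 :=
  rfl
theorem s0_f7347r : ed sl_gf s0_v495 = sq306 :=
  edge_flip (s0_f7347 IH)
theorem s0_f514r : ed sl_cf sq306 = sq193 :=
  edge_flip (s0_f514 IH)
theorem s0_f7348 : ed sl_cf s0_v183 = s0_v495 :=
  gap_rel s0_rot43 (path_edge (s0_f5185 IH) (path_edge (s0_f514r IH) (path_edge (s0_f7347r IH) (path_nil s0_v495))))
theorem s0_f7350 : ed sl_gf sq306 = s0_v495 :=
  gap_rel s0_rot76 (path_edge (s0_f7347r IH) (path_nil s0_v495))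
theorem s0_f7350r : ed sl_gt s0_v495 = sq306 :=
  edge_flip (s0_f7350 IH)
theorem s0_f7352 : ed sl_et sq504 = s0_v495 :=
  gap_rel s0_rot49 (path_edge (s0_f533 IH) (path_edge (s0_f516 IH) (path_edge (s0_f7350r IH) (path_nil s0_v495))))
theorem s0_f7353 : ed sl_bt sq738 = sq504 :=
  real_edge rels S fwd inv o lvl plet idx 16 IH Gen.b sp738 sp504 rfl rfl
theorem s0_f7357 : ed sl_gt sq307 = s0_v496 :=
  rfl
theorem s0_f7358 : ed sl_at sq462 = sq307 :=
  real_edge rels S fwd inv o lvl plet idx 16 IH Gen.a sp462 sp307 rfl rfl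
theorem s0_f7357r : ed sl_gf s0_v496 = sq307 :=
  edge_flip (s0_f7357 IH)
theorem s0_f7362 : ed sl_gf sq307 = s0_v496 :=
  gap_rel s0_rot76 (path_edge (s0_f7357r IH) (path_nil s0_v496))
theorem s0_f7362r : ed sl_gt s0_v496 = sq307 :=
  edge_flip (s0_f7362 IH)
theorem s0_f7363 : ed sl_bt s0_v183 = s0_v496 :=
  gap_rel s0_rot26 (path_edge (s0_f5182 IH) (path_edge (s0_f1722 IH) (path_edge (s0_f4340 IH) (path_edge (s0_f4341 IH) (path_edge (s0_f7362r IH) (path_nil s0_v496))))))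
theorem s0_f7366 : ed sl_at sq308 = s0_v497 :=
  rfl
theorem s0_f7366r : ed sl_af s0_v497 = sq308 :=
  edge_flip (s0_f7366 IH)
theorem s0_f7367 : ed sl_af sq308 = s0_v497 :=
  gap_rel s0_rot66 (path_edge (s0_f7366r IH) (path_nil s0_v497))
theorem s0_f5215r : ed sl_df sq308 = sq197 :=
  edge_flip (s0_f5215 IH)
theorem s0_f7368 : ed sl_df s0_v185 = s0_v497 :=
  gap_rel s0_rot51 (path_edge (s0_f5211 IH) (path_edge (s0_f5215r IH) (path_edge (s0_f7366r IH) (path_nil s0_v497))))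
theorem s0_f4193r : ed sl_ff sq308 = sq308 :=
  edge_flip (s0_f4193 IH)
theorem s0_f7370 : ed sl_ff s0_v497 = s0_v497 :=
  gap_rel s0_rot11 (path_edge (s0_f7367 IH) (path_edge (s0_f4193r IH) (path_edge (s0_f7366r IH) (path_nil s0_v497))))
theorem s0_f7370r : ed sl_ft s0_v497 = s0_v497 :=
  edge_flip (s0_f7370 IH)
theorem s0_f7368r : ed sl_dt s0_v497 = s0_v185 :=
  edge_flip (s0_f7368 IH)
theorem s0_f7371 : ed sl_dt s0_v185 = s0_v497 :=
  gap_rel s0_rot29 (path_edge (s0_f5214r IH) (path_edge (s0_f7368r IH) (path_edge (s0_f7370r IH) (path_nil s0_v497))))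
theorem s0_f7373 : ed sl_bt sq309 = s0_v498 :=
  rfl
theorem s0_f7373r : ed sl_bf s0_v498 = sq309 :=
  edge_flip (s0_f7373 IH)
theorem s0_f7374 : ed sl_bf sq309 = s0_v498 :=
  gap_rel s0_rot44 (path_edge (s0_f7373r IH) (path_nil s0_v498))
theorem s0_f5228r : ed sl_ef sq309 = sq198 :=
  edge_flip (s0_f5228 IH)
theorem s0_f7376 : ed sl_ef s0_v186 = s0_v498 :=
  gap_rel s0_rot46 (path_edge (s0_f5221 IH) (path_edge (s0_f5228r IH) (path_edge (s0_f7373r IH) (path_nil s0_v498))))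
theorem s0_f7376r : ed sl_et s0_v498 = s0_v186 :=
  edge_flip (s0_f7376 IH)
theorem s0_f7378 : ed sl_et s0_v186 = s0_v498 :=
  gap_rel s0_rot31 (path_edge (s0_f7376r IH) (path_nil s0_v498))
theorem s0_f7380 : ed sl_gt sq395 = s0_v498 :=
  gap_rel s0_rot21 (path_edge (s0_f3684 IH) (path_edge (s0_f6934r IH) (path_eq (s0_f7006 IH) (path_edge (s0_f7376r IH) (path_nil s0_v498)))))
theorem s0_f7383 : ed sl_dt sq396 = sq581 :=
  real_edge rels S fwd inv o lvl plet idx 16 IH Gen.d sp396 sp581 rfl rfl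
theorem s0_f7385 : ed sl_ct sq857 = sq581 :=
  real_edge rels S fwd inv o lvl plet idx 16 IH Gen.c sp857 sp581 rfl rfl
theorem s0_f7386 : ed sl_dt sq1225 = sq857 :=
  real_edge rels S fwd inv o lvl plet idx 16 IH Gen.d sp1225 sp857 rfl rfl
theorem s0_f7390 : ed sl_bt sq1573 = sq1225 :=
  real_edge rels S fwd inv o lvl plet idx 16 IH Gen.b sp1573 sp1225 rfl rfl
theorem s0_f7391 : ed sl_ct sq581 = sq857 :=
  real_edge rels S fwd inv o lvl plet idx 16 IH Gen.c sp581 sp857 rfl rfl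
theorem s0_f7393 : ed sl_bt sq857 = sq1226 :=
  real_edge rels S fwd inv o lvl plet idx 16 IH Gen.b sp857 sp1226 rfl rfl
theorem s0_f7395 : ed sl_dt sq1226 = sq1573 :=
  real_edge rels S fwd inv o lvl plet idx 16 IH Gen.d sp1226 sp1573 rfl rfl
theorem s0_f7396 : ed sl_ft sq309 = s0_v499 :=
  rfl
theorem s0_f7396r : ed sl_ff s0_v499 = sq309 :=
  edge_flip (s0_f7396 IH)
theorem s0_f7399 : ed sl_ff sq309 = s0_v499 :=
  gap_rel s0_rot1 (path_edge (s0_f7396r IH) (path_nil s0_v499))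
theorem s0_f7399r : ed sl_ft s0_v499 = sq309 :=
  edge_flip (s0_f7399 IH)
theorem s0_f7401 : ed sl_at sq311 = s0_v499 :=
  gap_rel s0_rot90 (path_edge (s0_f4241 IH) (path_edge (s0_f5202 IH) (path_edge (s0_f7399r IH) (path_nil s0_v499))))
theorem s0_f7402 : ed sl_et s0_v187 = s0_v499 :=
  gap_rel s0_rot37 (path_edge (s0_f5231 IH) (path_edge (s0_f5224 IH) (path_edge (s0_f7399r IH) (path_nil s0_v499))))
theorem s0_f7403 : ed sl_gt sq309 = s0_v500 :=
  rfl
theorem s0_f7403r : ed sl_gf s0_v500 = sq309 :=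
  edge_flip (s0_f7403 IH)
theorem s0_f7405 : ed sl_ef s0_v188 = s0_v500 :=
  gap_rel s0_rot36 (path_edge (s0_f5240 IH) (path_edge (s0_f5228r IH) (path_edge (s0_f7403r IH) (path_nil s0_v500))))
theorem s0_f7406 : ed sl_gf sq309 = s0_v500 :=
  gap_rel s0_rot76 (path_edge (s0_f7403r IH) (path_nil s0_v500))
theorem s0_f7409 : ed sl_dt sq310 = s0_v501 :=
  rfl
theorem s0_f7409r : ed sl_df s0_v501 = sq310 :=
  edge_flip (s0_f7409 IH)
theorem s0_f7410 : ed sl_df sq310 = s0_v501 :=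
  gap_rel s0_rot54 (path_edge (s0_f7409r IH) (path_nil s0_v501))
theorem s0_f7416 : ed sl_ct sq455 = sq457 :=
  real_edge rels S fwd inv o lvl plet idx 16 IH Gen.c sp455 sp457 rfl rfl
theorem s0_f7418 : ed sl_gt sq310 = s0_v502 :=
  rfl
theorem s0_f7418r : ed sl_gf s0_v502 = sq310 :=
  edge_flip (s0_f7418 IH)
theorem s0_f7421 : ed sl_gf sq310 = s0_v502 :=
  gap_rel s0_rot76 (path_edge (s0_f7418r IH) (path_nil s0_v502))
theorem s0_f7421r : ed sl_gt s0_v502 = sq310 :=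
  edge_flip (s0_f7421 IH)
theorem s0_f7422 : ed sl_ct s0_v184 = s0_v502 :=
  gap_rel s0_rot39 (path_edge (s0_f5201 IH) (path_edge (s0_f5204 IH) (path_edge (s0_f7421r IH) (path_nil s0_v502))))

end

end

end Cfsg.Agent.Helper28.S1680
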