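import Cfsg.Agent.Lib.Helper28.S1680.Seeds5

set_option autoImplicit false
set_option maxRecDepth 100000
set_option linter.all false

namespace Cfsg.Agent.Helper28.S1680

open Cfsg.Agent.Helper28
open Cfsg.Spor.Suz (Gen)

noncomputable section

section
variable (IH : ∀ y q, lvl y q < 16 → EntryOK rels S fwd inv o plet idx y q)
include IH

theorem s0_f7424 : ed sl_gt sq311 = s0_v503 :=
  rfl
theorem s0_f7424r : ed sl_gf s0_v503 = sq311 :=
  edge_flip (s0_f7424 IH)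
theorem s0_f7427 : ed sl_ff s0_v500 = s0_v503 :=
  gap_rel s0_rot92 (path_edge (s0_f7406 IH) (path_edge (s0_f7396r IH) (path_edge (s0_f7401 IH) (path_edge (s0_f7424r IH) (path_nil s0_v503)))))
theorem s0_f7427r : ed sl_ft s0_v503 = s0_v500 :=
  edge_flip (s0_f7427 IH)
theorem s0_f7405r : ed sl_et s0_v500 = s0_v188 :=
  edge_flip (s0_f7405 IH)
theorem s0_f7428 : ed sl_et s0_v190 = s0_v503 :=
  gap_rel s0_rot37 (path_edge (s0_f5252 IH) (path_edge (s0_f7405r IH) (path_edge (s0_f7427r IH) (path_nil s0_v503))))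
theorem s0_f7429 : ed sl_ft s0_v500 = s0_v503 :=
  gap_rel s0_rot16 (path_edge (s0_f7427r IH) (path_nil s0_v503))
theorem s0_f7430 : ed sl_at sq312 = s0_v504 :=
  rfl
theorem s0_f7430r : ed sl_af s0_v504 = sq312 :=
  edge_flip (s0_f7430 IH)
theorem s0_f7431 : ed sl_af sq312 = s0_v504 :=
  gap_rel s0_rot66 (path_edge (s0_f7430r IH) (path_nil s0_v504))
theorem s0_f5218r : ed sl_cf sq312 = sq197 :=
  edge_flip (s0_f5218 IH)
theorem s0_f7432 : ed sl_cf s0_v185 = s0_v504 :=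
  gap_rel s0_rot74 (path_edge (s0_f5211 IH) (path_edge (s0_f5218r IH) (path_edge (s0_f7430r IH) (path_nil s0_v504))))
theorem s0_f4234r : ed sl_ff sq312 = sq312 :=
  edge_flip (s0_f4234 IH)
theorem s0_f7434 : ed sl_ff s0_v504 = s0_v504 :=
  gap_rel s0_rot11 (path_edge (s0_f7431 IH) (path_edge (s0_f4234r IH) (path_edge (s0_f7430r IH) (path_nil s0_v504))))
theorem s0_f7434r : ed sl_ft s0_v504 = s0_v504 :=
  edge_flip (s0_f7434 IH)
theorem s0_f7432r : ed sl_ct s0_v504 = s0_v185 :=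
  edge_flip (s0_f7432 IH)
theorem s0_f7437 : ed sl_ct s0_v185 = s0_v504 :=
  gap_rel s0_rot42 (path_edge (s0_f5214r IH) (path_edge (s0_f7432r IH) (path_edge (s0_f7434r IH) (path_nil s0_v504))))
theorem s0_f7446 : ed sl_ct sq682 = sq461 :=
  real_edge rels S fwd inv o lvl plet idx 16 IH Gen.c sp682 sp461 rfl rfl
theorem s0_f7447 : ed sl_dt sq992 = sq682 :=
  real_edge rels S fwd inv o lvl plet idx 16 IH Gen.d sp992 sp682 rfl rfl
theorem s0_f7453 : ed sl_dt sq1584 = sq1747 :=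
  real_edge rels S fwd inv o lvl plet idx 16 IH Gen.d sp1584 sp1747 rfl rfl
theorem s0_f7462 : ed sl_ct sq466 = sq686 :=
  real_edge rels S fwd inv o lvl plet idx 16 IH Gen.c sp466 sp686 rfl rfl
theorem s0_f7469 : ed sl_ft sq314 = s0_v507 :=
  rfl
theorem s0_f7469r : ed sl_ff s0_v507 = sq314 :=
  edge_flip (s0_f7469 IH)
theorem s0_f7472 : ed sl_ff sq314 = s0_v507 :=
  gap_rel s0_rot1 (path_edge (s0_f7469r IH) (path_nil s0_v507))
theorem s0_f7472r : ed sl_ft s0_v507 = sq314 :=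
  edge_flip (s0_f7472 IH)
theorem s0_f7473 : ed sl_at sq316 = s0_v507 :=
  gap_rel s0_rot90 (path_edge (s0_f4434 IH) (path_edge (s0_f4435 IH) (path_edge (s0_f7472r IH) (path_nil s0_v507))))
theorem s0_f7477 : ed sl_gt sq314 = s0_v508 :=
  rfl
theorem s0_f7477r : ed sl_gf s0_v508 = sq314 :=
  edge_flip (s0_f7477 IH)
theorem s0_f7479 : ed sl_cf s0_v188 = s0_v508 :=
  gap_rel s0_rot43 (path_edge (s0_f5240 IH) (path_edge (s0_f5226r IH) (path_edge (s0_f7477r IH) (path_nil s0_v508))))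
theorem s0_f7480 : ed sl_gf sq314 = s0_v508 :=
  gap_rel s0_rot76 (path_edge (s0_f7477r IH) (path_nil s0_v508))
theorem s0_f7497 : ed sl_gt sq316 = s0_v513 :=
  rfl
theorem s0_f7497r : ed sl_gf s0_v513 = sq316 :=
  edge_flip (s0_f7497 IH)
theorem s0_f7500 : ed sl_ff s0_v508 = s0_v513 :=
  gap_rel s0_rot92 (path_edge (s0_f7480 IH) (path_edge (s0_f7469r IH) (path_edge (s0_f7473 IH) (path_edge (s0_f7497r IH) (path_nil s0_v513)))))
theorem s0_f7500r : ed sl_ft s0_v513 = s0_v508 :=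
  edge_flip (s0_f7500 IH)
theorem s0_f7479r : ed sl_ct s0_v508 = s0_v188 :=
  edge_flip (s0_f7479 IH)
theorem s0_f7501 : ed sl_ct s0_v190 = s0_v513 :=
  gap_rel s0_rot42 (path_edge (s0_f5252 IH) (path_edge (s0_f7479r IH) (path_edge (s0_f7500r IH) (path_nil s0_v513))))
theorem s0_f7529 : ed sl_at sq319 = s0_v517 :=
  rfl
theorem s0_f7529r : ed sl_af s0_v517 = sq319 :=
  edge_flip (s0_f7529 IH)
theorem s0_f7530 : ed sl_af sq319 = s0_v517 :=
  gap_rel s0_rot66 (path_edge (s0_f7529r IH) (path_nil s0_v517))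
theorem s0_f7532 : ed sl_ft sq476 = sq319 :=
  real_edge rels S fwd inv o lvl plet idx 16 IH Gen.f sp476 sp319 rfl rfl
theorem s0_f7534 : ed sl_bt sq448 = sq297 :=
  real_edge rels S fwd inv o lvl plet idx 16 IH Gen.b sp448 sp297 rfl rfl
theorem s0_f7535 : ed sl_ft sq319 = sq476 :=
  real_edge rels S fwd inv o lvl plet idx 16 IH Gen.f sp319 sp476 rfl rfl
theorem s0_f7537 : ed sl_bt sq691 = sq996 :=
  real_edge rels S fwd inv o lvl plet idx 16 IH Gen.b sp691 sp996 rfl rfl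
theorem s0_f7538 : ed sl_gt sq319 = s0_v518 :=
  rfl
theorem s0_f7542 : ed sl_ft sq320 = sq203 :=
  real_edge rels S fwd inv o lvl plet idx 16 IH Gen.f sp320 sp203 rfl rfl
theorem s0_f7543 : ed sl_gt sq324 = sq320 :=
  real_edge rels S fwd inv o lvl plet idx 16 IH Gen.g sp324 sp320 rfl rfl
theorem s0_f7546 : ed sl_bt sq320 = sq477 :=
  real_edge rels S fwd inv o lvl plet idx 16 IH Gen.b sp320 sp477 rfl rfl
theorem s0_f7557 : ed sl_gt sq323 = sq204 :=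
  real_edge rels S fwd inv o lvl plet idx 16 IH Gen.g sp323 sp204 rfl rfl
theorem s0_f7558 : ed sl_bt sq481 = sq323 :=
  real_edge rels S fwd inv o lvl plet idx 16 IH Gen.b sp481 sp323 rfl rfl
theorem s0_f7562 : ed sl_ft sq324 = sq205 :=
  real_edge rels S fwd inv o lvl plet idx 16 IH Gen.f sp324 sp205 rfl rfl
theorem s0_f7564 : ed sl_ft sq692 = sq477 :=
  real_edge rels S fwd inv o lvl plet idx 16 IH Gen.f sp692 sp477 rfl rfl
theorem s0_f7577 : ed sl_bt sq324 = s0_v520 :=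
  rfl
theorem s0_f7578 : ed sl_at sq701 = sq481 :=
  real_edge rels S fwd inv o lvl plet idx 16 IH Gen.a sp701 sp481 rfl rfl
theorem s0_f7577r : ed sl_bf s0_v520 = sq324 :=
  edge_flip (s0_f7577 IH)
theorem s0_f7579 : ed sl_bf sq324 = s0_v520 :=
  gap_rel s0_rot44 (path_edge (s0_f7577r IH) (path_nil s0_v520))
theorem s0_f2402r : ed sl_ff sq324 = sq205 :=
  edge_flip (s0_f2402 IH)
theorem s0_f5287r : ed sl_bf sq205 = sq205 :=
  edge_flip (s0_f5287 IH)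
theorem s0_f7562r : ed sl_ff sq205 = sq324 :=
  edge_flip (s0_f7562 IH)
theorem s0_f7583 : ed sl_ff s0_v520 = s0_v520 :=
  gap_rel s0_rot70 (path_edge (s0_f7579 IH) (path_edge (s0_f7562r IH) (path_edge (s0_f5287r IH) (path_edge (s0_f2402r IH) (path_edge (s0_f7577r IH) (path_nil s0_v520))))))
theorem s0_f7586 : ed sl_bt sq654 = sq443 :=
  real_edge rels S fwd inv o lvl plet idx 16 IH Gen.b sp654 sp443 rfl rfl
theorem s0_f7592 : ed sl_gt sq477 = sq695 :=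
  real_edge rels S fwd inv o lvl plet idx 16 IH Gen.g sp477 sp695 rfl rfl
theorem s0_f7593 : ed sl_bt sq443 = sq654 :=
  real_edge rels S fwd inv o lvl plet idx 16 IH Gen.b sp443 sp654 rfl rfl
theorem s0_f7607 : ed sl_bt s0_v136 = s0_v523 :=
  rfl
theorem s0_f7607r : ed sl_bf s0_v523 = s0_v136 :=
  edge_flip (s0_f7607 IH)
theorem s0_f7608 : ed sl_bf s0_v136 = s0_v523 :=
  gap_rel s0_rot44 (path_edge (s0_f7607r IH) (path_nil s0_v523))
theorem s0_f4638r : ed sl_ef s0_v136 = s0_v44 :=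
  edge_flip (s0_f4638 IH)
theorem s0_f7609 : ed sl_ef s0_v196 = s0_v523 :=
  gap_rel s0_rot46 (path_edge (s0_f5305 IH) (path_edge (s0_f4638r IH) (path_edge (s0_f7607r IH) (path_nil s0_v523))))
theorem s0_f7615 : ed sl_gt s0_v136 = s0_v524 :=
  rfl
theorem s0_f7615r : ed sl_gf s0_v524 = s0_v136 :=
  edge_flip (s0_f7615 IH)
theorem s0_f4634r : ed sl_at s0_v136 = sq134 :=
  edge_flip (s0_f4634 IH)
theorem s0_f2458r : ed sl_ff sq134 = sq209 :=
  edge_flip (s0_f2458 IH)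
theorem s0_f7620 : ed sl_ff s0_v380 = s0_v524 :=
  gap_rel s0_rot92 (path_edge (s0_f6169 IH) (path_edge (s0_f2458r IH) (path_edge (s0_f4634r IH) (path_edge (s0_f7615r IH) (path_nil s0_v524)))))
theorem s0_f7620r : ed sl_ft s0_v524 = s0_v380 :=
  edge_flip (s0_f7620 IH)
theorem s0_f6168r : ed sl_et s0_v380 = s0_v140 :=
  edge_flip (s0_f6168 IH)
theorem s0_f7622 : ed sl_et s0_v198 = s0_v524 :=
  gap_rel s0_rot37 (path_edge (s0_f5316 IH) (path_edge (s0_f6168r IH) (path_edge (s0_f7620r IH) (path_nil s0_v524))))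
theorem s0_f7623 : ed sl_ft s0_v380 = s0_v524 :=
  gap_rel s0_rot16 (path_edge (s0_f7620r IH) (path_nil s0_v524))
theorem s0_f7625 : ed sl_ft s0_v137 = s0_v525 :=
  rfl
theorem s0_f7625r : ed sl_ff s0_v525 = s0_v137 :=
  edge_flip (s0_f7625 IH)
theorem s0_f7630 : ed sl_gf s0_v379 = s0_v525 :=
  gap_rel s0_rot19 (path_edge (s0_f6162 IH) (path_edge (s0_f7615r IH) (path_edge (s0_f7620 IH) (path_edge (s0_f6169 IH) (path_edge (s0_f2458r IH) (path_edge (s0_f4639r IH) (path_edge (s0_f7625r IH) (path_nil s0_v525))))))))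
theorem s0_f7635 : ed sl_bt s0_v138 = s0_v526 :=
  rfl
theorem s0_f7635r : ed sl_bf s0_v526 = s0_v138 :=
  edge_flip (s0_f7635 IH)
theorem s0_f7636 : ed sl_bf s0_v138 = s0_v526 :=
  gap_rel s0_rot44 (path_edge (s0_f7635r IH) (path_nil s0_v526))
theorem s0_f7647 : ed sl_et s0_v139 = s0_v529 :=
  rfl
theorem s0_f7647r : ed sl_ef s0_v529 = s0_v139 :=
  edge_flip (s0_f7647 IH)
theorem s0_f4654r : ed sl_ff s0_v139 = s0_v45 :=
  edge_flip (s0_f4654 IH)
theorem s0_f7649 : ed sl_ff s0_v200 = s0_v529 :=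
  gap_rel s0_rot99 (path_edge (s0_f5322 IH) (path_edge (s0_f4654r IH) (path_edge (s0_f7647r IH) (path_nil s0_v529))))
theorem s0_f7649r : ed sl_ft s0_v529 = s0_v200 :=
  edge_flip (s0_f7649 IH)
theorem s0_f7650 : ed sl_ft s0_v200 = s0_v529 :=
  gap_rel s0_rot16 (path_edge (s0_f7649r IH) (path_nil s0_v529))
theorem s0_f7651 : ed sl_gt s0_v139 = s0_v530 :=
  rfl
theorem s0_f7651r : ed sl_gf s0_v530 = s0_v139 :=
  edge_flip (s0_f7651 IH)
theorem s0_f7652 : ed sl_df s0_v140 = s0_v530 :=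
  gap_rel s0_rot52 (path_edge (s0_f4657 IH) (path_edge (s0_f4651r IH) (path_edge (s0_f7651r IH) (path_nil s0_v530))))
theorem s0_f7653 : ed sl_gf s0_v139 = s0_v530 :=
  gap_rel s0_rot76 (path_edge (s0_f7651r IH) (path_nil s0_v530))
theorem s0_f7655 : ed sl_bt s0_v140 = s0_v531 :=
  rfl
theorem s0_f7655r : ed sl_bf s0_v531 = s0_v140 :=
  edge_flip (s0_f7655 IH)
theorem s0_f7656 : ed sl_bf s0_v140 = s0_v531 :=
  gap_rel s0_rot44 (path_edge (s0_f7655r IH) (path_nil s0_v531))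
theorem s0_f7659 : ed sl_et s0_v142 = s0_v533 :=
  rfl
theorem s0_f7659r : ed sl_ef s0_v533 = s0_v142 :=
  edge_flip (s0_f7659 IH)
theorem s0_f4668r : ed sl_bf s0_v142 = s0_v47 :=
  edge_flip (s0_f4668 IH)
theorem s0_f7660 : ed sl_bf s0_v161 = s0_v533 :=
  gap_rel s0_rot23 (path_edge (s0_f4915 IH) (path_edge (s0_f4668r IH) (path_edge (s0_f7659r IH) (path_nil s0_v533))))
theorem s0_f7661 : ed sl_ef s0_v142 = s0_v533 :=
  gap_rel s0_rot34 (path_edge (s0_f7659r IH) (path_nil s0_v533))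
theorem s0_f7663 : ed sl_bt s0_v143 = s0_v534 :=
  rfl
theorem s0_f7663r : ed sl_bf s0_v534 = s0_v143 :=
  edge_flip (s0_f7663 IH)
theorem s0_f4674r : ed sl_ef s0_v143 = s0_v70 :=
  edge_flip (s0_f4674 IH)
theorem s0_f7666 : ed sl_ef s0_v240 = s0_v534 :=
  gap_rel s0_rot46 (path_edge (s0_f5516 IH) (path_edge (s0_f4674r IH) (path_edge (s0_f7663r IH) (path_nil s0_v534))))
theorem s0_f7666r : ed sl_et s0_v534 = s0_v240 :=
  edge_flip (s0_f7666 IH)
theorem s0_f7667 : ed sl_dt s0_v203 = s0_v534 :=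
  gap_rel s0_rot106 (path_edge (s0_f5339 IH) (path_edge (s0_f4356 IH) (path_edge (s0_f4464r IH) (path_edge (s0_f5517r IH) (path_edge (s0_f7666r IH) (path_nil s0_v534))))))
theorem s0_f7668 : ed sl_et s0_v240 = s0_v534 :=
  gap_rel s0_rot31 (path_edge (s0_f7666r IH) (path_nil s0_v534))
theorem s0_f7708 : ed sl_at s0_v152 = s0_v540 :=
  rfl
theorem s0_f7708r : ed sl_af s0_v540 = s0_v152 :=
  edge_flip (s0_f7708 IH)
theorem s0_f7709 : ed sl_af s0_v152 = s0_v540 :=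
  gap_rel s0_rot66 (path_edge (s0_f7708r IH) (path_nil s0_v540))
theorem s0_f4796r : ed sl_df s0_v152 = s0_v53 :=
  edge_flip (s0_f4796 IH)
theorem s0_f7710 : ed sl_df s0_v208 = s0_v540 :=
  gap_rel s0_rot51 (path_edge (s0_f5366 IH) (path_edge (s0_f4796r IH) (path_edge (s0_f7708r IH) (path_nil s0_v540))))
theorem s0_f4797r : ed sl_gf s0_v152 = s0_v54 :=
  edge_flip (s0_f4797 IH)
theorem s0_f7711 : ed sl_gf s0_v210 = s0_v540 :=
  gap_rel s0_rot47 (path_edge (s0_f5374 IH) (path_edge (s0_f4797r IH) (path_edge (s0_f7708r IH) (path_nil s0_v540))))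
theorem s0_f7711r : ed sl_gt s0_v540 = s0_v210 :=
  edge_flip (s0_f7711 IH)
theorem s0_f7712 : ed sl_dt s0_v208 = s0_v540 :=
  gap_rel s0_rot91 (path_edge (s0_f5369 IH) (path_edge (s0_f5375r IH) (path_edge (s0_f7711r IH) (path_nil s0_v540))))
theorem s0_f7713 : ed sl_gt s0_v210 = s0_v540 :=
  gap_rel s0_rot25 (path_edge (s0_f7711r IH) (path_nil s0_v540))
theorem s0_f7730 : ed sl_bt s0_v154 = s0_v544 :=
  rfl
theorem s0_f7730r : ed sl_bf s0_v544 = s0_v154 :=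
  edge_flip (s0_f7730 IH)
theorem s0_f7731 : ed sl_bf s0_v154 = s0_v544 :=
  gap_rel s0_rot44 (path_edge (s0_f7730r IH) (path_nil s0_v544))
theorem s0_f2149r : ed sl_bf sq153 = sq98 :=
  edge_flip (s0_f2149 IH)
theorem s0_f4830r : ed sl_gf sq98 = sq154 :=
  edge_flip (s0_f4830 IH)
theorem s0_f7732 : ed sl_gf s0_v155 = s0_v544 :=
  gap_rel s0_rot24 (path_edge (s0_f4837 IH) (path_edge (s0_f4830r IH) (path_edge (s0_f2149r IH) (path_edge (s0_f4827r IH) (path_edge (s0_f7730r IH) (path_nil s0_v544))))))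
theorem s0_f7732r : ed sl_gt s0_v544 = s0_v155 :=
  edge_flip (s0_f7732 IH)
theorem s0_f7733 : ed sl_gt s0_v155 = s0_v544 :=
  gap_rel s0_rot25 (path_edge (s0_f7732r IH) (path_nil s0_v544))
theorem s0_f7734 : ed sl_at s0_v155 = s0_v545 :=
  rfl
theorem s0_f7734r : ed sl_af s0_v545 = s0_v155 :=
  edge_flip (s0_f7734 IH)
theorem s0_f7735 : ed sl_af s0_v155 = s0_v545 :=
  gap_rel s0_rot66 (path_edge (s0_f7734r IH) (path_nil s0_v545))
theorem s0_f7736 : ed sl_ft s0_v155 = s0_v546 :=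
  rfl
theorem s0_f7736r : ed sl_ff s0_v546 = s0_v155 :=
  edge_flip (s0_f7736 IH)
theorem s0_f7738 : ed sl_ff s0_v155 = s0_v546 :=
  gap_rel s0_rot1 (path_edge (s0_f7736r IH) (path_nil s0_v546))
theorem s0_f7738r : ed sl_ft s0_v546 = s0_v155 :=
  edge_flip (s0_f7738 IH)
theorem s0_f4837r : ed sl_bt s0_v155 = sq154 :=
  edge_flip (s0_f4837 IH)
theorem s0_f7739 : ed sl_bt s0_v413 = s0_v546 :=
  gap_rel s0_rot12 (path_edge (s0_f6522 IH) (path_edge (s0_f3135 IH) (path_edge (s0_f3134 IH) (path_edge (s0_f4837r IH) (path_edge (s0_f7738r IH) (path_nil s0_v546))))))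
theorem s0_f7750 : ed sl_at s0_v157 = s0_v550 :=
  rfl
theorem s0_f7750r : ed sl_af s0_v550 = s0_v157 :=
  edge_flip (s0_f7750 IH)
theorem s0_f7751 : ed sl_af s0_v157 = s0_v550 :=
  gap_rel s0_rot66 (path_edge (s0_f7750r IH) (path_nil s0_v550))
theorem s0_f4876r : ed sl_ef s0_v157 = s0_v54 :=
  edge_flip (s0_f4876 IH)
theorem s0_f7752 : ed sl_ef s0_v210 = s0_v550 :=
  gap_rel s0_rot102 (path_edge (s0_f5374 IH) (path_edge (s0_f4876r IH) (path_edge (s0_f7750r IH) (path_nil s0_v550))))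
theorem s0_f7752r : ed sl_et s0_v550 = s0_v210 :=
  edge_flip (s0_f7752 IH)
theorem s0_f7753 : ed sl_et s0_v210 = s0_v550 :=
  gap_rel s0_rot31 (path_edge (s0_f7752r IH) (path_nil s0_v550))
theorem s0_f7788 : ed sl_ct s0_v166 = s0_v558 :=
  rfl
theorem s0_f7794 : ed sl_bt s0_v167 = s0_v560 :=
  rfl
theorem s0_f7794r : ed sl_bf s0_v560 = s0_v167 :=
  edge_flip (s0_f7794 IH)
theorem s0_f7795 : ed sl_bf s0_v167 = s0_v560 :=
  gap_rel s0_rot44 (path_edge (s0_f7794r IH) (path_nil s0_v560))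
theorem s0_f7816 : ed sl_at s0_v171 = s0_v565 :=
  rfl
theorem s0_f7816r : ed sl_af s0_v565 = s0_v171 :=
  edge_flip (s0_f7816 IH)
theorem s0_f2448r : ed sl_af sq170 = sq113 :=
  edge_flip (s0_f2448 IH)
theorem s0_f291r : ed sl_bf sq113 = sq73 :=
  edge_flip (s0_f291 IH)
theorem s0_f2405r : ed sl_bf sq48 = sq77 :=
  edge_flip (s0_f2405 IH)
theorem s0_f4180r : ed sl_af sq77 = sq119 :=
  edge_flip (s0_f4180 IH)
theorem s0_f7818 : ed sl_bf s0_v225 = s0_v565 :=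
  gap_rel s0_rot93 (path_edge (s0_f5440 IH) (path_edge (s0_f4182 IH) (path_edge (s0_f4180r IH) (path_edge (s0_f2405r IH) (path_edge (s0_f308r IH) (path_edge (s0_f291r IH) (path_edge (s0_f2448r IH) (path_edge (s0_f5001r IH) (path_edge (s0_f7816r IH) (path_nil s0_v565))))))))))
theorem s0_f5014r : ed sl_df s0_v171 = s0_v60 :=
  edge_flip (s0_f5014 IH)
theorem s0_f7819 : ed sl_df s0_v217 = s0_v565 :=
  gap_rel s0_rot51 (path_edge (s0_f5404 IH) (path_edge (s0_f5014r IH) (path_edge (s0_f7816r IH) (path_nil s0_v565))))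
theorem s0_f7824 : ed sl_ct s0_v171 = s0_v566 :=
  rfl
theorem s0_f7824r : ed sl_cf s0_v566 = s0_v171 :=
  edge_flip (s0_f7824 IH)
theorem s0_f5015r : ed sl_ef s0_v171 = s0_v62 :=
  edge_flip (s0_f5015 IH)
theorem s0_f7826 : ed sl_ef s0_v226 = s0_v566 :=
  gap_rel s0_rot48 (path_edge (s0_f5444 IH) (path_edge (s0_f5015r IH) (path_edge (s0_f7824r IH) (path_nil s0_v566))))
theorem s0_f7826r : ed sl_et s0_v566 = s0_v226 :=
  edge_flip (s0_f7826 IH)
theorem s0_f7827 : ed sl_et s0_v226 = s0_v566 :=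
  gap_rel s0_rot31 (path_edge (s0_f7826r IH) (path_nil s0_v566))
theorem s0_f7834 : ed sl_gt s0_v171 = s0_v568 :=
  rfl
theorem s0_f7834r : ed sl_gf s0_v568 = s0_v171 :=
  edge_flip (s0_f7834 IH)
theorem s0_f7837 : ed sl_gf s0_v171 = s0_v568 :=
  gap_rel s0_rot76 (path_edge (s0_f7834r IH) (path_nil s0_v568))
theorem s0_f7837r : ed sl_gt s0_v568 = s0_v171 :=
  edge_flip (s0_f7837 IH)
theorem s0_f5003r : ed sl_dt s0_v171 = s0_v60 :=
  edge_flip (s0_f5003 IH)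
theorem s0_f7838 : ed sl_dt s0_v220 = s0_v568 :=
  gap_rel s0_rot91 (path_edge (s0_f5417 IH) (path_edge (s0_f5003r IH) (path_edge (s0_f7837r IH) (path_nil s0_v568))))
theorem s0_f7840 : ed sl_at s0_v172 = s0_v569 :=
  rfl
theorem s0_f7840r : ed sl_af s0_v569 = s0_v172 :=
  edge_flip (s0_f7840 IH)
theorem s0_f7841 : ed sl_af s0_v172 = s0_v569 :=
  gap_rel s0_rot66 (path_edge (s0_f7840r IH) (path_nil s0_v569))
theorem s0_f5028r : ed sl_ef s0_v172 = s0_v61 :=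
  edge_flip (s0_f5028 IH)
theorem s0_f7842 : ed sl_ef s0_v221 = s0_v569 :=
  gap_rel s0_rot102 (path_edge (s0_f5422 IH) (path_edge (s0_f5028r IH) (path_edge (s0_f7840r IH) (path_nil s0_v569))))
theorem s0_f7842r : ed sl_et s0_v569 = s0_v221 :=
  edge_flip (s0_f7842 IH)
theorem s0_f7843 : ed sl_et s0_v221 = s0_v569 :=
  gap_rel s0_rot31 (path_edge (s0_f7842r IH) (path_nil s0_v569))
theorem s0_f7848 : ed sl_ft s0_v172 = s0_v571 :=
  rfl
theorem s0_f7848r : ed sl_ff s0_v571 = s0_v172 :=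
  edge_flip (s0_f7848 IH)
theorem s0_f7851 : ed sl_ff s0_v172 = s0_v571 :=
  gap_rel s0_rot1 (path_edge (s0_f7848r IH) (path_nil s0_v571))
theorem s0_f7851r : ed sl_ft s0_v571 = s0_v172 :=
  edge_flip (s0_f7851 IH)
theorem s0_f7853 : ed sl_et s0_v223 = s0_v571 :=
  gap_rel s0_rot37 (path_edge (s0_f5427 IH) (path_edge (s0_f5023r IH) (path_edge (s0_f7851r IH) (path_nil s0_v571))))
theorem s0_f7854 : ed sl_gt s0_v172 = s0_v572 :=
  rfl
theorem s0_f7854r : ed sl_gf s0_v572 = s0_v172 :=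
  edge_flip (s0_f7854 IH)
theorem s0_f430r : ed sl_gf sq172 = sq110 :=
  edge_flip (s0_f430 IH)
theorem s0_f7855 : ed sl_bf s0_v220 = s0_v572 :=
  gap_rel s0_rot75 (path_edge (s0_f5419 IH) (path_edge (s0_f4137 IH) (path_edge (s0_f430r IH) (path_edge (s0_f5019r IH) (path_edge (s0_f7854r IH) (path_nil s0_v572))))))
theorem s0_f7860 : ed sl_gt s0_v173 = s0_v573 :=
  rfl
theorem s0_f7860r : ed sl_gf s0_v573 = s0_v173 :=
  edge_flip (s0_f7860 IH)
theorem s0_f5040r : ed sl_af s0_v173 = sq266 :=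
  edge_flip (s0_f5040 IH)
theorem s0_f7861 : ed sl_af s0_v461 = s0_v573 :=
  gap_rel s0_rot78 (path_edge (s0_f6934 IH) (path_edge (s0_f5040r IH) (path_edge (s0_f7860r IH) (path_nil s0_v573))))
theorem s0_f5042r : ed sl_cf s0_v173 = sq265 :=
  edge_flip (s0_f5042 IH)
theorem s0_f7862 : ed sl_cf s0_v460 = s0_v573 :=
  gap_rel s0_rot43 (path_edge (s0_f6924 IH) (path_edge (s0_f5042r IH) (path_edge (s0_f7860r IH) (path_nil s0_v573))))
theorem s0_f7864 : ed sl_ff s0_v460 = s0_v573 :=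
  gap_rel s0_rot22 (path_edge (s0_f6924 IH) (path_edge (s0_f3681 IH) (path_edge (s0_f6931r IH) (path_edge (s0_f6935 IH) (path_edge (s0_f5038r IH) (path_edge (s0_f5031r IH) (path_edge (s0_f7860r IH) (path_nil s0_v573))))))))
theorem s0_f7865 : ed sl_gf s0_v173 = s0_v573 :=
  gap_rel s0_rot76 (path_edge (s0_f7860r IH) (path_nil s0_v573))
theorem s0_f7865r : ed sl_gt s0_v573 = s0_v173 :=
  edge_flip (s0_f7865 IH)
theorem s0_f5035r : ed sl_dt s0_v173 = s0_v64 :=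
  edge_flip (s0_f5035 IH)
theorem s0_f7868 : ed sl_dt s0_v233 = s0_v573 :=
  gap_rel s0_rot91 (path_edge (s0_f5478 IH) (path_edge (s0_f5035r IH) (path_edge (s0_f7865r IH) (path_nil s0_v573))))
theorem s0_f7869 : ed sl_ft s0_v460 = s0_v573 :=
  gap_rel s0_rot97 (path_edge (s0_f6921 IH) (path_edge (s0_f3688 IH) (path_edge (s0_f6934r IH) (path_edge (s0_f6937 IH) (path_edge (s0_f3696 IH) (path_edge (s0_f5037r IH) (path_edge (s0_f7865r IH) (path_nil s0_v573))))))))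
theorem s0_f7870 : ed sl_gt s0_v174 = s0_v574 :=
  rfl
theorem s0_f7870r : ed sl_gf s0_v574 = s0_v174 :=
  edge_flip (s0_f7870 IH)
theorem s0_f7874 : ed sl_gf s0_v174 = s0_v574 :=
  gap_rel s0_rot76 (path_edge (s0_f7870r IH) (path_nil s0_v574))
theorem s0_f7878 : ed sl_bt s0_v175 = s0_v575 :=
  rfl
theorem s0_f7878r : ed sl_bf s0_v575 = s0_v175 :=
  edge_flip (s0_f7878 IH)
theorem s0_f7879 : ed sl_bf s0_v175 = s0_v575 :=
  gap_rel s0_rot44 (path_edge (s0_f7878r IH) (path_nil s0_v575))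
theorem s0_f5070r : ed sl_df s0_v175 = s0_v69 :=
  edge_flip (s0_f5070 IH)
theorem s0_f7880 : ed sl_df s0_v239 = s0_v575 :=
  gap_rel s0_rot8 (path_edge (s0_f5514 IH) (path_edge (s0_f5070r IH) (path_edge (s0_f7878r IH) (path_nil s0_v575))))
theorem s0_f7088r : ed sl_bf s0_v472 = s0_v187 :=
  edge_flip (s0_f7088 IH)
theorem s0_f7881 : ed sl_gf s0_v357 = s0_v575 :=
  gap_rel s0_rot24 (path_edge (s0_f6049 IH) (path_edge (s0_f5510 IH) (path_edge (s0_f7088r IH) (path_edge (s0_f7083 IH) (path_edge (s0_f7878r IH) (path_nil s0_v575))))))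
theorem s0_f7880r : ed sl_dt s0_v575 = s0_v239 :=
  edge_flip (s0_f7880 IH)
theorem s0_f7883 : ed sl_dt s0_v239 = s0_v575 :=
  gap_rel s0_rot28 (path_edge (s0_f7880r IH) (path_nil s0_v575))
theorem s0_f7896 : ed sl_ct sq685 = sq464 :=
  real_edge rels S fwd inv o lvl plet idx 16 IH Gen.c sp685 sp464 rfl rfl
theorem s0_f7897 : ed sl_bt sq994 = sq685 :=
  real_edge rels S fwd inv o lvl plet idx 16 IH Gen.b sp994 sp685 rfl rfl
theorem s0_f7898 : ed sl_ft sq463 = sq685 :=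
  real_edge rels S fwd inv o lvl plet idx 16 IH Gen.f sp463 sp685 rfl rfl
theorem s0_f7914 : ed sl_bt s0_v178 = s0_v581 :=
  rfl
theorem s0_f7914r : ed sl_bf s0_v581 = s0_v178 :=
  edge_flip (s0_f7914 IH)
theorem s0_f7915 : ed sl_bf s0_v178 = s0_v581 :=
  gap_rel s0_rot44 (path_edge (s0_f7914r IH) (path_nil s0_v581))
theorem s0_f5118r : ed sl_df s0_v178 = sq266 :=
  edge_flip (s0_f5118 IH)
theorem s0_f7916 : ed sl_df s0_v407 = s0_v581 :=
  gap_rel s0_rot8 (path_edge (s0_f6482 IH) (path_edge (s0_f5118r IH) (path_edge (s0_f7914r IH) (path_nil s0_v581))))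
theorem s0_f7916r : ed sl_dt s0_v581 = s0_v407 :=
  edge_flip (s0_f7916 IH)
theorem s0_f7917 : ed sl_dt s0_v407 = s0_v581 :=
  gap_rel s0_rot28 (path_edge (s0_f7916r IH) (path_nil s0_v581))
theorem s0_f7918 : ed sl_bt s0_v179 = s0_v582 :=
  rfl
theorem s0_f7918r : ed sl_bf s0_v582 = s0_v179 :=
  edge_flip (s0_f7918 IH)
theorem s0_f7919 : ed sl_bf s0_v179 = s0_v582 :=
  gap_rel s0_rot44 (path_edge (s0_f7918r IH) (path_nil s0_v582))
theorem s0_f7920 : ed sl_bt s0_v180 = s0_v583 :=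
  rfl
theorem s0_f7920r : ed sl_bf s0_v583 = s0_v180 :=
  edge_flip (s0_f7920 IH)
theorem s0_f7921 : ed sl_bf s0_v180 = s0_v583 :=
  gap_rel s0_rot44 (path_edge (s0_f7920r IH) (path_nil s0_v583))
theorem s0_f5148r : ed sl_cf s0_v180 = s0_v64 :=
  edge_flip (s0_f5148 IH)
theorem s0_f4256r : ed sl_bf s0_v64 = s0_v33 :=
  edge_flip (s0_f4256 IH)
theorem s0_f7922 : ed sl_cf s0_v331 = s0_v583 :=
  gap_rel s0_rot27 (path_edge (s0_f5950 IH) (path_edge (s0_f4545 IH) (path_edge (s0_f4256r IH) (path_edge (s0_f5148r IH) (path_edge (s0_f7920r IH) (path_nil s0_v583))))))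
theorem s0_f4257r : ed sl_bf sq187 = sq187 :=
  edge_flip (s0_f4257 IH)
theorem s0_f7923 : ed sl_ff s0_v583 = s0_v583 :=
  gap_rel s0_rot70 (path_edge (s0_f7921 IH) (path_edge (s0_f5145 IH) (path_edge (s0_f4257r IH) (path_edge (s0_f5142r IH) (path_edge (s0_f7920r IH) (path_nil s0_v583))))))
theorem s0_f7923r : ed sl_ft s0_v583 = s0_v583 :=
  edge_flip (s0_f7923 IH)
theorem s0_f7922r : ed sl_ct s0_v583 = s0_v331 :=
  edge_flip (s0_f7922 IH)
theorem s0_f5951r : ed sl_ft s0_v331 = s0_v331 :=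
  edge_flip (s0_f5951 IH)
theorem s0_f7924 : ed sl_ct s0_v331 = s0_v583 :=
  gap_rel s0_rot42 (path_edge (s0_f5951r IH) (path_edge (s0_f7922r IH) (path_edge (s0_f7923r IH) (path_nil s0_v583))))
theorem s0_f7945 : ed sl_bt s0_v185 = s0_v587 :=
  rfl
theorem s0_f7945r : ed sl_bf s0_v587 = s0_v185 :=
  edge_flip (s0_f7945 IH)
theorem s0_f7946 : ed sl_bf s0_v185 = s0_v587 :=
  gap_rel s0_rot44 (path_edge (s0_f7945r IH) (path_nil s0_v587))
theorem s0_f5217r : ed sl_ef s0_v185 = s0_v69 :=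
  edge_flip (s0_f5217 IH)
theorem s0_f7947 : ed sl_ef s0_v239 = s0_v587 :=
  gap_rel s0_rot46 (path_edge (s0_f5514 IH) (path_edge (s0_f5217r IH) (path_edge (s0_f7945r IH) (path_nil s0_v587))))
theorem s0_f7947r : ed sl_et s0_v587 = s0_v239 :=
  edge_flip (s0_f7947 IH)
theorem s0_f7948 : ed sl_et s0_v239 = s0_v587 :=
  gap_rel s0_rot31 (path_edge (s0_f7947r IH) (path_nil s0_v587))
theorem s0_f7949 : ed sl_bt s0_v188 = s0_v588 :=
  rfl
theorem s0_f7949r : ed sl_bf s0_v588 = s0_v188 :=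
  edge_flip (s0_f7949 IH)
theorem s0_f7950 : ed sl_bf s0_v188 = s0_v588 :=
  gap_rel s0_rot44 (path_edge (s0_f7949r IH) (path_nil s0_v588))
theorem s0_f7951 : ed sl_gf s0_v407 = s0_v588 :=
  gap_rel s0_rot24 (path_edge (s0_f6482 IH) (path_edge (s0_f6931r IH) (path_eq (s0_f7006 IH) (path_edge (s0_f5221 IH) (path_edge (s0_f5238r IH) (path_edge (s0_f7949r IH) (path_nil s0_v588)))))))
theorem s0_f7951r : ed sl_gt s0_v588 = s0_v407 :=
  edge_flip (s0_f7951 IH)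
theorem s0_f7954 : ed sl_ft s0_v290 = s0_v588 :=
  gap_rel s0_rot73 (path_edge (s0_f5757 IH) (path_edge (s0_f5749r IH) (path_edge (s0_f6484r IH) (path_edge (s0_f7951r IH) (path_nil s0_v588)))))
theorem s0_f7970 : ed sl_bt s0_v190 = s0_v591 :=
  rfl
theorem s0_f7970r : ed sl_bf s0_v591 = s0_v190 :=
  edge_flip (s0_f7970 IH)
theorem s0_f7971 : ed sl_bf s0_v190 = s0_v591 :=
  gap_rel s0_rot44 (path_edge (s0_f7970r IH) (path_nil s0_v591))
theorem s0_f7954r : ed sl_ff s0_v588 = s0_v290 :=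
  edge_flip (s0_f7954 IH)
theorem s0_f7972 : ed sl_ff s0_v369 = s0_v591 :=
  gap_rel s0_rot70 (path_edge (s0_f6103 IH) (path_edge (s0_f7954r IH) (path_edge (s0_f7950 IH) (path_edge (s0_f5252r IH) (path_edge (s0_f7970r IH) (path_nil s0_v591))))))
theorem s0_f7972r : ed sl_ft s0_v591 = s0_v369 :=
  edge_flip (s0_f7972 IH)
theorem s0_f7973 : ed sl_ft s0_v369 = s0_v591 :=
  gap_rel s0_rot16 (path_edge (s0_f7972r IH) (path_nil s0_v591))
theorem s0_f7982 : ed sl_gt s0_v193 = s0_v595 :=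
  rfl
theorem s0_f7982r : ed sl_gf s0_v595 = s0_v193 :=
  edge_flip (s0_f7982 IH)
theorem s0_f5293r : ed sl_at s0_v193 = sq207 :=
  edge_flip (s0_f5293 IH)
theorem s0_f285r : ed sl_ff sq207 = sq306 :=
  edge_flip (s0_f285 IH)
theorem s0_f7986 : ed sl_ff s0_v495 = s0_v595 :=
  gap_rel s0_rot92 (path_edge (s0_f7350 IH) (path_edge (s0_f285r IH) (path_edge (s0_f5293r IH) (path_edge (s0_f7982r IH) (path_nil s0_v595)))))
theorem s0_f7986r : ed sl_ft s0_v595 = s0_v495 :=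
  edge_flip (s0_f7986 IH)
theorem s0_f7348r : ed sl_ct s0_v495 = s0_v183 :=
  edge_flip (s0_f7348 IH)
theorem s0_f7987 : ed sl_ct s0_v241 = s0_v595 :=
  gap_rel s0_rot42 (path_edge (s0_f5525 IH) (path_edge (s0_f7348r IH) (path_edge (s0_f7986r IH) (path_nil s0_v595))))
theorem s0_f8008 : ed sl_dt s0_v196 = s0_v601 :=
  rfl
theorem s0_f8008r : ed sl_df s0_v601 = s0_v196 :=
  edge_flip (s0_f8008 IH)
theorem s0_f8010 : ed sl_bf s0_v197 = s0_v601 :=
  gap_rel s0_rot103 (path_edge (s0_f5308 IH) (path_edge (s0_f5304r IH) (path_edge (s0_f8008r IH) (path_nil s0_v601))))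
theorem s0_f8011 : ed sl_df s0_v196 = s0_v601 :=
  gap_rel s0_rot54 (path_edge (s0_f8008r IH) (path_nil s0_v601))
theorem s0_f5974r : ed sl_at s0_v337 = s0_v119 :=
  edge_flip (s0_f5974 IH)
theorem s0_f5539r : ed sl_df s0_v243 = s0_v118 :=
  edge_flip (s0_f5539 IH)
theorem s0_f8012 : ed sl_cf s0_v601 = s0_v601 :=
  gap_rel s0_rot94 (path_edge (s0_f8011 IH) (path_eq (s0_f6471 IH).symm (path_edge (s0_f5975 IH) (path_edge (s0_f5539r IH) (path_eq (s0_f6472 IH).symm (path_edge (s0_f5542 IH) (path_edge (s0_f4355 IH) (path_edge (s0_f4564r IH) (path_edge (s0_f5974r IH) (path_eq (s0_f6471 IH) (path_edge (s0_f8008r IH) (path_nil s0_v601))))))))))))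
theorem s0_f8013 : ed sl_at s0_v341 = s0_v601 :=
  gap_rel s0_rot9 (path_edge (s0_f5990 IH) (path_edge (s0_f4565 IH) (path_edge (s0_f4356r IH) (path_edge (s0_f5541r IH) (path_eq (s0_f6472 IH) (path_edge (s0_f5538 IH) (path_edge (s0_f5973r IH) (path_eq (s0_f6471 IH) (path_edge (s0_f8008r IH) (path_edge (s0_f8012 IH) (path_nil s0_v601)))))))))))
theorem s0_f8012r : ed sl_ct s0_v601 = s0_v601 :=
  edge_flip (s0_f8012 IH)
theorem s0_f8010r : ed sl_bt s0_v601 = s0_v197 :=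
  edge_flip (s0_f8010 IH)
theorem s0_f6054r : ed sl_ct s0_v358 = s0_v197 :=
  edge_flip (s0_f6054 IH)
theorem s0_f8014 : ed sl_bt s0_v197 = s0_v601 :=
  gap_rel s0_rot41 (path_edge (s0_f6054r IH) (path_edge (s0_f6057 IH) (path_edge (s0_f6058 IH) (path_edge (s0_f8010r IH) (path_edge (s0_f8012r IH) (path_nil s0_v601))))))
theorem s0_f8015 : ed sl_ft s0_v196 = s0_v602 :=
  rfl
theorem s0_f8015r : ed sl_ff s0_v602 = s0_v196 :=
  edge_flip (s0_f8015 IH)
theorem s0_f8017 : ed sl_cf s0_v338 = s0_v602 :=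
  gap_rel s0_rot65 (path_edge (s0_f5979 IH) (path_edge (s0_f5973r IH) (path_eq (s0_f6471 IH) (path_edge (s0_f8015r IH) (path_nil s0_v602)))))
theorem s0_f8018 : ed sl_ff s0_v196 = s0_v602 :=
  gap_rel s0_rot1 (path_edge (s0_f8015r IH) (path_nil s0_v602))
theorem s0_f8018r : ed sl_ft s0_v602 = s0_v196 :=
  edge_flip (s0_f8018 IH)
theorem s0_f8019 : ed sl_at s0_v342 = s0_v602 :=
  gap_rel s0_rot90 (path_edge (s0_f5991 IH) (path_edge (s0_f5974r IH) (path_eq (s0_f6471 IH) (path_edge (s0_f8018r IH) (path_nil s0_v602)))))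
theorem s0_f8021 : ed sl_gt s0_v196 = s0_v603 :=
  rfl
theorem s0_f8021r : ed sl_gf s0_v603 = s0_v196 :=
  edge_flip (s0_f8021 IH)
theorem s0_f8023 : ed sl_cf s0_v339 = s0_v603 :=
  gap_rel s0_rot43 (path_edge (s0_f5983 IH) (path_edge (s0_f5973r IH) (path_eq (s0_f6471 IH) (path_edge (s0_f8021r IH) (path_nil s0_v603)))))
theorem s0_f8024 : ed sl_gf s0_v196 = s0_v603 :=
  gap_rel s0_rot76 (path_edge (s0_f8021r IH) (path_nil s0_v603))
theorem s0_f8027 : ed sl_et s0_v197 = s0_v604 :=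
  rfl
theorem s0_f8027r : ed sl_ef s0_v604 = s0_v197 :=
  edge_flip (s0_f8027 IH)
theorem s0_f5309r : ed sl_af s0_v197 = s0_v45 :=
  edge_flip (s0_f5309 IH)
theorem s0_f8028 : ed sl_af s0_v200 = s0_v604 :=
  gap_rel s0_rot67 (path_edge (s0_f5322 IH) (path_edge (s0_f5309r IH) (path_edge (s0_f8027r IH) (path_nil s0_v604))))
theorem s0_f8031 : ed sl_gt s0_v197 = s0_v605 :=
  rfl
theorem s0_f8031r : ed sl_gf s0_v605 = s0_v197 :=
  edge_flip (s0_f8031 IH)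
theorem s0_f8032 : ed sl_af s0_v201 = s0_v605 :=
  gap_rel s0_rot78 (path_edge (s0_f5326 IH) (path_edge (s0_f5309r IH) (path_edge (s0_f8031r IH) (path_nil s0_v605))))
theorem s0_f8034 : ed sl_gf s0_v197 = s0_v605 :=
  gap_rel s0_rot76 (path_edge (s0_f8031r IH) (path_nil s0_v605))
theorem s0_f5307r : ed sl_at s0_v197 = s0_v45 :=
  edge_flip (s0_f5307 IH)
theorem s0_f8035 : ed sl_ff s0_v530 = s0_v605 :=
  gap_rel s0_rot92 (path_edge (s0_f7653 IH) (path_edge (s0_f4653 IH) (path_edge (s0_f5307r IH) (path_edge (s0_f8031r IH) (path_nil s0_v605)))))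
theorem s0_f8035r : ed sl_ft s0_v605 = s0_v530 :=
  edge_flip (s0_f8035 IH)
theorem s0_f7652r : ed sl_dt s0_v530 = s0_v140 :=
  edge_flip (s0_f7652 IH)
theorem s0_f8036 : ed sl_dt s0_v198 = s0_v605 :=
  gap_rel s0_rot29 (path_edge (s0_f5316 IH) (path_edge (s0_f7652r IH) (path_edge (s0_f8035r IH) (path_nil s0_v605))))
theorem s0_f8037 : ed sl_ft s0_v530 = s0_v605 :=
  gap_rel s0_rot16 (path_edge (s0_f8035r IH) (path_nil s0_v605))
theorem s0_f8039 : ed sl_bt s0_v198 = s0_v606 :=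
  rfl
theorem s0_f8039r : ed sl_bf s0_v606 = s0_v198 :=
  edge_flip (s0_f8039 IH)
theorem s0_f8040 : ed sl_bf s0_v198 = s0_v606 :=
  gap_rel s0_rot44 (path_edge (s0_f8039r IH) (path_nil s0_v606))
theorem s0_f8063 : ed sl_at s0_v203 = s0_v612 :=
  rfl
theorem s0_f8063r : ed sl_af s0_v612 = s0_v203 :=
  edge_flip (s0_f8063 IH)
theorem s0_f8064 : ed sl_af s0_v203 = s0_v612 :=
  gap_rel s0_rot66 (path_edge (s0_f8063r IH) (path_nil s0_v612))
theorem s0_f334r : ed sl_bf sq91 = sq57 :=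
  edge_flip (s0_f334 IH)
theorem s0_f261r : ed sl_af sq57 = sq49 :=
  edge_flip (s0_f261 IH)
theorem s0_f98r : ed sl_bf sq49 = sq85 :=
  edge_flip (s0_f98 IH)
theorem s0_f8065 : ed sl_bf s0_v297 = s0_v612 :=
  gap_rel s0_rot93 (path_edge (s0_f5784 IH) (path_edge (s0_f4463 IH) (path_edge (s0_f3896 IH) (path_edge (s0_f98r IH) (path_edge (s0_f261r IH) (path_edge (s0_f334r IH) (path_edge (s0_f4006r IH) (path_edge (s0_f5336r IH) (path_edge (s0_f8063r IH) (path_nil s0_v612))))))))))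
theorem s0_f5339r : ed sl_ef s0_v203 = s0_v73 :=
  edge_flip (s0_f5339 IH)
theorem s0_f8066 : ed sl_ef s0_v243 = s0_v612 :=
  gap_rel s0_rot102 (path_edge (s0_f5536 IH) (path_edge (s0_f5339r IH) (path_edge (s0_f8063r IH) (path_nil s0_v612))))
theorem s0_f8066r : ed sl_et s0_v612 = s0_v243 :=
  edge_flip (s0_f8066 IH)
theorem s0_f8067 : ed sl_bt s0_v297 = s0_v612 :=
  gap_rel s0_rot108 (path_edge (s0_f5786 IH) (path_edge (s0_f5537r IH) (path_edge (s0_f8066r IH) (path_nil s0_v612))))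
theorem s0_f8069 : ed sl_et s0_v243 = s0_v612 :=
  gap_rel s0_rot31 (path_edge (s0_f8066r IH) (path_nil s0_v612))
theorem s0_f8075 : ed sl_gt s0_v203 = s0_v614 :=
  rfl
theorem s0_f8075r : ed sl_gf s0_v614 = s0_v203 :=
  edge_flip (s0_f8075 IH)
theorem s0_f8077 : ed sl_gf s0_v203 = s0_v614 :=
  gap_rel s0_rot76 (path_edge (s0_f8075r IH) (path_nil s0_v614))
theorem s0_f8077r : ed sl_gt s0_v614 = s0_v203 :=
  edge_flip (s0_f8077 IH)
theorem s0_f8078 : ed sl_et s0_v246 = s0_v614 :=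
  gap_rel s0_rot49 (path_edge (s0_f5547 IH) (path_edge (s0_f5338r IH) (path_edge (s0_f8077r IH) (path_nil s0_v614))))
theorem s0_f8079 : ed sl_bt s0_v204 = s0_v615 :=
  rfl
theorem s0_f8079r : ed sl_bf s0_v615 = s0_v204 :=
  edge_flip (s0_f8079 IH)
theorem s0_f5345r : ed sl_ef s0_v204 = s0_v74 :=
  edge_flip (s0_f5345 IH)
theorem s0_f8081 : ed sl_ef s0_v247 = s0_v615 :=
  gap_rel s0_rot46 (path_edge (s0_f5552 IH) (path_edge (s0_f5345r IH) (path_edge (s0_f8079r IH) (path_nil s0_v615))))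
theorem s0_f8081r : ed sl_et s0_v615 = s0_v247 :=
  edge_flip (s0_f8081 IH)
theorem s0_f8082 : ed sl_et s0_v247 = s0_v615 :=
  gap_rel s0_rot31 (path_edge (s0_f8081r IH) (path_nil s0_v615))
theorem s0_f8089 : ed sl_at s0_v206 = s0_v617 :=
  rfl
theorem s0_f8089r : ed sl_af s0_v617 = s0_v206 :=
  edge_flip (s0_f8089 IH)
theorem s0_f5359r : ed sl_df s0_v206 = s0_v93 :=
  edge_flip (s0_f5359 IH)
theorem s0_f8092 : ed sl_df s0_v287 = s0_v617 :=
  gap_rel s0_rot51 (path_edge (s0_f5750 IH) (path_edge (s0_f5359r IH) (path_edge (s0_f8089r IH) (path_nil s0_v617))))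
theorem s0_f8092r : ed sl_dt s0_v617 = s0_v287 :=
  edge_flip (s0_f8092 IH)
theorem s0_f8093 : ed sl_bt s0_v482 = s0_v617 :=
  gap_rel s0_rot69 (path_edge (s0_f7207 IH) (path_edge (s0_f7197 IH) (path_edge (s0_f8092r IH) (path_nil s0_v617))))
theorem s0_f8095 : ed sl_ft s0_v581 = s0_v617 :=
  gap_rel s0_rot14 (path_edge (s0_f7917 IH) (path_edge (s0_f6486 IH) (path_edge (s0_f8092r IH) (path_nil s0_v617))))
theorem s0_f8095r : ed sl_ff s0_v617 = s0_v581 :=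
  edge_flip (s0_f8095 IH)
theorem s0_f8096 : ed sl_ff s0_v581 = s0_v617 :=
  gap_rel s0_rot1 (path_edge (s0_f8095r IH) (path_nil s0_v617))
theorem s0_f8096r : ed sl_ft s0_v617 = s0_v581 :=
  edge_flip (s0_f8096 IH)
theorem s0_f7915r : ed sl_bt s0_v581 = s0_v178 :=
  edge_flip (s0_f7915 IH)
theorem s0_f5151r : ed sl_ft s0_v181 = sq188 :=
  edge_flip (s0_f5151 IH)
theorem s0_f8097 : ed sl_gt s0_v336 = s0_v617 :=
  gap_rel s0_rot77 (path_edge (s0_f5971 IH) (path_edge (s0_f4556 IH) (path_edge (s0_f3935 IH) (path_edge (s0_f3565 IH) (path_edge (s0_f3570 IH) (path_edge (s0_f3573 IH) (path_edge (s0_f3574 IH) (path_edge (s0_f3575 IH) (path_edge (s0_f3576 IH) (path_edge (s0_f3577 IH) (path_edge (s0_f5151r IH) (path_edge (s0_f5153 IH) (path_edge (s0_f7915r IH) (path_edge (s0_f8096r IH) (path_nil s0_v617)))))))))))))))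
theorem s0_f8097r : ed sl_gf s0_v617 = s0_v336 :=
  edge_flip (s0_f8097 IH)
theorem s0_f8099 : ed sl_gf s0_v336 = s0_v617 :=
  gap_rel s0_rot76 (path_edge (s0_f8097r IH) (path_nil s0_v617))
theorem s0_f8099r : ed sl_gt s0_v617 = s0_v336 :=
  edge_flip (s0_f8099 IH)
theorem s0_f5972r : ed sl_bt s0_v336 = s0_v117 :=
  edge_flip (s0_f5972 IH)
theorem s0_f8100 : ed sl_gt s0_v325 = s0_v482 :=
  gap_rel s0_rot117 (path_edge (s0_f5932 IH) (path_edge (s0_f4559r IH) (path_edge (s0_f5972r IH) (path_edge (s0_f8099r IH) (path_edge (s0_f8093 IH) (path_nil s0_v482))))))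
theorem s0_f8101 : ed sl_ct s0_v206 = s0_v618 :=
  rfl
theorem s0_f8101r : ed sl_cf s0_v618 = s0_v206 :=
  edge_flip (s0_f8101 IH)
theorem s0_f8102 : ed sl_cf s0_v206 = s0_v618 :=
  gap_rel s0_rot40 (path_edge (s0_f8101r IH) (path_nil s0_v618))
theorem s0_f8103 : ed sl_ft s0_v206 = s0_v619 :=
  rfl
theorem s0_f8103r : ed sl_ff s0_v619 = s0_v206 :=
  edge_flip (s0_f8103 IH)
theorem s0_f8107 : ed sl_ff s0_v206 = s0_v619 :=
  gap_rel s0_rot1 (path_edge (s0_f8103r IH) (path_nil s0_v619))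
theorem s0_f8107r : ed sl_ft s0_v619 = s0_v206 :=
  edge_flip (s0_f8107 IH)
theorem s0_f5357r : ed sl_bt s0_v206 = s0_v50 :=
  edge_flip (s0_f5357 IH)
theorem s0_f8109 : ed sl_bt s0_v245 = s0_v619 :=
  gap_rel s0_rot12 (path_edge (s0_f5543 IH) (path_edge (s0_f4353 IH) (path_edge (s0_f4019r IH) (path_edge (s0_f5357r IH) (path_edge (s0_f8107r IH) (path_nil s0_v619))))))
theorem s0_f8138 : ed sl_bt s0_v210 = s0_v625 :=
  rfl
theorem s0_f8138r : ed sl_bf s0_v625 = s0_v210 :=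
  edge_flip (s0_f8138 IH)
theorem s0_f8139 : ed sl_bf s0_v210 = s0_v625 :=
  gap_rel s0_rot44 (path_edge (s0_f8138r IH) (path_nil s0_v625))
theorem s0_f5376r : ed sl_df s0_v210 = s0_v79 :=
  edge_flip (s0_f5376 IH)
theorem s0_f8140 : ed sl_df s0_v259 = s0_v625 :=
  gap_rel s0_rot8 (path_edge (s0_f5607 IH) (path_edge (s0_f5376r IH) (path_edge (s0_f8138r IH) (path_nil s0_v625))))
theorem s0_f8172 : ed sl_gt s0_v212 = s0_v631 :=
  rfl
theorem s0_f8172r : ed sl_gf s0_v631 = s0_v212 :=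
  edge_flip (s0_f8172 IH)
theorem s0_f8175 : ed sl_gf s0_v212 = s0_v631 :=
  gap_rel s0_rot76 (path_edge (s0_f8172r IH) (path_nil s0_v631))
theorem s0_f8175r : ed sl_gt s0_v631 = s0_v212 :=
  edge_flip (s0_f8175 IH)
theorem s0_f5383r : ed sl_et s0_v212 = s0_v78 :=
  edge_flip (s0_f5383 IH)
theorem s0_f8177 : ed sl_et s0_v258 = s0_v631 :=
  gap_rel s0_rot49 (path_edge (s0_f5600 IH) (path_edge (s0_f5383r IH) (path_edge (s0_f8175r IH) (path_nil s0_v631))))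
theorem s0_f8244 : ed sl_ft s0_v217 = s0_v644 :=
  rfl
theorem s0_f8244r : ed sl_ff s0_v644 = s0_v217 :=
  edge_flip (s0_f8244 IH)
theorem s0_f8247 : ed sl_ff s0_v217 = s0_v644 :=
  gap_rel s0_rot1 (path_edge (s0_f8244r IH) (path_nil s0_v644))
theorem s0_f8247r : ed sl_ft s0_v644 = s0_v217 :=
  edge_flip (s0_f8247 IH)
theorem s0_f5404r : ed sl_at s0_v217 = s0_v60 :=
  edge_flip (s0_f5404 IH)
theorem s0_f8248 : ed sl_at s0_v219 = s0_v644 :=
  gap_rel s0_rot90 (path_edge (s0_f5413 IH) (path_edge (s0_f5404r IH) (path_edge (s0_f8247r IH) (path_nil s0_v644))))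
theorem s0_f8250 : ed sl_gt s0_v217 = s0_v645 :=
  rfl
theorem s0_f8250r : ed sl_gf s0_v645 = s0_v217 :=
  edge_flip (s0_f8250 IH)
theorem s0_f8253 : ed sl_gf s0_v217 = s0_v645 :=
  gap_rel s0_rot76 (path_edge (s0_f8250r IH) (path_nil s0_v645))
theorem s0_f8253r : ed sl_gt s0_v645 = s0_v217 :=
  edge_flip (s0_f8253 IH)
theorem s0_f8255 : ed sl_et s0_v264 = s0_v645 :=
  gap_rel s0_rot49 (path_edge (s0_f5636 IH) (path_edge (s0_f5406r IH) (path_edge (s0_f8253r IH) (path_nil s0_v645))))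
theorem s0_f8264 : ed sl_gt s0_v218 = s0_v648 :=
  rfl
theorem s0_f8264r : ed sl_gf s0_v648 = s0_v218 :=
  edge_flip (s0_f8264 IH)
theorem s0_f8267 : ed sl_gf s0_v218 = s0_v648 :=
  gap_rel s0_rot76 (path_edge (s0_f8264r IH) (path_nil s0_v648))
theorem s0_f8267r : ed sl_gt s0_v648 = s0_v218 :=
  edge_flip (s0_f8267 IH)
theorem s0_f8269 : ed sl_et s0_v267 = s0_v648 :=
  gap_rel s0_rot49 (path_edge (s0_f5648 IH) (path_edge (s0_f5411r IH) (path_edge (s0_f8267r IH) (path_nil s0_v648))))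
theorem s0_f8270 : ed sl_gt s0_v219 = s0_v649 :=
  rfl
theorem s0_f8270r : ed sl_gf s0_v649 = s0_v219 :=
  edge_flip (s0_f8270 IH)
theorem s0_f8272 : ed sl_gf s0_v219 = s0_v649 :=
  gap_rel s0_rot76 (path_edge (s0_f8270r IH) (path_nil s0_v649))
theorem s0_f8273 : ed sl_ff s0_v645 = s0_v649 :=
  gap_rel s0_rot92 (path_edge (s0_f8253 IH) (path_edge (s0_f8244r IH) (path_edge (s0_f8248 IH) (path_edge (s0_f8270r IH) (path_nil s0_v649)))))
theorem s0_f8273r : ed sl_ft s0_v649 = s0_v645 :=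
  edge_flip (s0_f8273 IH)
theorem s0_f8275 : ed sl_ft s0_v645 = s0_v649 :=
  gap_rel s0_rot16 (path_edge (s0_f8273r IH) (path_nil s0_v649))
theorem s0_f8276 : ed sl_ft s0_v220 = s0_v650 :=
  rfl
theorem s0_f8276r : ed sl_ff s0_v650 = s0_v220 :=
  edge_flip (s0_f8276 IH)
theorem s0_f8275r : ed sl_ff s0_v649 = s0_v645 :=
  edge_flip (s0_f8275 IH)
theorem s0_f8280 : ed sl_gf s0_v644 = s0_v650 :=
  gap_rel s0_rot19 (path_edge (s0_f8247 IH) (path_edge (s0_f8250r IH) (path_edge (s0_f8275r IH) (path_edge (s0_f8272 IH) (path_edge (s0_f5415 IH) (path_edge (s0_f5417r IH) (path_edge (s0_f8276r IH) (path_nil s0_v650))))))))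
theorem s0_f8284 : ed sl_bt s0_v221 = s0_v651 :=
  rfl
theorem s0_f8284r : ed sl_bf s0_v651 = s0_v221 :=
  edge_flip (s0_f8284 IH)
theorem s0_f5424r : ed sl_df s0_v221 = s0_v89 :=
  edge_flip (s0_f5424 IH)
theorem s0_f8286 : ed sl_df s0_v278 = s0_v651 :=
  gap_rel s0_rot8 (path_edge (s0_f5714 IH) (path_edge (s0_f5424r IH) (path_edge (s0_f8284r IH) (path_nil s0_v651))))
theorem s0_f8286r : ed sl_dt s0_v651 = s0_v278 :=
  edge_flip (s0_f8286 IH)
theorem s0_f8287 : ed sl_dt s0_v278 = s0_v651 :=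
  gap_rel s0_rot28 (path_edge (s0_f8286r IH) (path_nil s0_v651))
theorem s0_f8287r : ed sl_df s0_v651 = s0_v278 :=
  edge_flip (s0_f8287 IH)
theorem s0_f5715r : ed sl_af s0_v278 = s0_v278 :=
  edge_flip (s0_f5715 IH)
theorem s0_f8288 : ed sl_af s0_v651 = s0_v651 :=
  gap_rel s0_rot72 (path_edge (s0_f8286 IH) (path_edge (s0_f5715r IH) (path_edge (s0_f8287r IH) (path_nil s0_v651))))
theorem s0_f8289 : ed sl_ct s0_v221 = s0_v652 :=
  rfl
theorem s0_f8289r : ed sl_cf s0_v652 = s0_v221 :=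
  edge_flip (s0_f8289 IH)
theorem s0_f8291 : ed sl_cf s0_v221 = s0_v652 :=
  gap_rel s0_rot40 (path_edge (s0_f8289r IH) (path_nil s0_v652))
theorem s0_f8291r : ed sl_ct s0_v652 = s0_v221 :=
  edge_flip (s0_f8291 IH)
theorem s0_f5422r : ed sl_at s0_v221 = s0_v61 :=
  edge_flip (s0_f5422 IH)
theorem s0_f8292 : ed sl_at s0_v222 = s0_v652 :=
  gap_rel s0_rot64 (path_edge (s0_f5425 IH) (path_edge (s0_f5422r IH) (path_edge (s0_f8291r IH) (path_nil s0_v652))))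
theorem s0_f8293 : ed sl_ft s0_v221 = s0_v653 :=
  rfl
theorem s0_f8293r : ed sl_ff s0_v653 = s0_v221 :=
  edge_flip (s0_f8293 IH)
theorem s0_f8294 : ed sl_af s0_v223 = s0_v653 :=
  gap_rel s0_rot0 (path_edge (s0_f5430 IH) (path_edge (s0_f5421r IH) (path_edge (s0_f8293r IH) (path_nil s0_v653))))
theorem s0_f8296 : ed sl_ff s0_v221 = s0_v653 :=
  gap_rel s0_rot1 (path_edge (s0_f8293r IH) (path_nil s0_v653))
theorem s0_f8296r : ed sl_ft s0_v653 = s0_v221 :=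
  edge_flip (s0_f8296 IH)
theorem s0_f8297 : ed sl_at s0_v223 = s0_v653 :=
  gap_rel s0_rot90 (path_edge (s0_f5427 IH) (path_edge (s0_f5422r IH) (path_edge (s0_f8296r IH) (path_nil s0_v653))))
theorem s0_f8299 : ed sl_gt s0_v221 = s0_v654 :=
  rfl
theorem s0_f8299r : ed sl_gf s0_v654 = s0_v221 :=
  edge_flip (s0_f8299 IH)
theorem s0_f8300 : ed sl_af s0_v224 = s0_v654 :=
  gap_rel s0_rot78 (path_edge (s0_f5436 IH) (path_edge (s0_f5421r IH) (path_edge (s0_f8299r IH) (path_nil s0_v654))))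
theorem s0_f8302 : ed sl_gf s0_v221 = s0_v654 :=
  gap_rel s0_rot76 (path_edge (s0_f8299r IH) (path_nil s0_v654))
theorem s0_f8302r : ed sl_gt s0_v654 = s0_v221 :=
  edge_flip (s0_f8302 IH)
theorem s0_f8303 : ed sl_at s0_v224 = s0_v654 :=
  gap_rel s0_rot96 (path_edge (s0_f5433 IH) (path_edge (s0_f5422r IH) (path_edge (s0_f8302r IH) (path_nil s0_v654))))
theorem s0_f8305 : ed sl_dt s0_v222 = s0_v655 :=
  rfl
theorem s0_f8305r : ed sl_df s0_v655 = s0_v222 :=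
  edge_flip (s0_f8305 IH)
theorem s0_f8306 : ed sl_df s0_v222 = s0_v655 :=
  gap_rel s0_rot54 (path_edge (s0_f8305r IH) (path_nil s0_v655))
theorem s0_f8307 : ed sl_ft s0_v222 = s0_v656 :=
  rfl
theorem s0_f8307r : ed sl_ff s0_v656 = s0_v222 :=
  edge_flip (s0_f8307 IH)
theorem s0_f8309 : ed sl_ff s0_v222 = s0_v656 :=
  gap_rel s0_rot1 (path_edge (s0_f8307r IH) (path_nil s0_v656))
theorem s0_f8309r : ed sl_ft s0_v656 = s0_v222 :=
  edge_flip (s0_f8309 IH)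
theorem s0_f5426r : ed sl_ct s0_v222 = s0_v61 :=
  edge_flip (s0_f5426 IH)
theorem s0_f8310 : ed sl_ct s0_v223 = s0_v656 :=
  gap_rel s0_rot42 (path_edge (s0_f5427 IH) (path_edge (s0_f5426r IH) (path_edge (s0_f8309r IH) (path_nil s0_v656))))
theorem s0_f8315 : ed sl_gt s0_v223 = s0_v658 :=
  rfl
theorem s0_f8315r : ed sl_gf s0_v658 = s0_v223 :=
  edge_flip (s0_f8315 IH)
theorem s0_f5432r : ed sl_df s0_v223 = s0_v91 :=
  edge_flip (s0_f5432 IH)
theorem s0_f8316 : ed sl_df s0_v285 = s0_v658 :=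
  gap_rel s0_rot52 (path_edge (s0_f5740 IH) (path_edge (s0_f5432r IH) (path_edge (s0_f8315r IH) (path_nil s0_v658))))
theorem s0_f8317 : ed sl_gf s0_v223 = s0_v658 :=
  gap_rel s0_rot76 (path_edge (s0_f8315r IH) (path_nil s0_v658))
theorem s0_f8318 : ed sl_ff s0_v654 = s0_v658 :=
  gap_rel s0_rot92 (path_edge (s0_f8302 IH) (path_edge (s0_f8293r IH) (path_edge (s0_f8297 IH) (path_edge (s0_f8315r IH) (path_nil s0_v658)))))
theorem s0_f8318r : ed sl_ft s0_v658 = s0_v654 :=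
  edge_flip (s0_f8318 IH)
theorem s0_f8320 : ed sl_ft s0_v654 = s0_v658 :=
  gap_rel s0_rot16 (path_edge (s0_f8318r IH) (path_nil s0_v658))
theorem s0_f8321 : ed sl_ft s0_v224 = s0_v659 :=
  rfl
theorem s0_f8321r : ed sl_ff s0_v659 = s0_v224 :=
  edge_flip (s0_f8321 IH)
theorem s0_f8324 : ed sl_ff s0_v224 = s0_v659 :=
  gap_rel s0_rot1 (path_edge (s0_f8321r IH) (path_nil s0_v659))
theorem s0_f8320r : ed sl_ff s0_v658 = s0_v654 :=
  edge_flip (s0_f8320 IH)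
theorem s0_f8325 : ed sl_gf s0_v653 = s0_v659 :=
  gap_rel s0_rot19 (path_edge (s0_f8296 IH) (path_edge (s0_f8299r IH) (path_edge (s0_f8320r IH) (path_edge (s0_f8317 IH) (path_edge (s0_f5430 IH) (path_edge (s0_f5433r IH) (path_edge (s0_f8321r IH) (path_nil s0_v659))))))))
theorem s0_f8325r : ed sl_gt s0_v659 = s0_v653 :=
  edge_flip (s0_f8325 IH)
theorem s0_f8328 : ed sl_gt s0_v653 = s0_v659 :=
  gap_rel s0_rot25 (path_edge (s0_f8325r IH) (path_nil s0_v659))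
theorem s0_f8374 : ed sl_ct s0_v229 = s0_v669 :=
  rfl
theorem s0_f8374r : ed sl_cf s0_v669 = s0_v229 :=
  edge_flip (s0_f8374 IH)
theorem s0_f5456r : ed sl_ef s0_v229 = s0_v89 :=
  edge_flip (s0_f5456 IH)
theorem s0_f8377 : ed sl_ef s0_v279 = s0_v669 :=
  gap_rel s0_rot48 (path_edge (s0_f5718 IH) (path_edge (s0_f5456r IH) (path_edge (s0_f8374r IH) (path_nil s0_v669))))
theorem s0_f8377r : ed sl_et s0_v669 = s0_v279 :=
  edge_flip (s0_f8377 IH)
theorem s0_f5717r : ed sl_at s0_v279 = s0_v90 :=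
  edge_flip (s0_f5717 IH)
theorem s0_f8378 : ed sl_at s0_v230 = s0_v669 :=
  gap_rel s0_rot86 (path_edge (s0_f5460 IH) (path_edge (s0_f5717r IH) (path_edge (s0_f8377r IH) (path_nil s0_v669))))
theorem s0_f8386 : ed sl_gt s0_v229 = s0_v671 :=
  rfl
theorem s0_f8386r : ed sl_gf s0_v671 = s0_v229 :=
  edge_flip (s0_f8386 IH)
theorem s0_f8388 : ed sl_ef s0_v281 = s0_v671 :=
  gap_rel s0_rot36 (path_edge (s0_f5726 IH) (path_edge (s0_f5456r IH) (path_edge (s0_f8386r IH) (path_nil s0_v671))))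
theorem s0_f8389 : ed sl_gf s0_v229 = s0_v671 :=
  gap_rel s0_rot76 (path_edge (s0_f8386r IH) (path_nil s0_v671))
theorem s0_f8392 : ed sl_dt s0_v230 = s0_v672 :=
  rfl
theorem s0_f8395 : ed sl_ft s0_v230 = s0_v673 :=
  rfl
theorem s0_f8395r : ed sl_ff s0_v673 = s0_v230 :=
  edge_flip (s0_f8395 IH)
theorem s0_f8398 : ed sl_ff s0_v230 = s0_v673 :=
  gap_rel s0_rot1 (path_edge (s0_f8395r IH) (path_nil s0_v673))
theorem s0_f8398r : ed sl_ft s0_v673 = s0_v230 :=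
  edge_flip (s0_f8398 IH)
theorem s0_f5458r : ed sl_ct s0_v230 = s0_v63 :=
  edge_flip (s0_f5458 IH)
theorem s0_f8399 : ed sl_ct s0_v231 = s0_v673 :=
  gap_rel s0_rot42 (path_edge (s0_f5462 IH) (path_edge (s0_f5458r IH) (path_edge (s0_f8398r IH) (path_nil s0_v673))))
theorem s0_f8400 : ed sl_et s0_v283 = s0_v673 :=
  gap_rel s0_rot37 (path_edge (s0_f5731 IH) (path_edge (s0_f5459r IH) (path_edge (s0_f8398r IH) (path_nil s0_v673))))
theorem s0_f8401 : ed sl_gt s0_v230 = s0_v674 :=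
  rfl
theorem s0_f8401r : ed sl_gf s0_v674 = s0_v230 :=
  edge_flip (s0_f8401 IH)
theorem s0_f5460r : ed sl_ef s0_v230 = s0_v90 :=
  edge_flip (s0_f5460 IH)
theorem s0_f8403 : ed sl_ef s0_v284 = s0_v674 :=
  gap_rel s0_rot36 (path_edge (s0_f5737 IH) (path_edge (s0_f5460r IH) (path_edge (s0_f8401r IH) (path_nil s0_v674))))
theorem s0_f8404 : ed sl_gf s0_v230 = s0_v674 :=
  gap_rel s0_rot76 (path_edge (s0_f8401r IH) (path_nil s0_v674))
theorem s0_f8421 : ed sl_bt s0_v233 = s0_v677 :=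
  rfl
theorem s0_f8421r : ed sl_bf s0_v677 = s0_v233 :=
  edge_flip (s0_f8421 IH)
theorem s0_f5482r : ed sl_af s0_v233 = s0_v181 :=
  edge_flip (s0_f5482 IH)
theorem s0_f4177r : ed sl_af sq116 = sq117 :=
  edge_flip (s0_f4177 IH)
theorem s0_f3774r : ed sl_bf sq117 = sq180 :=
  edge_flip (s0_f3774 IH)
theorem s0_f8422 : ed sl_af s0_v575 = s0_v677 :=
  gap_rel s0_rot114 (path_edge (s0_f7879 IH) (path_edge (s0_f5066 IH) (path_edge (s0_f3774r IH) (path_edge (s0_f4177r IH) (path_edge (s0_f2289r IH) (path_edge (s0_f431r IH) (path_edge (s0_f6983r IH) (path_eq (s0_f7005 IH) (path_edge (s0_f5482r IH) (path_edge (s0_f8421r IH) (path_nil s0_v677)))))))))))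
theorem s0_f8423 : ed sl_bf s0_v233 = s0_v677 :=
  gap_rel s0_rot44 (path_edge (s0_f8421r IH) (path_nil s0_v677))
theorem s0_f8424 : ed sl_gf s0_v335 = s0_v677 :=
  gap_rel s0_rot24 (path_edge (s0_f5970 IH) (path_edge (s0_f4553 IH) (path_edge (s0_f4256r IH) (path_edge (s0_f5478r IH) (path_edge (s0_f8421r IH) (path_nil s0_v677))))))
theorem s0_f8424r : ed sl_gt s0_v677 = s0_v335 :=
  edge_flip (s0_f8424 IH)
theorem s0_f8425 : ed sl_gt s0_v335 = s0_v677 :=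
  gap_rel s0_rot25 (path_edge (s0_f8424r IH) (path_nil s0_v677))
theorem s0_f8425r : ed sl_gf s0_v677 = s0_v335 :=
  edge_flip (s0_f8425 IH)
theorem s0_f8426 : ed sl_af s0_v335 = s0_v357 :=
  gap_rel s0_rot78 (path_edge (s0_f8425r IH) (path_edge (s0_f8422 IH) (path_edge (s0_f7881 IH) (path_nil s0_v357))))
theorem s0_f6045r : ed sl_at s0_v355 = s0_v125 :=
  edge_flip (s0_f6045 IH)
theorem s0_f8426r : ed sl_at s0_v357 = s0_v335 :=
  edge_flip (s0_f8426 IH)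
theorem s0_f8428 : ed sl_ft s0_v335 = s0_v355 :=
  gap_rel s0_rot118 (path_edge (s0_f8426r IH) (path_edge (s0_f6048 IH) (path_edge (s0_f6045r IH) (path_nil s0_v355))))
theorem s0_f8428r : ed sl_ff s0_v355 = s0_v335 :=
  edge_flip (s0_f8428 IH)
theorem s0_f8429 : ed sl_ff s0_v335 = s0_v355 :=
  gap_rel s0_rot1 (path_edge (s0_f8428r IH) (path_nil s0_v355))
theorem s0_f6006r : ed sl_gf s0_v345 = s0_v125 :=
  edge_flip (s0_f6006 IH)
theorem s0_f8430 : ed sl_ff s0_v677 = s0_v345 :=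
  gap_rel s0_rot92 (path_edge (s0_f8424 IH) (path_edge (s0_f8428r IH) (path_edge (s0_f6044 IH) (path_edge (s0_f6006r IH) (path_nil s0_v345)))))
theorem s0_f8430r : ed sl_ft s0_v345 = s0_v677 :=
  edge_flip (s0_f8430 IH)
theorem s0_f8431 : ed sl_ft s0_v677 = s0_v345 :=
  gap_rel s0_rot16 (path_edge (s0_f8430r IH) (path_nil s0_v345))
theorem s0_f6009r : ed sl_ft s0_v346 = s0_v121 :=
  edge_flip (s0_f6009 IH)
theorem s0_f8423r : ed sl_bt s0_v677 = s0_v233 :=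
  edge_flip (s0_f8423 IH)
theorem s0_f5480r : ed sl_ft s0_v233 = s0_v179 :=
  edge_flip (s0_f5480 IH)
theorem s0_f8433 : s0_v582 = s0_v346 :=
  (loop_rel s0_rot12 (path_edge (s0_f7918 IH) (path_edge (s0_f5480r IH) (path_edge (s0_f8423r IH) (path_edge (s0_f8430r IH) (path_edge (s0_f6003 IH) (path_edge (s0_f6009r IH) (path_nil s0_v346)))))))).symm
theorem s0_f7208r : ed sl_gf s0_v483 = sq291 :=
  edge_flip (s0_f7208 IH)
theorem s0_f6012r : ed sl_gf s0_v346 = s0_v338 :=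
  edge_flip (s0_f6012 IH)
theorem s0_f8434 : ed sl_bf s0_v338 = s0_v483 :=
  gap_rel s0_rot75 (path_edge (s0_f6012r IH) (path_eq (s0_f8433 IH) (path_edge (s0_f7919 IH) (path_edge (s0_f5132 IH) (path_edge (s0_f3870r IH) (path_edge (s0_f7208r IH) (path_nil s0_v483)))))))
theorem s0_f8434r : ed sl_bt s0_v483 = s0_v338 :=
  edge_flip (s0_f8434 IH)
theorem s0_f8435 : ed sl_bt s0_v338 = s0_v483 :=
  gap_rel s0_rot68 (path_edge (s0_f8434r IH) (path_nil s0_v483))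
theorem s0_f5133r : ed sl_af s0_v179 = sq188 :=
  edge_flip (s0_f5133 IH)
theorem s0_f4255r : ed sl_bf sq188 = sq202 :=
  edge_flip (s0_f4255 IH)
theorem s0_f7048r : ed sl_af s0_v466 = s0_v174 :=
  edge_flip (s0_f7048 IH)
theorem s0_f8436 : ed sl_bf s0_v653 = s0_v344 :=
  gap_rel s0_rot93 (path_edge (s0_f8294 IH) (path_edge (s0_f5428 IH) (path_edge (s0_f7048r IH) (path_edge (s0_f7004 IH) (path_edge (s0_f5263 IH) (path_edge (s0_f4255r IH) (path_edge (s0_f5133r IH) (path_edge (s0_f7918r IH) (path_eq (s0_f8433 IH).symm (path_edge (s0_f6008 IH) (path_nil s0_v344)))))))))))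
theorem s0_f8436r : ed sl_bt s0_v344 = s0_v653 :=
  edge_flip (s0_f8436 IH)
theorem s0_f8437 : ed sl_bt s0_v653 = s0_v344 :=
  gap_rel s0_rot68 (path_edge (s0_f8436r IH) (path_nil s0_v344))
theorem s0_f4431r : ed sl_bf s0_v91 = sq200 :=
  edge_flip (s0_f4431 IH)
theorem s0_f3841r : ed sl_ff sq200 = sq129 :=
  edge_flip (s0_f3841 IH)
theorem s0_f4313r : ed sl_bf s0_v68 = s0_v24 :=
  edge_flip (s0_f4313 IH)
theorem s0_f8437r : ed sl_bf s0_v344 = s0_v653 :=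
  edge_flip (s0_f8437 IH)
theorem s0_f8438 : ed sl_bf s0_v654 = s0_v281 :=
  gap_rel s0_rot119 (path_edge (s0_f8302 IH) (path_edge (s0_f8293r IH) (path_edge (s0_f8437r IH) (path_edge (s0_f6000 IH) (path_edge (s0_f4567 IH) (path_edge (s0_f3938 IH) (path_edge (s0_f3943r IH) (path_edge (s0_f3946 IH) (path_edge (s0_f4313r IH) (path_edge (s0_f4312 IH) (path_edge (s0_f3841r IH) (path_edge (s0_f4431r IH) (path_edge (s0_f5739r IH) (path_edge (s0_f5741 IH) (path_nil s0_v281)))))))))))))))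
theorem s0_f8438r : ed sl_bt s0_v281 = s0_v654 :=
  edge_flip (s0_f8438 IH)
theorem s0_f8439 : ed sl_bt s0_v654 = s0_v281 :=
  gap_rel s0_rot68 (path_edge (s0_f8438r IH) (path_nil s0_v281))
theorem s0_f8440 : ed sl_gt s0_v651 = s0_v278 :=
  gap_rel s0_rot117 (path_edge (s0_f8284 IH) (path_edge (s0_f8302r IH) (path_edge (s0_f8438r IH) (path_edge (s0_f5724 IH) (path_edge (s0_f5714r IH) (path_nil s0_v278))))))
theorem s0_f8440r : ed sl_gf s0_v278 = s0_v651 :=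
  edge_flip (s0_f8440 IH)
theorem s0_f8441 : ed sl_gf s0_v651 = s0_v278 :=
  gap_rel s0_rot47 (path_edge (s0_f8288 IH) (path_edge (s0_f8440r IH) (path_edge (s0_f5715r IH) (path_nil s0_v278))))
theorem s0_f8442 : ed sl_at s0_v234 = s0_v678 :=
  rfl
theorem s0_f8442r : ed sl_af s0_v678 = s0_v234 :=
  edge_flip (s0_f8442 IH)
theorem s0_f8443 : ed sl_af s0_v234 = s0_v678 :=
  gap_rel s0_rot66 (path_edge (s0_f8442r IH) (path_nil s0_v678))
theorem s0_f5487r : ed sl_ef s0_v234 = s0_v93 :=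
  edge_flip (s0_f5487 IH)
theorem s0_f8444 : ed sl_ef s0_v287 = s0_v678 :=
  gap_rel s0_rot102 (path_edge (s0_f5750 IH) (path_edge (s0_f5487r IH) (path_edge (s0_f8442r IH) (path_nil s0_v678))))
theorem s0_f8444r : ed sl_et s0_v678 = s0_v287 :=
  edge_flip (s0_f8444 IH)
theorem s0_f8445 : ed sl_et s0_v287 = s0_v678 :=
  gap_rel s0_rot31 (path_edge (s0_f8444r IH) (path_nil s0_v678))
theorem s0_f8446 : ed sl_ct s0_v234 = s0_v679 :=
  rfl
theorem s0_f8446r : ed sl_cf s0_v679 = s0_v234 :=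
  edge_flip (s0_f8446 IH)
theorem s0_f8447 : ed sl_cf s0_v234 = s0_v679 :=
  gap_rel s0_rot40 (path_edge (s0_f8446r IH) (path_nil s0_v679))
theorem s0_f8450 : ed sl_ft s0_v234 = s0_v680 :=
  rfl
theorem s0_f8450r : ed sl_ff s0_v680 = s0_v234 :=
  edge_flip (s0_f8450 IH)
theorem s0_f4279r : ed sl_ff s0_v65 = s0_v25 :=
  edge_flip (s0_f4279 IH)
theorem s0_f8451 : ed sl_bf s0_v299 = s0_v680 :=
  gap_rel s0_rot104 (path_edge (s0_f5793 IH) (path_edge (s0_f4463 IH) (path_edge (s0_f4279r IH) (path_edge (s0_f5484r IH) (path_edge (s0_f8450r IH) (path_nil s0_v680))))))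
theorem s0_f8453 : ed sl_ff s0_v234 = s0_v680 :=
  gap_rel s0_rot1 (path_edge (s0_f8450r IH) (path_nil s0_v680))
theorem s0_f8453r : ed sl_ft s0_v680 = s0_v234 :=
  edge_flip (s0_f8453 IH)
theorem s0_f5485r : ed sl_bt s0_v234 = s0_v65 :=
  edge_flip (s0_f5485 IH)
theorem s0_f8454 : ed sl_bt s0_v299 = s0_v680 :=
  gap_rel s0_rot12 (path_edge (s0_f5791 IH) (path_edge (s0_f4462 IH) (path_edge (s0_f4277r IH) (path_edge (s0_f5485r IH) (path_edge (s0_f8453r IH) (path_nil s0_v680))))))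
theorem s0_f8490 : ed sl_at s0_v239 = s0_v688 :=
  rfl
theorem s0_f8490r : ed sl_af s0_v688 = s0_v239 :=
  edge_flip (s0_f8490 IH)
theorem s0_f8491 : ed sl_af s0_v239 = s0_v688 :=
  gap_rel s0_rot66 (path_edge (s0_f8490r IH) (path_nil s0_v688))
theorem s0_f2477r : ed sl_bf sq130 = sq82 :=
  edge_flip (s0_f2477 IH)
theorem s0_f3889r : ed sl_af sq82 = sq81 :=
  edge_flip (s0_f3889 IH)
theorem s0_f3617r : ed sl_bf sq81 = sq129 :=
  edge_flip (s0_f3617 IH)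
theorem s0_f4307r : ed sl_af sq129 = sq198 :=
  edge_flip (s0_f4307 IH)
theorem s0_f8492 : ed sl_bf s0_v573 = s0_v688 :=
  gap_rel s0_rot93 (path_edge (s0_f7861 IH) (path_eq (s0_f7006 IH) (path_edge (s0_f5221 IH) (path_edge (s0_f4307r IH) (path_edge (s0_f3617r IH) (path_edge (s0_f3889r IH) (path_edge (s0_f2477r IH) (path_edge (s0_f4315r IH) (path_edge (s0_f5513r IH) (path_edge (s0_f8490r IH) (path_nil s0_v688)))))))))))
theorem s0_f8493 : ed sl_df s0_v677 = s0_v688 :=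
  gap_rel s0_rot51 (path_edge (s0_f8422 IH) (path_edge (s0_f7880 IH) (path_edge (s0_f8490r IH) (path_nil s0_v688))))
theorem s0_f8493r : ed sl_dt s0_v688 = s0_v677 :=
  edge_flip (s0_f8493 IH)
theorem s0_f8494 : ed sl_bt s0_v573 = s0_v688 :=
  gap_rel s0_rot69 (path_edge (s0_f7868 IH) (path_edge (s0_f8423r IH) (path_edge (s0_f8493r IH) (path_nil s0_v688))))
theorem s0_f8496 : ed sl_ct s0_v239 = s0_v689 :=
  rfl
theorem s0_f8496r : ed sl_cf s0_v689 = s0_v239 :=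
  edge_flip (s0_f8496 IH)
theorem s0_f8497 : ed sl_cf s0_v239 = s0_v689 :=
  gap_rel s0_rot40 (path_edge (s0_f8496r IH) (path_nil s0_v689))
theorem s0_f8498 : ed sl_ft s0_v239 = s0_v690 :=
  rfl
theorem s0_f8498r : ed sl_ff s0_v690 = s0_v239 :=
  edge_flip (s0_f8498 IH)
theorem s0_f8499 : ed sl_ff s0_v239 = s0_v690 :=
  gap_rel s0_rot1 (path_edge (s0_f8498r IH) (path_nil s0_v690))
theorem s0_f8501 : ed sl_gt s0_v239 = s0_v691 :=
  rfl
theorem s0_f8501r : ed sl_gf s0_v691 = s0_v239 :=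
  edge_flip (s0_f8501 IH)
theorem s0_f8504 : ed sl_gf s0_v239 = s0_v691 :=
  gap_rel s0_rot76 (path_edge (s0_f8501r IH) (path_nil s0_v691))
theorem s0_f8504r : ed sl_gt s0_v691 = s0_v239 :=
  edge_flip (s0_f8504 IH)
theorem s0_f7881r : ed sl_gt s0_v575 = s0_v357 :=
  edge_flip (s0_f7881 IH)
theorem s0_f8506 : ed sl_dt s0_v357 = s0_v691 :=
  gap_rel s0_rot91 (path_edge (s0_f7881r IH) (path_edge (s0_f7883 IH) (path_edge (s0_f8504r IH) (path_nil s0_v691))))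
theorem s0_f8506r : ed sl_df s0_v691 = s0_v357 :=
  edge_flip (s0_f8506 IH)
theorem s0_f8507 : ed sl_ff s0_v247 = s0_v691 :=
  gap_rel s0_rot100 (path_edge (s0_f5553 IH) (path_edge (s0_f6048r IH) (path_edge (s0_f8506r IH) (path_nil s0_v691))))
theorem s0_f8507r : ed sl_ft s0_v691 = s0_v247 :=
  edge_flip (s0_f8507 IH)
theorem s0_f8508 : ed sl_ft s0_v247 = s0_v691 :=
  gap_rel s0_rot16 (path_edge (s0_f8507r IH) (path_nil s0_v691))
theorem s0_f8509 : ed sl_at s0_v240 = s0_v692 :=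
  rfl
theorem s0_f8509r : ed sl_af s0_v692 = s0_v240 :=
  edge_flip (s0_f8509 IH)
theorem s0_f8510 : ed sl_af s0_v240 = s0_v692 :=
  gap_rel s0_rot66 (path_edge (s0_f8509r IH) (path_nil s0_v692))
theorem s0_f5518r : ed sl_df s0_v240 = s0_v97 :=
  edge_flip (s0_f5518 IH)
theorem s0_f8511 : ed sl_df s0_v297 = s0_v692 :=
  gap_rel s0_rot51 (path_edge (s0_f5784 IH) (path_edge (s0_f5518r IH) (path_edge (s0_f8509r IH) (path_nil s0_v692))))
theorem s0_f8511r : ed sl_dt s0_v692 = s0_v297 :=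
  edge_flip (s0_f8511 IH)
theorem s0_f8512 : ed sl_dt s0_v297 = s0_v692 :=
  gap_rel s0_rot28 (path_edge (s0_f8511r IH) (path_nil s0_v692))
theorem s0_f8519 : ed sl_gt s0_v240 = s0_v695 :=
  rfl
theorem s0_f8523 : ed sl_bt s0_v241 = s0_v696 :=
  rfl
theorem s0_f8523r : ed sl_bf s0_v696 = s0_v241 :=
  edge_flip (s0_f8523 IH)
theorem s0_f8524 : ed sl_bf s0_v241 = s0_v696 :=
  gap_rel s0_rot44 (path_edge (s0_f8523r IH) (path_nil s0_v696))
theorem s0_f5524r : ed sl_df s0_v241 = s0_v99 :=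
  edge_flip (s0_f5524 IH)
theorem s0_f8525 : ed sl_df s0_v304 = s0_v696 :=
  gap_rel s0_rot8 (path_edge (s0_f5818 IH) (path_edge (s0_f5524r IH) (path_edge (s0_f8523r IH) (path_nil s0_v696))))
theorem s0_f8531 : ed sl_ft s0_v243 = s0_v698 :=
  rfl
theorem s0_f8531r : ed sl_ff s0_v698 = s0_v243 :=
  edge_flip (s0_f8531 IH)
theorem s0_f8535 : ed sl_ff s0_v243 = s0_v698 :=
  gap_rel s0_rot1 (path_edge (s0_f8531r IH) (path_nil s0_v698))
theorem s0_f8535r : ed sl_ft s0_v698 = s0_v243 :=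
  edge_flip (s0_f8535 IH)
theorem s0_f5536r : ed sl_at s0_v243 = s0_v73 :=
  edge_flip (s0_f5536 IH)
theorem s0_f8536 : ed sl_at s0_v245 = s0_v698 :=
  gap_rel s0_rot90 (path_edge (s0_f5543 IH) (path_edge (s0_f5536r IH) (path_edge (s0_f8535r IH) (path_nil s0_v698))))
theorem s0_f8539 : ed sl_gt s0_v243 = s0_v699 :=
  rfl
theorem s0_f8539r : ed sl_gf s0_v699 = s0_v243 :=
  edge_flip (s0_f8539 IH)
theorem s0_f8541 : ed sl_cf s0_v246 = s0_v699 :=
  gap_rel s0_rot43 (path_edge (s0_f5549 IH) (path_edge (s0_f5541r IH) (path_eq (s0_f6472 IH) (path_edge (s0_f8539r IH) (path_nil s0_v699)))))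
theorem s0_f8542 : ed sl_df s0_v339 = s0_v699 :=
  gap_rel s0_rot52 (path_edge (s0_f5983 IH) (path_edge (s0_f5539r IH) (path_edge (s0_f8539r IH) (path_nil s0_v699))))
theorem s0_f8543 : ed sl_gf s0_v243 = s0_v699 :=
  gap_rel s0_rot76 (path_edge (s0_f8539r IH) (path_nil s0_v699))
theorem s0_f8543r : ed sl_gt s0_v699 = s0_v243 :=
  edge_flip (s0_f8543 IH)
theorem s0_f8546 : ed sl_dt s0_v339 = s0_v699 :=
  gap_rel s0_rot91 (path_edge (s0_f5981 IH) (path_edge (s0_f5538r IH) (path_edge (s0_f8543r IH) (path_nil s0_v699))))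
theorem s0_f8547 : ed sl_gt s0_v245 = s0_v700 :=
  rfl
theorem s0_f8547r : ed sl_gf s0_v700 = s0_v245 :=
  edge_flip (s0_f8547 IH)
theorem s0_f8549 : ed sl_gf s0_v245 = s0_v700 :=
  gap_rel s0_rot76 (path_edge (s0_f8547r IH) (path_nil s0_v700))
theorem s0_f8550 : ed sl_ff s0_v699 = s0_v700 :=
  gap_rel s0_rot92 (path_edge (s0_f8543 IH) (path_edge (s0_f8531r IH) (path_edge (s0_f8536 IH) (path_edge (s0_f8547r IH) (path_nil s0_v700)))))
theorem s0_f8550r : ed sl_ft s0_v700 = s0_v699 :=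
  edge_flip (s0_f8550 IH)
theorem s0_f8552 : ed sl_ft s0_v699 = s0_v700 :=
  gap_rel s0_rot16 (path_edge (s0_f8550r IH) (path_nil s0_v700))
theorem s0_f8552r : ed sl_ff s0_v700 = s0_v699 :=
  edge_flip (s0_f8552 IH)
theorem s0_f5540r : ed sl_bf s0_v243 = s0_v118 :=
  edge_flip (s0_f5540 IH)
theorem s0_f5748r : ed sl_gf s0_v286 = s0_v280 :=
  edge_flip (s0_f5748 IH)
theorem s0_f8553 : ed sl_bf s0_v280 = s0_v700 :=
  gap_rel s0_rot119 (path_edge (s0_f5748r IH) (path_edge (s0_f5745 IH) (path_edge (s0_f4442 IH) (path_edge (s0_f3936 IH) (path_edge (s0_f3933r IH) (path_edge (s0_f4256r IH) (path_edge (s0_f5478r IH) (path_edge (s0_f5480 IH) (path_edge (s0_f7918r IH) (path_eq (s0_f8433 IH).symm (path_edge (s0_f6010 IH) (path_edge (s0_f5979 IH) (path_edge (s0_f5540r IH) (path_edge (s0_f8539r IH) (path_edge (s0_f8552r IH) (path_nil s0_v700))))))))))))))))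
theorem s0_f8555 : ed sl_bt s0_v246 = s0_v701 :=
  rfl
theorem s0_f8555r : ed sl_bf s0_v701 = s0_v246 :=
  edge_flip (s0_f8555 IH)
theorem s0_f8556 : ed sl_bf s0_v246 = s0_v701 :=
  gap_rel s0_rot44 (path_edge (s0_f8555r IH) (path_nil s0_v701))
theorem s0_f5550r : ed sl_df s0_v246 = s0_v121 :=
  edge_flip (s0_f5550 IH)
theorem s0_f8557 : ed sl_df s0_v345 = s0_v701 :=
  gap_rel s0_rot8 (path_edge (s0_f6004 IH) (path_edge (s0_f5550r IH) (path_edge (s0_f8555r IH) (path_nil s0_v701))))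
theorem s0_f8558 : ed sl_gf s0_v247 = s0_v701 :=
  gap_rel s0_rot24 (path_edge (s0_f5552 IH) (path_edge (s0_f4360 IH) (path_edge (s0_f4353r IH) (path_edge (s0_f5547r IH) (path_edge (s0_f8555r IH) (path_nil s0_v701))))))
theorem s0_f8558r : ed sl_gt s0_v701 = s0_v247 :=
  edge_flip (s0_f8558 IH)
theorem s0_f5553r : ed sl_dt s0_v247 = s0_v125 :=
  edge_flip (s0_f5553 IH)
theorem s0_f8559 : ed sl_dt s0_v345 = s0_v701 :=
  gap_rel s0_rot91 (path_edge (s0_f6006 IH) (path_edge (s0_f5553r IH) (path_edge (s0_f8558r IH) (path_nil s0_v701))))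
theorem s0_f8560 : ed sl_gt s0_v247 = s0_v701 :=
  gap_rel s0_rot25 (path_edge (s0_f8558r IH) (path_nil s0_v701))
theorem s0_f8561 : ed sl_af s0_v690 = s0_v701 :=
  gap_rel s0_rot81 (path_edge (s0_f8498 IH) (path_edge (s0_f8504r IH) (path_edge (s0_f8508 IH) (path_edge (s0_f8558r IH) (path_nil s0_v701)))))
theorem s0_f8561r : ed sl_at s0_v701 = s0_v690 :=
  edge_flip (s0_f8561 IH)
theorem s0_f8499r : ed sl_ft s0_v690 = s0_v239 :=
  edge_flip (s0_f8499 IH)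
theorem s0_f8563 : ed sl_ft s0_v688 = s0_v701 :=
  gap_rel s0_rot118 (path_edge (s0_f8490 IH) (path_edge (s0_f8499r IH) (path_edge (s0_f8561r IH) (path_nil s0_v701))))
theorem s0_f8563r : ed sl_ff s0_v701 = s0_v688 :=
  edge_flip (s0_f8563 IH)
theorem s0_f8564 : ed sl_ff s0_v688 = s0_v701 :=
  gap_rel s0_rot1 (path_edge (s0_f8563r IH) (path_nil s0_v701))
theorem s0_f8565 : ed sl_ft s0_v246 = s0_v702 :=
  rfl
theorem s0_f8565r : ed sl_ff s0_v702 = s0_v246 :=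
  edge_flip (s0_f8565 IH)
theorem s0_f8494r : ed sl_bf s0_v688 = s0_v573 :=
  edge_flip (s0_f8494 IH)
theorem s0_f7869r : ed sl_ff s0_v573 = s0_v460 :=
  edge_flip (s0_f7869 IH)
theorem s0_f8567 : ed sl_bf s0_v460 = s0_v702 :=
  gap_rel s0_rot104 (path_edge (s0_f7869r IH) (path_edge (s0_f8494r IH) (path_edge (s0_f8563r IH) (path_edge (s0_f8556 IH) (path_edge (s0_f8565r IH) (path_nil s0_v702))))))
theorem s0_f8568 : ed sl_cf s0_v700 = s0_v702 :=
  gap_rel s0_rot65 (path_edge (s0_f8550 IH) (path_edge (s0_f8541 IH) (path_edge (s0_f8565r IH) (path_nil s0_v702))))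
theorem s0_f8571 : ed sl_gf s0_v698 = s0_v702 :=
  gap_rel s0_rot19 (path_edge (s0_f8535 IH) (path_edge (s0_f8539r IH) (path_edge (s0_f8552r IH) (path_edge (s0_f8549 IH) (path_edge (s0_f5545 IH) (path_edge (s0_f5547r IH) (path_edge (s0_f8565r IH) (path_nil s0_v702))))))))
theorem s0_f8571r : ed sl_gt s0_v702 = s0_v698 :=
  edge_flip (s0_f8571 IH)
theorem s0_f8324r : ed sl_ft s0_v659 = s0_v224 :=
  edge_flip (s0_f8324 IH)
theorem s0_f5434r : ed sl_bt s0_v224 = s0_v84 :=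
  edge_flip (s0_f5434 IH)
theorem s0_f4404r : ed sl_gt s0_v84 = s0_v19 :=
  edge_flip (s0_f4404 IH)
theorem s0_f7864r : ed sl_ft s0_v573 = s0_v460 :=
  edge_flip (s0_f7864 IH)
theorem s0_f8576 : ed sl_bt s0_v460 = s0_v702 :=
  gap_rel s0_rot4 (path_edge (s0_f7864r IH) (path_edge (s0_f7860 IH) (path_edge (s0_f5041 IH) (path_edge (s0_f4398 IH) (path_edge (s0_f4404r IH) (path_edge (s0_f5434r IH) (path_edge (s0_f8324r IH) (path_edge (s0_f8328 IH) (path_edge (s0_f8436r IH) (path_edge (s0_f6002 IH) (path_edge (s0_f5981 IH) (path_edge (s0_f5537r IH) (path_edge (s0_f8535r IH) (path_edge (s0_f8571r IH) (path_nil s0_v702)))))))))))))))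
theorem s0_f8576r : ed sl_bf s0_v702 = s0_v460 :=
  edge_flip (s0_f8576 IH)
theorem s0_f8577 : ed sl_cf s0_v688 = s0_v280 :=
  gap_rel s0_rot27 (path_edge (s0_f8492 IH) (path_edge (s0_f7862 IH) (path_edge (s0_f8576r IH) (path_edge (s0_f8568 IH) (path_edge (s0_f8553 IH) (path_nil s0_v280))))))
theorem s0_f8577r : ed sl_ct s0_v280 = s0_v688 :=
  edge_flip (s0_f8577 IH)
theorem s0_f8491r : ed sl_at s0_v688 = s0_v239 :=
  edge_flip (s0_f8491 IH)
theorem s0_f8579 : s0_v689 = s0_v91 :=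
  (loop_rel s0_rot115 (path_edge (s0_f8496 IH) (path_edge (s0_f8491r IH) (path_edge (s0_f8577r IH) (path_edge (s0_f5723 IH) (path_nil s0_v91)))))).symm
theorem s0_f5718r : ed sl_ct s0_v279 = s0_v89 :=
  edge_flip (s0_f5718 IH)
theorem s0_f8580 : s0_v701 = s0_v279 :=
  (loop_rel s0_rot13 (path_edge (s0_f8563 IH) (path_edge (s0_f8577r IH) (path_edge (s0_f5720 IH) (path_edge (s0_f5718r IH) (path_nil s0_v279)))))).symm
theorem s0_f8497r : ed sl_ct s0_v689 = s0_v239 :=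
  edge_flip (s0_f8497 IH)
theorem s0_f8582 : s0_v239 = s0_v283 :=
  edge_fun (edge_congr (s0_f8497r IH) (s0_f8579 IH)) (s0_f5734 IH)
theorem s0_f8583 : s0_v690 = s0_v90 :=
  edge_fun (edge_congr (s0_f8561r IH) (s0_f8580 IH)) (s0_f5717r IH)
theorem s0_f8585 : s0_v673 = s0_v587 :=
  edge_fun (edge_congr (s0_f8400 IH) (s0_f8582 IH).symm) (s0_f7948 IH)
theorem s0_f7437r : ed sl_cf s0_v504 = s0_v185 :=
  edge_flip (s0_f7437 IH)
theorem s0_f8399r : ed sl_cf s0_v673 = s0_v231 :=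
  edge_flip (s0_f8399 IH)
theorem s0_f5466r : ed sl_bf s0_v231 = sq311 :=
  edge_flip (s0_f5466 IH)
theorem s0_f5468r : ed sl_cf sq311 = sq468 :=
  edge_flip (s0_f5468 IH)
theorem s0_f8586 : ed sl_bf sq468 = s0_v504 :=
  gap_rel s0_rot61 (path_edge (s0_f5468r IH) (path_edge (s0_f5466r IH) (path_edge (s0_f8399r IH) (path_eq (s0_f8585 IH).symm (path_edge (s0_f7946 IH) (path_edge (s0_f7437r IH) (path_nil s0_v504)))))))
theorem s0_f8586r : ed sl_bt s0_v504 = sq468 :=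
  edge_flip (s0_f8586 IH)
theorem s0_f8587 : ed sl_bt sq468 = s0_v504 :=
  gap_rel s0_rot68 (path_edge (s0_f8586r IH) (path_nil s0_v504))
theorem s0_f8591 : ed sl_at s0_v284 = s0_v247 :=
  gap_rel s0_rot6 (path_edge (s0_f5737 IH) (path_edge (s0_f5731r IH) (path_eq (s0_f8582 IH) (path_edge (s0_f8501r IH) (path_edge (s0_f8507 IH) (path_nil s0_v247))))))
theorem s0_f8591r : ed sl_af s0_v247 = s0_v284 :=
  edge_flip (s0_f8591 IH)
theorem s0_f8593 : ed sl_df s0_v284 = s0_v355 :=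
  gap_rel s0_rot51 (path_edge (s0_f8591r IH) (path_edge (s0_f5553 IH) (path_edge (s0_f6044r IH) (path_nil s0_v355))))
theorem s0_f8082r : ed sl_ef s0_v615 = s0_v247 :=
  edge_flip (s0_f8082 IH)
theorem s0_f8594 : ed sl_af s0_v674 = s0_v615 :=
  gap_rel s0_rot67 (path_edge (s0_f8403 IH) (path_edge (s0_f8591r IH) (path_edge (s0_f8082r IH) (path_nil s0_v615))))
theorem s0_f8594r : ed sl_at s0_v615 = s0_v674 :=
  edge_flip (s0_f8594 IH)
theorem s0_f8404r : ed sl_gt s0_v674 = s0_v230 :=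
  edge_flip (s0_f8404 IH)
theorem s0_f8597 : ed sl_gt s0_v669 = s0_v615 :=
  gap_rel s0_rot85 (path_edge (s0_f8378 IH) (path_edge (s0_f8404r IH) (path_edge (s0_f8594r IH) (path_nil s0_v615))))
theorem s0_f8597r : ed sl_gf s0_v615 = s0_v669 :=
  edge_flip (s0_f8597 IH)
theorem s0_f8599 : ed sl_cf s0_v671 = s0_v615 :=
  gap_rel s0_rot43 (path_edge (s0_f8389 IH) (path_edge (s0_f8374r IH) (path_edge (s0_f8597r IH) (path_nil s0_v615))))
theorem s0_f8599r : ed sl_ct s0_v615 = s0_v671 :=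
  edge_flip (s0_f8599 IH)
theorem s0_f8388r : ed sl_et s0_v671 = s0_v281 :=
  edge_flip (s0_f8388 IH)
theorem s0_f8602 : ed sl_ct s0_v281 = s0_v247 :=
  gap_rel s0_rot60 (path_edge (s0_f8388r IH) (path_edge (s0_f8599r IH) (path_edge (s0_f8082 IH) (path_nil s0_v247))))
theorem s0_f5315r : ed sl_cf s0_v198 = s0_v74 :=
  edge_flip (s0_f5315 IH)
theorem s0_f8602r : ed sl_cf s0_v247 = s0_v281 :=
  edge_flip (s0_f8602 IH)
theorem s0_f8439r : ed sl_bf s0_v281 = s0_v654 :=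
  edge_flip (s0_f8439 IH)
theorem s0_f8603 : ed sl_cf s0_v654 = s0_v606 :=
  gap_rel s0_rot27 (path_edge (s0_f8439r IH) (path_edge (s0_f8602r IH) (path_edge (s0_f5552 IH) (path_edge (s0_f5315r IH) (path_edge (s0_f8039r IH) (path_nil s0_v606))))))
theorem s0_f8603r : ed sl_ct s0_v606 = s0_v654 :=
  edge_flip (s0_f8603 IH)
theorem s0_f8608 : ed sl_gt s0_v652 = s0_v606 :=
  gap_rel s0_rot88 (path_edge (s0_f8289 IH) (path_edge (s0_f8302r IH) (path_edge (s0_f8603r IH) (path_nil s0_v606))))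
theorem s0_f8608r : ed sl_gf s0_v606 = s0_v652 :=
  edge_flip (s0_f8608 IH)
theorem s0_f8610 : ed sl_bf s0_v652 = s0_v603 :=
  gap_rel s0_rot75 (path_edge (s0_f8608r IH) (path_edge (s0_f8040 IH) (path_edge (s0_f5313 IH) (path_edge (s0_f5304r IH) (path_edge (s0_f8021r IH) (path_nil s0_v603))))))
theorem s0_f8611 : ed sl_gf s0_v652 = s0_v606 :=
  gap_rel s0_rot76 (path_edge (s0_f8608r IH) (path_nil s0_v606))
theorem s0_f8593r : ed sl_dt s0_v355 = s0_v284 :=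
  edge_flip (s0_f8593 IH)
theorem s0_f8614 : ed sl_gt s0_v282 = s0_v355 :=
  gap_rel s0_rot20 (path_edge (s0_f5728 IH) (path_edge (s0_f5737r IH) (path_edge (s0_f8593r IH) (path_nil s0_v355))))
theorem s0_f8614r : ed sl_gf s0_v355 = s0_v282 :=
  edge_flip (s0_f8614 IH)
theorem s0_f8615 : ed sl_af s0_v282 = s0_v345 :=
  gap_rel s0_rot78 (path_edge (s0_f8614r IH) (path_edge (s0_f6045 IH) (path_edge (s0_f6006r IH) (path_nil s0_v345))))
theorem s0_f8431r : ed sl_ff s0_v345 = s0_v677 :=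
  edge_flip (s0_f8431 IH)
theorem s0_f8618 : ed sl_at s0_v282 = s0_v345 :=
  gap_rel s0_rot6 (path_edge (s0_f8614r IH) (path_edge (s0_f8429 IH) (path_edge (s0_f8425r IH) (path_edge (s0_f8431r IH) (path_nil s0_v345)))))
theorem s0_f8620 : ed sl_at s0_v248 = s0_v703 :=
  rfl
theorem s0_f8620r : ed sl_af s0_v703 = s0_v248 :=
  edge_flip (s0_f8620 IH)
theorem s0_f8621 : ed sl_af s0_v248 = s0_v703 :=
  gap_rel s0_rot66 (path_edge (s0_f8620r IH) (path_nil s0_v703))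
theorem s0_f5560r : ed sl_df s0_v248 = s0_v131 :=
  edge_flip (s0_f5560 IH)
theorem s0_f8622 : ed sl_df s0_v367 = s0_v703 :=
  gap_rel s0_rot51 (path_edge (s0_f6099 IH) (path_edge (s0_f5560r IH) (path_edge (s0_f8620r IH) (path_nil s0_v703))))
theorem s0_f5559r : ed sl_ff s0_v248 = s0_v131 :=
  edge_flip (s0_f5559 IH)
theorem s0_f8623 : ed sl_ff s0_v367 = s0_v703 :=
  gap_rel s0_rot11 (path_edge (s0_f6099 IH) (path_edge (s0_f5559r IH) (path_edge (s0_f8620r IH) (path_nil s0_v703))))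
theorem s0_f8623r : ed sl_ft s0_v703 = s0_v367 :=
  edge_flip (s0_f8623 IH)
theorem s0_f8624 : ed sl_ft s0_v367 = s0_v703 :=
  gap_rel s0_rot16 (path_edge (s0_f8623r IH) (path_nil s0_v703))
theorem s0_f8625 : ed sl_gt s0_v591 = s0_v703 :=
  gap_rel s0_rot17 (path_edge (s0_f7973 IH) (path_edge (s0_f6102 IH) (path_edge (s0_f6098r IH) (path_edge (s0_f8623r IH) (path_nil s0_v703)))))
theorem s0_f8317r : ed sl_gt s0_v658 = s0_v223 :=
  edge_flip (s0_f8317 IH)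
theorem s0_f8626 : ed sl_bt s0_v367 = s0_v658 :=
  gap_rel s0_rot4 (path_edge (s0_f8623r IH) (path_edge (s0_f8625 IH) (path_edge (s0_f7970 IH) (path_edge (s0_f5252 IH) (path_edge (s0_f5238 IH) (path_edge (s0_f5221r IH) (path_eq (s0_f7006 IH).symm (path_edge (s0_f6937 IH) (path_edge (s0_f3696 IH) (path_edge (s0_f2304 IH) (path_edge (s0_f161 IH) (path_edge (s0_f3772 IH) (path_edge (s0_f4157r IH) (path_edge (s0_f5430r IH) (path_edge (s0_f8317r IH) (path_nil s0_v658))))))))))))))))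
theorem s0_f8626r : ed sl_bf s0_v658 = s0_v367 :=
  edge_flip (s0_f8626 IH)
theorem s0_f8627 : ed sl_bf s0_v367 = s0_v658 :=
  gap_rel s0_rot44 (path_edge (s0_f8626r IH) (path_nil s0_v658))
theorem s0_f8628 : ed sl_bf s0_v703 = s0_v285 :=
  gap_rel s0_rot103 (path_edge (s0_f8622 IH) (path_edge (s0_f8626r IH) (path_edge (s0_f8316 IH) (path_nil s0_v285))))
theorem s0_f7971r : ed sl_bt s0_v591 = s0_v190 :=
  edge_flip (s0_f7971 IH)
theorem s0_f5250r : ed sl_gt s0_v190 = sq200 :=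
  edge_flip (s0_f5250 IH)
theorem s0_f8628r : ed sl_bt s0_v285 = s0_v703 :=
  edge_flip (s0_f8628 IH)
theorem s0_f8630 : ed sl_gt s0_v703 = s0_v591 :=
  gap_rel s0_rot117 (path_edge (s0_f8628r IH) (path_edge (s0_f5739 IH) (path_edge (s0_f4431 IH) (path_edge (s0_f5250r IH) (path_edge (s0_f7971r IH) (path_nil s0_v591))))))
theorem s0_f8636 : ed sl_gt s0_v248 = s0_v705 :=
  rfl
theorem s0_f8636r : ed sl_gf s0_v705 = s0_v248 :=
  edge_flip (s0_f8636 IH)
theorem s0_f8625r : ed sl_gf s0_v703 = s0_v591 :=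
  edge_flip (s0_f8625 IH)
theorem s0_f8637 : ed sl_af s0_v591 = s0_v705 :=
  gap_rel s0_rot78 (path_edge (s0_f8625r IH) (path_edge (s0_f8621 IH) (path_edge (s0_f8636r IH) (path_nil s0_v705))))
theorem s0_f8670 : ed sl_bt s0_v252 = s0_v710 :=
  rfl
theorem s0_f8672 : ed sl_ft s0_v252 = s0_v711 :=
  rfl
theorem s0_f8672r : ed sl_ff s0_v711 = s0_v252 :=
  edge_flip (s0_f8672 IH)
theorem s0_f8674 : ed sl_ff s0_v252 = s0_v711 :=
  gap_rel s0_rot1 (path_edge (s0_f8672r IH) (path_nil s0_v711))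
theorem s0_f8674r : ed sl_ft s0_v711 = s0_v252 :=
  edge_flip (s0_f8674 IH)
theorem s0_f5576r : ed sl_at s0_v252 = s0_v77 :=
  edge_flip (s0_f5576 IH)
theorem s0_f8675 : ed sl_at s0_v253 = s0_v711 :=
  gap_rel s0_rot90 (path_edge (s0_f5578 IH) (path_edge (s0_f5576r IH) (path_edge (s0_f8674r IH) (path_nil s0_v711))))
theorem s0_f8750 : ed sl_ft s0_v262 = s0_v728 :=
  rfl
theorem s0_f8750r : ed sl_ff s0_v728 = s0_v262 :=
  edge_flip (s0_f8750 IH)
theorem s0_f8753 : ed sl_ff s0_v262 = s0_v728 :=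
  gap_rel s0_rot1 (path_edge (s0_f8750r IH) (path_nil s0_v728))
theorem s0_f8753r : ed sl_ft s0_v728 = s0_v262 :=
  edge_flip (s0_f8753 IH)
theorem s0_f5623r : ed sl_at s0_v262 = s0_v82 :=
  edge_flip (s0_f5623 IH)
theorem s0_f8754 : ed sl_at s0_v266 = s0_v728 :=
  gap_rel s0_rot90 (path_edge (s0_f5644 IH) (path_edge (s0_f5623r IH) (path_edge (s0_f8753r IH) (path_nil s0_v728))))
theorem s0_f8756 : ed sl_gt s0_v262 = s0_v729 :=
  rfl
theorem s0_f8756r : ed sl_gf s0_v729 = s0_v262 :=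
  edge_flip (s0_f8756 IH)

end

end

end Cfsg.Agent.Helper28.S1680
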