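import Cfsg.Agent.Lib.Helper28.S1680.Seeds6

set_option autoImplicit false
set_option maxRecDepth 100000
set_option linter.all false

namespace Cfsg.Agent.Helper28.S1680

open Cfsg.Agent.Helper28
open Cfsg.Spor.Suz (Gen)

noncomputable section

section
variable (IH : ∀ y q, lvl y q < 16 → EntryOK rels S fwd inv o plet idx y q)
include IH

theorem s0_f8757 : ed sl_af s0_v267 = s0_v729 :=
  gap_rel s0_rot78 (path_edge (s0_f5650 IH) (path_edge (s0_f5625r IH) (path_edge (s0_f8756r IH) (path_nil s0_v729))))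
theorem s0_f8758 : ed sl_cf s0_v264 = s0_v729 :=
  gap_rel s0_rot43 (path_edge (s0_f5639 IH) (path_edge (s0_f5622r IH) (path_edge (s0_f8756r IH) (path_nil s0_v729))))
theorem s0_f8759 : ed sl_gf s0_v262 = s0_v729 :=
  gap_rel s0_rot76 (path_edge (s0_f8756r IH) (path_nil s0_v729))
theorem s0_f8759r : ed sl_gt s0_v729 = s0_v262 :=
  edge_flip (s0_f8759 IH)
theorem s0_f8761 : ed sl_ct s0_v264 = s0_v729 :=
  gap_rel s0_rot39 (path_edge (s0_f5636 IH) (path_edge (s0_f5624r IH) (path_edge (s0_f8759r IH) (path_nil s0_v729))))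
theorem s0_f8762 : ed sl_bt s0_v263 = s0_v730 :=
  rfl
theorem s0_f8762r : ed sl_bf s0_v730 = s0_v263 :=
  edge_flip (s0_f8762 IH)
theorem s0_f8764 : ed sl_bf s0_v263 = s0_v730 :=
  gap_rel s0_rot44 (path_edge (s0_f8762r IH) (path_nil s0_v730))
theorem s0_f4395r : ed sl_bf s0_v81 = s0_v31 :=
  edge_flip (s0_f4395 IH)
theorem s0_f8766 : ed sl_ff s0_v325 = s0_v730 :=
  gap_rel s0_rot70 (path_edge (s0_f5933 IH) (path_edge (s0_f4535 IH) (path_edge (s0_f4395r IH) (path_edge (s0_f5630r IH) (path_edge (s0_f8762r IH) (path_nil s0_v730))))))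
theorem s0_f8766r : ed sl_ft s0_v730 = s0_v325 :=
  edge_flip (s0_f8766 IH)
theorem s0_f8768 : ed sl_gt s0_v480 = s0_v730 :=
  gap_rel s0_rot112 (path_edge (s0_f7195 IH) (path_edge (s0_f7205r IH) (path_edge (s0_f8100 IH) (path_edge (s0_f8766r IH) (path_nil s0_v730)))))
theorem s0_f8772 : ed sl_bt s0_v264 = s0_v731 :=
  rfl
theorem s0_f8772r : ed sl_bf s0_v731 = s0_v264 :=
  edge_flip (s0_f8772 IH)
theorem s0_f5640r : ed sl_af s0_v264 = s0_v84 :=
  edge_flip (s0_f5640 IH)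
theorem s0_f5727r : ed sl_af s0_v281 = s0_v92 :=
  edge_flip (s0_f5727 IH)
theorem s0_f4444r : ed sl_bf s0_v92 = s0_v34 :=
  edge_flip (s0_f4444 IH)
theorem s0_f8773 : ed sl_af s0_v326 = s0_v731 :=
  gap_rel s0_rot114 (path_edge (s0_f5935 IH) (path_edge (s0_f4538 IH) (path_edge (s0_f4444r IH) (path_edge (s0_f5727r IH) (path_edge (s0_f8438 IH) (path_edge (s0_f8300 IH) (path_edge (s0_f5434 IH) (path_edge (s0_f5640r IH) (path_edge (s0_f8772r IH) (path_nil s0_v731))))))))))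
theorem s0_f8774 : ed sl_bf s0_v264 = s0_v731 :=
  gap_rel s0_rot44 (path_edge (s0_f8772r IH) (path_nil s0_v731))
theorem s0_f8776 : ed sl_gf s0_v326 = s0_v731 :=
  gap_rel s0_rot24 (path_edge (s0_f5935 IH) (path_edge (s0_f4539 IH) (path_edge (s0_f4395r IH) (path_edge (s0_f5636r IH) (path_edge (s0_f8772r IH) (path_nil s0_v731))))))
theorem s0_f8776r : ed sl_gt s0_v731 = s0_v326 :=
  edge_flip (s0_f8776 IH)
theorem s0_f8777 : ed sl_gt s0_v326 = s0_v731 :=
  gap_rel s0_rot25 (path_edge (s0_f8776r IH) (path_nil s0_v731))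
theorem s0_f8774r : ed sl_bt s0_v731 = s0_v264 :=
  edge_flip (s0_f8774 IH)
theorem s0_f5637r : ed sl_at s0_v264 = s0_v84 :=
  edge_flip (s0_f5637 IH)
theorem s0_f5725r : ed sl_at s0_v281 = s0_v92 :=
  edge_flip (s0_f5725 IH)
theorem s0_f4442r : ed sl_bt s0_v92 = s0_v34 :=
  edge_flip (s0_f4442 IH)
theorem s0_f8779 : ed sl_at s0_v326 = s0_v731 :=
  gap_rel s0_rot82 (path_edge (s0_f5934 IH) (path_edge (s0_f4540 IH) (path_edge (s0_f4442r IH) (path_edge (s0_f5725r IH) (path_edge (s0_f8439 IH) (path_edge (s0_f8303 IH) (path_edge (s0_f5437 IH) (path_edge (s0_f5637r IH) (path_edge (s0_f8774r IH) (path_nil s0_v731))))))))))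
theorem s0_f8792 : ed sl_bt s0_v266 = s0_v736 :=
  rfl
theorem s0_f8792r : ed sl_bf s0_v736 = s0_v266 :=
  edge_flip (s0_f8792 IH)
theorem s0_f8793 : ed sl_bf s0_v266 = s0_v736 :=
  gap_rel s0_rot44 (path_edge (s0_f8792r IH) (path_nil s0_v736))
theorem s0_f5647r : ed sl_cf s0_v266 = s0_v83 :=
  edge_flip (s0_f5647 IH)
theorem s0_f8794 : ed sl_cf s0_v459 = s0_v736 :=
  gap_rel s0_rot27 (path_edge (s0_f6912 IH) (path_edge (s0_f5042r IH) (path_edge (s0_f5033 IH) (path_edge (s0_f5647r IH) (path_edge (s0_f8792r IH) (path_nil s0_v736))))))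
theorem s0_f8794r : ed sl_ct s0_v736 = s0_v459 :=
  edge_flip (s0_f8794 IH)
theorem s0_f8795 : ed sl_ct s0_v459 = s0_v736 :=
  gap_rel s0_rot59 (path_edge (s0_f8794r IH) (path_nil s0_v736))
theorem s0_f4547r : ed sl_cf s0_v114 = s0_v33 :=
  edge_flip (s0_f4547 IH)
theorem s0_f8754r : ed sl_af s0_v728 = s0_v266 :=
  edge_flip (s0_f8754 IH)
theorem s0_f8795r : ed sl_cf s0_v736 = s0_v459 :=
  edge_flip (s0_f8795 IH)
theorem s0_f5046r : ed sl_cf sq186 = sq292 :=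
  edge_flip (s0_f5046 IH)
theorem s0_f7218r : ed sl_af s0_v485 = s0_v180 :=
  edge_flip (s0_f7218 IH)
theorem s0_f7924r : ed sl_cf s0_v583 = s0_v331 :=
  edge_flip (s0_f7924 IH)
theorem s0_f8796 : ed sl_af s0_v331 = s0_v331 :=
  gap_rel s0_rot120 (path_edge (s0_f5951 IH) (path_edge (s0_f7924r IH) (path_edge (s0_f7921 IH) (path_edge (s0_f7218r IH) (path_edge (s0_f7217 IH) (path_edge (s0_f5046r IH) (path_edge (s0_f3870r IH) (path_edge (s0_f7194r IH) (path_edge (s0_f7199 IH) (path_edge (s0_f8795r IH) (path_edge (s0_f8793 IH) (path_edge (s0_f8754r IH) (path_edge (s0_f8753 IH) (path_edge (s0_f5624 IH) (path_edge (s0_f4392 IH) (path_edge (s0_f3929 IH) (path_edge (s0_f3933r IH) (path_edge (s0_f4547r IH) (path_edge (s0_f5949r IH) (path_nil s0_v331))))))))))))))))))))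
theorem s0_f8796r : ed sl_at s0_v331 = s0_v331 :=
  edge_flip (s0_f8796 IH)
theorem s0_f8797 : ed sl_at s0_v583 = s0_v583 :=
  gap_rel s0_rot64 (path_edge (s0_f7924 IH) (path_edge (s0_f8796r IH) (path_edge (s0_f7922r IH) (path_nil s0_v583))))
theorem s0_f8798 : ed sl_gt s0_v266 = s0_v737 :=
  rfl
theorem s0_f8798r : ed sl_gf s0_v737 = s0_v266 :=
  edge_flip (s0_f8798 IH)
theorem s0_f8800 : ed sl_gf s0_v266 = s0_v737 :=
  gap_rel s0_rot76 (path_edge (s0_f8798r IH) (path_nil s0_v737))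
theorem s0_f8801 : ed sl_ff s0_v729 = s0_v737 :=
  gap_rel s0_rot92 (path_edge (s0_f8759 IH) (path_edge (s0_f8750r IH) (path_edge (s0_f8754 IH) (path_edge (s0_f8798r IH) (path_nil s0_v737)))))
theorem s0_f8801r : ed sl_ft s0_v737 = s0_v729 :=
  edge_flip (s0_f8801 IH)
theorem s0_f8803 : ed sl_ft s0_v729 = s0_v737 :=
  gap_rel s0_rot16 (path_edge (s0_f8801r IH) (path_nil s0_v737))
theorem s0_f8814 : ed sl_bt s0_v268 = s0_v740 :=
  rfl
theorem s0_f8814r : ed sl_bf s0_v740 = s0_v268 :=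
  edge_flip (s0_f8814 IH)
theorem s0_f8817 : ed sl_gf s0_v688 = s0_v740 :=
  gap_rel s0_rot24 (path_edge (s0_f8492 IH) (path_edge (s0_f7865 IH) (path_edge (s0_f5033 IH) (path_edge (s0_f5652r IH) (path_edge (s0_f8814r IH) (path_nil s0_v740))))))
theorem s0_f8817r : ed sl_gt s0_v740 = s0_v688 :=
  edge_flip (s0_f8817 IH)
theorem s0_f8822 : ed sl_gt s0_v688 = s0_v740 :=
  gap_rel s0_rot25 (path_edge (s0_f8817r IH) (path_nil s0_v740))
theorem s0_f8822r : ed sl_gf s0_v740 = s0_v688 :=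
  edge_flip (s0_f8822 IH)
theorem s0_f8560r : ed sl_gf s0_v701 = s0_v247 :=
  edge_flip (s0_f8560 IH)
theorem s0_f8825 : ed sl_ff s0_v284 = s0_v740 :=
  gap_rel s0_rot22 (path_edge (s0_f5737 IH) (path_eq (s0_f8583 IH) (path_edge (s0_f8499 IH) (path_edge (s0_f8501r IH) (path_edge (s0_f8507 IH) (path_edge (s0_f8560r IH) (path_edge (s0_f8564 IH) (path_edge (s0_f8822r IH) (path_nil s0_v740)))))))))
theorem s0_f8826 : ed sl_bt s0_v269 = s0_v741 :=
  rfl
theorem s0_f8826r : ed sl_bf s0_v741 = s0_v269 :=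
  edge_flip (s0_f8826 IH)
theorem s0_f5665r : ed sl_gf s0_v269 = s0_v263 :=
  edge_flip (s0_f5665 IH)
theorem s0_f8768r : ed sl_gf s0_v730 = s0_v480 :=
  edge_flip (s0_f8768 IH)
theorem s0_f7197r : ed sl_bf s0_v480 = s0_v287 :=
  edge_flip (s0_f7197 IH)
theorem s0_f8829 : ed sl_gf s0_v287 = s0_v741 :=
  gap_rel s0_rot24 (path_edge (s0_f7197r IH) (path_edge (s0_f8768r IH) (path_edge (s0_f8764 IH) (path_edge (s0_f5665r IH) (path_edge (s0_f8826r IH) (path_nil s0_v741))))))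
theorem s0_f8854 : ed sl_bt s0_v271 = s0_v745 :=
  rfl
theorem s0_f8854r : ed sl_bf s0_v745 = s0_v271 :=
  edge_flip (s0_f8854 IH)
theorem s0_f8855 : ed sl_bf s0_v271 = s0_v745 :=
  gap_rel s0_rot44 (path_edge (s0_f8854r IH) (path_nil s0_v745))
theorem s0_f5677r : ed sl_ef s0_v271 = s0_v111 :=
  edge_flip (s0_f5677 IH)
theorem s0_f8856 : ed sl_ef s0_v325 = s0_v745 :=
  gap_rel s0_rot46 (path_edge (s0_f5933 IH) (path_edge (s0_f5677r IH) (path_edge (s0_f8854r IH) (path_nil s0_v745))))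
theorem s0_f8858 : ed sl_bt s0_v272 = s0_v746 :=
  rfl
theorem s0_f8858r : ed sl_bf s0_v746 = s0_v272 :=
  edge_flip (s0_f8858 IH)
theorem s0_f8859 : ed sl_bf s0_v272 = s0_v746 :=
  gap_rel s0_rot44 (path_edge (s0_f8858r IH) (path_nil s0_v746))
theorem s0_f5683r : ed sl_ef s0_v272 = s0_v112 :=
  edge_flip (s0_f5683 IH)
theorem s0_f8860 : ed sl_ef s0_v326 = s0_v746 :=
  gap_rel s0_rot46 (path_edge (s0_f5935 IH) (path_edge (s0_f5683r IH) (path_edge (s0_f8858r IH) (path_nil s0_v746))))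
theorem s0_f8860r : ed sl_et s0_v746 = s0_v326 :=
  edge_flip (s0_f8860 IH)
theorem s0_f8861 : ed sl_et s0_v326 = s0_v746 :=
  gap_rel s0_rot31 (path_edge (s0_f8860r IH) (path_nil s0_v746))
theorem s0_f8914 : ed sl_ct s0_v278 = s0_v757 :=
  rfl
theorem s0_f8914r : ed sl_cf s0_v757 = s0_v278 :=
  edge_flip (s0_f8914 IH)
theorem s0_f8915 : ed sl_bf s0_v699 = s0_v757 :=
  gap_rel s0_rot61 (path_edge (s0_f8541 IH) (path_edge (s0_f8555r IH) (path_eq (s0_f8580 IH).symm (path_edge (s0_f5718 IH) (path_edge (s0_f5713r IH) (path_edge (s0_f8914r IH) (path_nil s0_v757)))))))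
theorem s0_f8916 : ed sl_cf s0_v278 = s0_v757 :=
  gap_rel s0_rot40 (path_edge (s0_f8914r IH) (path_nil s0_v757))
theorem s0_f8921 : ed sl_ct s0_v282 = s0_v758 :=
  rfl
theorem s0_f8921r : ed sl_cf s0_v758 = s0_v282 :=
  edge_flip (s0_f8921 IH)
theorem s0_f8922 : ed sl_cf s0_v282 = s0_v758 :=
  gap_rel s0_rot40 (path_edge (s0_f8921r IH) (path_nil s0_v758))
theorem s0_f8926 : ed sl_bt s0_v284 = s0_v760 :=
  rfl
theorem s0_f8926r : ed sl_bf s0_v760 = s0_v284 :=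
  edge_flip (s0_f8926 IH)
theorem s0_f8927 : ed sl_bf s0_v284 = s0_v760 :=
  gap_rel s0_rot44 (path_edge (s0_f8926r IH) (path_nil s0_v760))
theorem s0_f5738r : ed sl_cf s0_v284 = s0_v92 :=
  edge_flip (s0_f5738 IH)
theorem s0_f8928 : ed sl_cf s0_v333 = s0_v760 :=
  gap_rel s0_rot27 (path_edge (s0_f5959 IH) (path_edge (s0_f4549 IH) (path_edge (s0_f4444r IH) (path_edge (s0_f5738r IH) (path_edge (s0_f8926r IH) (path_nil s0_v760))))))
theorem s0_f8929 : ed sl_ff s0_v731 = s0_v760 :=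
  gap_rel s0_rot70 (path_edge (s0_f8774 IH) (path_edge (s0_f5657r IH) (path_edge (s0_f8814r IH) (path_edge (s0_f8825 IH) (path_edge (s0_f8926r IH) (path_nil s0_v760))))))
theorem s0_f4427r : ed sl_bf s0_v90 = s0_v90 :=
  edge_flip (s0_f4427 IH)
theorem s0_f8930 : ed sl_gf s0_v760 = s0_v760 :=
  gap_rel s0_rot24 (path_edge (s0_f8927 IH) (path_edge (s0_f5737 IH) (path_edge (s0_f4427r IH) (path_edge (s0_f5735r IH) (path_edge (s0_f8926r IH) (path_nil s0_v760))))))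
theorem s0_f8930r : ed sl_gt s0_v760 = s0_v760 :=
  edge_flip (s0_f8930 IH)
theorem s0_f8929r : ed sl_ft s0_v760 = s0_v731 :=
  edge_flip (s0_f8929 IH)
theorem s0_f8779r : ed sl_af s0_v731 = s0_v326 :=
  edge_flip (s0_f8779 IH)
theorem s0_f8932 : ed sl_ft s0_v731 = s0_v760 :=
  gap_rel s0_rot73 (path_edge (s0_f8777 IH) (path_edge (s0_f8779r IH) (path_edge (s0_f8929r IH) (path_edge (s0_f8930r IH) (path_nil s0_v760)))))
theorem s0_f9023 : ed sl_ft s0_v297 = s0_v780 :=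
  rfl
theorem s0_f9023r : ed sl_ff s0_v780 = s0_v297 :=
  edge_flip (s0_f9023 IH)
theorem s0_f9024 : ed sl_af s0_v299 = s0_v780 :=
  gap_rel s0_rot0 (path_edge (s0_f5793 IH) (path_edge (s0_f5783r IH) (path_edge (s0_f9023r IH) (path_nil s0_v780))))
theorem s0_f5786r : ed sl_ef s0_v297 = s0_v118 :=
  edge_flip (s0_f5786 IH)
theorem s0_f9025 : ed sl_ef s0_v338 = s0_v780 :=
  gap_rel s0_rot32 (path_edge (s0_f5979 IH) (path_edge (s0_f5786r IH) (path_edge (s0_f9023r IH) (path_nil s0_v780))))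
theorem s0_f9026 : ed sl_ff s0_v297 = s0_v780 :=
  gap_rel s0_rot1 (path_edge (s0_f9023r IH) (path_nil s0_v780))
theorem s0_f9026r : ed sl_ft s0_v780 = s0_v297 :=
  edge_flip (s0_f9026 IH)
theorem s0_f5784r : ed sl_at s0_v297 = s0_v97 :=
  edge_flip (s0_f5784 IH)
theorem s0_f9027 : ed sl_at s0_v299 = s0_v780 :=
  gap_rel s0_rot90 (path_edge (s0_f5791 IH) (path_edge (s0_f5784r IH) (path_edge (s0_f9026r IH) (path_nil s0_v780))))
theorem s0_f9029 : ed sl_gt s0_v297 = s0_v781 :=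
  rfl
theorem s0_f9029r : ed sl_gf s0_v781 = s0_v297 :=
  edge_flip (s0_f9029 IH)
theorem s0_f9032 : ed sl_gf s0_v297 = s0_v781 :=
  gap_rel s0_rot76 (path_edge (s0_f9029r IH) (path_nil s0_v781))
theorem s0_f9032r : ed sl_gt s0_v781 = s0_v297 :=
  edge_flip (s0_f9032 IH)
theorem s0_f9034 : ed sl_et s0_v339 = s0_v781 :=
  gap_rel s0_rot49 (path_edge (s0_f5981 IH) (path_edge (s0_f5785r IH) (path_edge (s0_f9032r IH) (path_nil s0_v781))))
theorem s0_f9057 : ed sl_gt s0_v299 = s0_v786 :=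
  rfl
theorem s0_f9057r : ed sl_gf s0_v786 = s0_v299 :=
  edge_flip (s0_f9057 IH)
theorem s0_f5794r : ed sl_ef s0_v299 = s0_v120 :=
  edge_flip (s0_f5794 IH)
theorem s0_f9058 : ed sl_ef s0_v344 = s0_v786 :=
  gap_rel s0_rot36 (path_edge (s0_f6000 IH) (path_edge (s0_f5794r IH) (path_edge (s0_f9057r IH) (path_nil s0_v786))))
theorem s0_f9059 : ed sl_gf s0_v299 = s0_v786 :=
  gap_rel s0_rot76 (path_edge (s0_f9057r IH) (path_nil s0_v786))
theorem s0_f9060 : ed sl_ff s0_v781 = s0_v786 :=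
  gap_rel s0_rot92 (path_edge (s0_f9032 IH) (path_edge (s0_f9023r IH) (path_edge (s0_f9027 IH) (path_edge (s0_f9057r IH) (path_nil s0_v786)))))
theorem s0_f9060r : ed sl_ft s0_v786 = s0_v781 :=
  edge_flip (s0_f9060 IH)
theorem s0_f9062 : ed sl_ft s0_v781 = s0_v786 :=
  gap_rel s0_rot16 (path_edge (s0_f9060r IH) (path_nil s0_v786))
theorem s0_f9063 : ed sl_bt s0_v300 = s0_v787 :=
  rfl
theorem s0_f9063r : ed sl_bf s0_v787 = s0_v300 :=
  edge_flip (s0_f9063 IH)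
theorem s0_f9066 : ed sl_gf s0_v304 = s0_v787 :=
  gap_rel s0_rot24 (path_edge (s0_f5818 IH) (path_edge (s0_f4475 IH) (path_edge (s0_f4462r IH) (path_edge (s0_f5795r IH) (path_edge (s0_f9063r IH) (path_nil s0_v787))))))
theorem s0_f9066r : ed sl_gt s0_v787 = s0_v304 :=
  edge_flip (s0_f9066 IH)
theorem s0_f5819r : ed sl_et s0_v304 = s0_v125 :=
  edge_flip (s0_f5819 IH)
theorem s0_f9067 : ed sl_et s0_v345 = s0_v787 :=
  gap_rel s0_rot49 (path_edge (s0_f6006 IH) (path_edge (s0_f5819r IH) (path_edge (s0_f9066r IH) (path_nil s0_v787))))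
theorem s0_f9068 : ed sl_gt s0_v304 = s0_v787 :=
  gap_rel s0_rot25 (path_edge (s0_f9066r IH) (path_nil s0_v787))
theorem s0_f9071 : ed sl_ft s0_v300 = s0_v788 :=
  rfl
theorem s0_f9071r : ed sl_ff s0_v788 = s0_v300 :=
  edge_flip (s0_f9071 IH)
theorem s0_f9062r : ed sl_ff s0_v786 = s0_v781 :=
  edge_flip (s0_f9062 IH)
theorem s0_f9075 : ed sl_gf s0_v780 = s0_v788 :=
  gap_rel s0_rot19 (path_edge (s0_f9026 IH) (path_edge (s0_f9029r IH) (path_edge (s0_f9062r IH) (path_edge (s0_f9059 IH) (path_edge (s0_f5793 IH) (path_edge (s0_f5795r IH) (path_edge (s0_f9071r IH) (path_nil s0_v788))))))))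
theorem s0_f9075r : ed sl_gt s0_v788 = s0_v780 :=
  edge_flip (s0_f9075 IH)
theorem s0_f9025r : ed sl_et s0_v780 = s0_v338 :=
  edge_flip (s0_f9025 IH)
theorem s0_f9077 : ed sl_et s0_v346 = s0_v788 :=
  gap_rel s0_rot49 (path_edge (s0_f6012 IH) (path_edge (s0_f9025r IH) (path_edge (s0_f9075r IH) (path_nil s0_v788))))
theorem s0_f9078 : ed sl_gt s0_v780 = s0_v788 :=
  gap_rel s0_rot25 (path_edge (s0_f9075r IH) (path_nil s0_v788))
theorem s0_f9077r : ed sl_ef s0_v788 = s0_v346 :=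
  edge_flip (s0_f9077 IH)
theorem s0_f9079 : ed sl_bf s0_v476 = s0_v788 :=
  gap_rel s0_rot23 (path_edge (s0_f7152 IH) (path_edge (s0_f7918r IH) (path_eq (s0_f8433 IH).symm (path_edge (s0_f9077r IH) (path_nil s0_v788)))))
theorem s0_f9079r : ed sl_bt s0_v788 = s0_v476 :=
  edge_flip (s0_f9079 IH)
theorem s0_f9080 : ed sl_bt s0_v476 = s0_v788 :=
  gap_rel s0_rot68 (path_edge (s0_f9079r IH) (path_nil s0_v788))
theorem s0_f9286 : ed sl_bt s0_v319 = s0_v827 :=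
  rfl
theorem s0_f9286r : ed sl_bf s0_v827 = s0_v319 :=
  edge_flip (s0_f9286 IH)
theorem s0_f9287 : ed sl_bf s0_v319 = s0_v827 :=
  gap_rel s0_rot44 (path_edge (s0_f9286r IH) (path_nil s0_v827))
theorem s0_f9332 : ed sl_ct s0_v326 = s0_v838 :=
  rfl
theorem s0_f9332r : ed sl_cf s0_v838 = s0_v326 :=
  edge_flip (s0_f9332 IH)
theorem s0_f9333 : ed sl_cf s0_v326 = s0_v838 :=
  gap_rel s0_rot40 (path_edge (s0_f9332r IH) (path_nil s0_v838))
theorem s0_f9334 : ed sl_ft s0_v326 = s0_v839 :=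
  rfl
theorem s0_f9334r : ed sl_ff s0_v839 = s0_v326 :=
  edge_flip (s0_f9334 IH)
theorem s0_f9335 : ed sl_af s0_v760 = s0_v839 :=
  gap_rel s0_rot0 (path_edge (s0_f8929 IH) (path_edge (s0_f8773 IH) (path_edge (s0_f9334r IH) (path_nil s0_v839))))
theorem s0_f9338 : ed sl_ff s0_v326 = s0_v839 :=
  gap_rel s0_rot1 (path_edge (s0_f9334r IH) (path_nil s0_v839))
theorem s0_f8932r : ed sl_ff s0_v760 = s0_v731 :=
  edge_flip (s0_f8932 IH)
theorem s0_f8777r : ed sl_gf s0_v731 = s0_v326 :=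
  edge_flip (s0_f8777 IH)
theorem s0_f9339 : ed sl_gf s0_v839 = s0_v839 :=
  gap_rel s0_rot19 (path_edge (s0_f9338 IH) (path_edge (s0_f8777r IH) (path_edge (s0_f8932r IH) (path_edge (s0_f8930 IH) (path_edge (s0_f8929 IH) (path_edge (s0_f8776 IH) (path_edge (s0_f9334r IH) (path_nil s0_v839))))))))
theorem s0_f9403 : ed sl_at s0_v333 = s0_v853 :=
  rfl
theorem s0_f9403r : ed sl_af s0_v853 = s0_v333 :=
  edge_flip (s0_f9403 IH)
theorem s0_f9404 : ed sl_af s0_v333 = s0_v853 :=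
  gap_rel s0_rot66 (path_edge (s0_f9403r IH) (path_nil s0_v853))
theorem s0_f9405 : ed sl_cf s0_v839 = s0_v853 :=
  gap_rel s0_rot74 (path_edge (s0_f9335 IH) (path_edge (s0_f8928 IH) (path_edge (s0_f9403r IH) (path_nil s0_v853))))
theorem s0_f9406 : ed sl_gf s0_v853 = s0_v853 :=
  gap_rel s0_rot47 (path_edge (s0_f9404 IH) (path_edge (s0_f5960 IH) (path_edge (s0_f9403r IH) (path_nil s0_v853))))
theorem s0_f9406r : ed sl_gt s0_v853 = s0_v853 :=
  edge_flip (s0_f9406 IH)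
theorem s0_f9405r : ed sl_ct s0_v853 = s0_v839 :=
  edge_flip (s0_f9405 IH)
theorem s0_f9339r : ed sl_gt s0_v839 = s0_v839 :=
  edge_flip (s0_f9339 IH)
theorem s0_f9407 : ed sl_ct s0_v839 = s0_v853 :=
  gap_rel s0_rot39 (path_edge (s0_f9339r IH) (path_edge (s0_f9405r IH) (path_edge (s0_f9406r IH) (path_nil s0_v853))))
theorem s0_f9407r : ed sl_cf s0_v853 = s0_v839 :=
  edge_flip (s0_f9407 IH)
theorem s0_f9408 : ed sl_ff s0_v838 = s0_v853 :=
  gap_rel s0_rot95 (path_edge (s0_f9333 IH) (path_edge (s0_f9334r IH) (path_edge (s0_f9407r IH) (path_nil s0_v853))))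
theorem s0_f9410 : ed sl_ft s0_v333 = s0_v854 :=
  rfl
theorem s0_f9410r : ed sl_ff s0_v854 = s0_v333 :=
  edge_flip (s0_f9410 IH)
theorem s0_f9412 : ed sl_cf s0_v731 = s0_v854 :=
  gap_rel s0_rot65 (path_edge (s0_f8932r IH) (path_edge (s0_f8928 IH) (path_edge (s0_f9410r IH) (path_nil s0_v854))))
theorem s0_f9413 : ed sl_ff s0_v333 = s0_v854 :=
  gap_rel s0_rot1 (path_edge (s0_f9410r IH) (path_nil s0_v854))
theorem s0_f9418 : ed sl_bt s0_v334 = s0_v855 :=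
  rfl
theorem s0_f9420 : ed sl_ct s0_v335 = s0_v856 :=
  rfl
theorem s0_f9420r : ed sl_cf s0_v856 = s0_v335 :=
  edge_flip (s0_f9420 IH)
theorem s0_f9421 : ed sl_cf s0_v335 = s0_v856 :=
  gap_rel s0_rot40 (path_edge (s0_f9420r IH) (path_nil s0_v856))
theorem s0_f9424 : ed sl_bt s0_v339 = s0_v858 :=
  rfl
theorem s0_f9424r : ed sl_bf s0_v858 = s0_v339 :=
  edge_flip (s0_f9424 IH)
theorem s0_f9427 : ed sl_df s0_v757 = s0_v858 :=
  gap_rel s0_rot8 (path_edge (s0_f8915 IH) (path_edge (s0_f8542 IH) (path_edge (s0_f9424r IH) (path_nil s0_v858))))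
theorem s0_f9429 : ed sl_gf s0_v757 = s0_v858 :=
  gap_rel s0_rot24 (path_edge (s0_f8915 IH) (path_edge (s0_f8543 IH) (path_edge (s0_f5537 IH) (path_edge (s0_f5981r IH) (path_edge (s0_f9424r IH) (path_nil s0_v858))))))
theorem s0_f9429r : ed sl_gt s0_v858 = s0_v757 :=
  edge_flip (s0_f9429 IH)
theorem s0_f8916r : ed sl_ct s0_v757 = s0_v278 :=
  edge_flip (s0_f8916 IH)
theorem s0_f8441r : ed sl_gt s0_v278 = s0_v651 :=
  edge_flip (s0_f8441 IH)
theorem s0_f9430 : ed sl_ct s0_v651 = s0_v858 :=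
  gap_rel s0_rot39 (path_edge (s0_f8441r IH) (path_edge (s0_f8916r IH) (path_edge (s0_f9429r IH) (path_nil s0_v858))))
theorem s0_f9431 : ed sl_gt s0_v757 = s0_v858 :=
  gap_rel s0_rot25 (path_edge (s0_f9429r IH) (path_nil s0_v858))
theorem s0_f9435 : ed sl_dt s0_v340 = s0_v859 :=
  rfl
theorem s0_f9435r : ed sl_df s0_v859 = s0_v340 :=
  edge_flip (s0_f9435 IH)
theorem s0_f6475r : ed sl_af s0_v340 = s0_v259 :=
  edge_flip (s0_f6475 IH)
theorem s0_f9436 : ed sl_af s0_v625 = s0_v859 :=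
  gap_rel s0_rot72 (path_edge (s0_f8140 IH) (path_edge (s0_f6475r IH) (path_edge (s0_f9435r IH) (path_nil s0_v859))))
theorem s0_f9438 : ed sl_df s0_v340 = s0_v859 :=
  gap_rel s0_rot54 (path_edge (s0_f9435r IH) (path_nil s0_v859))
theorem s0_f9438r : ed sl_dt s0_v859 = s0_v340 :=
  edge_flip (s0_f9438 IH)
theorem s0_f5986r : ed sl_bt s0_v340 = s0_v119 :=
  edge_flip (s0_f5986 IH)
theorem s0_f9440 : ed sl_bt s0_v341 = s0_v859 :=
  gap_rel s0_rot69 (path_edge (s0_f5989 IH) (path_edge (s0_f5986r IH) (path_edge (s0_f9438r IH) (path_nil s0_v859))))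
theorem s0_f9461 : ed sl_gt s0_v341 = s0_v864 :=
  rfl
theorem s0_f9461r : ed sl_gf s0_v864 = s0_v341 :=
  edge_flip (s0_f9461 IH)
theorem s0_f9462 : ed sl_df s0_v343 = s0_v864 :=
  gap_rel s0_rot52 (path_edge (s0_f5997 IH) (path_edge (s0_f5989r IH) (path_edge (s0_f9461r IH) (path_nil s0_v864))))
theorem s0_f9463 : ed sl_gf s0_v341 = s0_v864 :=
  gap_rel s0_rot76 (path_edge (s0_f9461r IH) (path_nil s0_v864))
theorem s0_f9468 : ed sl_gt s0_v342 = s0_v866 :=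
  rfl
theorem s0_f9468r : ed sl_gf s0_v866 = s0_v342 :=
  edge_flip (s0_f9468 IH)
theorem s0_f9471 : ed sl_ff s0_v603 = s0_v866 :=
  gap_rel s0_rot92 (path_edge (s0_f8024 IH) (path_edge (s0_f8015r IH) (path_edge (s0_f8019 IH) (path_edge (s0_f9468r IH) (path_nil s0_v866)))))
theorem s0_f9471r : ed sl_ft s0_v866 = s0_v603 :=
  edge_flip (s0_f9471 IH)
theorem s0_f8023r : ed sl_ct s0_v603 = s0_v339 :=
  edge_flip (s0_f8023 IH)
theorem s0_f9472 : ed sl_ct s0_v344 = s0_v866 :=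
  gap_rel s0_rot42 (path_edge (s0_f6002 IH) (path_edge (s0_f8023r IH) (path_edge (s0_f9471r IH) (path_nil s0_v866))))
theorem s0_f9473 : ed sl_ft s0_v603 = s0_v866 :=
  gap_rel s0_rot16 (path_edge (s0_f9471r IH) (path_nil s0_v866))
theorem s0_f9484 : ed sl_ct s0_v345 = s0_v869 :=
  rfl
theorem s0_f9484r : ed sl_cf s0_v869 = s0_v345 :=
  edge_flip (s0_f9484 IH)
theorem s0_f9486 : ed sl_cf s0_v345 = s0_v869 :=
  gap_rel s0_rot40 (path_edge (s0_f9484r IH) (path_nil s0_v869))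
theorem s0_f9487 : ed sl_gf s0_v356 = s0_v869 :=
  gap_rel s0_rot5 (path_edge (s0_f6047 IH) (path_edge (s0_f6006r IH) (path_edge (s0_f9484r IH) (path_nil s0_v869))))
theorem s0_f9486r : ed sl_ct s0_v869 = s0_v345 :=
  edge_flip (s0_f9486 IH)
theorem s0_f8615r : ed sl_at s0_v345 = s0_v282 :=
  edge_flip (s0_f8615 IH)
theorem s0_f9489 : ed sl_at s0_v758 = s0_v869 :=
  gap_rel s0_rot64 (path_edge (s0_f8921 IH) (path_edge (s0_f8615r IH) (path_edge (s0_f9486r IH) (path_nil s0_v869))))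
theorem s0_f9563 : ed sl_at s0_v354 = s0_v884 :=
  rfl
theorem s0_f9563r : ed sl_af s0_v884 = s0_v354 :=
  edge_flip (s0_f9563 IH)
theorem s0_f9564 : ed sl_af s0_v354 = s0_v884 :=
  gap_rel s0_rot66 (path_edge (s0_f9563r IH) (path_nil s0_v884))
theorem s0_f9565 : ed sl_ct s0_v354 = s0_v885 :=
  rfl
theorem s0_f9565r : ed sl_cf s0_v885 = s0_v354 :=
  edge_flip (s0_f9565 IH)
theorem s0_f4581r : ed sl_cf s0_v124 = s0_v37 :=
  edge_flip (s0_f4581 IH)
theorem s0_f9566 : ed sl_bf s0_v356 = s0_v885 :=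
  gap_rel s0_rot61 (path_edge (s0_f6047 IH) (path_edge (s0_f4585 IH) (path_edge (s0_f4581r IH) (path_edge (s0_f6042r IH) (path_edge (s0_f9565r IH) (path_nil s0_v885))))))
theorem s0_f9567 : ed sl_cf s0_v354 = s0_v885 :=
  gap_rel s0_rot40 (path_edge (s0_f9565r IH) (path_nil s0_v885))
theorem s0_f9567r : ed sl_ct s0_v885 = s0_v354 :=
  edge_flip (s0_f9567 IH)
theorem s0_f6043r : ed sl_bt s0_v354 = s0_v124 :=
  edge_flip (s0_f6043 IH)
theorem s0_f4578r : ed sl_ct s0_v124 = s0_v37 :=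
  edge_flip (s0_f4578 IH)
theorem s0_f9568 : ed sl_bt s0_v356 = s0_v885 :=
  gap_rel s0_rot41 (path_edge (s0_f6046 IH) (path_edge (s0_f4584 IH) (path_edge (s0_f4578r IH) (path_edge (s0_f6043r IH) (path_edge (s0_f9567r IH) (path_nil s0_v885))))))
theorem s0_f9569 : ed sl_ft s0_v354 = s0_v886 :=
  rfl
theorem s0_f9569r : ed sl_ff s0_v886 = s0_v354 :=
  edge_flip (s0_f9569 IH)
theorem s0_f9571 : ed sl_ff s0_v354 = s0_v886 :=
  gap_rel s0_rot1 (path_edge (s0_f9569r IH) (path_nil s0_v886))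
theorem s0_f9573 : ed sl_ct s0_v355 = s0_v887 :=
  rfl
theorem s0_f9573r : ed sl_cf s0_v887 = s0_v355 :=
  edge_flip (s0_f9573 IH)
theorem s0_f9576 : ed sl_ff s0_v856 = s0_v887 :=
  gap_rel s0_rot95 (path_edge (s0_f9421 IH) (path_edge (s0_f8428r IH) (path_edge (s0_f9573r IH) (path_nil s0_v887))))
theorem s0_f9577 : ed sl_gf s0_v758 = s0_v887 :=
  gap_rel s0_rot5 (path_edge (s0_f8922 IH) (path_edge (s0_f8614r IH) (path_edge (s0_f9573r IH) (path_nil s0_v887))))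
theorem s0_f9577r : ed sl_gt s0_v887 = s0_v758 :=
  edge_flip (s0_f9577 IH)
theorem s0_f9487r : ed sl_gt s0_v869 = s0_v356 :=
  edge_flip (s0_f9487 IH)
theorem s0_f9578 : ed sl_at s0_v356 = s0_v887 :=
  gap_rel s0_rot96 (path_edge (s0_f9487r IH) (path_edge (s0_f9489 IH) (path_edge (s0_f9577r IH) (path_nil s0_v887))))
theorem s0_f9418r : ed sl_bf s0_v855 = s0_v334 :=
  edge_flip (s0_f9418 IH)
theorem s0_f5967r : ed sl_cf s0_v334 = s0_v117 :=
  edge_flip (s0_f5967 IH)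
theorem s0_f4551r : ed sl_cf s0_v115 = s0_v34 :=
  edge_flip (s0_f4551 IH)
theorem s0_f4560r : ed sl_af s0_v117 = s0_v116 :=
  edge_flip (s0_f4560 IH)
theorem s0_f9578r : ed sl_af s0_v887 = s0_v356 :=
  edge_flip (s0_f9578 IH)
theorem s0_f9580 : ed sl_af s0_v886 = s0_v855 :=
  gap_rel s0_rot120 (path_edge (s0_f9571 IH) (path_edge (s0_f9565r IH) (path_edge (s0_f9566 IH) (path_edge (s0_f9578r IH) (path_edge (s0_f9576 IH) (path_edge (s0_f9421 IH) (path_edge (s0_f5970 IH) (path_edge (s0_f4560r IH) (path_edge (s0_f4558 IH) (path_edge (s0_f4551r IH) (path_edge (s0_f5958r IH) (path_edge (s0_f9403r IH) (path_edge (s0_f9408 IH) (path_edge (s0_f9333 IH) (path_edge (s0_f5935 IH) (path_edge (s0_f4538 IH) (path_edge (s0_f4556r IH) (path_edge (s0_f5967r IH) (path_edge (s0_f9418r IH) (path_nil s0_v855))))))))))))))))))))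
theorem s0_f9580r : ed sl_at s0_v855 = s0_v886 :=
  edge_flip (s0_f9580 IH)
theorem s0_f9571r : ed sl_ft s0_v886 = s0_v354 :=
  edge_flip (s0_f9571 IH)
theorem s0_f9582 : ed sl_ft s0_v884 = s0_v855 :=
  gap_rel s0_rot118 (path_edge (s0_f9563 IH) (path_edge (s0_f9571r IH) (path_edge (s0_f9580r IH) (path_nil s0_v855))))
theorem s0_f9582r : ed sl_ff s0_v855 = s0_v884 :=
  edge_flip (s0_f9582 IH)
theorem s0_f9584 : ed sl_ff s0_v884 = s0_v855 :=
  gap_rel s0_rot1 (path_edge (s0_f9582r IH) (path_nil s0_v855))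
theorem s0_f9413r : ed sl_ft s0_v854 = s0_v333 :=
  edge_flip (s0_f9413 IH)
theorem s0_f5959r : ed sl_bt s0_v333 = s0_v115 :=
  edge_flip (s0_f5959 IH)
theorem s0_f9584r : ed sl_ft s0_v855 = s0_v884 :=
  edge_flip (s0_f9584 IH)
theorem s0_f9585 : ed sl_bt s0_v884 = s0_v854 :=
  gap_rel s0_rot12 (path_edge (s0_f9584r IH) (path_edge (s0_f9418 IH) (path_edge (s0_f5961 IH) (path_edge (s0_f5959r IH) (path_edge (s0_f9413r IH) (path_nil s0_v854))))))
theorem s0_f9684 : ed sl_gt s0_v367 = s0_v908 :=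
  rfl
theorem s0_f9684r : ed sl_gf s0_v908 = s0_v367 :=
  edge_flip (s0_f9684 IH)
theorem s0_f5431r : ed sl_bf s0_v223 = s0_v174 :=
  edge_flip (s0_f5431 IH)
theorem s0_f9686 : ed sl_bf s0_v574 = s0_v908 :=
  gap_rel s0_rot75 (path_edge (s0_f7874 IH) (path_edge (s0_f5431r IH) (path_edge (s0_f8315r IH) (path_edge (s0_f8627 IH) (path_edge (s0_f9684r IH) (path_nil s0_v908))))))
theorem s0_f9689 : ed sl_gf s0_v367 = s0_v908 :=
  gap_rel s0_rot76 (path_edge (s0_f9684r IH) (path_nil s0_v908))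
theorem s0_f9689r : ed sl_gt s0_v908 = s0_v367 :=
  edge_flip (s0_f9689 IH)
theorem s0_f6104r : ed sl_gt s0_v369 = s0_v131 :=
  edge_flip (s0_f6104 IH)
theorem s0_f9693 : ed sl_ft s0_v705 = s0_v908 :=
  gap_rel s0_rot97 (path_edge (s0_f8636 IH) (path_edge (s0_f5559 IH) (path_edge (s0_f6104r IH) (path_edge (s0_f7972r IH) (path_edge (s0_f8630 IH) (path_edge (s0_f8624 IH) (path_edge (s0_f9689r IH) (path_nil s0_v908))))))))
theorem s0_f9750 : ed sl_at sq328 = s0_v921 :=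
  rfl
theorem s0_f9753 : ed sl_at sq501 = sq487 :=
  real_edge rels S fwd inv o lvl plet idx 16 IH Gen.a sp501 sp487 rfl rfl
theorem s0_f9750r : ed sl_af s0_v921 = sq328 :=
  edge_flip (s0_f9750 IH)
theorem s0_f493r : ed sl_df sq328 = sq487 :=
  edge_flip (s0_f493 IH)
theorem s0_f9753r : ed sl_af sq487 = sq501 :=
  edge_flip (s0_f9753 IH)
theorem s0_f9754 : ed sl_df sq501 = s0_v921 :=
  gap_rel s0_rot51 (path_edge (s0_f9753r IH) (path_edge (s0_f493r IH) (path_edge (s0_f9750r IH) (path_nil s0_v921))))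
theorem s0_f9754r : ed sl_dt s0_v921 = sq501 :=
  edge_flip (s0_f9754 IH)
theorem s0_f4671r : ed sl_dt s0_v143 = s0_v48 :=
  edge_flip (s0_f4671 IH)
theorem s0_f9757 : ed sl_ct s0_v376 = s0_v921 :=
  gap_rel s0_rot121 (path_edge (s0_f6143 IH) (path_edge (s0_f4637 IH) (path_edge (s0_f4671r IH) (path_edge (s0_f4670 IH) (path_edge (s0_f497 IH) (path_edge (s0_f1719 IH) (path_edge (s0_f1721 IH) (path_edge (s0_f9754r IH) (path_nil s0_v921)))))))))
theorem s0_f9761 : ed sl_ft sq328 = sq488 :=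
  real_edge rels S fwd inv o lvl plet idx 16 IH Gen.f sp328 sp488 rfl rfl
theorem s0_f9770 : ed sl_gt sq713 = sq1029 :=
  real_edge rels S fwd inv o lvl plet idx 16 IH Gen.g sp713 sp1029 rfl rfl
theorem s0_f9776 : ed sl_ft sq495 = sq714 :=
  real_edge rels S fwd inv o lvl plet idx 16 IH Gen.f sp495 sp714 rfl rfl
theorem s0_f9785 : ed sl_gt sq329 = s0_v926 :=
  rfl
theorem s0_f9785r : ed sl_gf s0_v926 = sq329 :=
  edge_flip (s0_f9785 IH)
theorem s0_f1732r : ed sl_df sq329 = sq209 :=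
  edge_flip (s0_f1732 IH)
theorem s0_f9786 : ed sl_df s0_v380 = s0_v926 :=
  gap_rel s0_rot52 (path_edge (s0_f6169 IH) (path_edge (s0_f1732r IH) (path_edge (s0_f9785r IH) (path_nil s0_v926))))
theorem s0_f9787 : ed sl_gf sq329 = s0_v926 :=
  gap_rel s0_rot76 (path_edge (s0_f9785r IH) (path_nil s0_v926))
theorem s0_f9789 : ed sl_at sq330 = s0_v927 :=
  rfl
theorem s0_f9789r : ed sl_af s0_v927 = sq330 :=
  edge_flip (s0_f9789 IH)
theorem s0_f1757r : ed sl_cf sq330 = sq238 :=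
  edge_flip (s0_f1757 IH)
theorem s0_f9791 : ed sl_cf sq366 = s0_v927 :=
  gap_rel s0_rot74 (path_edge (s0_f1884r IH) (path_edge (s0_f1757r IH) (path_edge (s0_f9789r IH) (path_nil s0_v927))))
theorem s0_f1871r : ed sl_ff sq330 = sq213 :=
  edge_flip (s0_f1871 IH)
theorem s0_f1872r : ed sl_af sq213 = sq334 :=
  edge_flip (s0_f1872 IH)
theorem s0_f9793 : ed sl_ff sq334 = s0_v927 :=
  gap_rel s0_rot11 (path_edge (s0_f1872r IH) (path_edge (s0_f1871r IH) (path_edge (s0_f9789r IH) (path_nil s0_v927))))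
theorem s0_f9798 : ed sl_at sq538 = sq783 :=
  real_edge rels S fwd inv o lvl plet idx 16 IH Gen.a sp538 sp783 rfl rfl
theorem s0_f9800 : ed sl_gt sq330 = s0_v928 :=
  rfl
theorem s0_f9800r : ed sl_gf s0_v928 = sq330 :=
  edge_flip (s0_f9800 IH)
theorem s0_f9803 : ed sl_gf sq330 = s0_v928 :=
  gap_rel s0_rot76 (path_edge (s0_f9800r IH) (path_nil s0_v928))
theorem s0_f9803r : ed sl_gt s0_v928 = sq330 :=
  edge_flip (s0_f9803 IH)
theorem s0_f9805 : ed sl_et s0_v383 = s0_v928 :=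
  gap_rel s0_rot49 (path_edge (s0_f6186 IH) (path_edge (s0_f1756 IH) (path_edge (s0_f9803r IH) (path_nil s0_v928))))
theorem s0_f9806 : ed sl_et sq331 = s0_v929 :=
  rfl
theorem s0_f9806r : ed sl_ef s0_v929 = sq331 :=
  edge_flip (s0_f9806 IH)
theorem s0_f9808 : ed sl_ef sq331 = s0_v929 :=
  gap_rel s0_rot34 (path_edge (s0_f9806r IH) (path_nil s0_v929))
theorem s0_f9808r : ed sl_et s0_v929 = sq331 :=
  edge_flip (s0_f9808 IH)
theorem s0_f9809 : ed sl_bt s0_v384 = s0_v929 :=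
  gap_rel s0_rot108 (path_edge (s0_f6190 IH) (path_edge (s0_f3258 IH) (path_edge (s0_f9808r IH) (path_nil s0_v929))))
theorem s0_f9810 : ed sl_et sq332 = s0_v930 :=
  rfl
theorem s0_f9810r : ed sl_ef s0_v930 = sq332 :=
  edge_flip (s0_f9810 IH)
theorem s0_f3095r : ed sl_ef sq248 = sq370 :=
  edge_flip (s0_f3095 IH)
theorem s0_f9814 : ed sl_gf sq370 = s0_v930 :=
  gap_rel s0_rot18 (path_edge (s0_f3095r IH) (path_edge (s0_f3079r IH) (path_edge (s0_f9810r IH) (path_nil s0_v930))))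
theorem s0_f9814r : ed sl_gt s0_v930 = sq370 :=
  edge_flip (s0_f9814 IH)
theorem s0_f9817 : ed sl_ft s0_v384 = s0_v930 :=
  gap_rel s0_rot73 (path_edge (s0_f6716r IH) (path_edge (s0_f6711 IH) (path_edge (s0_f2978 IH) (path_edge (s0_f9814r IH) (path_nil s0_v930)))))
theorem s0_f9821 : ed sl_et sq333 = s0_v931 :=
  rfl
theorem s0_f9821r : ed sl_ef s0_v931 = sq333 :=
  edge_flip (s0_f9821 IH)
theorem s0_f9824 : ed sl_ef sq333 = s0_v931 :=
  gap_rel s0_rot34 (path_edge (s0_f9821r IH) (path_nil s0_v931))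
theorem s0_f9824r : ed sl_et s0_v931 = sq333 :=
  edge_flip (s0_f9824 IH)
theorem s0_f9826 : ed sl_dt s0_v533 = s0_v931 :=
  gap_rel s0_rot106 (path_edge (s0_f7659 IH) (path_edge (s0_f4665 IH) (path_edge (s0_f1869 IH) (path_edge (s0_f2017 IH) (path_edge (s0_f9824r IH) (path_nil s0_v931))))))
theorem s0_f9831 : ed sl_gt sq334 = s0_v933 :=
  rfl
theorem s0_f9831r : ed sl_gf s0_v933 = sq334 :=
  edge_flip (s0_f9831 IH)
theorem s0_f2156r : ed sl_ff sq213 = sq330 :=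
  edge_flip (s0_f2156 IH)
theorem s0_f9836 : ed sl_ff s0_v928 = s0_v933 :=
  gap_rel s0_rot92 (path_edge (s0_f9803 IH) (path_edge (s0_f2156r IH) (path_edge (s0_f1872 IH) (path_edge (s0_f9831r IH) (path_nil s0_v933)))))
theorem s0_f9841 : ed sl_ft sq335 = s0_v934 :=
  rfl
theorem s0_f9841r : ed sl_ff s0_v934 = sq335 :=
  edge_flip (s0_f9841 IH)
theorem s0_f1842r : ed sl_gf sq335 = sq213 :=
  edge_flip (s0_f1842 IH)
theorem s0_f9846 : ed sl_gf s0_v927 = s0_v934 :=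
  gap_rel s0_rot19 (path_edge (s0_f9793 IH) (path_edge (s0_f9831r IH) (path_edge (s0_f9836 IH) (path_edge (s0_f9803 IH) (path_edge (s0_f2156r IH) (path_edge (s0_f1842r IH) (path_edge (s0_f9841r IH) (path_nil s0_v934))))))))
theorem s0_f9846r : ed sl_gt s0_v934 = s0_v927 :=
  edge_flip (s0_f9846 IH)
theorem s0_f9791r : ed sl_ct s0_v927 = sq366 :=
  edge_flip (s0_f9791 IH)
theorem s0_f9848 : ed sl_ct sq384 = s0_v934 :=
  gap_rel s0_rot39 (path_edge (s0_f3516 IH) (path_edge (s0_f9791r IH) (path_edge (s0_f9846r IH) (path_nil s0_v934))))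
theorem s0_f9850 : ed sl_gt s0_v927 = s0_v934 :=
  gap_rel s0_rot25 (path_edge (s0_f9846r IH) (path_nil s0_v934))
theorem s0_f9851 : ed sl_ct sq832 = sq565 :=
  real_edge rels S fwd inv o lvl plet idx 16 IH Gen.c sp832 sp565 rfl rfl
theorem s0_f9852 : ed sl_dt sq1193 = sq832 :=
  real_edge rels S fwd inv o lvl plet idx 16 IH Gen.d sp1193 sp832 rfl rfl
theorem s0_f9855 : ed sl_at sq337 = s0_v935 :=
  rfl
theorem s0_f9855r : ed sl_af s0_v935 = sq337 :=
  edge_flip (s0_f9855 IH)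
theorem s0_f9860 : ed sl_ct sq487 = s0_v935 :=
  gap_rel s0_rot101 (path_edge (s0_f3277 IH) (path_edge (s0_f270 IH) (path_edge (s0_f269 IH) (path_edge (s0_f268 IH) (path_edge (s0_f267 IH) (path_edge (s0_f497 IH) (path_edge (s0_f1719 IH) (path_edge (s0_f9855r IH) (path_nil s0_v935)))))))))
theorem s0_f9861 : ed sl_ft sq712 = sq487 :=
  real_edge rels S fwd inv o lvl plet idx 16 IH Gen.f sp712 sp487 rfl rfl
theorem s0_f9866 : ed sl_ft sq337 = sq502 :=
  real_edge rels S fwd inv o lvl plet idx 16 IH Gen.f sp337 sp502 rfl rfl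
theorem s0_f9867 : ed sl_at sq1057 = sq1408 :=
  real_edge rels S fwd inv o lvl plet idx 16 IH Gen.a sp1057 sp1408 rfl rfl
theorem s0_f9873 : ed sl_gt sq729 = sq498 :=
  real_edge rels S fwd inv o lvl plet idx 16 IH Gen.g sp729 sp498 rfl rfl
theorem s0_f9876 : ed sl_ft sq728 = sq498 :=
  real_edge rels S fwd inv o lvl plet idx 16 IH Gen.f sp728 sp498 rfl rfl
theorem s0_f9928 : ed sl_ft sq344 = sq511 :=
  real_edge rels S fwd inv o lvl plet idx 16 IH Gen.f sp344 sp511 rfl rfl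
theorem s0_f9944 : ed sl_bt sq345 = s0_v946 :=
  rfl
theorem s0_f9944r : ed sl_bf s0_v946 = sq345 :=
  edge_flip (s0_f9944 IH)
theorem s0_f6283r : ed sl_ff sq345 = sq221 :=
  edge_flip (s0_f6283 IH)
theorem s0_f2356r : ed sl_bf sq221 = sq144 :=
  edge_flip (s0_f2356 IH)
theorem s0_f2338r : ed sl_ff sq144 = sq225 :=
  edge_flip (s0_f2338 IH)
theorem s0_f761r : ed sl_bf sq225 = sq351 :=
  edge_flip (s0_f761 IH)
theorem s0_f9947 : ed sl_ff sq351 = s0_v946 :=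
  gap_rel s0_rot70 (path_edge (s0_f761r IH) (path_edge (s0_f2338r IH) (path_edge (s0_f2356r IH) (path_edge (s0_f6283r IH) (path_edge (s0_f9944r IH) (path_nil s0_v946))))))
theorem s0_f9947r : ed sl_ft s0_v946 = sq351 :=
  edge_flip (s0_f9947 IH)
theorem s0_f9948 : ed sl_et s0_v399 = s0_v946 :=
  gap_rel s0_rot37 (path_edge (s0_f6409 IH) (path_edge (s0_f6410 IH) (path_edge (s0_f9947r IH) (path_nil s0_v946))))
theorem s0_f9948r : ed sl_ef s0_v946 = s0_v399 :=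
  edge_flip (s0_f9948 IH)
theorem s0_f9951 : ed sl_cf s0_v678 = s0_v946 :=
  gap_rel s0_rot38 (path_edge (s0_f8444 IH) (path_edge (s0_f6478r IH) (path_edge (s0_f9948r IH) (path_nil s0_v946))))
theorem s0_f9951r : ed sl_ct s0_v946 = s0_v678 :=
  edge_flip (s0_f9951 IH)
theorem s0_f8443r : ed sl_at s0_v678 = s0_v234 :=
  edge_flip (s0_f8443 IH)
theorem s0_f9952 : ed sl_at s0_v679 = s0_v946 :=
  gap_rel s0_rot64 (path_edge (s0_f8446 IH) (path_edge (s0_f8443r IH) (path_edge (s0_f9951r IH) (path_nil s0_v946))))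
theorem s0_f9953 : ed sl_ct s0_v678 = s0_v946 :=
  gap_rel s0_rot59 (path_edge (s0_f9951r IH) (path_nil s0_v946))
theorem s0_f9990 : ed sl_dt sq347 = s0_v952 :=
  rfl
theorem s0_f9990r : ed sl_df s0_v952 = sq347 :=
  edge_flip (s0_f9990 IH)
theorem s0_f6427r : ed sl_bf sq347 = sq223 :=
  edge_flip (s0_f6427 IH)
theorem s0_f9991 : ed sl_bf s0_v403 = s0_v952 :=
  gap_rel s0_rot103 (path_edge (s0_f6432 IH) (path_edge (s0_f6427r IH) (path_edge (s0_f9990r IH) (path_nil s0_v952))))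
theorem s0_f3136r : ed sl_gf sq347 = sq228 :=
  edge_flip (s0_f3136 IH)
theorem s0_f9993 : ed sl_gf s0_v412 = s0_v952 :=
  gap_rel s0_rot45 (path_edge (s0_f6516 IH) (path_edge (s0_f3136r IH) (path_edge (s0_f9990r IH) (path_nil s0_v952))))
theorem s0_f9993r : ed sl_gt s0_v952 = s0_v412 :=
  edge_flip (s0_f9993 IH)
theorem s0_f6515r : ed sl_bt s0_v412 = s0_v150 :=
  edge_flip (s0_f6515 IH)
theorem s0_f4754r : ed sl_gt s0_v150 = s0_v52 :=
  edge_flip (s0_f4754 IH)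
theorem s0_f9994 : ed sl_bt s0_v403 = s0_v952 :=
  gap_rel s0_rot26 (path_edge (s0_f6435 IH) (path_edge (s0_f4706 IH) (path_edge (s0_f4754r IH) (path_edge (s0_f6515r IH) (path_edge (s0_f9993r IH) (path_nil s0_v952))))))
theorem s0_f9995 : ed sl_gt s0_v412 = s0_v952 :=
  gap_rel s0_rot25 (path_edge (s0_f9993r IH) (path_nil s0_v952))
theorem s0_f9994r : ed sl_bf s0_v952 = s0_v403 :=
  edge_flip (s0_f9994 IH)
theorem s0_f6434r : ed sl_cf s0_v403 = s0_v152 :=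
  edge_flip (s0_f6434 IH)
theorem s0_f9996 : ed sl_cf s0_v412 = s0_v952 :=
  gap_rel s0_rot27 (path_edge (s0_f6515 IH) (path_edge (s0_f4755 IH) (path_edge (s0_f4792r IH) (path_edge (s0_f6434r IH) (path_edge (s0_f9994r IH) (path_nil s0_v952))))))
theorem s0_f9996r : ed sl_ct s0_v952 = s0_v412 :=
  edge_flip (s0_f9996 IH)
theorem s0_f9997 : ed sl_ct s0_v412 = s0_v952 :=
  gap_rel s0_rot59 (path_edge (s0_f9996r IH) (path_nil s0_v952))
theorem s0_f10000 : ed sl_at sq348 = sq235 :=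
  real_edge rels S fwd inv o lvl plet idx 16 IH Gen.a sp348 sp235 rfl rfl
theorem s0_f10001 : ed sl_et sq348 = s0_v954 :=
  rfl
theorem s0_f10001r : ed sl_ef s0_v954 = sq348 :=
  edge_flip (s0_f10001 IH)
theorem s0_f6619r : ed sl_af sq348 = sq235 :=
  edge_flip (s0_f6619 IH)
theorem s0_f5013r : ed sl_ef sq235 = sq353 :=
  edge_flip (s0_f5013 IH)
theorem s0_f10002 : ed sl_af sq353 = s0_v954 :=
  gap_rel s0_rot67 (path_edge (s0_f5013r IH) (path_edge (s0_f6619r IH) (path_edge (s0_f10001r IH) (path_nil s0_v954))))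
theorem s0_f10004 : ed sl_ef sq348 = s0_v954 :=
  gap_rel s0_rot34 (path_edge (s0_f10001r IH) (path_nil s0_v954))
theorem s0_f10004r : ed sl_et s0_v954 = sq348 :=
  edge_flip (s0_f10004 IH)
theorem s0_f10006 : ed sl_at sq353 = s0_v954 :=
  gap_rel s0_rot86 (path_edge (s0_f6620 IH) (path_edge (s0_f10000 IH) (path_edge (s0_f10004r IH) (path_nil s0_v954))))
theorem s0_f10007 : ed sl_ct s0_v405 = s0_v954 :=
  gap_rel s0_rot60 (path_edge (s0_f6446 IH) (path_edge (s0_f3593 IH) (path_edge (s0_f10004r IH) (path_nil s0_v954))))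
theorem s0_f10014 : ed sl_gt sq353 = sq522 :=
  real_edge rels S fwd inv o lvl plet idx 16 IH Gen.g sp353 sp522 rfl rfl
theorem s0_f10015 : ed sl_ft sq522 = sq765 :=
  real_edge rels S fwd inv o lvl plet idx 16 IH Gen.f sp522 sp765 rfl rfl
theorem s0_f10018 : ed sl_at sq519 = sq755 :=
  real_edge rels S fwd inv o lvl plet idx 16 IH Gen.a sp519 sp755 rfl rfl
theorem s0_f10019 : ed sl_bt sq755 = sq1087 :=
  real_edge rels S fwd inv o lvl plet idx 16 IH Gen.b sp755 sp1087 rfl rfl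
theorem s0_f10022 : ed sl_at sq349 = sq236 :=
  real_edge rels S fwd inv o lvl plet idx 16 IH Gen.a sp349 sp236 rfl rfl
theorem s0_f10032 : ed sl_ct sq754 = sq517 :=
  real_edge rels S fwd inv o lvl plet idx 16 IH Gen.c sp754 sp517 rfl rfl
theorem s0_f10069 : ed sl_at sq351 = s0_v957 :=
  rfl
theorem s0_f10069r : ed sl_af s0_v957 = sq351 :=
  edge_flip (s0_f10069 IH)
theorem s0_f10070 : ed sl_af sq351 = s0_v957 :=
  gap_rel s0_rot66 (path_edge (s0_f10069r IH) (path_nil s0_v957))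
theorem s0_f9952r : ed sl_af s0_v946 = s0_v679 :=
  edge_flip (s0_f9952 IH)
theorem s0_f10072 : ed sl_ff s0_v679 = s0_v957 :=
  gap_rel s0_rot11 (path_edge (s0_f9952r IH) (path_edge (s0_f9947 IH) (path_edge (s0_f10069r IH) (path_nil s0_v957))))
theorem s0_f10072r : ed sl_ft s0_v957 = s0_v679 :=
  edge_flip (s0_f10072 IH)
theorem s0_f8447r : ed sl_ct s0_v679 = s0_v234 :=
  edge_flip (s0_f8447 IH)
theorem s0_f10073 : ed sl_ct s0_v680 = s0_v957 :=
  gap_rel s0_rot42 (path_edge (s0_f8450 IH) (path_edge (s0_f8447r IH) (path_edge (s0_f10072r IH) (path_nil s0_v957))))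
theorem s0_f10077 : ed sl_ct sq351 = s0_v958 :=
  rfl
theorem s0_f10077r : ed sl_cf s0_v958 = sq351 :=
  edge_flip (s0_f10077 IH)
theorem s0_f10073r : ed sl_cf s0_v957 = s0_v680 :=
  edge_flip (s0_f10073 IH)
theorem s0_f10078 : ed sl_af s0_v680 = s0_v958 :=
  gap_rel s0_rot10 (path_edge (s0_f10073r IH) (path_edge (s0_f10070 IH) (path_edge (s0_f10077r IH) (path_nil s0_v958))))
theorem s0_f246r : ed sl_bf sq351 = sq225 :=
  edge_flip (s0_f246 IH)
theorem s0_f245r : ed sl_cf sq225 = sq171 :=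
  edge_flip (s0_f245 IH)
theorem s0_f360r : ed sl_bf sq171 = sq264 :=
  edge_flip (s0_f360 IH)
theorem s0_f3672r : ed sl_cf sq264 = sq395 :=
  edge_flip (s0_f3672 IH)
theorem s0_f10079 : ed sl_bf sq395 = s0_v958 :=
  gap_rel s0_rot61 (path_edge (s0_f3672r IH) (path_edge (s0_f360r IH) (path_edge (s0_f245r IH) (path_edge (s0_f246r IH) (path_edge (s0_f10077r IH) (path_nil s0_v958))))))
theorem s0_f10080 : ed sl_cf sq351 = s0_v958 :=
  gap_rel s0_rot40 (path_edge (s0_f10077r IH) (path_nil s0_v958))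
theorem s0_f9953r : ed sl_cf s0_v946 = s0_v678 :=
  edge_flip (s0_f9953 IH)
theorem s0_f10082 : ed sl_ff s0_v678 = s0_v958 :=
  gap_rel s0_rot95 (path_edge (s0_f9953r IH) (path_edge (s0_f9947 IH) (path_edge (s0_f10077r IH) (path_nil s0_v958))))
theorem s0_f10082r : ed sl_ft s0_v958 = s0_v678 :=
  edge_flip (s0_f10082 IH)
theorem s0_f10083 : ed sl_at s0_v680 = s0_v958 :=
  gap_rel s0_rot90 (path_edge (s0_f8450 IH) (path_edge (s0_f8443r IH) (path_edge (s0_f10082r IH) (path_nil s0_v958))))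
theorem s0_f10088 : ed sl_dt sq882 = sq667 :=
  real_edge rels S fwd inv o lvl plet idx 16 IH Gen.d sp882 sp667 rfl rfl
theorem s0_f10089 : ed sl_ct sq667 = sq974 :=
  real_edge rels S fwd inv o lvl plet idx 16 IH Gen.c sp667 sp974 rfl rfl
theorem s0_f10090 : ed sl_dt sq974 = sq1325 :=
  real_edge rels S fwd inv o lvl plet idx 16 IH Gen.d sp974 sp1325 rfl rfl
theorem s0_f10091 : ed sl_gt sq351 = s0_v959 :=
  rfl
theorem s0_f10116 : ed sl_ft sq765 = sq522 :=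
  real_edge rels S fwd inv o lvl plet idx 16 IH Gen.f sp765 sp522 rfl rfl
theorem s0_f10125 : ed sl_dt sq523 = sq356 :=
  real_edge rels S fwd inv o lvl plet idx 16 IH Gen.d sp523 sp356 rfl rfl
theorem s0_f10130 : ed sl_ct sq356 = s0_v965 :=
  rfl
theorem s0_f10130r : ed sl_cf s0_v965 = sq356 :=
  edge_flip (s0_f10130 IH)
theorem s0_f6566r : ed sl_ff sq356 = sq245 :=
  edge_flip (s0_f6566 IH)
theorem s0_f2246r : ed sl_cf sq245 = sq372 :=
  edge_flip (s0_f2246 IH)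
theorem s0_f10133 : ed sl_ff sq372 = s0_v965 :=
  gap_rel s0_rot95 (path_edge (s0_f2246r IH) (path_edge (s0_f6566r IH) (path_edge (s0_f10130r IH) (path_nil s0_v965))))
theorem s0_f10133r : ed sl_ft s0_v965 = sq372 :=
  edge_flip (s0_f10133 IH)
theorem s0_f10137 : ed sl_et s0_v418 = s0_v965 :=
  gap_rel s0_rot37 (path_edge (s0_f6590 IH) (path_edge (s0_f6591 IH) (path_edge (s0_f10133r IH) (path_nil s0_v965))))
theorem s0_f10163 : ed sl_at sq359 = sq526 :=
  real_edge rels S fwd inv o lvl plet idx 16 IH Gen.a sp359 sp526 rfl rfl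
theorem s0_f10172 : ed sl_at sq362 = sq516 :=
  real_edge rels S fwd inv o lvl plet idx 16 IH Gen.a sp362 sp516 rfl rfl
theorem s0_f10175 : ed sl_gt sq363 = s0_v969 :=
  rfl
theorem s0_f10175r : ed sl_gf s0_v969 = sq363 :=
  edge_flip (s0_f10175 IH)
theorem s0_f10180 : ed sl_gf sq363 = s0_v969 :=
  gap_rel s0_rot76 (path_edge (s0_f10175r IH) (path_nil s0_v969))
theorem s0_f10180r : ed sl_gt s0_v969 = sq363 :=
  edge_flip (s0_f10180 IH)
theorem s0_f10181 : ed sl_at sq565 = s0_v969 :=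
  gap_rel s0_rot96 (path_edge (s0_f3122 IH) (path_edge (s0_f2053 IH) (path_edge (s0_f10180r IH) (path_nil s0_v969))))
theorem s0_f10182 : ed sl_dt s0_v423 = s0_v969 :=
  gap_rel s0_rot91 (path_edge (s0_f6650 IH) (path_edge (s0_f2047 IH) (path_edge (s0_f10180r IH) (path_nil s0_v969))))
theorem s0_f10183 : ed sl_ft sq537 = sq379 :=
  real_edge rels S fwd inv o lvl plet idx 16 IH Gen.f sp537 sp379 rfl rfl
theorem s0_f10195 : ed sl_dt sq461 = sq674 :=
  real_edge rels S fwd inv o lvl plet idx 16 IH Gen.d sp461 sp674 rfl rfl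
theorem s0_f10196 : ed sl_ct sq674 = sq982 :=
  real_edge rels S fwd inv o lvl plet idx 16 IH Gen.c sp674 sp982 rfl rfl
theorem s0_f10200 : ed sl_bt sq365 = s0_v971 :=
  rfl
theorem s0_f10200r : ed sl_bf s0_v971 = sq365 :=
  edge_flip (s0_f10200 IH)
theorem s0_f10201 : ed sl_bf sq365 = s0_v971 :=
  gap_rel s0_rot44 (path_edge (s0_f10200r IH) (path_nil s0_v971))
theorem s0_f4861r : ed sl_df sq365 = sq240 :=
  edge_flip (s0_f4861 IH)
theorem s0_f10203 : ed sl_df s0_v425 = s0_v971 :=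
  gap_rel s0_rot8 (path_edge (s0_f6679 IH) (path_edge (s0_f4861r IH) (path_edge (s0_f10200r IH) (path_nil s0_v971))))
theorem s0_f10203r : ed sl_dt s0_v971 = s0_v425 :=
  edge_flip (s0_f10203 IH)
theorem s0_f10206 : ed sl_dt s0_v425 = s0_v971 :=
  gap_rel s0_rot28 (path_edge (s0_f10203r IH) (path_nil s0_v971))
theorem s0_f10207 : ed sl_bt sq536 = sq782 :=
  real_edge rels S fwd inv o lvl plet idx 16 IH Gen.b sp536 sp782 rfl rfl
theorem s0_f10214 : ed sl_dt sq367 = s0_v973 :=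
  rfl
theorem s0_f10214r : ed sl_df s0_v973 = sq367 :=
  edge_flip (s0_f10214 IH)
theorem s0_f10215 : ed sl_df sq367 = s0_v973 :=
  gap_rel s0_rot54 (path_edge (s0_f10214r IH) (path_nil s0_v973))
theorem s0_f2771r : ed sl_gf sq367 = sq243 :=
  edge_flip (s0_f2771 IH)
theorem s0_f2977r : ed sl_df sq243 = sq369 :=
  edge_flip (s0_f2977 IH)
theorem s0_f10216 : ed sl_gf sq369 = s0_v973 :=
  gap_rel s0_rot45 (path_edge (s0_f2977r IH) (path_edge (s0_f2771r IH) (path_edge (s0_f10214r IH) (path_nil s0_v973))))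
theorem s0_f10218 : ed sl_gt sq541 = sq794 :=
  real_edge rels S fwd inv o lvl plet idx 16 IH Gen.g sp541 sp794 rfl rfl
theorem s0_f10221 : ed sl_bt sq544 = sq798 :=
  real_edge rels S fwd inv o lvl plet idx 16 IH Gen.b sp544 sp798 rfl rfl
theorem s0_f10234 : ed sl_at sq369 = s0_v975 :=
  rfl
theorem s0_f10234r : ed sl_af s0_v975 = sq369 :=
  edge_flip (s0_f10234 IH)
theorem s0_f2972r : ed sl_df sq369 = sq243 :=
  edge_flip (s0_f2972 IH)
theorem s0_f10237 : ed sl_df s0_v429 = s0_v975 :=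
  gap_rel s0_rot51 (path_edge (s0_f6711 IH) (path_edge (s0_f2972r IH) (path_edge (s0_f10234r IH) (path_nil s0_v975))))
theorem s0_f10238 : ed sl_ct s0_v973 = s0_v975 :=
  gap_rel s0_rot101 (path_edge (s0_f10214 IH) (path_edge (s0_f2781 IH) (path_edge (s0_f2762 IH) (path_edge (s0_f2962 IH) (path_edge (s0_f2761 IH) (path_edge (s0_f2780 IH) (path_edge (s0_f2977 IH) (path_edge (s0_f10234r IH) (path_nil s0_v975)))))))))
theorem s0_f10238r : ed sl_cf s0_v975 = s0_v973 :=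
  edge_flip (s0_f10238 IH)
theorem s0_f10239 : ed sl_cf s0_v973 = s0_v975 :=
  gap_rel s0_rot40 (path_edge (s0_f10238r IH) (path_nil s0_v975))
theorem s0_f10239r : ed sl_ct s0_v975 = s0_v973 :=
  edge_flip (s0_f10239 IH)
theorem s0_f10215r : ed sl_dt s0_v973 = sq367 :=
  edge_flip (s0_f10215 IH)
theorem s0_f4347r : ed sl_ct s0_v72 = s0_v56 :=
  edge_flip (s0_f4347 IH)
theorem s0_f10240 : ed sl_dt s0_v429 = s0_v975 :=
  gap_rel s0_rot7 (path_edge (s0_f6719 IH) (path_edge (s0_f4898 IH) (path_edge (s0_f4347r IH) (path_edge (s0_f4661r IH) (path_edge (s0_f4660 IH) (path_edge (s0_f2524 IH) (path_edge (s0_f10215r IH) (path_edge (s0_f10239r IH) (path_nil s0_v975)))))))))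
theorem s0_f10244 : ed sl_ct sq369 = s0_v976 :=
  rfl
theorem s0_f10244r : ed sl_cf s0_v976 = sq369 :=
  edge_flip (s0_f10244 IH)
theorem s0_f10246 : ed sl_cf sq369 = s0_v976 :=
  gap_rel s0_rot40 (path_edge (s0_f10244r IH) (path_nil s0_v976))
theorem s0_f10249 : ed sl_gf s0_v975 = s0_v976 :=
  gap_rel s0_rot5 (path_edge (s0_f10239 IH) (path_edge (s0_f10216 IH) (path_edge (s0_f10244r IH) (path_nil s0_v976))))
theorem s0_f10249r : ed sl_gt s0_v976 = s0_v975 :=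
  edge_flip (s0_f10249 IH)
theorem s0_f10237r : ed sl_dt s0_v975 = s0_v429 :=
  edge_flip (s0_f10237 IH)
theorem s0_f10251 : ed sl_dt s0_v384 = s0_v976 :=
  gap_rel s0_rot91 (path_edge (s0_f6716r IH) (path_edge (s0_f10237r IH) (path_edge (s0_f10249r IH) (path_nil s0_v976))))
theorem s0_f10255 : ed sl_ft sq789 = sq1129 :=
  real_edge rels S fwd inv o lvl plet idx 16 IH Gen.f sp789 sp1129 rfl rfl
theorem s0_f10307 : ed sl_dt sq373 = s0_v983 :=
  rfl
theorem s0_f10307r : ed sl_df s0_v983 = sq373 :=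
  edge_flip (s0_f10307 IH)
theorem s0_f10309 : ed sl_df sq373 = s0_v983 :=
  gap_rel s0_rot54 (path_edge (s0_f10307r IH) (path_nil s0_v983))
theorem s0_f10311 : ed sl_dt sq789 = sq540 :=
  real_edge rels S fwd inv o lvl plet idx 16 IH Gen.d sp789 sp540 rfl rfl
theorem s0_f10314 : ed sl_ct sq805 = sq548 :=
  real_edge rels S fwd inv o lvl plet idx 16 IH Gen.c sp805 sp548 rfl rfl
theorem s0_f10315 : ed sl_dt sq1150 = sq805 :=
  real_edge rels S fwd inv o lvl plet idx 16 IH Gen.d sp1150 sp805 rfl rfl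
theorem s0_f10309r : ed sl_dt s0_v983 = sq373 :=
  edge_flip (s0_f10309 IH)
theorem s0_f10316 : ed sl_at s0_v437 = s0_v983 :=
  gap_rel s0_rot58 (path_edge (s0_f6762 IH) (path_edge (s0_f4934 IH) (path_edge (s0_f10309r IH) (path_nil s0_v983))))
theorem s0_f10322 : ed sl_at sq374 = sq549 :=
  real_edge rels S fwd inv o lvl plet idx 16 IH Gen.a sp374 sp549 rfl rfl
theorem s0_f10334 : ed sl_ct sq768 = sq549 :=
  real_edge rels S fwd inv o lvl plet idx 16 IH Gen.c sp768 sp549 rfl rfl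
theorem s0_f10342 : ed sl_dt sq528 = sq770 :=
  real_edge rels S fwd inv o lvl plet idx 16 IH Gen.d sp528 sp770 rfl rfl
theorem s0_f10363 : ed sl_dt sq376 = s0_v986 :=
  rfl
theorem s0_f10363r : ed sl_df s0_v986 = sq376 :=
  edge_flip (s0_f10363 IH)
theorem s0_f10365 : ed sl_df sq376 = s0_v986 :=
  gap_rel s0_rot54 (path_edge (s0_f10363r IH) (path_nil s0_v986))
theorem s0_f10366 : ed sl_ct sq814 = sq555 :=
  real_edge rels S fwd inv o lvl plet idx 16 IH Gen.c sp814 sp555 rfl rfl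
theorem s0_f10367 : ed sl_dt sq1165 = sq814 :=
  real_edge rels S fwd inv o lvl plet idx 16 IH Gen.d sp1165 sp814 rfl rfl
theorem s0_f10368 : ed sl_at sq816 = sq1165 :=
  real_edge rels S fwd inv o lvl plet idx 16 IH Gen.a sp816 sp1165 rfl rfl
theorem s0_f10369 : ed sl_et sq1168 = sq816 :=
  real_edge rels S fwd inv o lvl plet idx 16 IH Gen.e sp1168 sp816 rfl rfl
theorem s0_f10365r : ed sl_dt s0_v986 = sq376 :=
  edge_flip (s0_f10365 IH)
theorem s0_f10371 : ed sl_bt s0_v438 = s0_v986 :=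
  gap_rel s0_rot69 (path_edge (s0_f6785 IH) (path_edge (s0_f3088 IH) (path_edge (s0_f10365r IH) (path_nil s0_v986))))
theorem s0_f10375 : ed sl_ct sq377 = s0_v987 :=
  rfl
theorem s0_f10375r : ed sl_cf s0_v987 = sq377 :=
  edge_flip (s0_f10375 IH)
theorem s0_f10377 : ed sl_cf sq377 = s0_v987 :=
  gap_rel s0_rot40 (path_edge (s0_f10375r IH) (path_nil s0_v987))
theorem s0_f10377r : ed sl_ct s0_v987 = sq377 :=
  edge_flip (s0_f10377 IH)
theorem s0_f10378 : ed sl_bt s0_v558 = s0_v987 :=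
  gap_rel s0_rot41 (path_edge (s0_f7788 IH) (path_edge (s0_f4976 IH) (path_edge (s0_f2810 IH) (path_edge (s0_f2798 IH) (path_edge (s0_f10377r IH) (path_nil s0_v987))))))
theorem s0_f10388 : ed sl_ft sq380 = sq538 :=
  real_edge rels S fwd inv o lvl plet idx 16 IH Gen.f sp380 sp538 rfl rfl
theorem s0_f10389 : ed sl_gt sq380 = sq564 :=
  real_edge rels S fwd inv o lvl plet idx 16 IH Gen.g sp380 sp564 rfl rfl
theorem s0_f10425 : ed sl_bt sq384 = s0_v996 :=
  rfl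
theorem s0_f10435 : ed sl_ft sq385 = s0_v998 :=
  rfl
theorem s0_f10435r : ed sl_ff s0_v998 = sq385 :=
  edge_flip (s0_f10435 IH)
theorem s0_f10438 : ed sl_ff sq385 = s0_v998 :=
  gap_rel s0_rot1 (path_edge (s0_f10435r IH) (path_nil s0_v998))
theorem s0_f10438r : ed sl_ft s0_v998 = sq385 :=
  edge_flip (s0_f10438 IH)
theorem s0_f10440 : ed sl_et s0_v451 = s0_v998 :=
  gap_rel s0_rot37 (path_edge (s0_f6848 IH) (path_edge (s0_f6838 IH) (path_edge (s0_f10438r IH) (path_nil s0_v998))))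
theorem s0_f10441 : ed sl_gt sq385 = s0_v999 :=
  rfl
theorem s0_f10447 : ed sl_dt sq386 = s0_v1000 :=
  rfl
theorem s0_f10447r : ed sl_df s0_v1000 = sq386 :=
  edge_flip (s0_f10447 IH)
theorem s0_f2621r : ed sl_bf sq386 = sq259 :=
  edge_flip (s0_f2621 IH)
theorem s0_f10448 : ed sl_bf s0_v455 = s0_v1000 :=
  gap_rel s0_rot103 (path_edge (s0_f6868 IH) (path_edge (s0_f2621r IH) (path_edge (s0_f10447r IH) (path_nil s0_v1000))))
theorem s0_f10449 : ed sl_df sq386 = s0_v1000 :=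
  gap_rel s0_rot54 (path_edge (s0_f10447r IH) (path_nil s0_v1000))
theorem s0_f10450 : ed sl_ct sq833 = sq566 :=
  real_edge rels S fwd inv o lvl plet idx 16 IH Gen.c sp833 sp566 rfl rfl
theorem s0_f10449r : ed sl_dt s0_v1000 = sq386 :=
  edge_flip (s0_f10449 IH)
theorem s0_f10451 : ed sl_bt s0_v455 = s0_v1000 :=
  gap_rel s0_rot69 (path_edge (s0_f6867 IH) (path_edge (s0_f2625 IH) (path_edge (s0_f10449r IH) (path_nil s0_v1000))))
theorem s0_f10470 : ed sl_et sq387 = sq568 :=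
  real_edge rels S fwd inv o lvl plet idx 16 IH Gen.e sp387 sp568 rfl rfl
theorem s0_f10471 : ed sl_ft sq387 = s0_v1004 :=
  rfl
theorem s0_f10471r : ed sl_ff s0_v1004 = sq387 :=
  edge_flip (s0_f10471 IH)
theorem s0_f2613r : ed sl_af sq387 = sq258 :=
  edge_flip (s0_f2613 IH)
theorem s0_f10472 : ed sl_af s0_v453 = s0_v1004 :=
  gap_rel s0_rot0 (path_edge (s0_f6859 IH) (path_edge (s0_f2613r IH) (path_edge (s0_f10471r IH) (path_nil s0_v1004))))
theorem s0_f6839r : ed sl_cf sq387 = sq257 :=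
  edge_flip (s0_f6839 IH)
theorem s0_f10473 : ed sl_cf s0_v451 = s0_v1004 :=
  gap_rel s0_rot65 (path_edge (s0_f6850 IH) (path_edge (s0_f6839r IH) (path_edge (s0_f10471r IH) (path_nil s0_v1004))))
theorem s0_f10474 : ed sl_ff sq387 = s0_v1004 :=
  gap_rel s0_rot1 (path_edge (s0_f10471r IH) (path_nil s0_v1004))
theorem s0_f10474r : ed sl_ft s0_v1004 = sq387 :=
  edge_flip (s0_f10474 IH)
theorem s0_f10475 : ed sl_at s0_v453 = s0_v1004 :=
  gap_rel s0_rot90 (path_edge (s0_f6856 IH) (path_edge (s0_f2632 IH) (path_edge (s0_f10474r IH) (path_nil s0_v1004))))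
theorem s0_f10476 : ed sl_ct s0_v451 = s0_v1004 :=
  gap_rel s0_rot42 (path_edge (s0_f6848 IH) (path_edge (s0_f4991 IH) (path_edge (s0_f10474r IH) (path_nil s0_v1004))))
theorem s0_f10476r : ed sl_cf s0_v1004 = s0_v451 :=
  edge_flip (s0_f10476 IH)
theorem s0_f2710r : ed sl_af sq257 = sq167 :=
  edge_flip (s0_f2710 IH)
theorem s0_f2709r : ed sl_bf sq167 = sq107 :=
  edge_flip (s0_f2709 IH)
theorem s0_f2649r : ed sl_cf sq107 = sq67 :=
  edge_flip (s0_f2649 IH)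
theorem s0_f187r : ed sl_ff sq67 = sq40 :=
  edge_flip (s0_f187 IH)
theorem s0_f114r : ed sl_bf sq31 = sq18 :=
  edge_flip (s0_f114 IH)
theorem s0_f170r : ed sl_ff sq33 = sq23 :=
  edge_flip (s0_f170 IH)
theorem s0_f2484r : ed sl_ff sq25 = sq46 :=
  edge_flip (s0_f2484 IH)
theorem s0_f2485r : ed sl_af sq46 = sq75 :=
  edge_flip (s0_f2485 IH)
theorem s0_f2486r : ed sl_bf sq75 = sq122 :=
  edge_flip (s0_f2486 IH)
theorem s0_f2487r : ed sl_cf sq122 = sq187 :=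
  edge_flip (s0_f2487 IH)
theorem s0_f10477 : ed sl_bf s0_v485 = s0_v1004 :=
  gap_rel s0_rot113 (path_edge (s0_f7215 IH) (path_edge (s0_f5145 IH) (path_edge (s0_f2487r IH) (path_edge (s0_f2486r IH) (path_edge (s0_f2485r IH) (path_edge (s0_f2484r IH) (path_edge (s0_f103r IH) (path_edge (s0_f2483r IH) (path_edge (s0_f2469r IH) (path_edge (s0_f170r IH) (path_edge (s0_f61r IH) (path_edge (s0_f114r IH) (path_edge (s0_f2699 IH) (path_edge (s0_f187r IH) (path_edge (s0_f2649r IH) (path_edge (s0_f2709r IH) (path_edge (s0_f2710r IH) (path_edge (s0_f6848r IH) (path_edge (s0_f10476r IH) (path_nil s0_v1004))))))))))))))))))))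
theorem s0_f10472r : ed sl_at s0_v1004 = s0_v453 :=
  edge_flip (s0_f10472 IH)
theorem s0_f10477r : ed sl_bt s0_v1004 = s0_v485 :=
  edge_flip (s0_f10477 IH)
theorem s0_f7215r : ed sl_at s0_v485 = s0_v180 :=
  edge_flip (s0_f7215 IH)
theorem s0_f7921r : ed sl_bt s0_v583 = s0_v180 :=
  edge_flip (s0_f7921 IH)
theorem s0_f10478 : ed sl_bt s0_v485 = s0_v1004 :=
  gap_rel s0_rot84 (path_edge (s0_f7218 IH) (path_edge (s0_f7921r IH) (path_edge (s0_f8797 IH) (path_edge (s0_f7920 IH) (path_edge (s0_f7215r IH) (path_edge (s0_f10477r IH) (path_edge (s0_f10475 IH) (path_edge (s0_f6860 IH) (path_edge (s0_f10472r IH) (path_nil s0_v1004))))))))))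
theorem s0_f10504 : ed sl_ct sq389 = s0_v1010 :=
  rfl
theorem s0_f10504r : ed sl_cf s0_v1010 = sq389 :=
  edge_flip (s0_f10504 IH)
theorem s0_f10507 : ed sl_cf sq389 = s0_v1010 :=
  gap_rel s0_rot40 (path_edge (s0_f10504r IH) (path_nil s0_v1010))
theorem s0_f4218r : ed sl_ef sq389 = sq283 :=
  edge_flip (s0_f4218 IH)
theorem s0_f10508 : ed sl_ef s0_v473 = s0_v1010 :=
  gap_rel s0_rot48 (path_edge (s0_f7098 IH) (path_edge (s0_f4218r IH) (path_edge (s0_f10504r IH) (path_nil s0_v1010))))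
theorem s0_f10512 : ed sl_ct sq1197 = sq835 :=
  real_edge rels S fwd inv o lvl plet idx 16 IH Gen.c sp1197 sp835 rfl rfl
theorem s0_f10514 : ed sl_bt sq1200 = sq836 :=
  real_edge rels S fwd inv o lvl plet idx 16 IH Gen.b sp1200 sp836 rfl rfl
theorem s0_f10508r : ed sl_et s0_v1010 = s0_v473 :=
  edge_flip (s0_f10508 IH)
theorem s0_f7097r : ed sl_bt s0_v473 = s0_v226 :=
  edge_flip (s0_f7097 IH)
theorem s0_f10519 : ed sl_bt s0_v566 = s0_v1010 :=
  gap_rel s0_rot108 (path_edge (s0_f7827 IH) (path_edge (s0_f7097r IH) (path_edge (s0_f10508r IH) (path_nil s0_v1010))))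
theorem s0_f10525 : ed sl_at sq1197 = sq838 :=
  real_edge rels S fwd inv o lvl plet idx 16 IH Gen.a sp1197 sp838 rfl rfl
theorem s0_f10539 : ed sl_ft sq393 = s0_v1011 :=
  rfl
theorem s0_f10539r : ed sl_ff s0_v1011 = sq393 :=
  edge_flip (s0_f10539 IH)
theorem s0_f10544 : ed sl_ff sq393 = s0_v1011 :=
  gap_rel s0_rot1 (path_edge (s0_f10539r IH) (path_nil s0_v1011))
theorem s0_f10545 : ed sl_gt sq581 = sq393 :=
  real_edge rels S fwd inv o lvl plet idx 16 IH Gen.g sp581 sp393 rfl rfl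
theorem s0_f10544r : ed sl_ft s0_v1011 = sq393 :=
  edge_flip (s0_f10544 IH)
theorem s0_f10546 : ed sl_at sq582 = s0_v1011 :=
  gap_rel s0_rot90 (path_edge (s0_f3706r IH) (path_edge (s0_f2317 IH) (path_edge (s0_f10544r IH) (path_nil s0_v1011))))
theorem s0_f10562 : ed sl_dt sq397 = sq584 :=
  real_edge rels S fwd inv o lvl plet idx 16 IH Gen.d sp397 sp584 rfl rfl
theorem s0_f10592 : ed sl_at sq407 = s0_v1014 :=
  rfl
theorem s0_f10592r : ed sl_af s0_v1014 = sq407 :=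
  edge_flip (s0_f10592 IH)
theorem s0_f10593 : ed sl_af sq407 = s0_v1014 :=
  gap_rel s0_rot66 (path_edge (s0_f10592r IH) (path_nil s0_v1014))
theorem s0_f10600 : ed sl_at sq578 = sq853 :=
  real_edge rels S fwd inv o lvl plet idx 16 IH Gen.a sp578 sp853 rfl rfl
theorem s0_f10609 : ed sl_bt sq408 = s0_v1016 :=
  rfl
theorem s0_f10609r : ed sl_bf s0_v1016 = sq408 :=
  edge_flip (s0_f10609 IH)
theorem s0_f10612 : ed sl_bf sq408 = s0_v1016 :=
  gap_rel s0_rot44 (path_edge (s0_f10609r IH) (path_nil s0_v1016))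
theorem s0_f10620 : ed sl_gt sq408 = sq391 :=
  real_edge rels S fwd inv o lvl plet idx 16 IH Gen.g sp408 sp391 rfl rfl
theorem s0_f10631 : ed sl_ct sq411 = s0_v1018 :=
  rfl
theorem s0_f10634 : ed sl_ct sq897 = sq608 :=
  real_edge rels S fwd inv o lvl plet idx 16 IH Gen.c sp897 sp608 rfl rfl
theorem s0_f10635 : ed sl_dt sq1259 = sq897 :=
  real_edge rels S fwd inv o lvl plet idx 16 IH Gen.d sp1259 sp897 rfl rfl
theorem s0_f10631r : ed sl_cf s0_v1018 = sq411 :=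
  edge_flip (s0_f10631 IH)
theorem s0_f6259r : ed sl_ef sq411 = sq276 :=
  edge_flip (s0_f6259 IH)
theorem s0_f10636 : ed sl_ef s0_v465 = s0_v1018 :=
  gap_rel s0_rot48 (path_edge (s0_f6993 IH) (path_edge (s0_f6259r IH) (path_edge (s0_f10631r IH) (path_nil s0_v1018))))
theorem s0_f10636r : ed sl_et s0_v1018 = s0_v465 :=
  edge_flip (s0_f10636 IH)
theorem s0_f10639 : ed sl_et s0_v465 = s0_v1018 :=
  gap_rel s0_rot31 (path_edge (s0_f10636r IH) (path_nil s0_v1018))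
theorem s0_f10640 : ed sl_bt sq897 = sq1258 :=
  real_edge rels S fwd inv o lvl plet idx 16 IH Gen.b sp897 sp1258 rfl rfl
theorem s0_f10657 : ed sl_dt sq412 = s0_v1021 :=
  rfl
theorem s0_f10657r : ed sl_df s0_v1021 = sq412 :=
  edge_flip (s0_f10657 IH)
theorem s0_f10658 : ed sl_df sq412 = s0_v1021 :=
  gap_rel s0_rot54 (path_edge (s0_f10657r IH) (path_nil s0_v1021))
theorem s0_f10681 : ed sl_dt sq413 = s0_v1025 :=
  rfl
theorem s0_f10681r : ed sl_df s0_v1025 = sq413 :=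
  edge_flip (s0_f10681 IH)
theorem s0_f10682 : ed sl_df sq413 = s0_v1025 :=
  gap_rel s0_rot54 (path_edge (s0_f10681r IH) (path_nil s0_v1025))
theorem s0_f10720 : ed sl_at sq417 = s0_v1031 :=
  rfl
theorem s0_f10720r : ed sl_af s0_v1031 = sq417 :=
  edge_flip (s0_f10720 IH)
theorem s0_f10721 : ed sl_af sq417 = s0_v1031 :=
  gap_rel s0_rot66 (path_edge (s0_f10720r IH) (path_nil s0_v1031))
theorem s0_f6318r : ed sl_ef sq417 = sq319 :=
  edge_flip (s0_f6318 IH)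
theorem s0_f10724 : ed sl_ef s0_v517 = s0_v1031 :=
  gap_rel s0_rot102 (path_edge (s0_f7530 IH) (path_edge (s0_f6318r IH) (path_edge (s0_f10720r IH) (path_nil s0_v1031))))
theorem s0_f10724r : ed sl_et s0_v1031 = s0_v517 :=
  edge_flip (s0_f10724 IH)
theorem s0_f10725 : ed sl_et s0_v517 = s0_v1031 :=
  gap_rel s0_rot31 (path_edge (s0_f10724r IH) (path_nil s0_v1031))
theorem s0_f10728 : ed sl_ft sq417 = s0_v1032 :=
  rfl
theorem s0_f10728r : ed sl_ff s0_v1032 = sq417 :=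
  edge_flip (s0_f10728 IH)
theorem s0_f10731 : ed sl_ff sq417 = s0_v1032 :=
  gap_rel s0_rot1 (path_edge (s0_f10728r IH) (path_nil s0_v1032))
theorem s0_f10738 : ed sl_gt sq417 = s0_v1033 :=
  rfl
theorem s0_f10744 : ed sl_gt sq421 = sq418 :=
  real_edge rels S fwd inv o lvl plet idx 16 IH Gen.g sp421 sp418 rfl rfl
theorem s0_f10758 : ed sl_bt sq421 = s0_v1034 :=
  rfl
theorem s0_f10758r : ed sl_bf s0_v1034 = sq421 :=
  edge_flip (s0_f10758 IH)
theorem s0_f10759 : ed sl_bf sq421 = s0_v1034 :=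
  gap_rel s0_rot44 (path_edge (s0_f10758r IH) (path_nil s0_v1034))
theorem s0_f2366r : ed sl_ff sq421 = sq282 :=
  edge_flip (s0_f2366 IH)
theorem s0_f885r : ed sl_bf sq282 = sq282 :=
  edge_flip (s0_f885 IH)
theorem s0_f886r : ed sl_ff sq282 = sq421 :=
  edge_flip (s0_f886 IH)
theorem s0_f10763 : ed sl_ff s0_v1034 = s0_v1034 :=
  gap_rel s0_rot70 (path_edge (s0_f10759 IH) (path_edge (s0_f886r IH) (path_edge (s0_f885r IH) (path_edge (s0_f2366r IH) (path_edge (s0_f10758r IH) (path_nil s0_v1034))))))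
theorem s0_f10769 : ed sl_gt sq617 = sq904 :=
  real_edge rels S fwd inv o lvl plet idx 16 IH Gen.g sp617 sp904 rfl rfl
theorem s0_f10770 : ed sl_bt sq422 = sq620 :=
  real_edge rels S fwd inv o lvl plet idx 16 IH Gen.b sp422 sp620 rfl rfl
theorem s0_f10777 : ed sl_ft sq622 = sq422 :=
  real_edge rels S fwd inv o lvl plet idx 16 IH Gen.f sp622 sp422 rfl rfl
theorem s0_f10789 : ed sl_ct sq1269 = sq911 :=
  real_edge rels S fwd inv o lvl plet idx 16 IH Gen.c sp1269 sp911 rfl rfl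
theorem s0_f10790 : ed sl_dt sq1598 = sq1269 :=
  real_edge rels S fwd inv o lvl plet idx 16 IH Gen.d sp1598 sp1269 rfl rfl
theorem s0_f10798 : ed sl_ct sq911 = sq1269 :=
  real_edge rels S fwd inv o lvl plet idx 16 IH Gen.c sp911 sp1269 rfl rfl
theorem s0_f10818 : ed sl_ft sq630 = sq425 :=
  real_edge rels S fwd inv o lvl plet idx 16 IH Gen.f sp630 sp425 rfl rfl
theorem s0_f10821 : ed sl_bt sq425 = sq629 :=
  real_edge rels S fwd inv o lvl plet idx 16 IH Gen.b sp425 sp629 rfl rfl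
theorem s0_f10891 : ed sl_gt sq430 = sq629 :=
  real_edge rels S fwd inv o lvl plet idx 16 IH Gen.g sp430 sp629 rfl rfl
theorem s0_f10893 : ed sl_ft sq431 = s0_v1040 :=
  rfl
theorem s0_f10893r : ed sl_ff s0_v1040 = sq431 :=
  edge_flip (s0_f10893 IH)
theorem s0_f7142r : ed sl_df sq431 = sq288 :=
  edge_flip (s0_f7142 IH)
theorem s0_f10895 : ed sl_df s0_v475 = s0_v1040 :=
  gap_rel s0_rot56 (path_edge (s0_f7147 IH) (path_edge (s0_f7142r IH) (path_edge (s0_f10893r IH) (path_nil s0_v1040))))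
theorem s0_f3705r : ed sl_ef sq431 = sq579 :=
  edge_flip (s0_f3705 IH)
theorem s0_f10896 : ed sl_ef sq582 = s0_v1040 :=
  gap_rel s0_rot32 (path_edge (s0_f3699r IH) (path_edge (s0_f3705r IH) (path_edge (s0_f10893r IH) (path_nil s0_v1040))))
theorem s0_f10897 : ed sl_ff sq431 = s0_v1040 :=
  gap_rel s0_rot1 (path_edge (s0_f10893r IH) (path_nil s0_v1040))
theorem s0_f10897r : ed sl_ft s0_v1040 = sq431 :=
  edge_flip (s0_f10897 IH)
theorem s0_f10903 : ed sl_dt s0_v475 = s0_v1040 :=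
  gap_rel s0_rot29 (path_edge (s0_f7143 IH) (path_edge (s0_f7145 IH) (path_edge (s0_f10897r IH) (path_nil s0_v1040))))
theorem s0_f10911 : ed sl_ct sq642 = sq433 :=
  real_edge rels S fwd inv o lvl plet idx 16 IH Gen.c sp642 sp433 rfl rfl
theorem s0_f10913 : ed sl_at sq432 = sq641 :=
  real_edge rels S fwd inv o lvl plet idx 16 IH Gen.a sp432 sp641 rfl rfl
theorem s0_f10914 : ed sl_dt sq432 = s0_v1042 :=
  rfl
theorem s0_f10915 : ed sl_bt sq636 = sq432 :=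
  real_edge rels S fwd inv o lvl plet idx 16 IH Gen.b sp636 sp432 rfl rfl
theorem s0_f10914r : ed sl_df s0_v1042 = sq432 :=
  edge_flip (s0_f10914 IH)
theorem s0_f10917 : ed sl_df sq432 = s0_v1042 :=
  gap_rel s0_rot54 (path_edge (s0_f10914r IH) (path_nil s0_v1042))
theorem s0_f10925 : ed sl_gt sq432 = sq642 :=
  real_edge rels S fwd inv o lvl plet idx 16 IH Gen.g sp432 sp642 rfl rfl
theorem s0_f10926 : ed sl_dt sq753 = sq881 :=
  real_edge rels S fwd inv o lvl plet idx 16 IH Gen.d sp753 sp881 rfl rfl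
theorem s0_f10930 : ed sl_ft sq432 = s0_v1043 :=
  rfl
theorem s0_f10930r : ed sl_ff s0_v1043 = sq432 :=
  edge_flip (s0_f10930 IH)
theorem s0_f10932 : ed sl_ff sq432 = s0_v1043 :=
  gap_rel s0_rot1 (path_edge (s0_f10930r IH) (path_nil s0_v1043))
theorem s0_f10933 : ed sl_bt sq940 = sq642 :=
  real_edge rels S fwd inv o lvl plet idx 16 IH Gen.b sp940 sp642 rfl rfl
theorem s0_f10932r : ed sl_ft s0_v1043 = sq432 :=
  edge_flip (s0_f10932 IH)
theorem s0_f10934 : ed sl_ct s0_v474 = s0_v1043 :=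
  gap_rel s0_rot42 (path_edge (s0_f7129 IH) (path_edge (s0_f7131 IH) (path_edge (s0_f10932r IH) (path_nil s0_v1043))))
theorem s0_f10937 : ed sl_ft sq693 = sq997 :=
  real_edge rels S fwd inv o lvl plet idx 16 IH Gen.f sp693 sp997 rfl rfl
theorem s0_f10941 : ed sl_ft sq433 = s0_v1044 :=
  rfl
theorem s0_f10941r : ed sl_ff s0_v1044 = sq433 :=
  edge_flip (s0_f10941 IH)
theorem s0_f7158r : ed sl_df sq433 = sq290 :=
  edge_flip (s0_f7158 IH)
theorem s0_f10942 : ed sl_df s0_v479 = s0_v1044 :=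
  gap_rel s0_rot56 (path_edge (s0_f7186 IH) (path_edge (s0_f7158r IH) (path_edge (s0_f10941r IH) (path_nil s0_v1044))))
theorem s0_f5097r : ed sl_gf sq433 = sq287 :=
  edge_flip (s0_f5097 IH)
theorem s0_f10944 : ed sl_gf s0_v1040 = s0_v1044 :=
  gap_rel s0_rot2 (path_edge (s0_f10897 IH) (path_edge (s0_f5178 IH) (path_edge (s0_f5097r IH) (path_edge (s0_f10941r IH) (path_nil s0_v1044)))))
theorem s0_f10944r : ed sl_gt s0_v1044 = s0_v1040 :=
  edge_flip (s0_f10944 IH)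
theorem s0_f10895r : ed sl_dt s0_v1040 = s0_v475 :=
  edge_flip (s0_f10895 IH)
theorem s0_f10945 : ed sl_dt s0_v479 = s0_v1044 :=
  gap_rel s0_rot91 (path_edge (s0_f7189 IH) (path_edge (s0_f10895r IH) (path_edge (s0_f10944r IH) (path_nil s0_v1044))))
theorem s0_f10946 : ed sl_gt s0_v1040 = s0_v1044 :=
  gap_rel s0_rot25 (path_edge (s0_f10944r IH) (path_nil s0_v1044))
theorem s0_f10945r : ed sl_df s0_v1044 = s0_v479 :=
  edge_flip (s0_f10945 IH)
theorem s0_f7191r : ed sl_bf s0_v479 = sq411 :=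
  edge_flip (s0_f7191 IH)
theorem s0_f7192r : ed sl_df sq411 = sq608 :=
  edge_flip (s0_f7192 IH)
theorem s0_f10947 : ed sl_bf sq608 = s0_v1044 :=
  gap_rel s0_rot103 (path_edge (s0_f7192r IH) (path_edge (s0_f7191r IH) (path_edge (s0_f10945r IH) (path_nil s0_v1044))))
theorem s0_f10949 : ed sl_et sq608 = sq462 :=
  real_edge rels S fwd inv o lvl plet idx 16 IH Gen.e sp608 sp462 rfl rfl
theorem s0_f10951 : ed sl_bt sq1258 = sq897 :=
  real_edge rels S fwd inv o lvl plet idx 16 IH Gen.b sp1258 sp897 rfl rfl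
theorem s0_f10952 : ed sl_bt sq642 = sq940 :=
  real_edge rels S fwd inv o lvl plet idx 16 IH Gen.b sp642 sp940 rfl rfl
theorem s0_f10953 : ed sl_at sq434 = s0_v1045 :=
  rfl
theorem s0_f10953r : ed sl_af s0_v1045 = sq434 :=
  edge_flip (s0_f10953 IH)
theorem s0_f10954 : ed sl_af sq434 = s0_v1045 :=
  gap_rel s0_rot66 (path_edge (s0_f10953r IH) (path_nil s0_v1045))
theorem s0_f6915r : ed sl_ef sq434 = sq291 :=
  edge_flip (s0_f6915 IH)
theorem s0_f10956 : ed sl_ef s0_v480 = s0_v1045 :=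
  gap_rel s0_rot102 (path_edge (s0_f7195 IH) (path_edge (s0_f6915r IH) (path_edge (s0_f10953r IH) (path_nil s0_v1045))))
theorem s0_f10957 : ed sl_ct sq640 = sq939 :=
  real_edge rels S fwd inv o lvl plet idx 16 IH Gen.c sp640 sp939 rfl rfl
theorem s0_f10958 : ed sl_dt sq939 = sq1291 :=
  real_edge rels S fwd inv o lvl plet idx 16 IH Gen.d sp939 sp1291 rfl rfl
theorem s0_f10956r : ed sl_et s0_v1045 = s0_v480 :=
  edge_flip (s0_f10956 IH)
theorem s0_f10959 : ed sl_bt s0_v678 = s0_v1045 :=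
  gap_rel s0_rot108 (path_edge (s0_f8445 IH) (path_edge (s0_f7196r IH) (path_edge (s0_f10956r IH) (path_nil s0_v1045))))
theorem s0_f10963 : ed sl_ct sq434 = s0_v1046 :=
  rfl
theorem s0_f10963r : ed sl_cf s0_v1046 = sq434 :=
  edge_flip (s0_f10963 IH)
theorem s0_f10965 : ed sl_ef s0_v481 = s0_v1046 :=
  gap_rel s0_rot48 (path_edge (s0_f7201 IH) (path_edge (s0_f6915r IH) (path_edge (s0_f10963r IH) (path_nil s0_v1046))))
theorem s0_f10965r : ed sl_et s0_v1046 = s0_v481 :=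
  edge_flip (s0_f10965 IH)
theorem s0_f10966 : ed sl_et s0_v481 = s0_v1046 :=
  gap_rel s0_rot31 (path_edge (s0_f10965r IH) (path_nil s0_v1046))
theorem s0_f10967 : ed sl_ft sq434 = s0_v1047 :=
  rfl
theorem s0_f10967r : ed sl_ff s0_v1047 = sq434 :=
  edge_flip (s0_f10967 IH)
theorem s0_f10970 : ed sl_ff sq434 = s0_v1047 :=
  gap_rel s0_rot1 (path_edge (s0_f10967r IH) (path_nil s0_v1047))
theorem s0_f10970r : ed sl_ft s0_v1047 = sq434 :=
  edge_flip (s0_f10970 IH)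
theorem s0_f10972 : ed sl_et s0_v482 = s0_v1047 :=
  gap_rel s0_rot37 (path_edge (s0_f7202 IH) (path_edge (s0_f6917 IH) (path_edge (s0_f10970r IH) (path_nil s0_v1047))))
theorem s0_f10972r : ed sl_ef s0_v1047 = s0_v482 :=
  edge_flip (s0_f10972 IH)
theorem s0_f8100r : ed sl_gf s0_v482 = s0_v325 :=
  edge_flip (s0_f8100 IH)
theorem s0_f10973 : ed sl_gf s0_v745 = s0_v1047 :=
  gap_rel s0_rot18 (path_edge (s0_f8856 IH) (path_edge (s0_f8100r IH) (path_edge (s0_f10972r IH) (path_nil s0_v1047))))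
theorem s0_f10973r : ed sl_gt s0_v1047 = s0_v745 :=
  edge_flip (s0_f10973 IH)
theorem s0_f10974 : ed sl_gt s0_v745 = s0_v1047 :=
  gap_rel s0_rot25 (path_edge (s0_f10973r IH) (path_nil s0_v1047))
theorem s0_f10975 : ed sl_gt sq434 = s0_v1048 :=
  rfl
theorem s0_f10975r : ed sl_gf s0_v1048 = sq434 :=
  edge_flip (s0_f10975 IH)
theorem s0_f4280r : ed sl_bf sq434 = sq288 :=
  edge_flip (s0_f4280 IH)
theorem s0_f9078r : ed sl_gf s0_v788 = s0_v780 :=
  edge_flip (s0_f9078 IH)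
theorem s0_f10976 : ed sl_bf s0_v780 = s0_v1048 :=
  gap_rel s0_rot75 (path_edge (s0_f9078r IH) (path_edge (s0_f9079 IH) (path_edge (s0_f7153 IH) (path_edge (s0_f4280r IH) (path_edge (s0_f10975r IH) (path_nil s0_v1048))))))
theorem s0_f10978 : ed sl_gf sq434 = s0_v1048 :=
  gap_rel s0_rot76 (path_edge (s0_f10975r IH) (path_nil s0_v1048))
theorem s0_f10978r : ed sl_gt s0_v1048 = sq434 :=
  edge_flip (s0_f10978 IH)
theorem s0_f10979 : ed sl_bt s0_v780 = s0_v1048 :=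
  gap_rel s0_rot26 (path_edge (s0_f9075r IH) (path_edge (s0_f9080 IH) (path_edge (s0_f7150 IH) (path_edge (s0_f4275 IH) (path_edge (s0_f10978r IH) (path_nil s0_v1048))))))
theorem s0_f10981 : ed sl_bt sq435 = s0_v1049 :=
  rfl
theorem s0_f10981r : ed sl_bf s0_v1049 = sq435 :=
  edge_flip (s0_f10981 IH)
theorem s0_f7213r : ed sl_ef sq435 = sq292 :=
  edge_flip (s0_f7213 IH)
theorem s0_f10983 : ed sl_ef s0_v484 = s0_v1049 :=
  gap_rel s0_rot46 (path_edge (s0_f7211 IH) (path_edge (s0_f7213r IH) (path_edge (s0_f10981r IH) (path_nil s0_v1049))))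
theorem s0_f10983r : ed sl_et s0_v1049 = s0_v484 :=
  edge_flip (s0_f10983 IH)
theorem s0_f10984 : ed sl_et s0_v484 = s0_v1049 :=
  gap_rel s0_rot31 (path_edge (s0_f10983r IH) (path_nil s0_v1049))
theorem s0_f10985 : ed sl_dt sq435 = s0_v1050 :=
  rfl
theorem s0_f10985r : ed sl_df s0_v1050 = sq435 :=
  edge_flip (s0_f10985 IH)
theorem s0_f5111r : ed sl_af sq435 = sq289 :=
  edge_flip (s0_f5111 IH)
theorem s0_f10986 : ed sl_af s0_v477 = s0_v1050 :=
  gap_rel s0_rot72 (path_edge (s0_f7163 IH) (path_edge (s0_f5111r IH) (path_edge (s0_f10985r IH) (path_nil s0_v1050))))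
theorem s0_f10987 : ed sl_df sq435 = s0_v1050 :=
  gap_rel s0_rot54 (path_edge (s0_f10985r IH) (path_nil s0_v1050))
theorem s0_f10987r : ed sl_dt s0_v1050 = sq435 :=
  edge_flip (s0_f10987 IH)
theorem s0_f10988 : ed sl_at s0_v477 = s0_v1050 :=
  gap_rel s0_rot58 (path_edge (s0_f7161 IH) (path_edge (s0_f7162 IH) (path_edge (s0_f10987r IH) (path_nil s0_v1050))))
theorem s0_f11006 : ed sl_dt sq436 = s0_v1053 :=
  rfl
theorem s0_f11006r : ed sl_df s0_v1053 = sq436 :=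
  edge_flip (s0_f11006 IH)
theorem s0_f7169r : ed sl_gf sq436 = sq289 :=
  edge_flip (s0_f7169 IH)
theorem s0_f11008 : ed sl_gf s0_v477 = s0_v1053 :=
  gap_rel s0_rot45 (path_edge (s0_f7163 IH) (path_edge (s0_f7169r IH) (path_edge (s0_f11006r IH) (path_nil s0_v1053))))
theorem s0_f11008r : ed sl_gt s0_v1053 = s0_v477 :=
  edge_flip (s0_f11008 IH)
theorem s0_f11010 : ed sl_gt s0_v477 = s0_v1053 :=
  gap_rel s0_rot25 (path_edge (s0_f11008r IH) (path_nil s0_v1053))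
theorem s0_f11074 : ed sl_at sq440 = sq645 :=
  real_edge rels S fwd inv o lvl plet idx 16 IH Gen.a sp440 sp645 rfl rfl
theorem s0_f11078 : ed sl_gt sq440 = sq649 :=
  real_edge rels S fwd inv o lvl plet idx 16 IH Gen.g sp440 sp649 rfl rfl
theorem s0_f11088 : ed sl_gt sq443 = sq295 :=
  real_edge rels S fwd inv o lvl plet idx 16 IH Gen.g sp443 sp295 rfl rfl
theorem s0_f11089 : ed sl_ft sq955 = sq654 :=
  real_edge rels S fwd inv o lvl plet idx 16 IH Gen.f sp955 sp654 rfl rfl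
theorem s0_f11105 : ed sl_at sq444 = sq650 :=
  real_edge rels S fwd inv o lvl plet idx 16 IH Gen.a sp444 sp650 rfl rfl
theorem s0_f11106 : ed sl_dt sq444 = s0_v1065 :=
  rfl
theorem s0_f11109 : ed sl_dt sq584 = sq397 :=
  real_edge rels S fwd inv o lvl plet idx 16 IH Gen.d sp584 sp397 rfl rfl
theorem s0_f11106r : ed sl_df s0_v1065 = sq444 :=
  edge_flip (s0_f11106 IH)
theorem s0_f2995r : ed sl_cf sq444 = sq296 :=
  edge_flip (s0_f2995 IH)
theorem s0_f2994r : ed sl_df sq296 = sq189 :=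
  edge_flip (s0_f2994 IH)
theorem s0_f2993r : ed sl_cf sq189 = sq131 :=
  edge_flip (s0_f2993 IH)
theorem s0_f2992r : ed sl_df sq131 = sq181 :=
  edge_flip (s0_f2992 IH)
theorem s0_f3987r : ed sl_cf sq181 = sq268 :=
  edge_flip (s0_f3987 IH)
theorem s0_f3988r : ed sl_df sq268 = sq398 :=
  edge_flip (s0_f3988 IH)
theorem s0_f2739r : ed sl_cf sq398 = sq587 :=
  edge_flip (s0_f2739 IH)
theorem s0_f2740r : ed sl_df sq587 = sq650 :=
  edge_flip (s0_f2740 IH)
theorem s0_f2741r : ed sl_cf sq650 = sq441 :=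
  edge_flip (s0_f2741 IH)
theorem s0_f2742r : ed sl_df sq441 = sq295 :=
  edge_flip (s0_f2742 IH)
theorem s0_f5280r : ed sl_cf sq295 = sq203 :=
  edge_flip (s0_f5280 IH)
theorem s0_f6312r : ed sl_df sq203 = sq280 :=
  edge_flip (s0_f6312 IH)
theorem s0_f727r : ed sl_cf sq280 = sq397 :=
  edge_flip (s0_f727 IH)
theorem s0_f11109r : ed sl_df sq397 = sq584 :=
  edge_flip (s0_f11109 IH)
theorem s0_f11110 : ed sl_cf sq584 = s0_v1065 :=
  gap_rel s0_rot109 (path_edge (s0_f11109r IH) (path_edge (s0_f727r IH) (path_edge (s0_f6312r IH) (path_edge (s0_f5280r IH) (path_edge (s0_f2742r IH) (path_edge (s0_f2741r IH) (path_edge (s0_f2740r IH) (path_edge (s0_f2739r IH) (path_edge (s0_f3988r IH) (path_edge (s0_f3987r IH) (path_edge (s0_f2992r IH) (path_edge (s0_f2993r IH) (path_edge (s0_f2994r IH) (path_edge (s0_f2995r IH) (path_edge (s0_f11106r IH) (path_nil s0_v1065))))))))))))))))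
theorem s0_f11111 : ed sl_df sq444 = s0_v1065 :=
  gap_rel s0_rot54 (path_edge (s0_f11106r IH) (path_nil s0_v1065))
theorem s0_f11111r : ed sl_dt s0_v1065 = sq444 :=
  edge_flip (s0_f11111 IH)

end

end

end Cfsg.Agent.Helper28.S1680
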