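import Cfsg.Agent.Lib.Helper28.S1680.Seeds7

set_option autoImplicit false
set_option maxRecDepth 100000
set_option linter.all false

namespace Cfsg.Agent.Helper28.S1680

open Cfsg.Agent.Helper28
open Cfsg.Spor.Suz (Gen)

noncomputable section

section
variable (IH : ∀ y q, lvl y q < 16 → EntryOK rels S fwd inv o plet idx y q)
include IH

theorem s0_f11116 : ed sl_at sq587 = s0_v1065 :=
  gap_rel s0_rot58 (path_edge (s0_f2740 IH) (path_edge (s0_f11105 IH) (path_edge (s0_f11111r IH) (path_nil s0_v1065))))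
theorem s0_f11117 : ed sl_ct sq584 = s0_v1065 :=
  gap_rel s0_rot110 (path_edge (s0_f10562 IH) (path_edge (s0_f1575 IH) (path_edge (s0_f5281 IH) (path_edge (s0_f6317 IH) (path_edge (s0_f6316 IH) (path_edge (s0_f4949 IH) (path_edge (s0_f4948 IH) (path_edge (s0_f3645 IH) (path_edge (s0_f3644 IH) (path_edge (s0_f3590 IH) (path_edge (s0_f3589 IH) (path_edge (s0_f2420 IH) (path_edge (s0_f3588 IH) (path_edge (s0_f2529 IH) (path_edge (s0_f11111r IH) (path_nil s0_v1065))))))))))))))))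
theorem s0_f11119 : ed sl_bt sq878 = sq1235 :=
  real_edge rels S fwd inv o lvl plet idx 16 IH Gen.b sp878 sp1235 rfl rfl
theorem s0_f11121 : ed sl_et sq862 = sq584 :=
  real_edge rels S fwd inv o lvl plet idx 16 IH Gen.e sp862 sp584 rfl rfl
theorem s0_f11126 : ed sl_et sq865 = sq587 :=
  real_edge rels S fwd inv o lvl plet idx 16 IH Gen.e sp865 sp587 rfl rfl
theorem s0_f11129 : ed sl_et sq584 = sq862 :=
  real_edge rels S fwd inv o lvl plet idx 16 IH Gen.e sp584 sp862 rfl rfl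
theorem s0_f11169 : ed sl_bt sq445 = sq299 :=
  real_edge rels S fwd inv o lvl plet idx 16 IH Gen.b sp445 sp299 rfl rfl
theorem s0_f11184 : ed sl_ft sq449 = sq443 :=
  real_edge rels S fwd inv o lvl plet idx 16 IH Gen.f sp449 sp443 rfl rfl
theorem s0_f11196 : ed sl_ft sq627 = sq429 :=
  real_edge rels S fwd inv o lvl plet idx 16 IH Gen.f sp627 sp429 rfl rfl
theorem s0_f11202 : ed sl_at sq970 = sq666 :=
  real_edge rels S fwd inv o lvl plet idx 16 IH Gen.a sp970 sp666 rfl rfl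
theorem s0_f11217 : ed sl_ft sq649 = sq948 :=
  real_edge rels S fwd inv o lvl plet idx 16 IH Gen.f sp649 sp948 rfl rfl
theorem s0_f11250 : ed sl_dt sq880 = sq1237 :=
  real_edge rels S fwd inv o lvl plet idx 16 IH Gen.d sp880 sp1237 rfl rfl
theorem s0_f11259 : ed sl_bt sq457 = s0_v1073 :=
  rfl
theorem s0_f11259r : ed sl_bf s0_v1073 = sq457 :=
  edge_flip (s0_f11259 IH)
theorem s0_f7320r : ed sl_df sq457 = sq305 :=
  edge_flip (s0_f7320 IH)
theorem s0_f11263 : ed sl_df s0_v492 = s0_v1073 :=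
  gap_rel s0_rot8 (path_edge (s0_f7308 IH) (path_edge (s0_f7320r IH) (path_edge (s0_f11259r IH) (path_nil s0_v1073))))
theorem s0_f11279 : ed sl_dt sq458 = sq671 :=
  real_edge rels S fwd inv o lvl plet idx 16 IH Gen.d sp458 sp671 rfl rfl
theorem s0_f11290 : ed sl_ct sq671 = sq978 :=
  real_edge rels S fwd inv o lvl plet idx 16 IH Gen.c sp671 sp978 rfl rfl
theorem s0_f11296 : ed sl_bt sq460 = sq679 :=
  real_edge rels S fwd inv o lvl plet idx 16 IH Gen.b sp460 sp679 rfl rfl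
theorem s0_f11298 : ed sl_gt sq460 = sq302 :=
  real_edge rels S fwd inv o lvl plet idx 16 IH Gen.g sp460 sp302 rfl rfl
theorem s0_f11302 : ed sl_bt sq462 = s0_v1075 :=
  rfl
theorem s0_f11302r : ed sl_bf s0_v1075 = sq462 :=
  edge_flip (s0_f11302 IH)
theorem s0_f11303 : ed sl_bf sq462 = s0_v1075 :=
  gap_rel s0_rot44 (path_edge (s0_f11302r IH) (path_nil s0_v1075))
theorem s0_f10949r : ed sl_ef sq462 = sq608 :=
  edge_flip (s0_f10949 IH)
theorem s0_f11305 : ed sl_ef s0_v1044 = s0_v1075 :=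
  gap_rel s0_rot46 (path_edge (s0_f10947 IH) (path_edge (s0_f10949r IH) (path_edge (s0_f11302r IH) (path_nil s0_v1075))))
theorem s0_f11305r : ed sl_et s0_v1075 = s0_v1044 :=
  edge_flip (s0_f11305 IH)
theorem s0_f10942r : ed sl_dt s0_v1044 = s0_v479 :=
  edge_flip (s0_f10942 IH)
theorem s0_f7185r : ed sl_et s0_v479 = s0_v181 :=
  edge_flip (s0_f7185 IH)
theorem s0_f11306 : ed sl_dt s0_v498 = s0_v1075 :=
  gap_rel s0_rot106 (path_edge (s0_f7378 IH) (path_eq (s0_f7006 IH).symm (path_edge (s0_f6936 IH) (path_edge (s0_f7185r IH) (path_edge (s0_f10942r IH) (path_edge (s0_f11305r IH) (path_nil s0_v1075)))))))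
theorem s0_f10896r : ed sl_et s0_v1040 = sq582 :=
  edge_flip (s0_f10896 IH)
theorem s0_f11309 : ed sl_gt sq582 = s0_v1075 :=
  gap_rel s0_rot21 (path_edge (s0_f10896r IH) (path_edge (s0_f10944r IH) (path_edge (s0_f11305r IH) (path_nil s0_v1075))))
theorem s0_f11309r : ed sl_gf s0_v1075 = sq582 :=
  edge_flip (s0_f11309 IH)
theorem s0_f11310 : ed sl_gf sq582 = s0_v1075 :=
  gap_rel s0_rot76 (path_edge (s0_f11309r IH) (path_nil s0_v1075))
theorem s0_f10545r : ed sl_gf sq393 = sq581 :=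
  edge_flip (s0_f10545 IH)
theorem s0_f11311 : ed sl_ff sq581 = s0_v1075 :=
  gap_rel s0_rot92 (path_edge (s0_f10545r IH) (path_edge (s0_f10539r IH) (path_edge (s0_f10546 IH) (path_edge (s0_f11309r IH) (path_nil s0_v1075)))))
theorem s0_f11313 : ed sl_ft sq462 = s0_v1076 :=
  rfl
theorem s0_f11313r : ed sl_ff s0_v1076 = sq462 :=
  edge_flip (s0_f11313 IH)
theorem s0_f11316 : ed sl_ff sq462 = s0_v1076 :=
  gap_rel s0_rot1 (path_edge (s0_f11313r IH) (path_nil s0_v1076))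
theorem s0_f11316r : ed sl_ft s0_v1076 = sq462 :=
  edge_flip (s0_f11316 IH)
theorem s0_f11317 : ed sl_at sq464 = s0_v1076 :=
  gap_rel s0_rot90 (path_edge (s0_f5095 IH) (path_edge (s0_f7358 IH) (path_edge (s0_f11316r IH) (path_nil s0_v1076))))
theorem s0_f11318 : ed sl_dt s0_v499 = s0_v1076 :=
  gap_rel s0_rot29 (path_edge (s0_f7396 IH) (path_edge (s0_f7033 IH) (path_edge (s0_f11316r IH) (path_nil s0_v1076))))
theorem s0_f11322 : ed sl_gt sq462 = s0_v1077 :=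
  rfl
theorem s0_f11322r : ed sl_gf s0_v1077 = sq462 :=
  edge_flip (s0_f11322 IH)
theorem s0_f5229r : ed sl_df sq462 = sq309 :=
  edge_flip (s0_f5229 IH)
theorem s0_f11324 : ed sl_df s0_v500 = s0_v1077 :=
  gap_rel s0_rot52 (path_edge (s0_f7406 IH) (path_edge (s0_f5229r IH) (path_edge (s0_f11322r IH) (path_nil s0_v1077))))
theorem s0_f11325 : ed sl_gf sq462 = s0_v1077 :=
  gap_rel s0_rot76 (path_edge (s0_f11322r IH) (path_nil s0_v1077))
theorem s0_f11325r : ed sl_gt s0_v1077 = sq462 :=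
  edge_flip (s0_f11325 IH)
theorem s0_f11327 : ed sl_dt s0_v500 = s0_v1077 :=
  gap_rel s0_rot91 (path_edge (s0_f7403 IH) (path_edge (s0_f7033 IH) (path_edge (s0_f11325r IH) (path_nil s0_v1077))))
theorem s0_f11328 : ed sl_at sq463 = sq684 :=
  real_edge rels S fwd inv o lvl plet idx 16 IH Gen.a sp463 sp684 rfl rfl
theorem s0_f11329 : ed sl_dt sq463 = s0_v1078 :=
  rfl
theorem s0_f11330 : ed sl_bt sq682 = sq463 :=
  real_edge rels S fwd inv o lvl plet idx 16 IH Gen.b sp682 sp463 rfl rfl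
theorem s0_f11329r : ed sl_df s0_v1078 = sq463 :=
  edge_flip (s0_f11329 IH)
theorem s0_f11330r : ed sl_bf sq463 = sq682 :=
  edge_flip (s0_f11330 IH)
theorem s0_f7447r : ed sl_df sq682 = sq992 :=
  edge_flip (s0_f7447 IH)
theorem s0_f11331 : ed sl_bf sq992 = s0_v1078 :=
  gap_rel s0_rot103 (path_edge (s0_f7447r IH) (path_edge (s0_f11330r IH) (path_edge (s0_f11329r IH) (path_nil s0_v1078))))
theorem s0_f11332 : ed sl_df sq463 = s0_v1078 :=
  gap_rel s0_rot54 (path_edge (s0_f11329r IH) (path_nil s0_v1078))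
theorem s0_f11338 : ed sl_at sq1340 = sq992 :=
  real_edge rels S fwd inv o lvl plet idx 16 IH Gen.a sp1340 sp992 rfl rfl
theorem s0_f11341 : ed sl_at sq992 = sq1340 :=
  real_edge rels S fwd inv o lvl plet idx 16 IH Gen.a sp992 sp1340 rfl rfl
theorem s0_f11342 : ed sl_ft sq992 = sq1342 :=
  real_edge rels S fwd inv o lvl plet idx 16 IH Gen.f sp992 sp1342 rfl rfl
theorem s0_f11343 : ed sl_gt sq992 = sq1336 :=
  real_edge rels S fwd inv o lvl plet idx 16 IH Gen.g sp992 sp1336 rfl rfl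
theorem s0_f11344 : ed sl_gt sq463 = s0_v1079 :=
  rfl
theorem s0_f11344r : ed sl_gf s0_v1079 = sq463 :=
  edge_flip (s0_f11344 IH)
theorem s0_f11348 : ed sl_gf sq463 = s0_v1079 :=
  gap_rel s0_rot76 (path_edge (s0_f11344r IH) (path_nil s0_v1079))
theorem s0_f11348r : ed sl_gt s0_v1079 = sq463 :=
  edge_flip (s0_f11348 IH)
theorem s0_f11351 : ed sl_ct s0_v496 = s0_v1079 :=
  gap_rel s0_rot39 (path_edge (s0_f7357 IH) (path_edge (s0_f7292 IH) (path_edge (s0_f11348r IH) (path_nil s0_v1079))))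
theorem s0_f11354 : ed sl_gt sq464 = s0_v1080 :=
  rfl
theorem s0_f11354r : ed sl_gf s0_v1080 = sq464 :=
  edge_flip (s0_f11354 IH)
theorem s0_f11357 : ed sl_ff s0_v1077 = s0_v1080 :=
  gap_rel s0_rot92 (path_edge (s0_f11325 IH) (path_edge (s0_f11313r IH) (path_edge (s0_f11317 IH) (path_edge (s0_f11354r IH) (path_nil s0_v1080)))))
theorem s0_f11357r : ed sl_ft s0_v1080 = s0_v1077 :=
  edge_flip (s0_f11357 IH)
theorem s0_f11324r : ed sl_dt s0_v1077 = s0_v500 :=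
  edge_flip (s0_f11324 IH)
theorem s0_f11358 : ed sl_dt s0_v503 = s0_v1080 :=
  gap_rel s0_rot29 (path_edge (s0_f7429 IH) (path_edge (s0_f11324r IH) (path_edge (s0_f11357r IH) (path_nil s0_v1080))))
theorem s0_f11359 : ed sl_ft s0_v1077 = s0_v1080 :=
  gap_rel s0_rot16 (path_edge (s0_f11357r IH) (path_nil s0_v1080))
theorem s0_f11360 : ed sl_at sq465 = s0_v1081 :=
  rfl
theorem s0_f11360r : ed sl_af s0_v1081 = sq465 :=
  edge_flip (s0_f11360 IH)
theorem s0_f11361 : ed sl_af sq465 = s0_v1081 :=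
  gap_rel s0_rot66 (path_edge (s0_f11360r IH) (path_nil s0_v1081))
theorem s0_f5216r : ed sl_cf sq465 = sq308 :=
  edge_flip (s0_f5216 IH)
theorem s0_f11362 : ed sl_cf s0_v497 = s0_v1081 :=
  gap_rel s0_rot74 (path_edge (s0_f7367 IH) (path_edge (s0_f5216r IH) (path_edge (s0_f11360r IH) (path_nil s0_v1081))))
theorem s0_f11364 : ed sl_ft sq465 = sq465 :=
  real_edge rels S fwd inv o lvl plet idx 16 IH Gen.f sp465 sp465 rfl rfl
theorem s0_f11364r : ed sl_ff sq465 = sq465 :=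
  edge_flip (s0_f11364 IH)
theorem s0_f11365 : ed sl_ff s0_v1081 = s0_v1081 :=
  gap_rel s0_rot11 (path_edge (s0_f11361 IH) (path_edge (s0_f11364r IH) (path_edge (s0_f11360r IH) (path_nil s0_v1081))))
theorem s0_f11367 : ed sl_gt sq465 = sq686 :=
  real_edge rels S fwd inv o lvl plet idx 16 IH Gen.g sp465 sp686 rfl rfl
theorem s0_f11365r : ed sl_ft s0_v1081 = s0_v1081 :=
  edge_flip (s0_f11365 IH)
theorem s0_f11362r : ed sl_ct s0_v1081 = s0_v497 :=
  edge_flip (s0_f11362 IH)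
theorem s0_f11368 : ed sl_ct s0_v497 = s0_v1081 :=
  gap_rel s0_rot42 (path_edge (s0_f7370r IH) (path_edge (s0_f11362r IH) (path_edge (s0_f11365r IH) (path_nil s0_v1081))))
theorem s0_f11371 : ed sl_bt sq465 = s0_v1082 :=
  rfl
theorem s0_f11371r : ed sl_bf s0_v1082 = sq465 :=
  edge_flip (s0_f11371 IH)
theorem s0_f11372 : ed sl_bf sq465 = s0_v1082 :=
  gap_rel s0_rot44 (path_edge (s0_f11371r IH) (path_nil s0_v1082))
theorem s0_f330r : ed sl_bf sq308 = sq195 :=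
  edge_flip (s0_f330 IH)
theorem s0_f7319r : ed sl_cf sq195 = sq305 :=
  edge_flip (s0_f7319 IH)
theorem s0_f11373 : ed sl_cf s0_v492 = s0_v1082 :=
  gap_rel s0_rot27 (path_edge (s0_f7308 IH) (path_edge (s0_f7319r IH) (path_edge (s0_f330r IH) (path_edge (s0_f5216r IH) (path_edge (s0_f11371r IH) (path_nil s0_v1082))))))
theorem s0_f11373r : ed sl_ct s0_v1082 = s0_v492 :=
  edge_flip (s0_f11373 IH)
theorem s0_f11374 : ed sl_ct s0_v492 = s0_v1082 :=
  gap_rel s0_rot59 (path_edge (s0_f11373r IH) (path_nil s0_v1082))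
theorem s0_f11375 : ed sl_dt sq465 = s0_v1083 :=
  rfl
theorem s0_f11378 : ed sl_dt sq782 = sq1116 :=
  real_edge rels S fwd inv o lvl plet idx 16 IH Gen.d sp782 sp1116 rfl rfl
theorem s0_f11379 : ed sl_ct sq1116 = sq1462 :=
  real_edge rels S fwd inv o lvl plet idx 16 IH Gen.c sp1116 sp1462 rfl rfl
theorem s0_f11390 : ed sl_dt sq467 = s0_v1085 :=
  rfl
theorem s0_f11390r : ed sl_df s0_v1085 = sq467 :=
  edge_flip (s0_f11390 IH)
theorem s0_f7019r : ed sl_af sq467 = sq310 :=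
  edge_flip (s0_f7019 IH)
theorem s0_f11391 : ed sl_af s0_v501 = s0_v1085 :=
  gap_rel s0_rot72 (path_edge (s0_f7410 IH) (path_edge (s0_f7019r IH) (path_edge (s0_f11390r IH) (path_nil s0_v1085))))
theorem s0_f11392 : ed sl_df sq467 = s0_v1085 :=
  gap_rel s0_rot54 (path_edge (s0_f11390r IH) (path_nil s0_v1085))
theorem s0_f11392r : ed sl_dt s0_v1085 = sq467 :=
  edge_flip (s0_f11392 IH)
theorem s0_f11393 : ed sl_at s0_v501 = s0_v1085 :=
  gap_rel s0_rot58 (path_edge (s0_f7409 IH) (path_edge (s0_f5470 IH) (path_edge (s0_f11392r IH) (path_nil s0_v1085))))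
theorem s0_f11402 : ed sl_gt sq467 = s0_v1087 :=
  rfl
theorem s0_f11402r : ed sl_gf s0_v1087 = sq467 :=
  edge_flip (s0_f11402 IH)
theorem s0_f11406 : ed sl_gf sq467 = s0_v1087 :=
  gap_rel s0_rot76 (path_edge (s0_f11402r IH) (path_nil s0_v1087))
theorem s0_f11406r : ed sl_gt s0_v1087 = sq467 :=
  edge_flip (s0_f11406 IH)
theorem s0_f11409 : ed sl_et s0_v508 = s0_v1087 :=
  gap_rel s0_rot49 (path_edge (s0_f7477 IH) (path_edge (s0_f7014 IH) (path_edge (s0_f11406r IH) (path_nil s0_v1087))))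
theorem s0_f11410 : ed sl_dt sq468 = s0_v1088 :=
  rfl
theorem s0_f11410r : ed sl_df s0_v1088 = sq468 :=
  edge_flip (s0_f11410 IH)
theorem s0_f11411 : ed sl_df sq468 = s0_v1088 :=
  gap_rel s0_rot54 (path_edge (s0_f11410r IH) (path_nil s0_v1088))
theorem s0_f5469r : ed sl_ff sq468 = sq310 :=
  edge_flip (s0_f5469 IH)
theorem s0_f11412 : ed sl_ff s0_v501 = s0_v1088 :=
  gap_rel s0_rot100 (path_edge (s0_f7410 IH) (path_edge (s0_f5469r IH) (path_edge (s0_f11410r IH) (path_nil s0_v1088))))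
theorem s0_f11412r : ed sl_ft s0_v1088 = s0_v501 :=
  edge_flip (s0_f11412 IH)
theorem s0_f11413 : ed sl_ft s0_v501 = s0_v1088 :=
  gap_rel s0_rot16 (path_edge (s0_f11412r IH) (path_nil s0_v1088))
theorem s0_f11522 : ed sl_at sq475 = s0_v1106 :=
  rfl
theorem s0_f11522r : ed sl_af s0_v1106 = sq475 :=
  edge_flip (s0_f11522 IH)
theorem s0_f11523 : ed sl_af sq475 = s0_v1106 :=
  gap_rel s0_rot66 (path_edge (s0_f11522r IH) (path_nil s0_v1106))
theorem s0_f11524 : ed sl_bt sq646 = sq475 :=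
  real_edge rels S fwd inv o lvl plet idx 16 IH Gen.b sp646 sp475 rfl rfl
theorem s0_f11526 : ed sl_et sq616 = sq475 :=
  real_edge rels S fwd inv o lvl plet idx 16 IH Gen.e sp616 sp475 rfl rfl
theorem s0_f11527 : ed sl_ft sq691 = sq475 :=
  real_edge rels S fwd inv o lvl plet idx 16 IH Gen.f sp691 sp475 rfl rfl
theorem s0_f11531 : ed sl_et sq475 = sq616 :=
  real_edge rels S fwd inv o lvl plet idx 16 IH Gen.e sp475 sp616 rfl rfl
theorem s0_f11532 : ed sl_ft sq475 = sq691 :=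
  real_edge rels S fwd inv o lvl plet idx 16 IH Gen.f sp475 sp691 rfl rfl
theorem s0_f11534 : ed sl_ft sq997 = sq693 :=
  real_edge rels S fwd inv o lvl plet idx 16 IH Gen.f sp997 sp693 rfl rfl
theorem s0_f11537 : ed sl_dt sq475 = s0_v1107 :=
  rfl
theorem s0_f11537r : ed sl_df s0_v1107 = sq475 :=
  edge_flip (s0_f11537 IH)
theorem s0_f11538 : ed sl_df sq475 = s0_v1107 :=
  gap_rel s0_rot54 (path_edge (s0_f11537r IH) (path_nil s0_v1107))
theorem s0_f11549 : ed sl_at sq476 = s0_v1109 :=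
  rfl
theorem s0_f11552 : ed sl_bt sq1345 = sq997 :=
  real_edge rels S fwd inv o lvl plet idx 16 IH Gen.b sp1345 sp997 rfl rfl
theorem s0_f11549r : ed sl_af s0_v1109 = sq476 :=
  edge_flip (s0_f11549 IH)
theorem s0_f7535r : ed sl_ff sq476 = sq319 :=
  edge_flip (s0_f7535 IH)
theorem s0_f11553 : ed sl_ff s0_v517 = s0_v1109 :=
  gap_rel s0_rot11 (path_edge (s0_f7530 IH) (path_edge (s0_f7535r IH) (path_edge (s0_f11549r IH) (path_nil s0_v1109))))
theorem s0_f11559 : ed sl_bt sq997 = sq1345 :=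
  real_edge rels S fwd inv o lvl plet idx 16 IH Gen.b sp997 sp1345 rfl rfl
theorem s0_f11560 : ed sl_gt sq476 = s0_v1110 :=
  rfl
theorem s0_f11560r : ed sl_gf s0_v1110 = sq476 :=
  edge_flip (s0_f11560 IH)
theorem s0_f11561 : ed sl_gf sq476 = s0_v1110 :=
  gap_rel s0_rot76 (path_edge (s0_f11560r IH) (path_nil s0_v1110))
theorem s0_f11595 : ed sl_ft sq481 = sq703 :=
  real_edge rels S fwd inv o lvl plet idx 16 IH Gen.f sp481 sp703 rfl rfl
theorem s0_f11600 : ed sl_ft sq703 = sq481 :=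
  real_edge rels S fwd inv o lvl plet idx 16 IH Gen.f sp703 sp481 rfl rfl
theorem s0_f11608 : ed sl_dt sq483 = s0_v1116 :=
  rfl
theorem s0_f11608r : ed sl_df s0_v1116 = sq483 :=
  edge_flip (s0_f11608 IH)
theorem s0_f11610 : ed sl_df sq483 = s0_v1116 :=
  gap_rel s0_rot54 (path_edge (s0_f11608r IH) (path_nil s0_v1116))
theorem s0_f11640 : ed sl_gt s0_v376 = s0_v1122 :=
  rfl
theorem s0_f11640r : ed sl_gf s0_v1122 = s0_v376 :=
  edge_flip (s0_f11640 IH)
theorem s0_f6141r : ed sl_at s0_v376 = sq208 :=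
  edge_flip (s0_f6141 IH)
theorem s0_f4124r : ed sl_ff sq208 = sq329 :=
  edge_flip (s0_f4124 IH)
theorem s0_f11644 : ed sl_ff s0_v926 = s0_v1122 :=
  gap_rel s0_rot92 (path_edge (s0_f9787 IH) (path_edge (s0_f4124r IH) (path_edge (s0_f6141r IH) (path_edge (s0_f11640r IH) (path_nil s0_v1122)))))
theorem s0_f11644r : ed sl_ft s0_v1122 = s0_v926 :=
  edge_flip (s0_f11644 IH)
theorem s0_f9786r : ed sl_dt s0_v926 = s0_v380 :=
  edge_flip (s0_f9786 IH)
theorem s0_f11645 : ed sl_dt s0_v524 = s0_v1122 :=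
  gap_rel s0_rot29 (path_edge (s0_f7623 IH) (path_edge (s0_f9786r IH) (path_edge (s0_f11644r IH) (path_nil s0_v1122))))
theorem s0_f11682 : ed sl_et s0_v382 = s0_v1130 :=
  rfl
theorem s0_f11682r : ed sl_ef s0_v1130 = s0_v382 :=
  edge_flip (s0_f11682 IH)
theorem s0_f6185r : ed sl_ff s0_v382 = s0_v142 :=
  edge_flip (s0_f6185 IH)
theorem s0_f11685 : ed sl_ff s0_v533 = s0_v1130 :=
  gap_rel s0_rot99 (path_edge (s0_f7661 IH) (path_edge (s0_f6185r IH) (path_edge (s0_f11682r IH) (path_nil s0_v1130))))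
theorem s0_f11685r : ed sl_ft s0_v1130 = s0_v533 :=
  edge_flip (s0_f11685 IH)
theorem s0_f7660r : ed sl_bt s0_v533 = s0_v161 :=
  edge_flip (s0_f7660 IH)
theorem s0_f4916r : ed sl_ft s0_v161 = s0_v72 :=
  edge_flip (s0_f4916 IH)
theorem s0_f11686 : ed sl_bt s0_v529 = s0_v1130 :=
  gap_rel s0_rot12 (path_edge (s0_f7650 IH) (path_edge (s0_f5323 IH) (path_edge (s0_f4916r IH) (path_edge (s0_f7660r IH) (path_edge (s0_f11685r IH) (path_nil s0_v1130))))))
theorem s0_f11692 : ed sl_bt s0_v383 = s0_v1132 :=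
  rfl
theorem s0_f11692r : ed sl_bf s0_v1132 = s0_v383 :=
  edge_flip (s0_f11692 IH)
theorem s0_f11693 : ed sl_bf s0_v383 = s0_v1132 :=
  gap_rel s0_rot44 (path_edge (s0_f11692r IH) (path_nil s0_v1132))
theorem s0_f11694 : ed sl_gf s0_v531 = s0_v1132 :=
  gap_rel s0_rot24 (path_edge (s0_f7656 IH) (path_edge (s0_f4657 IH) (path_edge (s0_f446r IH) (path_edge (s0_f6186r IH) (path_edge (s0_f11692r IH) (path_nil s0_v1132))))))
theorem s0_f11694r : ed sl_gt s0_v1132 = s0_v531 :=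
  edge_flip (s0_f11694 IH)
theorem s0_f11695 : ed sl_gt s0_v531 = s0_v1132 :=
  gap_rel s0_rot25 (path_edge (s0_f11694r IH) (path_nil s0_v1132))
theorem s0_f11765 : ed sl_ft sq1067 = sq738 :=
  real_edge rels S fwd inv o lvl plet idx 16 IH Gen.f sp1067 sp738 rfl rfl
theorem s0_f11780 : ed sl_at sq1065 = sq738 :=
  real_edge rels S fwd inv o lvl plet idx 16 IH Gen.a sp1065 sp738 rfl rfl
theorem s0_f11785 : ed sl_bt sq1065 = sq1416 :=
  real_edge rels S fwd inv o lvl plet idx 16 IH Gen.b sp1065 sp1416 rfl rfl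
theorem s0_f11812 : ed sl_dt s0_v395 = s0_v1154 :=
  rfl
theorem s0_f11812r : ed sl_df s0_v1154 = s0_v395 :=
  edge_flip (s0_f11812 IH)
theorem s0_f6266r : ed sl_gf s0_v395 = sq277 :=
  edge_flip (s0_f6266 IH)
theorem s0_f11814 : ed sl_gf s0_v468 = s0_v1154 :=
  gap_rel s0_rot45 (path_edge (s0_f7054 IH) (path_edge (s0_f6266r IH) (path_edge (s0_f11812r IH) (path_nil s0_v1154))))
theorem s0_f11814r : ed sl_gt s0_v1154 = s0_v468 :=
  edge_flip (s0_f11814 IH)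
theorem s0_f11815 : ed sl_gt s0_v468 = s0_v1154 :=
  gap_rel s0_rot25 (path_edge (s0_f11814r IH) (path_nil s0_v1154))
theorem s0_f11820 : ed sl_bt s0_v398 = s0_v1156 :=
  rfl
theorem s0_f11820r : ed sl_bf s0_v1156 = s0_v398 :=
  edge_flip (s0_f11820 IH)
theorem s0_f11821 : ed sl_bf s0_v398 = s0_v1156 :=
  gap_rel s0_rot44 (path_edge (s0_f11820r IH) (path_nil s0_v1156))
theorem s0_f4699r : ed sl_bf s0_v147 = s0_v82 :=
  edge_flip (s0_f4699 IH)
theorem s0_f11823 : ed sl_ff s0_v736 = s0_v1156 :=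
  gap_rel s0_rot70 (path_edge (s0_f8793 IH) (path_edge (s0_f5646 IH) (path_edge (s0_f4699r IH) (path_eq (s0_f4709 IH).symm (path_edge (s0_f6404r IH) (path_edge (s0_f11820r IH) (path_nil s0_v1156)))))))
theorem s0_f11823r : ed sl_ft s0_v1156 = s0_v736 :=
  edge_flip (s0_f11823 IH)
theorem s0_f11824 : ed sl_ct s0_v480 = s0_v1156 :=
  gap_rel s0_rot42 (path_edge (s0_f7198 IH) (path_edge (s0_f8794r IH) (path_edge (s0_f11823r IH) (path_nil s0_v1156))))
theorem s0_f11825 : ed sl_ft s0_v736 = s0_v1156 :=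
  gap_rel s0_rot16 (path_edge (s0_f11823r IH) (path_nil s0_v1156))
theorem s0_f11824r : ed sl_cf s0_v1156 = s0_v480 :=
  edge_flip (s0_f11824 IH)
theorem s0_f11826 : ed sl_af s0_v481 = s0_v1156 :=
  gap_rel s0_rot10 (path_edge (s0_f7201 IH) (path_edge (s0_f7194r IH) (path_edge (s0_f11824r IH) (path_nil s0_v1156))))
theorem s0_f11826r : ed sl_at s0_v1156 = s0_v481 :=
  edge_flip (s0_f11826 IH)
theorem s0_f11827 : ed sl_at s0_v481 = s0_v1156 :=
  gap_rel s0_rot83 (path_edge (s0_f11826r IH) (path_nil s0_v1156))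
theorem s0_f11856 : ed sl_gt s0_v400 = s0_v1161 :=
  rfl
theorem s0_f11856r : ed sl_gf s0_v1161 = s0_v400 :=
  edge_flip (s0_f11856 IH)
theorem s0_f11858 : ed sl_df s0_v401 = s0_v1161 :=
  gap_rel s0_rot52 (path_edge (s0_f6418 IH) (path_edge (s0_f6411r IH) (path_edge (s0_f11856r IH) (path_nil s0_v1161))))
theorem s0_f11868 : ed sl_dt s0_v402 = s0_v1164 :=
  rfl
theorem s0_f11868r : ed sl_df s0_v1164 = s0_v402 :=
  edge_flip (s0_f11868 IH)
theorem s0_f11871 : ed sl_ff s0_v1161 = s0_v1164 :=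
  gap_rel s0_rot100 (path_edge (s0_f11858 IH) (path_edge (s0_f6423r IH) (path_edge (s0_f11868r IH) (path_nil s0_v1164))))
theorem s0_f6428r : ed sl_cf s0_v402 = sq223 :=
  edge_flip (s0_f6428 IH)
theorem s0_f11873 : ed sl_cf s0_v540 = s0_v1164 :=
  gap_rel s0_rot63 (path_edge (s0_f7710 IH) (path_edge (s0_f5367 IH) (path_edge (s0_f5365 IH) (path_edge (s0_f4796r IH) (path_edge (s0_f6434r IH) (path_edge (s0_f6432 IH) (path_edge (s0_f6428r IH) (path_edge (s0_f11868r IH) (path_nil s0_v1164)))))))))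
theorem s0_f11873r : ed sl_ct s0_v1164 = s0_v540 :=
  edge_flip (s0_f11873 IH)
theorem s0_f7709r : ed sl_at s0_v540 = s0_v152 :=
  edge_flip (s0_f7709 IH)
theorem s0_f11874 : ed sl_at s0_v403 = s0_v1164 :=
  gap_rel s0_rot64 (path_edge (s0_f6434 IH) (path_edge (s0_f7709r IH) (path_edge (s0_f11873r IH) (path_nil s0_v1164))))
theorem s0_f11942 : ed sl_dt s0_v411 = s0_v1178 :=
  rfl
theorem s0_f11942r : ed sl_df s0_v1178 = s0_v411 :=
  edge_flip (s0_f11942 IH)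
theorem s0_f11944 : ed sl_df s0_v411 = s0_v1178 :=
  gap_rel s0_rot54 (path_edge (s0_f11942r IH) (path_nil s0_v1178))
theorem s0_f11944r : ed sl_dt s0_v1178 = s0_v411 :=
  edge_flip (s0_f11944 IH)
theorem s0_f6507r : ed sl_bt s0_v411 = s0_v222 :=
  edge_flip (s0_f6507 IH)
theorem s0_f11945 : ed sl_bt s0_v655 = s0_v1178 :=
  gap_rel s0_rot69 (path_edge (s0_f8305 IH) (path_edge (s0_f6507r IH) (path_edge (s0_f11944r IH) (path_nil s0_v1178))))
theorem s0_f11964 : ed sl_at s0_v416 = s0_v1183 :=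
  rfl
theorem s0_f11964r : ed sl_af s0_v1183 = s0_v416 :=
  edge_flip (s0_f11964 IH)
theorem s0_f6578r : ed sl_gf s0_v416 = s0_v157 :=
  edge_flip (s0_f6578 IH)
theorem s0_f11967 : ed sl_gf s0_v550 = s0_v1183 :=
  gap_rel s0_rot47 (path_edge (s0_f7751 IH) (path_edge (s0_f6578r IH) (path_edge (s0_f11964r IH) (path_nil s0_v1183))))
theorem s0_f11967r : ed sl_gt s0_v1183 = s0_v550 :=
  edge_flip (s0_f11967 IH)
theorem s0_f11968 : ed sl_et s0_v540 = s0_v1183 :=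
  gap_rel s0_rot49 (path_edge (s0_f7713 IH) (path_edge (s0_f7752r IH) (path_edge (s0_f11967r IH) (path_nil s0_v1183))))
theorem s0_f11969 : ed sl_gt s0_v550 = s0_v1183 :=
  gap_rel s0_rot25 (path_edge (s0_f11967r IH) (path_nil s0_v1183))
theorem s0_f12010 : ed sl_at s0_v421 = s0_v1193 :=
  rfl
theorem s0_f12044 : ed sl_bt s0_v423 = s0_v1200 :=
  rfl
theorem s0_f12044r : ed sl_bf s0_v1200 = s0_v423 :=
  edge_flip (s0_f12044 IH)
theorem s0_f12045 : ed sl_bf s0_v423 = s0_v1200 :=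
  gap_rel s0_rot44 (path_edge (s0_f12044r IH) (path_nil s0_v1200))
theorem s0_f2070r : ed sl_bf sq238 = sq151 :=
  edge_flip (s0_f2070 IH)
theorem s0_f6653r : ed sl_gf sq151 = sq239 :=
  edge_flip (s0_f6653 IH)
theorem s0_f12047 : ed sl_gf s0_v424 = s0_v1200 :=
  gap_rel s0_rot24 (path_edge (s0_f6664 IH) (path_edge (s0_f6653r IH) (path_edge (s0_f2070r IH) (path_edge (s0_f6650r IH) (path_edge (s0_f12044r IH) (path_nil s0_v1200))))))
theorem s0_f12047r : ed sl_gt s0_v1200 = s0_v424 :=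
  edge_flip (s0_f12047 IH)
theorem s0_f12049 : ed sl_gt s0_v424 = s0_v1200 :=
  gap_rel s0_rot25 (path_edge (s0_f12047r IH) (path_nil s0_v1200))
theorem s0_f12210 : ed sl_bt s0_v442 = s0_v1234 :=
  rfl
theorem s0_f12210r : ed sl_bf s0_v1234 = s0_v442 :=
  edge_flip (s0_f12210 IH)
theorem s0_f12212 : ed sl_bf s0_v442 = s0_v1234 :=
  gap_rel s0_rot44 (path_edge (s0_f12210r IH) (path_nil s0_v1234))
theorem s0_f12212r : ed sl_bt s0_v1234 = s0_v442 :=
  edge_flip (s0_f12212 IH)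
theorem s0_f6815r : ed sl_at s0_v442 = sq255 :=
  edge_flip (s0_f6815 IH)
theorem s0_f12213 : ed sl_at s0_v710 = s0_v1234 :=
  gap_rel s0_rot82 (path_edge (s0_f8670 IH) (path_edge (s0_f5575 IH) (path_edge (s0_f4377 IH) (path_edge (s0_f3678 IH) (path_edge (s0_f2165 IH) (path_edge (s0_f1779 IH) (path_edge (s0_f2083 IH) (path_edge (s0_f6815r IH) (path_edge (s0_f12212r IH) (path_nil s0_v1234))))))))))
theorem s0_f12222 : ed sl_ft s0_v442 = s0_v1237 :=
  rfl
theorem s0_f12222r : ed sl_ff s0_v1237 = s0_v442 :=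
  edge_flip (s0_f12222 IH)
theorem s0_f12224 : ed sl_ff s0_v442 = s0_v1237 :=
  gap_rel s0_rot1 (path_edge (s0_f12222r IH) (path_nil s0_v1237))
theorem s0_f12224r : ed sl_ft s0_v1237 = s0_v442 :=
  edge_flip (s0_f12224 IH)
theorem s0_f12225 : ed sl_at s0_v445 = s0_v1237 :=
  gap_rel s0_rot90 (path_edge (s0_f6822 IH) (path_edge (s0_f6815r IH) (path_edge (s0_f12224r IH) (path_nil s0_v1237))))
theorem s0_f12226 : ed sl_gt s0_v442 = s0_v1238 :=
  rfl
theorem s0_f12226r : ed sl_gf s0_v1238 = s0_v442 :=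
  edge_flip (s0_f12226 IH)
theorem s0_f12228 : ed sl_gf s0_v442 = s0_v1238 :=
  gap_rel s0_rot76 (path_edge (s0_f12226r IH) (path_nil s0_v1238))
theorem s0_f12250 : ed sl_gt s0_v445 = s0_v1245 :=
  rfl
theorem s0_f12250r : ed sl_gf s0_v1245 = s0_v445 :=
  edge_flip (s0_f12250 IH)
theorem s0_f12251 : ed sl_gf s0_v445 = s0_v1245 :=
  gap_rel s0_rot76 (path_edge (s0_f12250r IH) (path_nil s0_v1245))
theorem s0_f12252 : ed sl_ff s0_v1238 = s0_v1245 :=
  gap_rel s0_rot92 (path_edge (s0_f12228 IH) (path_edge (s0_f12222r IH) (path_edge (s0_f12225 IH) (path_edge (s0_f12250r IH) (path_nil s0_v1245)))))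
theorem s0_f12252r : ed sl_ft s0_v1245 = s0_v1238 :=
  edge_flip (s0_f12252 IH)
theorem s0_f12253 : ed sl_ft s0_v1238 = s0_v1245 :=
  gap_rel s0_rot16 (path_edge (s0_f12252r IH) (path_nil s0_v1245))
theorem s0_f12254 : ed sl_bt s0_v446 = s0_v1246 :=
  rfl
theorem s0_f12254r : ed sl_bf s0_v1246 = s0_v446 :=
  edge_flip (s0_f12254 IH)
theorem s0_f6824r : ed sl_gf s0_v446 = sq255 :=
  edge_flip (s0_f6824 IH)
theorem s0_f2250r : ed sl_bf sq255 = sq165 :=
  edge_flip (s0_f2250 IH)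
theorem s0_f12256 : ed sl_gf s0_v560 = s0_v1246 :=
  gap_rel s0_rot24 (path_edge (s0_f7795 IH) (path_edge (s0_f4984 IH) (path_edge (s0_f2250r IH) (path_edge (s0_f6824r IH) (path_edge (s0_f12254r IH) (path_nil s0_v1246))))))
theorem s0_f12258 : ed sl_ft s0_v446 = s0_v1247 :=
  rfl
theorem s0_f12258r : ed sl_ff s0_v1247 = s0_v446 :=
  edge_flip (s0_f12258 IH)
theorem s0_f12260 : ed sl_ff s0_v446 = s0_v1247 :=
  gap_rel s0_rot1 (path_edge (s0_f12258r IH) (path_nil s0_v1247))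
theorem s0_f12253r : ed sl_ff s0_v1245 = s0_v1238 :=
  edge_flip (s0_f12253 IH)
theorem s0_f12261 : ed sl_gf s0_v1237 = s0_v1247 :=
  gap_rel s0_rot19 (path_edge (s0_f12224 IH) (path_edge (s0_f12226r IH) (path_edge (s0_f12253r IH) (path_edge (s0_f12251 IH) (path_edge (s0_f6823 IH) (path_edge (s0_f6824r IH) (path_edge (s0_f12258r IH) (path_nil s0_v1247))))))))
theorem s0_f12261r : ed sl_gt s0_v1247 = s0_v1237 :=
  edge_flip (s0_f12261 IH)
theorem s0_f12263 : ed sl_gt s0_v1237 = s0_v1247 :=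
  gap_rel s0_rot25 (path_edge (s0_f12261r IH) (path_nil s0_v1247))
theorem s0_f12306 : ed sl_bt s0_v451 = s0_v1260 :=
  rfl
theorem s0_f12306r : ed sl_bf s0_v1260 = s0_v451 :=
  edge_flip (s0_f12306 IH)
theorem s0_f12307 : ed sl_bf s0_v451 = s0_v1260 :=
  gap_rel s0_rot44 (path_edge (s0_f12306r IH) (path_nil s0_v1260))
theorem s0_f10478r : ed sl_bf s0_v1004 = s0_v485 :=
  edge_flip (s0_f10478 IH)
theorem s0_f7219r : ed sl_cf s0_v485 = s0_v178 :=
  edge_flip (s0_f7219 IH)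
theorem s0_f12308 : ed sl_cf s0_v581 = s0_v1260 :=
  gap_rel s0_rot27 (path_edge (s0_f7915 IH) (path_edge (s0_f7219r IH) (path_edge (s0_f10478r IH) (path_edge (s0_f10473 IH) (path_edge (s0_f12306r IH) (path_nil s0_v1260))))))
theorem s0_f12349 : ed sl_ft s0_v457 = s0_v1268 :=
  rfl
theorem s0_f12349r : ed sl_ff s0_v1268 = s0_v457 :=
  edge_flip (s0_f12349 IH)
theorem s0_f2325r : ed sl_ff sq263 = sq272 :=
  edge_flip (s0_f2325 IH)
theorem s0_f2283r : ed sl_bf sq272 = sq409 :=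
  edge_flip (s0_f2283 IH)
theorem s0_f12350 : ed sl_bf sq610 = s0_v1268 :=
  gap_rel s0_rot104 (path_edge (s0_f2300r IH) (path_edge (s0_f2283r IH) (path_edge (s0_f2325r IH) (path_edge (s0_f6882r IH) (path_edge (s0_f12349r IH) (path_nil s0_v1268))))))
theorem s0_f12353 : ed sl_ff s0_v457 = s0_v1268 :=
  gap_rel s0_rot1 (path_edge (s0_f12349r IH) (path_nil s0_v1268))
theorem s0_f12353r : ed sl_ft s0_v1268 = s0_v457 :=
  edge_flip (s0_f12353 IH)
theorem s0_f6884r : ed sl_dt s0_v457 = s0_v172 :=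
  edge_flip (s0_f6884 IH)
theorem s0_f12355 : ed sl_dt s0_v571 = s0_v1268 :=
  gap_rel s0_rot29 (path_edge (s0_f7848 IH) (path_edge (s0_f6884r IH) (path_edge (s0_f12353r IH) (path_nil s0_v1268))))
theorem s0_f12394 : ed sl_dt s0_v465 = s0_v1274 :=
  rfl
theorem s0_f12398 : ed sl_ft s0_v465 = s0_v1275 :=
  rfl
theorem s0_f12398r : ed sl_ff s0_v1275 = s0_v465 :=
  edge_flip (s0_f12398 IH)
theorem s0_f12400 : ed sl_cf s0_v466 = s0_v1275 :=
  gap_rel s0_rot65 (path_edge (s0_f6999 IH) (path_edge (s0_f6991r IH) (path_edge (s0_f12398r IH) (path_nil s0_v1275))))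
theorem s0_f12401 : ed sl_ff s0_v465 = s0_v1275 :=
  gap_rel s0_rot1 (path_edge (s0_f12398r IH) (path_nil s0_v1275))
theorem s0_f12401r : ed sl_ft s0_v1275 = s0_v465 :=
  edge_flip (s0_f12401 IH)
theorem s0_f6992r : ed sl_at s0_v465 = sq277 :=
  edge_flip (s0_f6992 IH)
theorem s0_f12405 : ed sl_at s0_v469 = s0_v1275 :=
  gap_rel s0_rot90 (path_edge (s0_f7063 IH) (path_edge (s0_f6992r IH) (path_edge (s0_f12401r IH) (path_nil s0_v1275))))
theorem s0_f12432 : ed sl_bt s0_v469 = s0_v1283 :=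
  rfl
theorem s0_f12432r : ed sl_bf s0_v1283 = s0_v469 :=
  edge_flip (s0_f12432 IH)
theorem s0_f12433 : ed sl_bf s0_v469 = s0_v1283 :=
  gap_rel s0_rot44 (path_edge (s0_f12432r IH) (path_nil s0_v1283))
theorem s0_f12453 : ed sl_gt s0_v471 = s0_v1288 :=
  rfl
theorem s0_f12453r : ed sl_gf s0_v1288 = s0_v471 :=
  edge_flip (s0_f12453 IH)
theorem s0_f7017r : ed sl_gf sq278 = sq416 :=
  edge_flip (s0_f7017 IH)
theorem s0_f12454 : ed sl_bf s0_v508 = s0_v1288 :=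
  gap_rel s0_rot75 (path_edge (s0_f7480 IH) (path_edge (s0_f7007 IH) (path_edge (s0_f7017r IH) (path_edge (s0_f7074r IH) (path_edge (s0_f12453r IH) (path_nil s0_v1288))))))
theorem s0_f12471 : ed sl_bt s0_v475 = s0_v1291 :=
  rfl
theorem s0_f12471r : ed sl_bf s0_v1291 = s0_v475 :=
  edge_flip (s0_f12471 IH)
theorem s0_f12472 : ed sl_bf s0_v475 = s0_v1291 :=
  gap_rel s0_rot44 (path_edge (s0_f12471r IH) (path_nil s0_v1291))
theorem s0_f7149r : ed sl_ef s0_v475 = s0_v178 :=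
  edge_flip (s0_f7149 IH)
theorem s0_f12473 : ed sl_ef s0_v581 = s0_v1291 :=
  gap_rel s0_rot46 (path_edge (s0_f7915 IH) (path_edge (s0_f7149r IH) (path_edge (s0_f12471r IH) (path_nil s0_v1291))))
theorem s0_f12473r : ed sl_et s0_v1291 = s0_v581 :=
  edge_flip (s0_f12473 IH)
theorem s0_f12474 : ed sl_et s0_v581 = s0_v1291 :=
  gap_rel s0_rot31 (path_edge (s0_f12473r IH) (path_nil s0_v1291))
theorem s0_f12482 : ed sl_ft s0_v477 = s0_v1294 :=
  rfl
theorem s0_f12482r : ed sl_ff s0_v1294 = s0_v477 :=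
  edge_flip (s0_f12482 IH)
theorem s0_f12484 : ed sl_ff s0_v477 = s0_v1294 :=
  gap_rel s0_rot1 (path_edge (s0_f12482r IH) (path_nil s0_v1294))
theorem s0_f12484r : ed sl_ft s0_v1294 = s0_v477 :=
  edge_flip (s0_f12484 IH)
theorem s0_f12485 : ed sl_dt s0_v478 = s0_v1294 :=
  gap_rel s0_rot29 (path_edge (s0_f7177 IH) (path_edge (s0_f7163r IH) (path_edge (s0_f12484r IH) (path_nil s0_v1294))))
theorem s0_f12504 : ed sl_bt s0_v481 = s0_v1297 :=
  rfl
theorem s0_f12504r : ed sl_bf s0_v1297 = s0_v481 :=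
  edge_flip (s0_f12504 IH)
theorem s0_f12505 : ed sl_bf s0_v481 = s0_v1297 :=
  gap_rel s0_rot44 (path_edge (s0_f12504r IH) (path_nil s0_v1297))
theorem s0_f12506 : ed sl_cf s0_v484 = s0_v1297 :=
  gap_rel s0_rot27 (path_edge (s0_f7211 IH) (path_edge (s0_f5046r IH) (path_edge (s0_f3870r IH) (path_edge (s0_f7200r IH) (path_edge (s0_f12504r IH) (path_nil s0_v1297))))))
theorem s0_f12506r : ed sl_ct s0_v1297 = s0_v484 :=
  edge_flip (s0_f12506 IH)
theorem s0_f7211r : ed sl_bt s0_v484 = sq292 :=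
  edge_flip (s0_f7211 IH)
theorem s0_f5143r : ed sl_ct s0_v180 = s0_v64 :=
  edge_flip (s0_f5143 IH)
theorem s0_f4250r : ed sl_bt s0_v64 = s0_v33 :=
  edge_flip (s0_f4250 IH)
theorem s0_f5629r : ed sl_bt s0_v110 = s0_v134 :=
  edge_flip (s0_f5629 IH)
theorem s0_f4625r : ed sl_at s0_v134 = s0_v43 :=
  edge_flip (s0_f4625 IH)
theorem s0_f4629r : ed sl_ct s0_v135 = s0_v108 :=
  edge_flip (s0_f4629 IH)
theorem s0_f5577r : ed sl_ct s0_v252 = s0_v252 :=
  edge_flip (s0_f5577 IH)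
theorem s0_f12508 : ed sl_ft s0_v1234 = s0_v1297 :=
  gap_rel s0_rot122 (path_edge (s0_f12213 IH) (path_edge (s0_f8670 IH) (path_edge (s0_f5577r IH) (path_edge (s0_f8674r IH) (path_edge (s0_f8675 IH) (path_edge (s0_f5581 IH) (path_edge (s0_f4629r IH) (path_edge (s0_f4628 IH) (path_edge (s0_f4625r IH) (path_edge (s0_f5629r IH) (path_edge (s0_f4529 IH) (path_edge (s0_f4535r IH) (path_edge (s0_f4536 IH) (path_edge (s0_f4250r IH) (path_edge (s0_f5143r IH) (path_edge (s0_f5142 IH) (path_edge (s0_f5122 IH) (path_edge (s0_f7211r IH) (path_edge (s0_f12506r IH) (path_nil s0_v1297))))))))))))))))))))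
theorem s0_f12532 : ed sl_ft s0_v481 = s0_v1299 :=
  rfl
theorem s0_f12532r : ed sl_ff s0_v1299 = s0_v481 :=
  edge_flip (s0_f12532 IH)
theorem s0_f12508r : ed sl_ff s0_v1297 = s0_v1234 :=
  edge_flip (s0_f12508 IH)
theorem s0_f12534 : ed sl_bf s0_v1237 = s0_v1299 :=
  gap_rel s0_rot104 (path_edge (s0_f12224 IH) (path_edge (s0_f12210r IH) (path_edge (s0_f12508r IH) (path_edge (s0_f12505 IH) (path_edge (s0_f12532r IH) (path_nil s0_v1299))))))
theorem s0_f12536 : ed sl_ff s0_v481 = s0_v1299 :=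
  gap_rel s0_rot1 (path_edge (s0_f12532r IH) (path_nil s0_v1299))
theorem s0_f12536r : ed sl_ft s0_v1299 = s0_v481 :=
  edge_flip (s0_f12536 IH)
theorem s0_f12537 : ed sl_at s0_v736 = s0_v1299 :=
  gap_rel s0_rot90 (path_edge (s0_f11823r IH) (path_edge (s0_f11827 IH) (path_edge (s0_f12536r IH) (path_nil s0_v1299))))
theorem s0_f12542 : ed sl_gt s0_v481 = s0_v1300 :=
  rfl
theorem s0_f12542r : ed sl_gf s0_v1300 = s0_v481 :=
  edge_flip (s0_f12542 IH)
theorem s0_f12544 : ed sl_gf s0_v481 = s0_v1300 :=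
  gap_rel s0_rot76 (path_edge (s0_f12542r IH) (path_nil s0_v1300))
theorem s0_f12544r : ed sl_gt s0_v1300 = s0_v481 :=
  edge_flip (s0_f12544 IH)
theorem s0_f7201r : ed sl_ct s0_v481 = sq291 :=
  edge_flip (s0_f7201 IH)
theorem s0_f12545 : ed sl_ct s0_v483 = s0_v1300 :=
  gap_rel s0_rot39 (path_edge (s0_f7208 IH) (path_edge (s0_f7201r IH) (path_edge (s0_f12544r IH) (path_nil s0_v1300))))
theorem s0_f12633 : ed sl_bt s0_v495 = s0_v1318 :=
  rfl
theorem s0_f12633r : ed sl_bf s0_v1318 = s0_v495 :=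
  edge_flip (s0_f12633 IH)
theorem s0_f7352r : ed sl_ef s0_v495 = sq504 :=
  edge_flip (s0_f7352 IH)
theorem s0_f7353r : ed sl_bf sq504 = sq738 :=
  edge_flip (s0_f7353 IH)
theorem s0_f12635 : ed sl_ef sq738 = s0_v1318 :=
  gap_rel s0_rot46 (path_edge (s0_f7353r IH) (path_edge (s0_f7352r IH) (path_edge (s0_f12633r IH) (path_nil s0_v1318))))
theorem s0_f12635r : ed sl_et s0_v1318 = sq738 :=
  edge_flip (s0_f12635 IH)
theorem s0_f12636 : ed sl_et sq738 = s0_v1318 :=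
  gap_rel s0_rot31 (path_edge (s0_f12635r IH) (path_nil s0_v1318))
theorem s0_f12646 : ed sl_bt s0_v497 = s0_v1320 :=
  rfl
theorem s0_f12646r : ed sl_bf s0_v1320 = s0_v497 :=
  edge_flip (s0_f12646 IH)
theorem s0_f12647 : ed sl_bf s0_v497 = s0_v1320 :=
  gap_rel s0_rot44 (path_edge (s0_f12646r IH) (path_nil s0_v1320))
theorem s0_f7371r : ed sl_df s0_v497 = s0_v185 :=
  edge_flip (s0_f7371 IH)
theorem s0_f12648 : ed sl_df s0_v587 = s0_v1320 :=
  gap_rel s0_rot8 (path_edge (s0_f7946 IH) (path_edge (s0_f7371r IH) (path_edge (s0_f12646r IH) (path_nil s0_v1320))))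
theorem s0_f12648r : ed sl_dt s0_v1320 = s0_v587 :=
  edge_flip (s0_f12648 IH)
theorem s0_f12650 : ed sl_ft s0_v672 = s0_v1320 :=
  gap_rel s0_rot14 (path_edge (s0_f8392 IH) (path_edge (s0_f8398r IH) (path_eq (s0_f8585 IH).symm (path_edge (s0_f12648r IH) (path_nil s0_v1320)))))
theorem s0_f12652 : ed sl_bt s0_v500 = s0_v1321 :=
  rfl
theorem s0_f12652r : ed sl_bf s0_v1321 = s0_v500 :=
  edge_flip (s0_f12652 IH)
theorem s0_f12653 : ed sl_bf s0_v500 = s0_v1321 :=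
  gap_rel s0_rot44 (path_edge (s0_f12652r IH) (path_nil s0_v1321))
theorem s0_f7380r : ed sl_gf s0_v498 = sq395 :=
  edge_flip (s0_f7380 IH)
theorem s0_f12655 : ed sl_gf s0_v958 = s0_v1321 :=
  gap_rel s0_rot24 (path_edge (s0_f10079 IH) (path_edge (s0_f7380r IH) (path_edge (s0_f7374 IH) (path_edge (s0_f7403r IH) (path_edge (s0_f12652r IH) (path_nil s0_v1321))))))
theorem s0_f12655r : ed sl_gt s0_v1321 = s0_v958 :=
  edge_flip (s0_f12655 IH)
theorem s0_f10080r : ed sl_ct s0_v958 = sq351 :=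
  edge_flip (s0_f10080 IH)
theorem s0_f12656 : ed sl_ct s0_v959 = s0_v1321 :=
  gap_rel s0_rot39 (path_edge (s0_f10091 IH) (path_edge (s0_f10080r IH) (path_edge (s0_f12655r IH) (path_nil s0_v1321))))
theorem s0_f12669 : ed sl_gt s0_v501 = s0_v1324 :=
  rfl
theorem s0_f12669r : ed sl_gf s0_v1324 = s0_v501 :=
  edge_flip (s0_f12669 IH)
theorem s0_f12671 : ed sl_gf s0_v501 = s0_v1324 :=
  gap_rel s0_rot76 (path_edge (s0_f12669r IH) (path_nil s0_v1324))
theorem s0_f12671r : ed sl_gt s0_v1324 = s0_v501 :=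
  edge_flip (s0_f12671 IH)
theorem s0_f7410r : ed sl_dt s0_v501 = sq310 :=
  edge_flip (s0_f7410 IH)
theorem s0_f12672 : ed sl_dt s0_v502 = s0_v1324 :=
  gap_rel s0_rot91 (path_edge (s0_f7418 IH) (path_edge (s0_f7410r IH) (path_edge (s0_f12671r IH) (path_nil s0_v1324))))
theorem s0_f12696 : ed sl_dt s0_v504 = s0_v1328 :=
  rfl
theorem s0_f12696r : ed sl_df s0_v1328 = s0_v504 :=
  edge_flip (s0_f12696 IH)
theorem s0_f8587r : ed sl_bf s0_v504 = sq468 :=
  edge_flip (s0_f8587 IH)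
theorem s0_f12698 : ed sl_bf s0_v1088 = s0_v1328 :=
  gap_rel s0_rot103 (path_edge (s0_f11411 IH) (path_edge (s0_f8587r IH) (path_edge (s0_f12696r IH) (path_nil s0_v1328))))
theorem s0_f12762 : ed sl_gt s0_v517 = s0_v1342 :=
  rfl
theorem s0_f12762r : ed sl_gf s0_v1342 = s0_v517 :=
  edge_flip (s0_f12762 IH)
theorem s0_f7530r : ed sl_at s0_v517 = sq319 :=
  edge_flip (s0_f7530 IH)
theorem s0_f7532r : ed sl_ff sq319 = sq476 :=
  edge_flip (s0_f7532 IH)
theorem s0_f12765 : ed sl_ff s0_v1110 = s0_v1342 :=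
  gap_rel s0_rot92 (path_edge (s0_f11561 IH) (path_edge (s0_f7532r IH) (path_edge (s0_f7530r IH) (path_edge (s0_f12762r IH) (path_nil s0_v1342)))))
theorem s0_f12768 : ed sl_ft s0_v518 = s0_v1343 :=
  rfl
theorem s0_f12768r : ed sl_ff s0_v1343 = s0_v518 :=
  edge_flip (s0_f12768 IH)
theorem s0_f7538r : ed sl_gf s0_v518 = sq319 :=
  edge_flip (s0_f7538 IH)
theorem s0_f12771 : ed sl_gf s0_v1109 = s0_v1343 :=
  gap_rel s0_rot19 (path_edge (s0_f11553 IH) (path_edge (s0_f12762r IH) (path_edge (s0_f12765 IH) (path_edge (s0_f11561 IH) (path_edge (s0_f7532r IH) (path_edge (s0_f7538r IH) (path_edge (s0_f12768r IH) (path_nil s0_v1343))))))))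
theorem s0_f12771r : ed sl_gt s0_v1343 = s0_v1109 :=
  edge_flip (s0_f12771 IH)
theorem s0_f12773 : ed sl_gt s0_v1109 = s0_v1343 :=
  gap_rel s0_rot25 (path_edge (s0_f12771r IH) (path_nil s0_v1343))
theorem s0_f12774 : ed sl_at s0_v520 = s0_v1344 :=
  rfl
theorem s0_f12774r : ed sl_af s0_v1344 = s0_v520 :=
  edge_flip (s0_f12774 IH)
theorem s0_f12775 : ed sl_af s0_v520 = s0_v1344 :=
  gap_rel s0_rot66 (path_edge (s0_f12774r IH) (path_nil s0_v1344))
theorem s0_f12780 : ed sl_gt s0_v520 = s0_v1346 :=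
  rfl
theorem s0_f12780r : ed sl_gf s0_v1346 = s0_v520 :=
  edge_flip (s0_f12780 IH)
theorem s0_f12782 : ed sl_gf s0_v520 = s0_v1346 :=
  gap_rel s0_rot76 (path_edge (s0_f12780r IH) (path_nil s0_v1346))
theorem s0_f12782r : ed sl_gt s0_v1346 = s0_v520 :=
  edge_flip (s0_f12782 IH)
theorem s0_f7579r : ed sl_bt s0_v520 = sq324 :=
  edge_flip (s0_f7579 IH)
theorem s0_f12783 : ed sl_bt sq695 = s0_v1346 :=
  gap_rel s0_rot26 (path_edge (s0_f7592 IH) (path_edge (s0_f7546 IH) (path_edge (s0_f7543 IH) (path_edge (s0_f7579r IH) (path_edge (s0_f12782r IH) (path_nil s0_v1346))))))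
theorem s0_f12804 : ed sl_gt s0_v523 = s0_v1351 :=
  rfl
theorem s0_f12804r : ed sl_gf s0_v1351 = s0_v523 :=
  edge_flip (s0_f12804 IH)
theorem s0_f12808 : ed sl_gf s0_v523 = s0_v1351 :=
  gap_rel s0_rot76 (path_edge (s0_f12804r IH) (path_nil s0_v1351))
theorem s0_f12808r : ed sl_gt s0_v1351 = s0_v523 :=
  edge_flip (s0_f12808 IH)
theorem s0_f7609r : ed sl_et s0_v523 = s0_v196 :=
  edge_flip (s0_f7609 IH)
theorem s0_f12811 : ed sl_et s0_v603 = s0_v1351 :=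
  gap_rel s0_rot49 (path_edge (s0_f8021 IH) (path_edge (s0_f7609r IH) (path_edge (s0_f12808r IH) (path_nil s0_v1351))))
theorem s0_f12812 : ed sl_bt s0_v524 = s0_v1352 :=
  rfl
theorem s0_f12812r : ed sl_bf s0_v1352 = s0_v524 :=
  edge_flip (s0_f12812 IH)
theorem s0_f12813 : ed sl_bf s0_v524 = s0_v1352 :=
  gap_rel s0_rot44 (path_edge (s0_f12812r IH) (path_nil s0_v1352))
theorem s0_f7622r : ed sl_ef s0_v524 = s0_v198 :=
  edge_flip (s0_f7622 IH)
theorem s0_f12814 : ed sl_ef s0_v606 = s0_v1352 :=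
  gap_rel s0_rot46 (path_edge (s0_f8040 IH) (path_edge (s0_f7622r IH) (path_edge (s0_f12812r IH) (path_nil s0_v1352))))
theorem s0_f12814r : ed sl_et s0_v1352 = s0_v606 :=
  edge_flip (s0_f12814 IH)
theorem s0_f12815 : ed sl_et s0_v606 = s0_v1352 :=
  gap_rel s0_rot31 (path_edge (s0_f12814r IH) (path_nil s0_v1352))
theorem s0_f12820 : ed sl_at s0_v526 = s0_v1354 :=
  rfl
theorem s0_f12820r : ed sl_af s0_v1354 = s0_v526 :=
  edge_flip (s0_f12820 IH)
theorem s0_f12821 : ed sl_af s0_v526 = s0_v1354 :=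
  gap_rel s0_rot66 (path_edge (s0_f12820r IH) (path_nil s0_v1354))
theorem s0_f12822 : ed sl_ct s0_v526 = s0_v1355 :=
  rfl
theorem s0_f12822r : ed sl_cf s0_v1355 = s0_v526 :=
  edge_flip (s0_f12822 IH)
theorem s0_f12824 : ed sl_cf s0_v526 = s0_v1355 :=
  gap_rel s0_rot40 (path_edge (s0_f12822r IH) (path_nil s0_v1355))
theorem s0_f12824r : ed sl_ct s0_v1355 = s0_v526 :=
  edge_flip (s0_f12824 IH)
theorem s0_f7636r : ed sl_bt s0_v526 = s0_v138 :=
  edge_flip (s0_f7636 IH)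
theorem s0_f4647r : ed sl_ct s0_v138 = s0_v50 :=
  edge_flip (s0_f4647 IH)
theorem s0_f12825 : ed sl_bt s0_v618 = s0_v1355 :=
  gap_rel s0_rot41 (path_edge (s0_f8101 IH) (path_edge (s0_f5356 IH) (path_edge (s0_f4647r IH) (path_edge (s0_f7636r IH) (path_edge (s0_f12824r IH) (path_nil s0_v1355))))))
theorem s0_f4646r : ed sl_at s0_v138 = sq135 :=
  edge_flip (s0_f4646 IH)
theorem s0_f149r : ed sl_at sq33 = sq27 :=
  edge_flip (s0_f149 IH)
theorem s0_f12826 : ed sl_ft s0_v1354 = s0_v1355 :=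
  gap_rel s0_rot122 (path_edge (s0_f12820 IH) (path_edge (s0_f7635 IH) (path_edge (s0_f4649 IH) (path_edge (s0_f4021 IH) (path_edge (s0_f3651 IH) (path_edge (s0_f73 IH) (path_edge (s0_f79 IH) (path_edge (s0_f179 IH) (path_edge (s0_f182 IH) (path_edge (s0_f205 IH) (path_edge (s0_f2480 IH) (path_edge (s0_f2467 IH) (path_edge (s0_f149r IH) (path_edge (s0_f456 IH) (path_edge (s0_f489 IH) (path_edge (s0_f2481 IH) (path_edge (s0_f4646r IH) (path_edge (s0_f7636r IH) (path_edge (s0_f12824r IH) (path_nil s0_v1355))))))))))))))))))))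
theorem s0_f12826r : ed sl_ff s0_v1355 = s0_v1354 :=
  edge_flip (s0_f12826 IH)
theorem s0_f12827 : ed sl_ff s0_v1354 = s0_v1355 :=
  gap_rel s0_rot1 (path_edge (s0_f12826r IH) (path_nil s0_v1355))
theorem s0_f12832 : ed sl_ft s0_v526 = s0_v1357 :=
  rfl
theorem s0_f12832r : ed sl_ff s0_v1357 = s0_v526 :=
  edge_flip (s0_f12832 IH)
theorem s0_f12833 : ed sl_af s0_v1355 = s0_v1357 :=
  gap_rel s0_rot0 (path_edge (s0_f12827 IH) (path_edge (s0_f12821 IH) (path_edge (s0_f12832r IH) (path_nil s0_v1357))))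
theorem s0_f4650r : ed sl_ff s0_v138 = s0_v44 :=
  edge_flip (s0_f4650 IH)
theorem s0_f12834 : ed sl_bf s0_v602 = s0_v1357 :=
  gap_rel s0_rot104 (path_edge (s0_f8018 IH) (path_edge (s0_f5305 IH) (path_edge (s0_f4650r IH) (path_edge (s0_f7635r IH) (path_edge (s0_f12832r IH) (path_nil s0_v1357))))))
theorem s0_f12836 : ed sl_ff s0_v526 = s0_v1357 :=
  gap_rel s0_rot1 (path_edge (s0_f12832r IH) (path_nil s0_v1357))
theorem s0_f12836r : ed sl_ft s0_v1357 = s0_v526 :=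
  edge_flip (s0_f12836 IH)
theorem s0_f12838 : ed sl_bt s0_v602 = s0_v1357 :=
  gap_rel s0_rot12 (path_edge (s0_f8015 IH) (path_edge (s0_f5304 IH) (path_edge (s0_f4648r IH) (path_edge (s0_f7636r IH) (path_edge (s0_f12836r IH) (path_nil s0_v1357))))))
theorem s0_f12827r : ed sl_ft s0_v1355 = s0_v1354 :=
  edge_flip (s0_f12827 IH)
theorem s0_f12839 : ed sl_ct s0_v1354 = s0_v1357 :=
  gap_rel s0_rot42 (path_edge (s0_f12827r IH) (path_edge (s0_f12822 IH) (path_edge (s0_f12836r IH) (path_nil s0_v1357))))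
theorem s0_f12545r : ed sl_cf s0_v1300 = s0_v483 :=
  edge_flip (s0_f12545 IH)
theorem s0_f8435r : ed sl_bf s0_v483 = s0_v338 :=
  edge_flip (s0_f8435 IH)
theorem s0_f12839r : ed sl_cf s0_v1357 = s0_v1354 :=
  edge_flip (s0_f12839 IH)
theorem s0_f12840 : ed sl_bf s0_v1354 = s0_v1300 :=
  gap_rel s0_rot61 (path_edge (s0_f12839r IH) (path_edge (s0_f12834 IH) (path_edge (s0_f8017 IH) (path_edge (s0_f8435r IH) (path_edge (s0_f12545r IH) (path_nil s0_v1300))))))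
theorem s0_f12840r : ed sl_bt s0_v1300 = s0_v1354 :=
  edge_flip (s0_f12840 IH)
theorem s0_f12841 : ed sl_bt s0_v1354 = s0_v1300 :=
  gap_rel s0_rot68 (path_edge (s0_f12840r IH) (path_nil s0_v1300))
theorem s0_f12842 : ed sl_gt s0_v526 = s0_v1358 :=
  rfl
theorem s0_f12842r : ed sl_gf s0_v1358 = s0_v526 :=
  edge_flip (s0_f12842 IH)
theorem s0_f12843 : ed sl_gf s0_v526 = s0_v1358 :=
  gap_rel s0_rot76 (path_edge (s0_f12842r IH) (path_nil s0_v1358))
theorem s0_f12866 : ed sl_gt s0_v529 = s0_v1363 :=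
  rfl
theorem s0_f12866r : ed sl_gf s0_v1363 = s0_v529 :=
  edge_flip (s0_f12866 IH)
theorem s0_f12867 : ed sl_ef s0_v530 = s0_v1363 :=
  gap_rel s0_rot36 (path_edge (s0_f7653 IH) (path_edge (s0_f7647r IH) (path_edge (s0_f12866r IH) (path_nil s0_v1363))))
theorem s0_f12868 : ed sl_gf s0_v529 = s0_v1363 :=
  gap_rel s0_rot76 (path_edge (s0_f12866r IH) (path_nil s0_v1363))
theorem s0_f12888 : ed sl_at s0_v534 = s0_v1369 :=
  rfl
theorem s0_f12888r : ed sl_af s0_v1369 = s0_v534 :=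
  edge_flip (s0_f12888 IH)
theorem s0_f7667r : ed sl_df s0_v534 = s0_v203 :=
  edge_flip (s0_f7667 IH)
theorem s0_f12891 : ed sl_df s0_v612 = s0_v1369 :=
  gap_rel s0_rot51 (path_edge (s0_f8064 IH) (path_edge (s0_f7667r IH) (path_edge (s0_f12888r IH) (path_nil s0_v1369))))
theorem s0_f7668r : ed sl_ef s0_v534 = s0_v240 :=
  edge_flip (s0_f7668 IH)
theorem s0_f12892 : ed sl_ef s0_v692 = s0_v1369 :=
  gap_rel s0_rot102 (path_edge (s0_f8510 IH) (path_edge (s0_f7668r IH) (path_edge (s0_f12888r IH) (path_nil s0_v1369))))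
theorem s0_f12892r : ed sl_et s0_v1369 = s0_v692 :=
  edge_flip (s0_f12892 IH)
theorem s0_f12893 : ed sl_dt s0_v612 = s0_v1369 :=
  gap_rel s0_rot106 (path_edge (s0_f8069 IH) (path_edge (s0_f5539 IH) (path_edge (s0_f5785r IH) (path_edge (s0_f8511r IH) (path_edge (s0_f12892r IH) (path_nil s0_v1369))))))
theorem s0_f12891r : ed sl_dt s0_v1369 = s0_v612 :=
  edge_flip (s0_f12891 IH)
theorem s0_f8065r : ed sl_bt s0_v612 = s0_v297 :=
  edge_flip (s0_f8065 IH)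
theorem s0_f12895 : ed sl_bt s0_v692 = s0_v1369 :=
  gap_rel s0_rot69 (path_edge (s0_f8512 IH) (path_edge (s0_f8065r IH) (path_edge (s0_f12891r IH) (path_nil s0_v1369))))
theorem s0_f12970 : ed sl_at s0_v544 = s0_v1382 :=
  rfl
theorem s0_f12970r : ed sl_af s0_v1382 = s0_v544 :=
  edge_flip (s0_f12970 IH)
theorem s0_f12971 : ed sl_af s0_v544 = s0_v1382 :=
  gap_rel s0_rot66 (path_edge (s0_f12970r IH) (path_nil s0_v1382))
theorem s0_f7733r : ed sl_gf s0_v544 = s0_v155 :=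
  edge_flip (s0_f7733 IH)
theorem s0_f12972 : ed sl_gf s0_v545 = s0_v1382 :=
  gap_rel s0_rot47 (path_edge (s0_f7735 IH) (path_edge (s0_f7733r IH) (path_edge (s0_f12970r IH) (path_nil s0_v1382))))
theorem s0_f12972r : ed sl_gt s0_v1382 = s0_v545 :=
  edge_flip (s0_f12972 IH)
theorem s0_f12973 : ed sl_gt s0_v545 = s0_v1382 :=
  gap_rel s0_rot25 (path_edge (s0_f12972r IH) (path_nil s0_v1382))
theorem s0_f12974 : ed sl_ft s0_v544 = s0_v1383 :=
  rfl
theorem s0_f12974r : ed sl_ff s0_v1383 = s0_v544 :=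
  edge_flip (s0_f12974 IH)
theorem s0_f12975 : ed sl_ff s0_v544 = s0_v1383 :=
  gap_rel s0_rot1 (path_edge (s0_f12974r IH) (path_nil s0_v1383))
theorem s0_f12976 : ed sl_bt s0_v545 = s0_v1384 :=
  rfl
theorem s0_f12976r : ed sl_bf s0_v1384 = s0_v545 :=
  edge_flip (s0_f12976 IH)
theorem s0_f12977 : ed sl_bf s0_v545 = s0_v1384 :=
  gap_rel s0_rot44 (path_edge (s0_f12976r IH) (path_nil s0_v1384))
theorem s0_f12978 : ed sl_ft s0_v545 = s0_v1385 :=
  rfl
theorem s0_f12978r : ed sl_ff s0_v1385 = s0_v545 :=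
  edge_flip (s0_f12978 IH)
theorem s0_f12980 : ed sl_ff s0_v545 = s0_v1385 :=
  gap_rel s0_rot1 (path_edge (s0_f12978r IH) (path_nil s0_v1385))
theorem s0_f12971r : ed sl_at s0_v1382 = s0_v544 :=
  edge_flip (s0_f12971 IH)
theorem s0_f12981 : ed sl_gf s0_v1383 = s0_v1385 :=
  gap_rel s0_rot2 (path_edge (s0_f12975 IH) (path_edge (s0_f12971r IH) (path_edge (s0_f12972 IH) (path_edge (s0_f12978r IH) (path_nil s0_v1385)))))
theorem s0_f12981r : ed sl_gt s0_v1385 = s0_v1383 :=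
  edge_flip (s0_f12981 IH)
theorem s0_f12982 : ed sl_gt s0_v1383 = s0_v1385 :=
  gap_rel s0_rot25 (path_edge (s0_f12981r IH) (path_nil s0_v1385))
theorem s0_f12984 : ed sl_gt s0_v546 = s0_v1386 :=
  rfl
theorem s0_f12984r : ed sl_gf s0_v1386 = s0_v546 :=
  edge_flip (s0_f12984 IH)
theorem s0_f12986 : ed sl_ff s0_v1382 = s0_v1386 :=
  gap_rel s0_rot22 (path_edge (s0_f12972 IH) (path_edge (s0_f12978r IH) (path_edge (s0_f12981 IH) (path_edge (s0_f12975 IH) (path_edge (s0_f7732 IH) (path_edge (s0_f7736r IH) (path_edge (s0_f12984r IH) (path_nil s0_v1386))))))))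
theorem s0_f13142 : ed sl_ft s0_v560 = s0_v1418 :=
  rfl
theorem s0_f13142r : ed sl_ff s0_v1418 = s0_v560 :=
  edge_flip (s0_f13142 IH)
theorem s0_f4986r : ed sl_ff s0_v167 = s0_v154 :=
  edge_flip (s0_f4986 IH)
theorem s0_f13143 : ed sl_bf s0_v1383 = s0_v1418 :=
  gap_rel s0_rot104 (path_edge (s0_f12975 IH) (path_edge (s0_f7731 IH) (path_edge (s0_f4986r IH) (path_edge (s0_f7794r IH) (path_edge (s0_f13142r IH) (path_nil s0_v1418))))))
theorem s0_f12982r : ed sl_gf s0_v1385 = s0_v1383 :=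
  edge_flip (s0_f12982 IH)
theorem s0_f12263r : ed sl_gf s0_v1247 = s0_v1237 :=
  edge_flip (s0_f12263 IH)
theorem s0_f12841r : ed sl_bf s0_v1300 = s0_v1354 :=
  edge_flip (s0_f12841 IH)
theorem s0_f13145 : ed sl_gf s0_v1355 = s0_v1384 :=
  gap_rel s0_rot80 (path_edge (s0_f12827 IH) (path_edge (s0_f12841r IH) (path_edge (s0_f12544 IH) (path_edge (s0_f12532r IH) (path_edge (s0_f12534 IH) (path_edge (s0_f12263r IH) (path_edge (s0_f12260 IH) (path_edge (s0_f12254r IH) (path_edge (s0_f12256 IH) (path_edge (s0_f13142r IH) (path_edge (s0_f13143 IH) (path_edge (s0_f12982r IH) (path_edge (s0_f12980 IH) (path_edge (s0_f12976r IH) (path_nil s0_v1384)))))))))))))))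
theorem s0_f13145r : ed sl_gt s0_v1384 = s0_v1355 :=
  edge_flip (s0_f13145 IH)
theorem s0_f13147 : ed sl_gt s0_v1355 = s0_v1384 :=
  gap_rel s0_rot25 (path_edge (s0_f13145r IH) (path_nil s0_v1384))
theorem s0_f13147r : ed sl_gf s0_v1384 = s0_v1355 :=
  edge_flip (s0_f13147 IH)
theorem s0_f13150 : ed sl_cf s0_v1358 = s0_v1384 :=
  gap_rel s0_rot43 (path_edge (s0_f12843 IH) (path_edge (s0_f12822r IH) (path_edge (s0_f13147r IH) (path_nil s0_v1384))))
theorem s0_f13186 : ed sl_gt s0_v565 = s0_v1425 :=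
  rfl
theorem s0_f13186r : ed sl_gf s0_v1425 = s0_v565 :=
  edge_flip (s0_f13186 IH)
theorem s0_f13190 : ed sl_gf s0_v565 = s0_v1425 :=
  gap_rel s0_rot76 (path_edge (s0_f13186r IH) (path_nil s0_v1425))
theorem s0_f13190r : ed sl_gt s0_v1425 = s0_v565 :=
  edge_flip (s0_f13190 IH)
theorem s0_f7819r : ed sl_dt s0_v565 = s0_v217 :=
  edge_flip (s0_f7819 IH)
theorem s0_f13192 : ed sl_dt s0_v645 = s0_v1425 :=
  gap_rel s0_rot91 (path_edge (s0_f8250 IH) (path_edge (s0_f7819r IH) (path_edge (s0_f13190r IH) (path_nil s0_v1425))))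
theorem s0_f13194 : ed sl_dt s0_v566 = s0_v1426 :=
  rfl
theorem s0_f13216 : ed sl_ft s0_v568 = s0_v1430 :=
  rfl
theorem s0_f13233 : ed sl_ct s0_v569 = s0_v1432 :=
  rfl
theorem s0_f13233r : ed sl_cf s0_v1432 = s0_v569 :=
  edge_flip (s0_f13233 IH)
theorem s0_f7843r : ed sl_ef s0_v569 = s0_v221 :=
  edge_flip (s0_f7843 IH)
theorem s0_f13236 : ed sl_ef s0_v652 = s0_v1432 :=
  gap_rel s0_rot48 (path_edge (s0_f8291 IH) (path_edge (s0_f7843r IH) (path_edge (s0_f13233r IH) (path_nil s0_v1432))))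
theorem s0_f13236r : ed sl_et s0_v1432 = s0_v652 :=
  edge_flip (s0_f13236 IH)
theorem s0_f13239 : ed sl_et s0_v652 = s0_v1432 :=
  gap_rel s0_rot31 (path_edge (s0_f13236r IH) (path_nil s0_v1432))
theorem s0_f13240 : ed sl_gt s0_v1352 = s0_v1432 :=
  gap_rel s0_rot21 (path_edge (s0_f12815 IH) (path_edge (s0_f8608 IH) (path_edge (s0_f13236r IH) (path_nil s0_v1432))))
theorem s0_f13240r : ed sl_gf s0_v1432 = s0_v1352 :=
  edge_flip (s0_f13240 IH)
theorem s0_f13242 : ed sl_gf s0_v1352 = s0_v1432 :=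
  gap_rel s0_rot76 (path_edge (s0_f13240r IH) (path_nil s0_v1432))
theorem s0_f13243 : ed sl_ft s0_v569 = s0_v1433 :=
  rfl
theorem s0_f13243r : ed sl_ff s0_v1433 = s0_v569 :=
  edge_flip (s0_f13243 IH)
theorem s0_f13246 : ed sl_ff s0_v569 = s0_v1433 :=
  gap_rel s0_rot1 (path_edge (s0_f13243r IH) (path_nil s0_v1433))
theorem s0_f13246r : ed sl_ft s0_v1433 = s0_v569 :=
  edge_flip (s0_f13246 IH)
theorem s0_f7841r : ed sl_at s0_v569 = s0_v172 :=
  edge_flip (s0_f7841 IH)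
theorem s0_f13247 : ed sl_at s0_v571 = s0_v1433 :=
  gap_rel s0_rot90 (path_edge (s0_f7848 IH) (path_edge (s0_f7841r IH) (path_edge (s0_f13246r IH) (path_nil s0_v1433))))
theorem s0_f13248 : ed sl_et s0_v653 = s0_v1433 :=
  gap_rel s0_rot37 (path_edge (s0_f8293 IH) (path_edge (s0_f7842r IH) (path_edge (s0_f13246r IH) (path_nil s0_v1433))))
theorem s0_f13248r : ed sl_ef s0_v1433 = s0_v653 :=
  edge_flip (s0_f13248 IH)
theorem s0_f13249 : ed sl_bf s0_v786 = s0_v1433 :=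
  gap_rel s0_rot23 (path_edge (s0_f9058 IH) (path_edge (s0_f8436 IH) (path_edge (s0_f13248r IH) (path_nil s0_v1433))))
theorem s0_f13249r : ed sl_bt s0_v1433 = s0_v786 :=
  edge_flip (s0_f13249 IH)
theorem s0_f13250 : ed sl_bt s0_v786 = s0_v1433 :=
  gap_rel s0_rot68 (path_edge (s0_f13249r IH) (path_nil s0_v1433))
theorem s0_f13251 : ed sl_gt s0_v569 = s0_v1434 :=
  rfl
theorem s0_f13251r : ed sl_gf s0_v1434 = s0_v569 :=
  edge_flip (s0_f13251 IH)
theorem s0_f13256 : ed sl_gf s0_v569 = s0_v1434 :=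
  gap_rel s0_rot76 (path_edge (s0_f13251r IH) (path_nil s0_v1434))
theorem s0_f13277 : ed sl_gt s0_v571 = s0_v1438 :=
  rfl
theorem s0_f13277r : ed sl_gf s0_v1438 = s0_v571 :=
  edge_flip (s0_f13277 IH)
theorem s0_f13279 : ed sl_gf s0_v571 = s0_v1438 :=
  gap_rel s0_rot76 (path_edge (s0_f13277r IH) (path_nil s0_v1438))
theorem s0_f13280 : ed sl_ff s0_v1434 = s0_v1438 :=
  gap_rel s0_rot92 (path_edge (s0_f13256 IH) (path_edge (s0_f13243r IH) (path_edge (s0_f13247 IH) (path_edge (s0_f13277r IH) (path_nil s0_v1438)))))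
theorem s0_f13280r : ed sl_ft s0_v1438 = s0_v1434 :=
  edge_flip (s0_f13280 IH)
theorem s0_f13282 : ed sl_ft s0_v1434 = s0_v1438 :=
  gap_rel s0_rot16 (path_edge (s0_f13280r IH) (path_nil s0_v1438))
theorem s0_f13285 : ed sl_ft s0_v572 = s0_v1439 :=
  rfl
theorem s0_f13285r : ed sl_ff s0_v1439 = s0_v572 :=
  edge_flip (s0_f13285 IH)
theorem s0_f13282r : ed sl_ff s0_v1438 = s0_v1434 :=
  edge_flip (s0_f13282 IH)
theorem s0_f13289 : ed sl_gf s0_v1433 = s0_v1439 :=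
  gap_rel s0_rot19 (path_edge (s0_f13246 IH) (path_edge (s0_f13251r IH) (path_edge (s0_f13282r IH) (path_edge (s0_f13279 IH) (path_edge (s0_f7851 IH) (path_edge (s0_f7854r IH) (path_edge (s0_f13285r IH) (path_nil s0_v1439))))))))
theorem s0_f13289r : ed sl_gt s0_v1439 = s0_v1433 :=
  edge_flip (s0_f13289 IH)
theorem s0_f13292 : ed sl_gt s0_v1433 = s0_v1439 :=
  gap_rel s0_rot25 (path_edge (s0_f13289r IH) (path_nil s0_v1439))
theorem s0_f13487 : ed sl_gt s0_v601 = s0_v1482 :=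
  rfl
theorem s0_f13487r : ed sl_gf s0_v1482 = s0_v601 :=
  edge_flip (s0_f13487 IH)
theorem s0_f8013r : ed sl_af s0_v601 = s0_v341 :=
  edge_flip (s0_f8013 IH)
theorem s0_f13488 : ed sl_af s0_v864 = s0_v1482 :=
  gap_rel s0_rot78 (path_edge (s0_f9463 IH) (path_edge (s0_f8013r IH) (path_edge (s0_f13487r IH) (path_nil s0_v1482))))
theorem s0_f13489 : ed sl_df s0_v603 = s0_v1482 :=
  gap_rel s0_rot52 (path_edge (s0_f8024 IH) (path_edge (s0_f8008r IH) (path_edge (s0_f13487r IH) (path_nil s0_v1482))))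
theorem s0_f13490 : ed sl_gf s0_v601 = s0_v1482 :=
  gap_rel s0_rot76 (path_edge (s0_f13487r IH) (path_nil s0_v1482))
theorem s0_f13490r : ed sl_gt s0_v1482 = s0_v601 :=
  edge_flip (s0_f13490 IH)
theorem s0_f13492 : ed sl_ct s0_v1482 = s0_v1482 :=
  gap_rel s0_rot39 (path_edge (s0_f13487 IH) (path_edge (s0_f8012r IH) (path_edge (s0_f13490r IH) (path_nil s0_v1482))))
theorem s0_f13494 : ed sl_gt s0_v604 = s0_v1483 :=
  rfl
theorem s0_f13494r : ed sl_gf s0_v1483 = s0_v604 :=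
  edge_flip (s0_f13494 IH)
theorem s0_f8028r : ed sl_at s0_v604 = s0_v200 :=
  edge_flip (s0_f8028 IH)
theorem s0_f13498 : ed sl_ff s0_v1363 = s0_v1483 :=
  gap_rel s0_rot92 (path_edge (s0_f12868 IH) (path_edge (s0_f7649 IH) (path_edge (s0_f8028r IH) (path_edge (s0_f13494r IH) (path_nil s0_v1483)))))
theorem s0_f13498r : ed sl_ft s0_v1483 = s0_v1363 :=
  edge_flip (s0_f13498 IH)
theorem s0_f12867r : ed sl_et s0_v1363 = s0_v530 :=
  edge_flip (s0_f12867 IH)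
theorem s0_f13499 : ed sl_et s0_v605 = s0_v1483 :=
  gap_rel s0_rot37 (path_edge (s0_f8037 IH) (path_edge (s0_f12867r IH) (path_edge (s0_f13498r IH) (path_nil s0_v1483))))
theorem s0_f13502 : ed sl_bt s0_v605 = s0_v1484 :=
  rfl
theorem s0_f13502r : ed sl_bf s0_v1484 = s0_v605 :=
  edge_flip (s0_f13502 IH)
theorem s0_f13503 : ed sl_bf s0_v605 = s0_v1484 :=
  gap_rel s0_rot44 (path_edge (s0_f13502r IH) (path_nil s0_v1484))
theorem s0_f8036r : ed sl_df s0_v605 = s0_v198 :=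
  edge_flip (s0_f8036 IH)
theorem s0_f13504 : ed sl_df s0_v606 = s0_v1484 :=
  gap_rel s0_rot8 (path_edge (s0_f8040 IH) (path_edge (s0_f8036r IH) (path_edge (s0_f13502r IH) (path_nil s0_v1484))))
theorem s0_f13564 : ed sl_gt s0_v612 = s0_v1496 :=
  rfl
theorem s0_f13564r : ed sl_gf s0_v1496 = s0_v612 :=
  edge_flip (s0_f13564 IH)
theorem s0_f13568 : ed sl_gf s0_v612 = s0_v1496 :=
  gap_rel s0_rot76 (path_edge (s0_f13564r IH) (path_nil s0_v1496))
theorem s0_f13568r : ed sl_gt s0_v1496 = s0_v612 :=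
  edge_flip (s0_f13568 IH)
theorem s0_f13571 : ed sl_et s0_v699 = s0_v1496 :=
  gap_rel s0_rot49 (path_edge (s0_f8539 IH) (path_edge (s0_f8066r IH) (path_edge (s0_f13568r IH) (path_nil s0_v1496))))
theorem s0_f13616 : ed sl_ct s0_v617 = s0_v1502 :=
  rfl
theorem s0_f13616r : ed sl_cf s0_v1502 = s0_v617 :=
  edge_flip (s0_f13616 IH)
theorem s0_f13617 : ed sl_af s0_v618 = s0_v1502 :=
  gap_rel s0_rot10 (path_edge (s0_f8102 IH) (path_edge (s0_f8089r IH) (path_edge (s0_f13616r IH) (path_nil s0_v1502))))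
theorem s0_f13620 : ed sl_ff s0_v1260 = s0_v1502 :=
  gap_rel s0_rot95 (path_edge (s0_f12308 IH) (path_edge (s0_f8095r IH) (path_edge (s0_f13616r IH) (path_nil s0_v1502))))
theorem s0_f13620r : ed sl_ft s0_v1502 = s0_v1260 :=
  edge_flip (s0_f13620 IH)
theorem s0_f13624 : ed sl_ft s0_v1260 = s0_v1502 :=
  gap_rel s0_rot16 (path_edge (s0_f13620r IH) (path_nil s0_v1502))
theorem s0_f13628 : ed sl_ft s0_v618 = s0_v1504 :=
  rfl
theorem s0_f13628r : ed sl_ff s0_v1504 = s0_v618 :=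
  edge_flip (s0_f13628 IH)
theorem s0_f13624r : ed sl_ff s0_v1502 = s0_v1260 :=
  edge_flip (s0_f13624 IH)
theorem s0_f13629 : ed sl_af s0_v1260 = s0_v1504 :=
  gap_rel s0_rot0 (path_edge (s0_f13624r IH) (path_edge (s0_f13617 IH) (path_edge (s0_f13628r IH) (path_nil s0_v1504))))
theorem s0_f13631 : ed sl_ff s0_v618 = s0_v1504 :=
  gap_rel s0_rot1 (path_edge (s0_f13628r IH) (path_nil s0_v1504))
theorem s0_f13631r : ed sl_ft s0_v1504 = s0_v618 :=
  edge_flip (s0_f13631 IH)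
theorem s0_f8102r : ed sl_ct s0_v618 = s0_v206 :=
  edge_flip (s0_f8102 IH)
theorem s0_f13633 : ed sl_ct s0_v619 = s0_v1504 :=
  gap_rel s0_rot42 (path_edge (s0_f8103 IH) (path_edge (s0_f8102r IH) (path_edge (s0_f13631r IH) (path_nil s0_v1504))))
theorem s0_f13634 : ed sl_gt s0_v618 = s0_v1505 :=
  rfl
theorem s0_f13634r : ed sl_gf s0_v1505 = s0_v618 :=
  edge_flip (s0_f13634 IH)
theorem s0_f13638 : ed sl_gf s0_v618 = s0_v1505 :=
  gap_rel s0_rot76 (path_edge (s0_f13634r IH) (path_nil s0_v1505))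
theorem s0_f13638r : ed sl_gt s0_v1505 = s0_v618 :=
  edge_flip (s0_f13638 IH)
theorem s0_f12977r : ed sl_bt s0_v1384 = s0_v545 :=
  edge_flip (s0_f12977 IH)
theorem s0_f13640 : ed sl_bt s0_v1382 = s0_v1505 :=
  gap_rel s0_rot26 (path_edge (s0_f12973 IH) (path_edge (s0_f12977r IH) (path_edge (s0_f13147 IH) (path_edge (s0_f12825 IH) (path_edge (s0_f13638r IH) (path_nil s0_v1505))))))
theorem s0_f13885 : ed sl_bt s0_v644 = s0_v1553 :=
  rfl
theorem s0_f13885r : ed sl_bf s0_v1553 = s0_v644 :=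
  edge_flip (s0_f13885 IH)
theorem s0_f8248r : ed sl_af s0_v644 = s0_v219 :=
  edge_flip (s0_f8248 IH)
theorem s0_f6903r : ed sl_af s0_v458 = sq395 :=
  edge_flip (s0_f6903 IH)
theorem s0_f10083r : ed sl_af s0_v958 = s0_v680 :=
  edge_flip (s0_f10083 IH)
theorem s0_f8454r : ed sl_bf s0_v680 = s0_v299 :=
  edge_flip (s0_f8454 IH)
theorem s0_f13886 : ed sl_af s0_v1048 = s0_v1553 :=
  gap_rel s0_rot114 (path_edge (s0_f10976 IH) (path_edge (s0_f9024 IH) (path_edge (s0_f8454r IH) (path_edge (s0_f10083r IH) (path_edge (s0_f10079 IH) (path_edge (s0_f6903r IH) (path_edge (s0_f6896 IH) (path_edge (s0_f8248r IH) (path_edge (s0_f13885r IH) (path_nil s0_v1553))))))))))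
theorem s0_f5407r : ed sl_bf s0_v217 = s0_v85 :=
  edge_flip (s0_f5407 IH)
theorem s0_f13889 : ed sl_ff s0_v745 = s0_v1553 :=
  gap_rel s0_rot70 (path_edge (s0_f8855 IH) (path_edge (s0_f5675 IH) (path_edge (s0_f5407r IH) (path_edge (s0_f8244r IH) (path_edge (s0_f13885r IH) (path_nil s0_v1553))))))
theorem s0_f13889r : ed sl_ft s0_v1553 = s0_v745 :=
  edge_flip (s0_f13889 IH)
theorem s0_f13891 : ed sl_ft s0_v745 = s0_v1553 :=
  gap_rel s0_rot16 (path_edge (s0_f13889r IH) (path_nil s0_v1553))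
theorem s0_f13892 : ed sl_gt s0_v1045 = s0_v1553 :=
  gap_rel s0_rot112 (path_edge (s0_f10954 IH) (path_edge (s0_f10970r IH) (path_edge (s0_f10974 IH) (path_edge (s0_f13889r IH) (path_nil s0_v1553)))))
theorem s0_f13892r : ed sl_gf s0_v1553 = s0_v1045 :=
  edge_flip (s0_f13892 IH)
theorem s0_f13893 : ed sl_gf s0_v1045 = s0_v1553 :=
  gap_rel s0_rot76 (path_edge (s0_f13892r IH) (path_nil s0_v1553))
theorem s0_f13895 : ed sl_bt s0_v645 = s0_v1554 :=
  rfl
theorem s0_f13895r : ed sl_bf s0_v1554 = s0_v645 :=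
  edge_flip (s0_f13895 IH)
theorem s0_f13899 : ed sl_gf s0_v746 = s0_v1554 :=
  gap_rel s0_rot24 (path_edge (s0_f8859 IH) (path_edge (s0_f5681 IH) (path_edge (s0_f5407r IH) (path_edge (s0_f8250r IH) (path_edge (s0_f13895r IH) (path_nil s0_v1554))))))
theorem s0_f13899r : ed sl_gt s0_v1554 = s0_v746 :=
  edge_flip (s0_f13899 IH)
theorem s0_f13900 : ed sl_et s0_v731 = s0_v1554 :=
  gap_rel s0_rot49 (path_edge (s0_f8777 IH) (path_edge (s0_f8860r IH) (path_edge (s0_f13899r IH) (path_nil s0_v1554))))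
theorem s0_f13965 : ed sl_dt s0_v652 = s0_v1565 :=
  rfl
theorem s0_f13965r : ed sl_df s0_v1565 = s0_v652 :=
  edge_flip (s0_f13965 IH)
theorem s0_f13967 : ed sl_bf s0_v1482 = s0_v1565 :=
  gap_rel s0_rot103 (path_edge (s0_f13489 IH) (path_edge (s0_f8610 IH) (path_edge (s0_f13965r IH) (path_nil s0_v1565))))
theorem s0_f13968 : ed sl_df s0_v652 = s0_v1565 :=
  gap_rel s0_rot54 (path_edge (s0_f13965r IH) (path_nil s0_v1565))
theorem s0_f13969 : ed sl_gf s0_v1484 = s0_v1565 :=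
  gap_rel s0_rot45 (path_edge (s0_f13504 IH) (path_edge (s0_f8611 IH) (path_edge (s0_f13965r IH) (path_nil s0_v1565))))
theorem s0_f13969r : ed sl_gt s0_v1565 = s0_v1484 :=
  edge_flip (s0_f13969 IH)
theorem s0_f13503r : ed sl_bt s0_v1484 = s0_v605 :=
  edge_flip (s0_f13503 IH)
theorem s0_f8034r : ed sl_gt s0_v605 = s0_v197 :=
  edge_flip (s0_f8034 IH)
theorem s0_f13970 : ed sl_bt s0_v1482 = s0_v1565 :=
  gap_rel s0_rot26 (path_edge (s0_f13487 IH) (path_edge (s0_f8014 IH) (path_edge (s0_f8034r IH) (path_edge (s0_f13503r IH) (path_edge (s0_f13969r IH) (path_nil s0_v1565))))))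
theorem s0_f13973 : ed sl_ft s0_v652 = s0_v1566 :=
  rfl
theorem s0_f13973r : ed sl_ff s0_v1566 = s0_v652 :=
  edge_flip (s0_f13973 IH)
theorem s0_f13976 : ed sl_ff s0_v652 = s0_v1566 :=
  gap_rel s0_rot1 (path_edge (s0_f13973r IH) (path_nil s0_v1566))
theorem s0_f13976r : ed sl_ft s0_v1566 = s0_v652 :=
  edge_flip (s0_f13976 IH)
theorem s0_f13978 : ed sl_ct s0_v653 = s0_v1566 :=
  gap_rel s0_rot42 (path_edge (s0_f8293 IH) (path_edge (s0_f8291r IH) (path_edge (s0_f13976r IH) (path_nil s0_v1566))))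
theorem s0_f13979 : ed sl_ct s0_v655 = s0_v1567 :=
  rfl
theorem s0_f13979r : ed sl_cf s0_v1567 = s0_v655 :=
  edge_flip (s0_f13979 IH)
theorem s0_f13980 : ed sl_cf s0_v655 = s0_v1567 :=
  gap_rel s0_rot40 (path_edge (s0_f13979r IH) (path_nil s0_v1567))
theorem s0_f8559r : ed sl_df s0_v701 = s0_v345 :=
  edge_flip (s0_f8559 IH)
theorem s0_f13981 : ed sl_df s0_v869 = s0_v1567 :=
  gap_rel s0_rot62 (path_edge (s0_f9486 IH) (path_edge (s0_f8559r IH) (path_eq (s0_f8580 IH).symm (path_edge (s0_f5718 IH) (path_edge (s0_f5424r IH) (path_edge (s0_f8289r IH) (path_edge (s0_f8292 IH) (path_edge (s0_f8305r IH) (path_edge (s0_f13979r IH) (path_nil s0_v1567))))))))))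
theorem s0_f13981r : ed sl_dt s0_v1567 = s0_v869 :=
  edge_flip (s0_f13981 IH)
theorem s0_f13982 : ed sl_dt s0_v869 = s0_v1567 :=
  gap_rel s0_rot28 (path_edge (s0_f13981r IH) (path_nil s0_v1567))
theorem s0_f13999 : ed sl_bt s0_v656 = s0_v1571 :=
  rfl
theorem s0_f13999r : ed sl_bf s0_v1571 = s0_v656 :=
  edge_flip (s0_f13999 IH)
theorem s0_f8310r : ed sl_cf s0_v656 = s0_v223 :=
  edge_flip (s0_f8310 IH)
theorem s0_f14001 : ed sl_cf s0_v1283 = s0_v1571 :=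
  gap_rel s0_rot27 (path_edge (s0_f12433 IH) (path_edge (s0_f7064 IH) (path_edge (s0_f5431r IH) (path_edge (s0_f8310r IH) (path_edge (s0_f13999r IH) (path_nil s0_v1571))))))
theorem s0_f14150 : ed sl_gt s0_v680 = s0_v1601 :=
  rfl
theorem s0_f14150r : ed sl_gf s0_v1601 = s0_v680 :=
  edge_flip (s0_f14150 IH)
theorem s0_f14151 : ed sl_af s0_v1321 = s0_v1601 :=
  gap_rel s0_rot78 (path_edge (s0_f12655 IH) (path_edge (s0_f10078 IH) (path_edge (s0_f14150r IH) (path_nil s0_v1601))))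
theorem s0_f14155 : ed sl_gf s0_v680 = s0_v1601 :=
  gap_rel s0_rot76 (path_edge (s0_f14150r IH) (path_nil s0_v1601))
theorem s0_f14155r : ed sl_gt s0_v1601 = s0_v680 :=
  edge_flip (s0_f14155 IH)
theorem s0_f8451r : ed sl_bt s0_v680 = s0_v299 :=
  edge_flip (s0_f8451 IH)
theorem s0_f14157 : ed sl_bt s0_v1439 = s0_v1601 :=
  gap_rel s0_rot26 (path_edge (s0_f13292 IH) (path_edge (s0_f13250 IH) (path_edge (s0_f9057 IH) (path_edge (s0_f8451r IH) (path_edge (s0_f14155r IH) (path_nil s0_v1601))))))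
theorem s0_f14245 : ed sl_gt s0_v692 = s0_v1618 :=
  rfl
theorem s0_f14245r : ed sl_gf s0_v1618 = s0_v692 :=
  edge_flip (s0_f14245 IH)
theorem s0_f14248 : ed sl_gf s0_v692 = s0_v1618 :=
  gap_rel s0_rot76 (path_edge (s0_f14245r IH) (path_nil s0_v1618))
theorem s0_f14248r : ed sl_gt s0_v1618 = s0_v692 :=
  edge_flip (s0_f14248 IH)
theorem s0_f14250 : ed sl_dt s0_v781 = s0_v1618 :=
  gap_rel s0_rot91 (path_edge (s0_f9029 IH) (path_edge (s0_f8511r IH) (path_edge (s0_f14248r IH) (path_nil s0_v1618))))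
theorem s0_f14267 : ed sl_bt s0_v695 = s0_v1623 :=
  rfl
theorem s0_f14267r : ed sl_bf s0_v1623 = s0_v695 :=
  edge_flip (s0_f14267 IH)
theorem s0_f8519r : ed sl_gf s0_v695 = s0_v240 :=
  edge_flip (s0_f8519 IH)
theorem s0_f14271 : ed sl_gf s0_v696 = s0_v1623 :=
  gap_rel s0_rot24 (path_edge (s0_f8524 IH) (path_edge (s0_f5522 IH) (path_edge (s0_f5515r IH) (path_edge (s0_f8519r IH) (path_edge (s0_f14267r IH) (path_nil s0_v1623))))))
theorem s0_f14271r : ed sl_gt s0_v1623 = s0_v696 :=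
  edge_flip (s0_f14271 IH)
theorem s0_f8525r : ed sl_dt s0_v696 = s0_v304 :=
  edge_flip (s0_f8525 IH)
theorem s0_f14272 : ed sl_dt s0_v787 = s0_v1623 :=
  gap_rel s0_rot91 (path_edge (s0_f9068 IH) (path_edge (s0_f8525r IH) (path_edge (s0_f14271r IH) (path_nil s0_v1623))))
theorem s0_f14519 : ed sl_bt s0_v729 = s0_v1673 :=
  rfl
theorem s0_f14519r : ed sl_bf s0_v1673 = s0_v729 :=
  edge_flip (s0_f14519 IH)
theorem s0_f14520 : ed sl_bf s0_v729 = s0_v1673 :=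
  gap_rel s0_rot44 (path_edge (s0_f14519r IH) (path_nil s0_v1673))
theorem s0_f8761r : ed sl_cf s0_v729 = s0_v264 :=
  edge_flip (s0_f8761 IH)
theorem s0_f9585r : ed sl_bf s0_v854 = s0_v884 :=
  edge_flip (s0_f9585 IH)
theorem s0_f14521 : ed sl_cf s0_v884 = s0_v1673 :=
  gap_rel s0_rot27 (path_edge (s0_f9585r IH) (path_edge (s0_f9412 IH) (path_edge (s0_f8774 IH) (path_edge (s0_f8761r IH) (path_edge (s0_f14519r IH) (path_nil s0_v1673))))))
theorem s0_f5627r : ed sl_bf s0_v262 = s0_v107 :=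
  edge_flip (s0_f5627 IH)
theorem s0_f14522 : ed sl_gf s0_v827 = s0_v1673 :=
  gap_rel s0_rot24 (path_edge (s0_f9287 IH) (path_edge (s0_f5904 IH) (path_edge (s0_f5627r IH) (path_edge (s0_f8756r IH) (path_edge (s0_f14519r IH) (path_nil s0_v1673))))))
theorem s0_f14521r : ed sl_ct s0_v1673 = s0_v884 :=
  edge_flip (s0_f14521 IH)
theorem s0_f9564r : ed sl_at s0_v884 = s0_v354 :=
  edge_flip (s0_f9564 IH)
theorem s0_f14524 : ed sl_at s0_v885 = s0_v1673 :=
  gap_rel s0_rot64 (path_edge (s0_f9565 IH) (path_edge (s0_f9564r IH) (path_edge (s0_f14521r IH) (path_nil s0_v1673))))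
theorem s0_f14577 : ed sl_gt s0_v736 = s0_v1684 :=
  rfl
theorem s0_f14577r : ed sl_gf s0_v1684 = s0_v736 :=
  edge_flip (s0_f14577 IH)
theorem s0_f14581 : ed sl_gf s0_v736 = s0_v1684 :=
  gap_rel s0_rot76 (path_edge (s0_f14577r IH) (path_nil s0_v1684))
theorem s0_f14581r : ed sl_gt s0_v1684 = s0_v736 :=
  edge_flip (s0_f14581 IH)
theorem s0_f11821r : ed sl_bt s0_v1156 = s0_v398 :=
  edge_flip (s0_f11821 IH)
theorem s0_f6440r : ed sl_ft s0_v404 = sq223 :=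
  edge_flip (s0_f6440 IH)
theorem s0_f12986r : ed sl_ft s0_v1386 = s0_v1382 :=
  edge_flip (s0_f12986 IH)
theorem s0_f14585 : ed sl_bt s0_v1504 = s0_v1684 :=
  gap_rel s0_rot4 (path_edge (s0_f13628 IH) (path_edge (s0_f13638r IH) (path_edge (s0_f13640 IH) (path_edge (s0_f12986r IH) (path_edge (s0_f12984 IH) (path_edge (s0_f7739 IH) (path_edge (s0_f6522 IH) (path_edge (s0_f6445 IH) (path_edge (s0_f6427 IH) (path_edge (s0_f6440r IH) (path_edge (s0_f6444 IH) (path_edge (s0_f11821r IH) (path_edge (s0_f11825 IH) (path_edge (s0_f14581r IH) (path_nil s0_v1684)))))))))))))))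
theorem s0_f14593 : ed sl_bt s0_v737 = s0_v1685 :=
  rfl
theorem s0_f14593r : ed sl_bf s0_v1685 = s0_v737 :=
  edge_flip (s0_f14593 IH)
theorem s0_f14585r : ed sl_bf s0_v1684 = s0_v1504 :=
  edge_flip (s0_f14585 IH)
theorem s0_f14596 : ed sl_gf s0_v1504 = s0_v1685 :=
  gap_rel s0_rot24 (path_edge (s0_f14585r IH) (path_edge (s0_f14581 IH) (path_edge (s0_f8793 IH) (path_edge (s0_f8798r IH) (path_edge (s0_f14593r IH) (path_nil s0_v1685))))))
theorem s0_f14765 : ed sl_bt s0_v758 = s0_v1717 :=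
  rfl
theorem s0_f14765r : ed sl_bf s0_v1717 = s0_v758 :=
  edge_flip (s0_f14765 IH)
theorem s0_f14766 : ed sl_bf s0_v758 = s0_v1717 :=
  gap_rel s0_rot44 (path_edge (s0_f14765r IH) (path_nil s0_v1717))
theorem s0_f5730r : ed sl_bf s0_v282 = s0_v282 :=
  edge_flip (s0_f5730 IH)
theorem s0_f14767 : ed sl_cf s0_v1717 = s0_v1717 :=
  gap_rel s0_rot27 (path_edge (s0_f14766 IH) (path_edge (s0_f8922 IH) (path_edge (s0_f5730r IH) (path_edge (s0_f8921r IH) (path_edge (s0_f14765r IH) (path_nil s0_v1717))))))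
theorem s0_f14768 : ed sl_dt s0_v758 = s0_v1718 :=
  rfl
theorem s0_f14768r : ed sl_df s0_v1718 = s0_v758 :=
  edge_flip (s0_f14768 IH)
theorem s0_f13982r : ed sl_df s0_v1567 = s0_v869 :=
  edge_flip (s0_f13982 IH)
theorem s0_f14770 : ed sl_cf s0_v1565 = s0_v1718 :=
  gap_rel s0_rot109 (path_edge (s0_f13968 IH) (path_edge (s0_f8291 IH) (path_edge (s0_f5423 IH) (path_edge (s0_f5716r IH) (path_eq (s0_f8580 IH) (path_edge (s0_f8557 IH) (path_edge (s0_f9484r IH) (path_edge (s0_f13982r IH) (path_edge (s0_f13980 IH) (path_edge (s0_f8306 IH) (path_edge (s0_f5426 IH) (path_edge (s0_f4158 IH) (path_edge (s0_f4425r IH) (path_edge (s0_f5728r IH) (path_edge (s0_f8921r IH) (path_edge (s0_f14768r IH) (path_nil s0_v1718)))))))))))))))))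
theorem s0_f14771 : ed sl_df s0_v758 = s0_v1718 :=
  gap_rel s0_rot54 (path_edge (s0_f14768r IH) (path_nil s0_v1718))
theorem s0_f14771r : ed sl_dt s0_v1718 = s0_v758 :=
  edge_flip (s0_f14771 IH)
theorem s0_f8922r : ed sl_ct s0_v758 = s0_v282 :=
  edge_flip (s0_f8922 IH)
theorem s0_f14773 : ed sl_ct s0_v1565 = s0_v1718 :=
  gap_rel s0_rot110 (path_edge (s0_f13965 IH) (path_edge (s0_f8289 IH) (path_edge (s0_f5424 IH) (path_edge (s0_f5718r IH) (path_eq (s0_f8580 IH) (path_edge (s0_f8559 IH) (path_edge (s0_f9486r IH) (path_edge (s0_f13981r IH) (path_edge (s0_f13979 IH) (path_edge (s0_f8305 IH) (path_edge (s0_f5425 IH) (path_edge (s0_f4161 IH) (path_edge (s0_f4426r IH) (path_edge (s0_f5729r IH) (path_edge (s0_f8922r IH) (path_edge (s0_f14771r IH) (path_nil s0_v1718)))))))))))))))))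
theorem s0_f14773r : ed sl_cf s0_v1718 = s0_v1565 :=
  edge_flip (s0_f14773 IH)
theorem s0_f13970r : ed sl_bf s0_v1565 = s0_v1482 :=
  edge_flip (s0_f13970 IH)
theorem s0_f13492r : ed sl_cf s0_v1482 = s0_v1482 :=
  edge_flip (s0_f13492 IH)
theorem s0_f14774 : ed sl_bf s0_v1718 = s0_v1718 :=
  gap_rel s0_rot61 (path_edge (s0_f14770 IH) (path_edge (s0_f13967 IH) (path_edge (s0_f13492r IH) (path_edge (s0_f13970r IH) (path_edge (s0_f14773r IH) (path_nil s0_v1718))))))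
theorem s0_f14774r : ed sl_bt s0_v1718 = s0_v1718 :=
  edge_flip (s0_f14774 IH)
theorem s0_f14775 : s0_v1717 = s0_v758 :=
  (loop_rel s0_rot69 (path_edge (s0_f14765 IH) (path_edge (s0_f14771r IH) (path_edge (s0_f14774r IH) (path_edge (s0_f14768 IH) (path_nil s0_v758)))))).symm
theorem s0_f14767r : ed sl_ct s0_v1717 = s0_v1717 :=
  edge_flip (s0_f14767 IH)
theorem s0_f14776 : s0_v1717 = s0_v282 :=
  edge_fun (edge_congr (s0_f14767r IH) (s0_f14775 IH)) (s0_f8922r IH)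
theorem s0_f14777 : s0_v869 = s0_v345 :=
  edge_fun (edge_congr (s0_f9489 IH) ((s0_f14775 IH).symm.trans (s0_f14776 IH))) (s0_f8618 IH)
theorem s0_f14778 : s0_v1718 = s0_v90 :=
  edge_fun (edge_congr (s0_f14768 IH) ((s0_f14775 IH).symm.trans (s0_f14776 IH))) (s0_f5729r IH)
theorem s0_f14781 : s0_v1567 = s0_v701 :=
  edge_fun (edge_congr (s0_f13982 IH) (s0_f14777 IH)) (s0_f8559 IH)
theorem s0_f14783 : s0_v356 = s0_v125 :=
  edge_fun (edge_congr (s0_f9487r IH) (s0_f14777 IH)) (s0_f6005r IH)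
theorem s0_f14770r : ed sl_ct s0_v1718 = s0_v1565 :=
  edge_flip (s0_f14770 IH)
theorem s0_f14784 : s0_v1565 = s0_v21 :=
  edge_fun (edge_congr (s0_f14770r IH) (s0_f14778 IH)) (s0_f4426r IH)
theorem s0_f13980r : ed sl_ct s0_v1567 = s0_v655 :=
  edge_flip (s0_f13980 IH)
theorem s0_f14787 : s0_v655 = s0_v89 :=
  edge_fun (edge_congr (s0_f13980r IH) ((s0_f14781 IH).trans (s0_f8580 IH))) (s0_f5718r IH)
theorem s0_f4585r : ed sl_bt s0_v125 = s0_v37 :=
  edge_flip (s0_f4585 IH)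
theorem s0_f14789 : s0_v885 = s0_v37 :=
  edge_fun (edge_congr (s0_f9568 IH) (s0_f14783 IH)) (s0_f4585r IH)
theorem s0_f13967r : ed sl_bt s0_v1565 = s0_v1482 :=
  edge_flip (s0_f13967 IH)
theorem s0_f14791 : s0_v1482 = sq76 :=
  edge_fun (edge_congr (s0_f13967r IH) (s0_f14784 IH)) (s0_f3831r IH)
theorem s0_f13968r : ed sl_dt s0_v1565 = s0_v652 :=
  edge_flip (s0_f13968 IH)
theorem s0_f14792 : s0_v652 = s0_v61 :=
  edge_fun (edge_congr (s0_f13968r IH) (s0_f14784 IH)) (s0_f4161 IH)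
theorem s0_f14793 : s0_v1484 = s0_v92 :=
  edge_fun (edge_congr (s0_f13969r IH) (s0_f14784 IH)) (s0_f4441 IH)
theorem s0_f14795 : s0_v1178 = s0_v278 :=
  edge_fun (edge_congr (s0_f11945 IH) (s0_f14787 IH)) (s0_f5713 IH)
theorem s0_f8306r : ed sl_dt s0_v655 = s0_v222 :=
  edge_flip (s0_f8306 IH)
theorem s0_f14796 : s0_v222 = s0_v221 :=
  edge_fun (edge_congr (s0_f8306r IH) (s0_f14787 IH)) (s0_f5424 IH)
theorem s0_f3944r : ed sl_at s0_v37 = s0_v8 :=
  edge_flip (s0_f3944 IH)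
theorem s0_f14800 : s0_v1673 = s0_v8 :=
  edge_fun (edge_congr (s0_f14524 IH) (s0_f14789 IH)) (s0_f3944r IH)
theorem s0_f13488r : ed sl_at s0_v1482 = s0_v864 :=
  edge_flip (s0_f13488 IH)
theorem s0_f14802 : s0_v864 = sq47 :=
  edge_fun (edge_congr (s0_f13488r IH) (s0_f14791 IH)) (s0_f3829 IH)
theorem s0_f13489r : ed sl_dt s0_v1482 = s0_v603 :=
  edge_flip (s0_f13489 IH)
theorem s0_f14803 : s0_v603 = sq112 :=
  edge_fun (edge_congr (s0_f13489r IH) (s0_f14791 IH)) (s0_f3839 IH)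
theorem s0_f14804 : s0_v601 = sq44 :=
  edge_fun (edge_congr (s0_f13490r IH) (s0_f14791 IH)) (s0_f3571 IH)
theorem s0_f14805 : s0_v1432 = s0_v172 :=
  edge_fun (edge_congr (s0_f13239 IH) (s0_f14792 IH)) (s0_f5028 IH)
theorem s0_f14806 : s0_v1566 = s0_v223 :=
  edge_fun (edge_congr (s0_f13973 IH) (s0_f14792 IH)) (s0_f5427 IH)
theorem s0_f14807 : s0_v606 = s0_v224 :=
  edge_fun (edge_congr (s0_f8608 IH) (s0_f14792 IH)) (s0_f5433 IH)
theorem s0_f14808 : s0_v605 = s0_v34 :=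
  edge_fun (edge_congr (s0_f13503r IH) (s0_f14793 IH)) (s0_f4442r IH)
theorem s0_f14809 : s0_v411 = s0_v651 :=
  edge_fun (edge_congr (s0_f11944r IH) (s0_f14795 IH)) (s0_f8287 IH)
theorem s0_f14811 : s0_v656 = s0_v653 :=
  edge_fun (edge_congr (s0_f8307 IH) (s0_f14796 IH)) (s0_f8293 IH)
theorem s0_f14520r : ed sl_bt s0_v1673 = s0_v729 :=
  edge_flip (s0_f14520 IH)
theorem s0_f14813 : s0_v729 = s0_v14 :=
  edge_fun (edge_congr (s0_f14520r IH) (s0_f14800 IH)) (s0_f3659 IH)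
theorem s0_f14522r : ed sl_gt s0_v1673 = s0_v827 :=
  edge_flip (s0_f14522 IH)
theorem s0_f3615r : ed sl_gt s0_v8 = sq50 :=
  edge_flip (s0_f3615 IH)
theorem s0_f14815 : s0_v827 = sq50 :=
  edge_fun (edge_congr (s0_f14522r IH) (s0_f14800 IH)) (s0_f3615r IH)
theorem s0_f9462r : ed sl_dt s0_v864 = s0_v343 :=
  edge_flip (s0_f9462 IH)
theorem s0_f14820 : s0_v343 = sq72 :=
  edge_fun (edge_congr (s0_f9462r IH) (s0_f14802 IH)) (s0_f3604 IH)
theorem s0_f9463r : ed sl_gt s0_v864 = s0_v341 :=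
  edge_flip (s0_f9463 IH)
theorem s0_f14821 : s0_v341 = sq25 :=
  edge_fun (edge_congr (s0_f9463r IH) (s0_f14802 IH)) (s0_f3606 IH)

end

end

end Cfsg.Agent.Helper28.S1680
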