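import Cfsg.Agent.Lib.Helper28.S1680.Seeds8

set_option autoImplicit false
set_option maxRecDepth 100000
set_option linter.all false

namespace Cfsg.Agent.Helper28.S1680

open Cfsg.Agent.Helper28
open Cfsg.Spor.Suz (Gen)

noncomputable section

section
variable (IH : ∀ y q, lvl y q < 16 → EntryOK rels S fwd inv o plet idx y q)
include IH

theorem s0_f14822 : s0_v339 = sq146 :=
  edge_fun (edge_congr (s0_f8023r IH) (s0_f14803 IH)) (s0_f3852 IH)
theorem s0_f14823 : s0_v1351 = sq172 :=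
  edge_fun (edge_congr (s0_f12811 IH) (s0_f14803 IH)) (s0_f4162 IH)
theorem s0_f14824 : s0_v866 = sq116 :=
  edge_fun (edge_congr (s0_f9473 IH) (s0_f14803 IH)) (s0_f2294 IH)
theorem s0_f8024r : ed sl_gt s0_v603 = s0_v196 :=
  edge_flip (s0_f8024 IH)
theorem s0_f14825 : s0_v196 = sq69 :=
  edge_fun (edge_congr (s0_f8024r IH) (s0_f14803 IH)) (s0_f3772 IH)
theorem s0_f14826 : s0_v197 = s0_v5 :=
  edge_fun (edge_congr (s0_f8010r IH) (s0_f14804 IH)) (s0_f3565 IH)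
theorem s0_f13242r : ed sl_gt s0_v1432 = s0_v1352 :=
  edge_flip (s0_f13242 IH)
theorem s0_f14829 : s0_v1352 = s0_v572 :=
  edge_fun (edge_congr (s0_f13242r IH) (s0_f14805 IH)) (s0_f7854 IH)
theorem s0_f8040r : ed sl_bt s0_v606 = s0_v198 :=
  edge_flip (s0_f8040 IH)
theorem s0_f14831 : s0_v198 = s0_v84 :=
  edge_fun (edge_congr (s0_f8040r IH) (s0_f14807 IH)) (s0_f5434r IH)
theorem s0_f8032r : ed sl_at s0_v605 = s0_v201 :=
  edge_flip (s0_f8032 IH)
theorem s0_f14833 : s0_v201 = s0_v112 :=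
  edge_fun (edge_congr (s0_f8032r IH) (s0_f14808 IH)) (s0_f4540 IH)
theorem s0_f14835 : s0_v1483 = s0_v88 :=
  edge_fun (edge_congr (s0_f13499 IH) (s0_f14808 IH)) (s0_f4422 IH)
theorem s0_f6508r : ed sl_ct s0_v411 = sq228 :=
  edge_flip (s0_f6508 IH)
theorem s0_f14838 : s0_v858 = sq228 :=
  edge_fun (edge_congr (s0_f9430 IH) (s0_f14809 IH).symm) (s0_f6508r IH)
theorem s0_f14845 : s0_v1571 = s0_v344 :=
  edge_fun (edge_congr (s0_f13999 IH) (s0_f14811 IH)) (s0_f8437 IH)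
theorem s0_f8757r : ed sl_at s0_v729 = s0_v267 :=
  edge_flip (s0_f8757 IH)
theorem s0_f14847 : s0_v267 = s0_v74 :=
  edge_fun (edge_congr (s0_f8757r IH) (s0_f14813 IH)) (s0_f4364 IH)
theorem s0_f8758r : ed sl_ct s0_v729 = s0_v264 :=
  edge_flip (s0_f8758 IH)
theorem s0_f14848 : s0_v264 = s0_v46 :=
  edge_fun (edge_congr (s0_f8758r IH) (s0_f14813 IH)) (s0_f3996 IH)
theorem s0_f14851 : s0_v737 = s0_v75 :=
  edge_fun (edge_congr (s0_f8803 IH) (s0_f14813 IH)) (s0_f4365 IH)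
theorem s0_f9287r : ed sl_bt s0_v827 = s0_v319 :=
  edge_flip (s0_f9287 IH)
theorem s0_f14855 : s0_v319 = sq27 :=
  edge_fun (edge_congr (s0_f9287r IH) (s0_f14815 IH)) (s0_f72 IH)
theorem s0_f5996r : ed sl_ct s0_v343 = s0_v121 :=
  edge_flip (s0_f5996 IH)
theorem s0_f14861 : s0_v121 = sq99 :=
  edge_fun (edge_congr (s0_f5996r IH) (s0_f14820 IH)) (s0_f3791 IH)
theorem s0_f14865 : s0_v859 = sq13 :=
  edge_fun (edge_congr (s0_f9440 IH) (s0_f14821 IH)) (s0_f2483 IH)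
theorem s0_f14868 : s0_v699 = s0_v150 :=
  edge_fun (edge_congr (s0_f8546 IH) (s0_f14822 IH)) (s0_f4747 IH)
theorem s0_f14869 : s0_v781 = sq226 :=
  edge_fun (edge_congr (s0_f9034 IH) (s0_f14822 IH)) (s0_f4773 IH)
theorem s0_f14870 : s0_v344 = sq154 :=
  edge_fun (edge_congr (s0_f6002 IH) (s0_f14822 IH)) (s0_f4074 IH)
theorem s0_f5983r : ed sl_gt s0_v339 = s0_v118 :=
  edge_flip (s0_f5983 IH)
theorem s0_f14871 : s0_v118 = sq95 :=
  edge_fun (edge_congr (s0_f5983r IH) (s0_f14822 IH)) (s0_f4037 IH)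
theorem s0_f14872 : s0_v523 = sq110 :=
  edge_fun (edge_congr (s0_f12808r IH) (s0_f14823 IH)) (s0_f4140 IH)
theorem s0_f5305r : ed sl_bt s0_v196 = s0_v44 :=
  edge_flip (s0_f5305 IH)
theorem s0_f14874 : s0_v44 = s0_v19 :=
  edge_fun (edge_congr (s0_f5305r IH) (s0_f14825 IH)) (s0_f3768 IH)
theorem s0_f14875 : s0_v602 = sq111 :=
  edge_fun (edge_congr (s0_f8015 IH) (s0_f14825 IH)) (s0_f161 IH)
theorem s0_f14876 : s0_v45 = s0_v31 :=
  edge_fun (edge_congr (s0_f5307r IH) (s0_f14826 IH)) (s0_f3928 IH)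
theorem s0_f12813r : ed sl_bt s0_v1352 = s0_v524 :=
  edge_flip (s0_f12813 IH)
theorem s0_f7855r : ed sl_bt s0_v572 = s0_v220 :=
  edge_flip (s0_f7855 IH)
theorem s0_f14880 : s0_v524 = s0_v220 :=
  edge_fun (edge_congr (s0_f12813r IH) (s0_f14829 IH)) (s0_f7855r IH)
theorem s0_f14881 : s0_v140 = s0_v269 :=
  edge_fun (edge_congr (s0_f5314r IH) (s0_f14831 IH)) (s0_f5658 IH)
theorem s0_f14883 : s0_v258 = s0_v326 :=
  edge_fun (edge_congr (s0_f5604 IH) (s0_f14833 IH)) (s0_f5934 IH)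
theorem s0_f14889 : s0_v1363 = s0_v277 :=
  edge_fun (edge_congr (s0_f13498r IH) (s0_f14835 IH)) (s0_f5705 IH)
theorem s0_f9427r : ed sl_dt s0_v858 = s0_v757 :=
  edge_flip (s0_f9427 IH)
theorem s0_f14894 : s0_v757 = s0_v412 :=
  edge_fun (edge_congr (s0_f9427r IH) (s0_f14838 IH)) (s0_f6514 IH)
theorem s0_f14896 : s0_v757 = sq347 :=
  edge_fun (edge_congr (s0_f9429r IH) (s0_f14838 IH)) (s0_f3136 IH)
theorem s0_f14001r : ed sl_ct s0_v1571 = s0_v1283 :=
  edge_flip (s0_f14001 IH)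
theorem s0_f14897 : s0_v1283 = s0_v866 :=
  edge_fun (edge_congr (s0_f14001r IH) (s0_f14845 IH)) (s0_f9472 IH)
theorem s0_f14900 : s0_v648 = s0_v204 :=
  edge_fun (edge_congr (s0_f8269 IH) (s0_f14847 IH)) (s0_f5345 IH)
theorem s0_f5650r : ed sl_gt s0_v267 = s0_v82 :=
  edge_flip (s0_f5650 IH)
theorem s0_f4360r : ed sl_gt s0_v74 = s0_v13 :=
  edge_flip (s0_f4360 IH)
theorem s0_f14902 : s0_v82 = s0_v13 :=
  edge_fun (edge_congr (s0_f5650r IH) (s0_f14847 IH)) (s0_f4360r IH)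
theorem s0_f14903 : s0_v731 = s0_v109 :=
  edge_fun (edge_congr (s0_f8772 IH) (s0_f14848 IH)) (s0_f4528 IH)
theorem s0_f14904 : s0_v645 = s0_v137 :=
  edge_fun (edge_congr (s0_f8255 IH) (s0_f14848 IH)) (s0_f4644 IH)
theorem s0_f14906 : s0_v81 = sq87 :=
  edge_fun (edge_congr (s0_f5639r IH) (s0_f14848 IH)) (s0_f3995r IH)
theorem s0_f14911 : s0_v1685 = s0_v248 :=
  edge_fun (edge_congr (s0_f14593 IH) (s0_f14851 IH)) (s0_f5555 IH)
theorem s0_f8800r : ed sl_gt s0_v737 = s0_v266 :=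
  edge_flip (s0_f8800 IH)
theorem s0_f14912 : s0_v266 = s0_v50 :=
  edge_fun (edge_congr (s0_f8800r IH) (s0_f14851 IH)) (s0_f4369r IH)
theorem s0_f5903r : ed sl_at s0_v319 = s0_v109 :=
  edge_flip (s0_f5903 IH)
theorem s0_f14921 : s0_v109 = sq33 :=
  edge_fun (edge_congr (s0_f5903r IH) (s0_f14855 IH)) (s0_f92 IH)
theorem s0_f14933 : s0_v345 = s0_v53 :=
  edge_fun (edge_congr (s0_f6003 IH) (s0_f14861 IH)) (s0_f4056 IH)
theorem s0_f14934 : s0_v246 = sq149 :=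
  edge_fun (edge_congr (s0_f5550 IH) (s0_f14861 IH)) (s0_f4083 IH)
theorem s0_f14935 : s0_v300 = sq152 :=
  edge_fun (edge_congr (s0_f5798 IH) (s0_f14861 IH)) (s0_f4076 IH)
theorem s0_f14936 : s0_v346 = sq155 :=
  edge_fun (edge_congr (s0_f6007 IH) (s0_f14861 IH)) (s0_f3536 IH)
theorem s0_f9436r : ed sl_at s0_v859 = s0_v625 :=
  edge_flip (s0_f9436 IH)
theorem s0_f14940 : s0_v625 = sq23 :=
  edge_fun (edge_congr (s0_f9436r IH) (s0_f14865 IH)) (s0_f2469 IH)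
theorem s0_f14941 : s0_v1496 = s0_v415 :=
  edge_fun (edge_congr (s0_f13571 IH) (s0_f14868 IH)) (s0_f6567 IH)
theorem s0_f4753r : ed sl_ft s0_v150 = sq233 :=
  edge_flip (s0_f4753 IH)
theorem s0_f14942 : s0_v700 = sq233 :=
  edge_fun (edge_congr (s0_f8552 IH) (s0_f14868 IH)) (s0_f4753r IH)
theorem s0_f14943 : s0_v243 = s0_v52 :=
  edge_fun (edge_congr (s0_f8543r IH) (s0_f14868 IH)) (s0_f4754r IH)
theorem s0_f14944 : s0_v1618 = sq350 :=
  edge_fun (edge_congr (s0_f14250 IH) (s0_f14869 IH)) (s0_f4774 IH)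
theorem s0_f14945 : s0_v786 = sq239 :=
  edge_fun (edge_congr (s0_f9062 IH) (s0_f14869 IH)) (s0_f4825 IH)
theorem s0_f14946 : s0_v297 = sq144 :=
  edge_fun (edge_congr (s0_f9032r IH) (s0_f14869 IH)) (s0_f6462 IH)
theorem s0_f14947 : s0_v653 = s0_v155 :=
  edge_fun (edge_congr (s0_f8436r IH) (s0_f14870 IH)) (s0_f4836 IH)
theorem s0_f14949 : s0_v243 = sq143 :=
  edge_fun (edge_congr (s0_f5540 IH) (s0_f14871 IH)) (s0_f2309 IH)
theorem s0_f7608r : ed sl_bt s0_v523 = s0_v136 :=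
  edge_flip (s0_f7608 IH)
theorem s0_f14951 : s0_v136 = s0_v60 :=
  edge_fun (edge_congr (s0_f7608r IH) (s0_f14872 IH)) (s0_f4136 IH)
theorem s0_f14956 : s0_v138 = s0_v83 :=
  edge_fun (edge_congr (s0_f4650 IH) (s0_f14874 IH)) (s0_f4398 IH)
theorem s0_f14957 : s0_v1357 = sq173 :=
  edge_fun (edge_congr (s0_f12838 IH) (s0_f14875 IH)) (s0_f2304 IH)
theorem s0_f14958 : s0_v12 = s0_v81 :=
  edge_fun (edge_congr (s0_f3985r IH) (s0_f14876 IH)) (s0_f4395 IH)
theorem s0_f14967 : s0_v1122 = s0_v568 :=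
  edge_fun (edge_congr (s0_f11645 IH) (s0_f14880 IH)) (s0_f7838 IH)
theorem s0_f14968 : s0_v380 = s0_v650 :=
  edge_fun (edge_congr (s0_f7620r IH) (s0_f14880 IH)) (s0_f8276 IH)
theorem s0_f14969 : s0_v741 = s0_v531 :=
  edge_fun (edge_congr (s0_f8826 IH) (s0_f14881 IH).symm) (s0_f7655 IH)
theorem s0_f14972 : s0_v746 = s0_v631 :=
  edge_fun (edge_congr (s0_f8861 IH) (s0_f14883 IH).symm) (s0_f8177 IH)
theorem s0_f12868r : ed sl_gt s0_v1363 = s0_v529 :=
  edge_flip (s0_f12868 IH)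
theorem s0_f5709r : ed sl_gt s0_v277 = s0_v271 :=
  edge_flip (s0_f5709 IH)
theorem s0_f14987 : s0_v529 = s0_v271 :=
  edge_fun (edge_congr (s0_f12868r IH) (s0_f14889 IH)) (s0_f5709r IH)
theorem s0_f14996 : s0_v278 = s0_v952 :=
  edge_fun (edge_congr (s0_f8916r IH) (s0_f14894 IH)) (s0_f9997 IH)
theorem s0_f14999 : s0_v858 = s0_v952 :=
  edge_fun (edge_congr (s0_f9431 IH) (s0_f14894 IH)) (s0_f9995 IH)
theorem s0_f15000 : ed sl_dt sq228 = sq347 :=
  edge_of_path (path_eq (s0_f14896 IH) (path_eq (s0_f14894 IH).symm (path_edge (s0_f6514 IH) (path_nil sq228))))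
theorem s0_f12433r : ed sl_bt s0_v1283 = s0_v469 :=
  edge_flip (s0_f12433 IH)
theorem s0_f15009 : s0_v469 = sq179 :=
  edge_fun (edge_congr (s0_f12433r IH) ((s0_f14897 IH).trans (s0_f14824 IH))) (s0_f2289 IH)
theorem s0_f5343r : ed sl_gt s0_v204 = s0_v48 :=
  edge_flip (s0_f5343 IH)
theorem s0_f15021 : s0_v218 = s0_v48 :=
  edge_fun (edge_congr (s0_f8267r IH) (s0_f14900 IH)) (s0_f5343r IH)
theorem s0_f15023 : s0_v147 = s0_v73 :=
  edge_fun (edge_congr (s0_f4699 IH) (s0_f14902 IH)) (s0_f4353 IH)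
theorem s0_f8773r : ed sl_at s0_v731 = s0_v326 :=
  edge_flip (s0_f8773 IH)
theorem s0_f15024 : s0_v326 = s0_v319 :=
  edge_fun (edge_congr (s0_f8773r IH) (s0_f14903 IH)) (s0_f5905 IH)
theorem s0_f15025 : s0_v1554 = s0_v251 :=
  edge_fun (edge_congr (s0_f13900 IH) (s0_f14903 IH)) (s0_f5574 IH)
theorem s0_f15027 : s0_v326 = s0_v30 :=
  edge_fun (edge_congr (s0_f8776r IH) (s0_f14903 IH)) (s0_f4527r IH)
theorem s0_f15028 : s0_v1425 = s0_v378 :=
  edge_fun (edge_congr (s0_f13192 IH) (s0_f14904 IH)) (s0_f6157 IH)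
theorem s0_f15030 : s0_v217 = sq134 :=
  edge_fun (edge_congr (s0_f8253r IH) (s0_f14904 IH)) (s0_f4642r IH)
theorem s0_f14596r : ed sl_gt s0_v1685 = s0_v1504 :=
  edge_flip (s0_f14596 IH)
theorem s0_f15046 : s0_v1504 = s0_v705 :=
  edge_fun (edge_congr (s0_f14596r IH) (s0_f14911 IH)) (s0_f8636 IH)
theorem s0_f15047 : s0_v736 = s0_v206 :=
  edge_fun (edge_congr (s0_f8792 IH) (s0_f14912 IH)) (s0_f5356 IH)
theorem s0_f4526r : ed sl_bt s0_v109 = s0_v46 :=
  edge_flip (s0_f4526 IH)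
theorem s0_f15067 : s0_v46 = sq56 :=
  edge_fun (edge_congr (s0_f4526r IH) (s0_f14921 IH)) (s0_f73 IH)
theorem s0_f15084 : s0_v282 = s0_v208 :=
  edge_fun (edge_congr (s0_f8615r IH) (s0_f14933 IH)) (s0_f5365 IH)
theorem s0_f15086 : s0_v787 = s0_v153 :=
  edge_fun (edge_congr (s0_f9067 IH) (s0_f14933 IH)) (s0_f4824 IH)
theorem s0_f15089 : s0_v614 = sq231 :=
  edge_fun (edge_congr (s0_f8078 IH) (s0_f14934 IH)) (s0_f4761 IH)
theorem s0_f15090 : s0_v702 = sq234 :=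
  edge_fun (edge_congr (s0_f8565 IH) (s0_f14934 IH)) (s0_f4004 IH)
theorem s0_f15091 : s0_v73 = sq96 :=
  edge_fun (edge_congr (s0_f5549r IH) (s0_f14934 IH)) (s0_f2745 IH)
theorem s0_f15097 : s0_v788 = sq240 :=
  edge_fun (edge_congr (s0_f9071 IH) (s0_f14935 IH)) (s0_f3034 IH)
theorem s0_f7919r : ed sl_bt s0_v582 = s0_v179 :=
  edge_flip (s0_f7919 IH)
theorem s0_f15099 : s0_v179 = s0_v156 :=
  edge_fun (edge_congr (s0_f7919r IH) ((s0_f8433 IH).trans (s0_f14936 IH))) (s0_f4852 IH)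
theorem s0_f8139r : ed sl_bt s0_v625 = s0_v210 :=
  edge_flip (s0_f8139 IH)
theorem s0_f15106 : s0_v210 = sq42 :=
  edge_fun (edge_congr (s0_f8139r IH) (s0_f14940 IH)) (s0_f101 IH)
theorem s0_f6559r : ed sl_gt s0_v415 = s0_v151 :=
  edge_flip (s0_f6559 IH)
theorem s0_f15112 : s0_v612 = s0_v151 :=
  edge_fun (edge_congr (s0_f13568r IH) (s0_f14941 IH)) (s0_f6559r IH)
theorem s0_f8549r : ed sl_gt s0_v700 = s0_v245 :=
  edge_flip (s0_f8549 IH)
theorem s0_f15114 : s0_v245 = sq148 :=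
  edge_fun (edge_congr (s0_f8549r IH) (s0_f14942 IH)) (s0_f2753 IH)
theorem s0_f15115 : s0_v118 = s0_v148 :=
  edge_fun (edge_congr (s0_f5537r IH) (s0_f14943 IH)) (s0_f4706 IH)
theorem s0_f15120 : s0_v692 = sq224 :=
  edge_fun (edge_congr (s0_f14248r IH) (s0_f14944 IH)) (s0_f6452 IH)
theorem s0_f15121 : s0_v1433 = s0_v424 :=
  edge_fun (edge_congr (s0_f13250 IH) (s0_f14945 IH)) (s0_f6663 IH)
theorem s0_f9059r : ed sl_gt s0_v786 = s0_v299 :=
  edge_flip (s0_f9059 IH)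
theorem s0_f15122 : s0_v299 = sq151 :=
  edge_fun (edge_congr (s0_f9059r IH) (s0_f14945 IH)) (s0_f6653 IH)
theorem s0_f15123 : s0_v612 = sq221 :=
  edge_fun (edge_congr (s0_f8067 IH) (s0_f14946 IH)) (s0_f2356 IH)
theorem s0_f15124 : s0_v780 = sq225 :=
  edge_fun (edge_congr (s0_f9023 IH) (s0_f14946 IH)) (s0_f3527 IH)
theorem s0_f8294r : ed sl_at s0_v653 = s0_v223 :=
  edge_flip (s0_f8294 IH)
theorem s0_f15125 : s0_v223 = s0_v545 :=
  edge_fun (edge_congr (s0_f8294r IH) (s0_f14947 IH)) (s0_f7734 IH)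
theorem s0_f15126 : s0_v1566 = s0_v467 :=
  edge_fun (edge_congr (s0_f13978 IH) (s0_f14947 IH)) (s0_f7052 IH)
theorem s0_f15131 : s0_v376 = s0_v171 :=
  edge_fun (edge_congr (s0_f6143 IH) (s0_f14951 IH)) (s0_f5014 IH)
theorem s0_f15132 : s0_v379 = s0_v219 :=
  edge_fun (edge_congr (s0_f6165 IH) (s0_f14951 IH)) (s0_f5413 IH)
theorem s0_f15134 : s0_v526 = s0_v173 :=
  edge_fun (edge_congr (s0_f7635 IH) (s0_f14956 IH)) (s0_f5041 IH)
theorem s0_f12833r : ed sl_at s0_v1357 = s0_v1355 :=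
  edge_flip (s0_f12833 IH)
theorem s0_f15135 : s0_v1355 = sq265 :=
  edge_fun (edge_congr (s0_f12833r IH) (s0_f14957 IH)) (s0_f2305 IH)
theorem s0_f3641r : ed sl_at s0_v12 = sq100 :=
  edge_flip (s0_f3641 IH)
theorem s0_f15137 : sq100 = s0_v44 :=
  edge_fun (edge_congr (s0_f3641r IH) ((s0_f14958 IH).trans (s0_f14906 IH))) (s0_f3979 IH)
theorem s0_f15140 : s0_v17 = sq56 :=
  edge_fun (edge_congr (s0_f3761 IH) ((s0_f14958 IH).trans (s0_f14906 IH))) (s0_f489 IH)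
theorem s0_f15141 : s0_v72 = sq134 :=
  edge_fun (edge_congr (s0_f4345 IH) ((s0_f14958 IH).trans (s0_f14906 IH))) (s0_f3650 IH)
theorem s0_f15150 : s0_v926 = s0_v1430 :=
  edge_fun (edge_congr (s0_f11644r IH) (s0_f14967 IH)) (s0_f13216 IH)
theorem s0_f8280r : ed sl_gt s0_v650 = s0_v644 :=
  edge_flip (s0_f8280 IH)
theorem s0_f6169r : ed sl_gt s0_v380 = sq209 :=
  edge_flip (s0_f6169 IH)
theorem s0_f15152 : s0_v644 = sq209 :=
  edge_fun (edge_congr (s0_f8280r IH) (s0_f14968 IH).symm) (s0_f6169r IH)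
theorem s0_f8829r : ed sl_gt s0_v741 = s0_v287 :=
  edge_flip (s0_f8829 IH)
theorem s0_f15155 : s0_v287 = s0_v1132 :=
  edge_fun (edge_congr (s0_f8829r IH) (s0_f14969 IH)) (s0_f11695 IH)
theorem s0_f15171 : s0_v1130 = s0_v745 :=
  edge_fun (edge_congr (s0_f11686 IH) (s0_f14987 IH)) (s0_f8854 IH)
theorem s0_f9991r : ed sl_bt s0_v952 = s0_v403 :=
  edge_flip (s0_f9991 IH)
theorem s0_f15177 : s0_v403 = s0_v89 :=
  edge_fun (edge_congr (s0_f9991r IH) (s0_f14996 IH).symm) (s0_f5714r IH)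
theorem s0_f15184 : s0_v89 = sq146 :=
  edge_fun (edge_congr (s0_f5714r IH) (((s0_f14996 IH).trans (s0_f14999 IH).symm).trans (s0_f14838 IH))) (s0_f4058 IH)
theorem s0_f15201 : s0_v1275 = sq276 :=
  edge_fun (edge_congr (s0_f12405 IH) (s0_f15009 IH)) (s0_f431 IH)
theorem s0_f7064r : ed sl_ct s0_v469 = s0_v174 :=
  edge_flip (s0_f7064 IH)
theorem s0_f15202 : s0_v174 = sq277 :=
  edge_fun (edge_congr (s0_f7064r IH) (s0_f15009 IH)) (s0_f438 IH)
theorem s0_f15212 : s0_v397 = s0_v203 :=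
  edge_fun (edge_congr (s0_f6278 IH) (s0_f15021 IH)) (s0_f5336 IH)
theorem s0_f15221 : s0_v631 = sq49 :=
  edge_fun (edge_congr (s0_f8177 IH) (((s0_f14883 IH).trans (s0_f15024 IH)).trans (s0_f14855 IH))) (s0_f265 IH)
theorem s0_f15224 : s0_v746 = s0_v76 :=
  edge_fun (edge_congr (s0_f13899r IH) (s0_f15025 IH)) (s0_f5572r IH)
theorem s0_f15226 : s0_v4 = sq50 :=
  edge_fun (edge_congr (s0_f3927r IH) (((s0_f15027 IH).symm.trans (s0_f15024 IH)).trans (s0_f14855 IH))) (s0_f479 IH)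
theorem s0_f15228 : s0_v565 = sq208 :=
  edge_fun (edge_congr (s0_f13190r IH) (s0_f15028 IH)) (s0_f6156r IH)
theorem s0_f5405r : ed sl_bt s0_v217 = s0_v85 :=
  edge_flip (s0_f5405 IH)
theorem s0_f15230 : s0_v85 = sq88 :=
  edge_fun (edge_congr (s0_f5405r IH) (s0_f15030 IH)) (s0_f3261 IH)
theorem s0_f13629r : ed sl_at s0_v1504 = s0_v1260 :=
  edge_flip (s0_f13629 IH)
theorem s0_f8637r : ed sl_at s0_v705 = s0_v591 :=
  edge_flip (s0_f8637 IH)
theorem s0_f15257 : s0_v1260 = s0_v591 :=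
  edge_fun (edge_congr (s0_f13629r IH) (s0_f15046 IH)) (s0_f8637r IH)
theorem s0_f15259 : s0_v618 = s0_v908 :=
  edge_fun (edge_congr (s0_f13631r IH) (s0_f15046 IH)) (s0_f9693 IH)
theorem s0_f15260 : s0_v1299 = s0_v617 :=
  edge_fun (edge_congr (s0_f12537 IH) (s0_f15047 IH)) (s0_f8089 IH)
theorem s0_f15261 : s0_v459 = s0_v618 :=
  edge_fun (edge_congr (s0_f8794r IH) (s0_f15047 IH)) (s0_f8101 IH)
theorem s0_f15262 : s0_v1156 = s0_v619 :=
  edge_fun (edge_congr (s0_f11825 IH) (s0_f15047 IH)) (s0_f8103 IH)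
theorem s0_f15280 : s0_v198 = s0_v13 :=
  edge_fun (edge_congr (s0_f5317 IH) (s0_f15067 IH)) (s0_f3651 IH)
theorem s0_f3994r : ed sl_ct s0_v46 = s0_v14 :=
  edge_flip (s0_f3994 IH)
theorem s0_f15281 : s0_v14 = sq87 :=
  edge_fun (edge_congr (s0_f3994r IH) (s0_f15067 IH)) (s0_f480 IH)
theorem s0_f15284 : s0_v137 = sq91 :=
  edge_fun (edge_congr (s0_f4644 IH) (s0_f15067 IH)) (s0_f483 IH)
theorem s0_f15309 : s0_v90 = s0_v540 :=
  edge_fun (edge_congr (s0_f5729r IH) (s0_f15084 IH)) (s0_f7712 IH)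
theorem s0_f15316 : s0_v1623 = s0_v422 :=
  edge_fun (edge_congr (s0_f14272 IH) (s0_f15086 IH)) (s0_f6642 IH)
theorem s0_f15318 : s0_v304 = s0_v59 :=
  edge_fun (edge_congr (s0_f9066r IH) (s0_f15086 IH)) (s0_f4814r IH)
theorem s0_f15325 : s0_v203 = sq147 :=
  edge_fun (edge_congr (s0_f8077r IH) (s0_f15089 IH)) (s0_f2760 IH)
theorem s0_f8567r : ed sl_bt s0_v702 = s0_v460 :=
  edge_flip (s0_f8567 IH)
theorem s0_f15330 : s0_v460 = s0_v421 :=
  edge_fun (edge_congr (s0_f8567r IH) (s0_f15090 IH)) (s0_f6609 IH)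
theorem s0_f15337 : s0_v476 = s0_v425 :=
  edge_fun (edge_congr (s0_f9079r IH) (s0_f15097 IH)) (s0_f6678 IH)
theorem s0_f15340 : s0_v486 = s0_v471 :=
  edge_fun (edge_congr (s0_f7225 IH) (s0_f15099 IH)) (s0_f7078 IH)
theorem s0_f15354 : s0_v550 = sq70 :=
  edge_fun (edge_congr (s0_f7753 IH) (s0_f15106 IH)) (s0_f123 IH)
theorem s0_f15360 : s0_v1369 = s0_v405 :=
  edge_fun (edge_congr (s0_f12893 IH) (s0_f15112 IH)) (s0_f6454 IH)
theorem s0_f15365 : s0_v619 = sq232 :=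
  edge_fun (edge_congr (s0_f8109 IH) (s0_f15114 IH)) (s0_f2280 IH)
theorem s0_f15366 : s0_v400 = sq145 :=
  edge_fun (edge_congr (s0_f6415 IH) ((s0_f15115 IH).symm.trans (s0_f14871 IH))) (s0_f3539 IH)
theorem s0_f15371 : s0_v1369 = sq344 :=
  edge_fun (edge_congr (s0_f12895 IH) (s0_f15120 IH)) (s0_f3594 IH)
theorem s0_f15376 : s0_v1439 = s0_v1200 :=
  edge_fun (edge_congr (s0_f13292 IH) (s0_f15121 IH)) (s0_f12049 IH)
theorem s0_f15377 : s0_v680 = sq238 :=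
  edge_fun (edge_congr (s0_f8454 IH) (s0_f15122 IH)) (s0_f2070 IH)
theorem s0_f15379 : s0_v1048 = sq351 :=
  edge_fun (edge_congr (s0_f10979 IH) (s0_f15124 IH)) (s0_f246 IH)
theorem s0_f5428r : ed sl_bt s0_v223 = s0_v174 :=
  edge_flip (s0_f5428 IH)
theorem s0_f15380 : s0_v1384 = s0_v174 :=
  edge_fun (edge_congr (s0_f12976 IH) (s0_f15125 IH).symm) (s0_f5428r IH)
theorem s0_f15398 : s0_v921 = s0_v566 :=
  edge_fun (edge_congr (s0_f9757 IH) (s0_f15131 IH)) (s0_f7824 IH)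
theorem s0_f15401 : s0_v1358 = s0_v573 :=
  edge_fun (edge_congr (s0_f12842 IH) (s0_f15134 IH)) (s0_f7860 IH)
theorem s0_f15402 : s0_v1384 = s0_v460 :=
  edge_fun (edge_congr (s0_f13147 IH) (s0_f15135 IH)) (s0_f6921 IH)
theorem s0_f15403 : s0_v60 = sq156 :=
  edge_fun (edge_congr (s0_f4152 IH) ((s0_f14874 IH).symm.trans (s0_f15137 IH).symm)) (s0_f2746 IH)
theorem s0_f15407 : s0_v56 = sq91 :=
  edge_fun (edge_congr (s0_f4103 IH) (s0_f15140 IH)) (s0_f483 IH)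
theorem s0_f15409 : s0_v141 = sq208 :=
  edge_fun (edge_congr (s0_f4664 IH) (s0_f15141 IH)) (s0_f269 IH)
theorem s0_f15430 : s0_v1553 = sq330 :=
  edge_fun (edge_congr (s0_f13885 IH) (s0_f15152 IH)) (s0_f367 IH)
theorem s0_f11693r : ed sl_bt s0_v1132 = s0_v383 :=
  edge_flip (s0_f11693 IH)
theorem s0_f15431 : s0_v383 = s0_v480 :=
  edge_fun (edge_congr (s0_f11693r IH) (s0_f15155 IH).symm) (s0_f7197 IH)
theorem s0_f15448 : s0_v533 = s0_v1553 :=
  edge_fun (edge_congr (s0_f11685r IH) (s0_f15171 IH)) (s0_f13891 IH)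
theorem s0_f15454 : s0_v1164 = s0_v21 :=
  edge_fun (edge_congr (s0_f11874 IH) (s0_f15177 IH)) (s0_f4424r IH)
theorem s0_f15464 : s0_v21 = sq99 :=
  edge_fun (edge_congr (s0_f4424r IH) (s0_f15184 IH)) (s0_f4057 IH)
theorem s0_f12400r : ed sl_ct s0_v1275 = s0_v466 :=
  edge_flip (s0_f12400 IH)
theorem s0_f15487 : s0_v466 = s0_v465 :=
  edge_fun (edge_congr (s0_f12400r IH) (s0_f15201 IH)) (s0_f6991 IH)
theorem s0_f5058r : ed sl_dt s0_v174 = sq200 :=
  edge_flip (s0_f5058 IH)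
theorem s0_f15489 : sq200 = s0_v468 :=
  edge_fun (edge_congr (s0_f5058r IH) (s0_f15202 IH)) (s0_f7053 IH)
theorem s0_f15492 : s0_v462 = sq412 :=
  edge_fun (edge_congr (s0_f6969 IH) (s0_f15202 IH)) (s0_f6265 IH)
theorem s0_f15495 : s0_v574 = s0_v395 :=
  edge_fun (edge_congr (s0_f7870 IH) (s0_f15202 IH)) (s0_f6266 IH)
theorem s0_f4374r : ed sl_bt s0_v76 = s0_v15 :=
  edge_flip (s0_f4374 IH)
theorem s0_f15522 : s0_v15 = sq85 :=
  edge_fun (edge_congr (s0_f4374r IH) (((s0_f15224 IH).symm.trans (s0_f14972 IH)).trans (s0_f15221 IH))) (s0_f487 IH)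
theorem s0_f7818r : ed sl_bt s0_v565 = s0_v225 :=
  edge_flip (s0_f7818 IH)
theorem s0_f15530 : s0_v225 = sq136 :=
  edge_fun (edge_congr (s0_f7818r IH) (s0_f15228 IH)) (s0_f3250 IH)
theorem s0_f3005r : ed sl_at sq88 = sq105 :=
  edge_flip (s0_f3005 IH)
theorem s0_f15534 : s0_v20 = sq105 :=
  edge_fun (edge_congr (s0_f4407r IH) (s0_f15230 IH)) (s0_f3005r IH)
theorem s0_f12307r : ed sl_bt s0_v1260 = s0_v451 :=
  edge_flip (s0_f12307 IH)
theorem s0_f15563 : s0_v451 = s0_v190 :=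
  edge_fun (edge_congr (s0_f12307r IH) (s0_f15257 IH)) (s0_f7971r IH)
theorem s0_f9686r : ed sl_bt s0_v908 = s0_v574 :=
  edge_flip (s0_f9686 IH)
theorem s0_f15567 : s0_v574 = s0_v1355 :=
  edge_fun (edge_congr (s0_f9686r IH) (s0_f15259 IH).symm) (s0_f12825 IH)
theorem s0_f15573 : s0_v481 = s0_v581 :=
  edge_fun (edge_congr (s0_f12536r IH) (s0_f15260 IH)) (s0_f8096r IH)
theorem s0_f15575 : s0_v1504 = s0_v480 :=
  edge_fun (edge_congr (s0_f13628 IH) (s0_f15261 IH).symm) (s0_f7198 IH)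
theorem s0_f15595 : s0_v220 = s0_v48 :=
  edge_fun (edge_congr (s0_f5420 IH) ((s0_f14831 IH).symm.trans (s0_f15280 IH))) (s0_f4009 IH)
theorem s0_f15597 : s0_v49 = sq134 :=
  edge_fun (edge_congr (s0_f4015 IH) (s0_f15281 IH)) (s0_f3650 IH)
theorem s0_f15602 : s0_v525 = sq140 :=
  edge_fun (edge_congr (s0_f7625 IH) (s0_f15284 IH)) (s0_f2353 IH)
theorem s0_f15638 : s0_v1183 = s0_v230 :=
  edge_fun (edge_congr (s0_f11968 IH) (s0_f15309 IH).symm) (s0_f5460 IH)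
theorem s0_f15649 : s0_v696 = s0_v166 :=
  edge_fun (edge_congr (s0_f14271r IH) (s0_f15316 IH)) (s0_f6634r IH)
theorem s0_f5818r : ed sl_bt s0_v304 = s0_v99 :=
  edge_flip (s0_f5818 IH)
theorem s0_f4131r : ed sl_bt s0_v59 = sq105 :=
  edge_flip (s0_f4131 IH)
theorem s0_f15652 : s0_v99 = sq105 :=
  edge_fun (edge_congr (s0_f5818r IH) (s0_f15318 IH)) (s0_f4131r IH)
theorem s0_f6922r : ed sl_at s0_v460 = sq267 :=
  edge_flip (s0_f6922 IH)
theorem s0_f15669 : sq267 = s0_v1193 :=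
  edge_fun (edge_congr (s0_f6922r IH) (s0_f15330 IH)) (s0_f12010 IH)
theorem s0_f15687 : sq292 = s0_v1288 :=
  edge_fun (edge_congr (s0_f7223r IH) (s0_f15340 IH)) (s0_f12453 IH)
theorem s0_f15713 : s0_v1183 = sq115 :=
  edge_fun (edge_congr (s0_f11969 IH) (s0_f15354 IH)) (s0_f344 IH)
theorem s0_f15726 : s0_v1504 = s0_v418 :=
  edge_fun (edge_congr (s0_f13633 IH) (s0_f15365 IH)) (s0_f6585 IH)
theorem s0_f15729 : s0_v1161 = sq155 :=
  edge_fun (edge_congr (s0_f11856 IH) (s0_f15366 IH)) (s0_f4067 IH)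
theorem s0_f15737 : s0_v954 = sq510 :=
  edge_fun (edge_congr (s0_f10007 IH) ((s0_f15360 IH).symm.trans (s0_f15371 IH))) (s0_f3788 IH)
theorem s0_f15742 : ed sl_ft sq510 = sq748 :=
  real_edge rels S fwd inv o lvl plet idx 16 IH Gen.f sp510 sp748 rfl rfl
theorem s0_f15743 : ed sl_ft sq748 = sq510 :=
  real_edge rels S fwd inv o lvl plet idx 16 IH Gen.f sp748 sp510 rfl rfl
theorem s0_f15745 : ed sl_gt sq749 = sq510 :=
  real_edge rels S fwd inv o lvl plet idx 16 IH Gen.g sp749 sp510 rfl rfl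
theorem s0_f12045r : ed sl_bt s0_v1200 = s0_v423 :=
  edge_flip (s0_f12045 IH)
theorem s0_f15753 : s0_v1601 = s0_v423 :=
  edge_fun (edge_congr (s0_f14157 IH) (s0_f15376 IH)) (s0_f12045r IH)
theorem s0_f15754 : s0_v958 = sq366 :=
  edge_fun (edge_congr (s0_f10083 IH) (s0_f15377 IH)) (s0_f2069 IH)
theorem s0_f15761 : sq434 = s0_v959 :=
  edge_fun (edge_congr (s0_f10978r IH) (s0_f15379 IH)) (s0_f10091 IH)
theorem s0_f13150r : ed sl_ct s0_v1384 = s0_v1358 :=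
  edge_flip (s0_f13150 IH)
theorem s0_f15764 : s0_v1358 = sq179 :=
  edge_fun (edge_congr (s0_f13150r IH) ((s0_f15380 IH).trans (s0_f15202 IH))) (s0_f2292 IH)
theorem s0_f15780 : sq501 = s0_v1426 :=
  edge_fun (edge_congr (s0_f9754r IH) (s0_f15398 IH)) (s0_f13194 IH)
theorem s0_f15781 : s0_v1193 = s0_v465 :=
  edge_fun (edge_congr (s0_f12010 IH) ((((s0_f15330 IH).symm.trans (s0_f15402 IH).symm).trans (s0_f15380 IH)).trans (s0_f15202 IH))) (s0_f6995 IH)
theorem s0_f6610r : ed sl_bt s0_v421 = sq234 :=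
  edge_flip (s0_f6610 IH)
theorem s0_f15782 : sq234 = s0_v467 :=
  edge_fun (edge_congr (s0_f6610r IH) ((((s0_f15330 IH).symm.trans (s0_f15402 IH).symm).trans (s0_f15380 IH)).trans (s0_f15202 IH))) (s0_f7049 IH)
theorem s0_f6611r : ed sl_dt s0_v421 = s0_v156 :=
  edge_flip (s0_f6611 IH)
theorem s0_f15785 : s0_v156 = s0_v468 :=
  edge_fun (edge_congr (s0_f6611r IH) ((((s0_f15330 IH).symm.trans (s0_f15402 IH).symm).trans (s0_f15380 IH)).trans (s0_f15202 IH))) (s0_f7053 IH)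
theorem s0_f15787 : s0_v171 = sq242 :=
  edge_fun (edge_congr (s0_f5014 IH) (s0_f15403 IH)) (s0_f2762 IH)
theorem s0_f15790 : s0_v219 = s0_v158 :=
  edge_fun (edge_congr (s0_f5413 IH) (s0_f15403 IH)) (s0_f4877 IH)
theorem s0_f15792 : s0_v159 = sq139 :=
  edge_fun (edge_congr (s0_f4898 IH) (s0_f15407 IH)) (s0_f484 IH)
theorem s0_f15795 : s0_v384 = sq328 :=
  edge_fun (edge_congr (s0_f6195 IH) (s0_f15409 IH)) (s0_f270 IH)
theorem s0_f15796 : s0_v385 = sq329 :=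
  edge_fun (edge_congr (s0_f6203 IH) (s0_f15409 IH)) (s0_f6144 IH)
theorem s0_f13886r : ed sl_at s0_v1553 = s0_v1048 :=
  edge_flip (s0_f13886 IH)
theorem s0_f15808 : s0_v1048 = s0_v927 :=
  edge_fun (edge_congr (s0_f13886r IH) (s0_f15430 IH)) (s0_f9789 IH)
theorem s0_f13893r : ed sl_gt s0_v1553 = s0_v1045 :=
  edge_flip (s0_f13893 IH)
theorem s0_f15814 : s0_v1045 = s0_v928 :=
  edge_fun (edge_congr (s0_f13893r IH) (s0_f15430 IH)) (s0_f9800 IH)
theorem s0_f6187r : ed sl_ct s0_v383 = s0_v154 :=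
  edge_flip (s0_f6187 IH)
theorem s0_f15818 : s0_v1156 = s0_v154 :=
  edge_fun (edge_congr (s0_f11824 IH) (s0_f15431 IH).symm) (s0_f6187r IH)
theorem s0_f15842 : s0_v931 = sq489 :=
  edge_fun (edge_congr (s0_f9826 IH) ((s0_f15448 IH).trans (s0_f15430 IH))) (s0_f1748 IH)
theorem s0_f11871r : ed sl_ft s0_v1164 = s0_v1161 :=
  edge_flip (s0_f11871 IH)
theorem s0_f15859 : s0_v1161 = s0_v91 :=
  edge_fun (edge_congr (s0_f11871r IH) (s0_f15454 IH)) (s0_f4428 IH)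
theorem s0_f15873 : s0_v63 = sq152 :=
  edge_fun (edge_congr (s0_f4240 IH) (s0_f15464 IH)) (s0_f4076 IH)
theorem s0_f6998r : ed sl_dt s0_v466 = s0_v187 :=
  edge_flip (s0_f6998 IH)
theorem s0_f15878 : s0_v187 = s0_v1274 :=
  edge_fun (edge_congr (s0_f6998r IH) (s0_f15487 IH)) (s0_f12394 IH)
theorem s0_f15882 : s0_v1154 = s0_v190 :=
  edge_fun (edge_congr (s0_f11815 IH) (s0_f15489 IH).symm) (s0_f5249 IH)
theorem s0_f6965r : ed sl_dt s0_v462 = sq610 :=
  edge_flip (s0_f6965 IH)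
theorem s0_f15883 : sq610 = s0_v1021 :=
  edge_fun (edge_congr (s0_f6965r IH) (s0_f15492 IH)) (s0_f10657 IH)
theorem s0_f15905 : s0_v58 = sq133 :=
  edge_fun (edge_congr (s0_f4122 IH) (s0_f15522 IH)) (s0_f506 IH)
theorem s0_f5440r : ed sl_at s0_v225 = s0_v62 :=
  edge_flip (s0_f5440 IH)
theorem s0_f15912 : s0_v62 = sq162 :=
  edge_fun (edge_congr (s0_f5440r IH) (s0_f15530 IH)) (s0_f3246r IH)
theorem s0_f15923 : s0_v87 = sq164 :=
  edge_fun (edge_congr (s0_f4415 IH) (s0_f15534 IH)) (s0_f2624 IH)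
theorem s0_f15940 : s0_v1004 = s0_v513 :=
  edge_fun (edge_congr (s0_f10476 IH) (s0_f15563 IH)) (s0_f7501 IH)
theorem s0_f15942 : s0_v998 = s0_v503 :=
  edge_fun (edge_congr (s0_f10440 IH) (s0_f15563 IH)) (s0_f7428 IH)
theorem s0_f15964 : s0_v1154 = sq186 :=
  edge_fun (edge_congr (s0_f11812 IH) (((s0_f15495 IH).symm.trans (s0_f15567 IH)).trans (s0_f15135 IH))) (s0_f3691 IH)
theorem s0_f15981 : s0_v1291 = s0_v1046 :=
  edge_fun (edge_congr (s0_f12474 IH) (s0_f15573 IH).symm) (s0_f10966 IH)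
theorem s0_f16000 : s0_v568 = s0_v143 :=
  edge_fun (edge_congr (s0_f7838 IH) (s0_f15595 IH)) (s0_f4673 IH)
theorem s0_f16002 : s0_v144 = sq208 :=
  edge_fun (edge_congr (s0_f4681 IH) (s0_f15597 IH)) (s0_f269 IH)
theorem s0_f7630r : ed sl_gt s0_v525 = s0_v379 :=
  edge_flip (s0_f7630 IH)
theorem s0_f16009 : s0_v379 = sq218 :=
  edge_fun (edge_congr (s0_f7630r IH) (s0_f15602 IH)) (s0_f380 IH)
theorem s0_f8524r : ed sl_bt s0_v696 = s0_v241 :=
  edge_flip (s0_f8524 IH)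
theorem s0_f4977r : ed sl_bt s0_v166 = sq162 :=
  edge_flip (s0_f4977 IH)
theorem s0_f16044 : s0_v241 = sq162 :=
  edge_fun (edge_congr (s0_f8524r IH) (s0_f15649 IH)) (s0_f4977r IH)
theorem s0_f16049 : s0_v67 = sq164 :=
  edge_fun (edge_congr (s0_f4476r IH) (s0_f15652 IH)) (s0_f2624 IH)
theorem s0_f12454r : ed sl_bt s0_v1288 = s0_v508 :=
  edge_flip (s0_f12454 IH)
theorem s0_f16072 : s0_v508 = s0_v484 :=
  edge_fun (edge_congr (s0_f12454r IH) (s0_f15687 IH).symm) (s0_f7210 IH)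
theorem s0_f16086 : s0_v672 = sq176 :=
  edge_fun (edge_congr (s0_f8392 IH) ((s0_f15638 IH).symm.trans (s0_f15713 IH))) (s0_f4173 IH)
theorem s0_f16087 : s0_v673 = sq178 :=
  edge_fun (edge_congr (s0_f8395 IH) ((s0_f15638 IH).symm.trans (s0_f15713 IH))) (s0_f345 IH)
theorem s0_f16099 : s0_v965 = s0_v928 :=
  edge_fun (edge_congr (s0_f10137 IH) (((s0_f15726 IH).symm.trans (s0_f15575 IH)).trans (s0_f15431 IH).symm)) (s0_f9805 IH)
theorem s0_f14151r : ed sl_at s0_v1601 = s0_v1321 :=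
  edge_flip (s0_f14151 IH)
theorem s0_f6652r : ed sl_at s0_v423 = sq384 :=
  edge_flip (s0_f6652 IH)
theorem s0_f16103 : s0_v1321 = sq384 :=
  edge_fun (edge_congr (s0_f14151r IH) (s0_f15753 IH)) (s0_f6652r IH)
theorem s0_f16108 : s0_v678 = sq252 :=
  edge_fun (edge_congr (s0_f10082r IH) (s0_f15754 IH)) (s0_f2067 IH)
theorem s0_f16111 : s0_v1321 = s0_v1046 :=
  edge_fun (edge_congr (s0_f12656 IH) (s0_f15761 IH).symm) (s0_f10963 IH)
theorem s0_f7861r : ed sl_at s0_v573 = s0_v461 :=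
  edge_flip (s0_f7861 IH)
theorem s0_f16113 : s0_v461 = sq276 :=
  edge_fun (edge_congr (s0_f7861r IH) ((s0_f15401 IH).symm.trans (s0_f15764 IH))) (s0_f431 IH)
theorem s0_f16143 : s0_v1274 = sq188 :=
  edge_fun (edge_congr (s0_f12394 IH) ((s0_f15781 IH).symm.trans (s0_f15669 IH).symm)) (s0_f5135 IH)
theorem s0_f16146 : s0_v1018 = sq396 :=
  edge_fun (edge_congr (s0_f10639 IH) ((s0_f15781 IH).symm.trans (s0_f15669 IH).symm)) (s0_f6930 IH)
theorem s0_f16149 : s0_v571 = sq358 :=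
  edge_fun (edge_congr (s0_f7853 IH) (((s0_f14806 IH).symm.trans (s0_f15126 IH)).trans (s0_f15782 IH).symm)) (s0_f4744 IH)
theorem s0_f16153 : s0_v425 = sq311 :=
  edge_fun (edge_congr (s0_f6686 IH) ((s0_f15785 IH).trans (s0_f15489 IH).symm)) (s0_f4438 IH)
theorem s0_f16154 : s0_v566 = sq367 :=
  edge_fun (edge_congr (s0_f7824 IH) (s0_f15787 IH)) (s0_f2781 IH)
theorem s0_f16164 : s0_v429 = sq216 :=
  edge_fun (edge_congr (s0_f6719 IH) (s0_f15792 IH)) (s0_f503 IH)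
theorem s0_f16169 : s0_v929 = sq486 :=
  edge_fun (edge_congr (s0_f9809 IH) (s0_f15795 IH)) (s0_f271 IH)
theorem s0_f16172 : ed sl_ft sq486 = sq711 :=
  real_edge rels S fwd inv o lvl plet idx 16 IH Gen.f sp486 sp711 rfl rfl
theorem s0_f16173 : s0_v976 = sq487 :=
  edge_fun (edge_congr (s0_f10251 IH) (s0_f15795 IH)) (s0_f3277 IH)
theorem s0_f16174 : s0_v930 = sq488 :=
  edge_fun (edge_congr (s0_f9817 IH) (s0_f15795 IH)) (s0_f9761 IH)
theorem s0_f16180 : sq244 = s0_v926 :=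
  edge_fun (edge_congr (s0_f6200r IH) (s0_f15796 IH)) (s0_f9785 IH)
theorem s0_f16189 : s0_v934 = s0_v959 :=
  edge_fun (edge_congr (s0_f9850 IH) ((s0_f15808 IH).symm.trans (s0_f15379 IH))) (s0_f10091 IH)
theorem s0_f16199 : s0_v423 = sq356 :=
  edge_fun (edge_congr (s0_f6657 IH) (((s0_f15818 IH).symm.trans (s0_f15262 IH)).trans (s0_f15365 IH))) (s0_f4722 IH)
theorem s0_f16223 : s0_v231 = sq240 :=
  edge_fun (edge_congr (s0_f5467 IH) ((s0_f15859 IH).symm.trans (s0_f15729 IH))) (s0_f4860 IH)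
theorem s0_f16237 : s0_v176 = sq237 :=
  edge_fun (edge_congr (s0_f5092 IH) (s0_f15873 IH)) (s0_f4077 IH)
theorem s0_f16263 : s0_v164 = sq207 :=
  edge_fun (edge_congr (s0_f4941 IH) (s0_f15905 IH)) (s0_f496 IH)
theorem s0_f4182r : ed sl_bt s0_v62 = sq119 :=
  edge_flip (s0_f4182 IH)
theorem s0_f16269 : sq119 = s0_v166 :=
  edge_fun (edge_congr (s0_f4182r IH) (s0_f15912 IH)) (s0_f4976 IH)
theorem s0_f16272 : s0_v226 = sq249 :=
  edge_fun (edge_congr (s0_f5443 IH) (s0_f15912 IH)) (s0_f2723 IH)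
theorem s0_f16273 : s0_v227 = sq251 :=
  edge_fun (edge_congr (s0_f5445 IH) (s0_f15912 IH)) (s0_f2796 IH)
theorem s0_f16283 : s0_v177 = sq254 :=
  edge_fun (edge_congr (s0_f5108 IH) (s0_f15923 IH)) (s0_f3037 IH)
theorem s0_f16305 : sq387 = s0_v508 :=
  edge_fun (edge_congr (s0_f10474r IH) (s0_f15940 IH)) (s0_f7500r IH)
theorem s0_f16308 : sq385 = s0_v500 :=
  edge_fun (edge_congr (s0_f10438r IH) (s0_f15942 IH)) (s0_f7427r IH)
theorem s0_f16339 : s0_v503 = sq288 :=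
  edge_fun (edge_congr (s0_f7428 IH) ((s0_f15882 IH).symm.trans (s0_f15964 IH))) (s0_f5112 IH)
theorem s0_f16379 : s0_v1430 = s0_v393 :=
  edge_fun (edge_congr (s0_f13216 IH) (s0_f16000 IH)) (s0_f6253 IH)
theorem s0_f16408 : s0_v595 = sq249 :=
  edge_fun (edge_congr (s0_f7987 IH) (s0_f16044 IH)) (s0_f2723 IH)
theorem s0_f16409 : s0_v183 = sq251 :=
  edge_fun (edge_congr (s0_f5523r IH) (s0_f16044 IH)) (s0_f2796 IH)
theorem s0_f16413 : s0_v184 = sq254 :=
  edge_fun (edge_congr (s0_f5208 IH) (s0_f16049 IH)) (s0_f3037 IH)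
theorem s0_f16432 : s0_v1087 = s0_v1049 :=
  edge_fun (edge_congr (s0_f11409 IH) (s0_f16072 IH)) (s0_f10984 IH)
theorem s0_f16447 : s0_v1320 = sq273 :=
  edge_fun (edge_congr (s0_f12650 IH) (s0_f16086 IH)) (s0_f313 IH)
theorem s0_f7946r : ed sl_bt s0_v587 = s0_v185 :=
  edge_flip (s0_f7946 IH)
theorem s0_f16448 : s0_v185 = sq275 :=
  edge_fun (edge_congr (s0_f7946r IH) ((s0_f8585 IH).symm.trans (s0_f16087 IH))) (s0_f346 IH)
theorem s0_f16470 : ed sl_gt sq564 = sq380 :=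
  real_edge rels S fwd inv o lvl plet idx 16 IH Gen.g sp564 sp380 rfl rfl
theorem s0_f12653r : ed sl_bt s0_v1321 = s0_v500 :=
  edge_flip (s0_f12653 IH)
theorem s0_f16472 : s0_v500 = s0_v996 :=
  edge_fun (edge_congr (s0_f12653r IH) (s0_f16103 IH)) (s0_f10425 IH)
theorem s0_f16476 : s0_v1045 = sq383 :=
  edge_fun (edge_congr (s0_f10959 IH) (s0_f16108 IH)) (s0_f2027 IH)
theorem s0_f12472r : ed sl_bt s0_v1291 = s0_v475 :=
  edge_flip (s0_f12472 IH)
theorem s0_f16483 : s0_v475 = s0_v996 :=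
  edge_fun (edge_congr (s0_f12472r IH) (((s0_f15981 IH).trans (s0_f16111 IH).symm).trans (s0_f16103 IH))) (s0_f10425 IH)
theorem s0_f16485 : s0_v498 = sq411 :=
  edge_fun (edge_congr (s0_f7378 IH) ((s0_f7006 IH).trans (s0_f16113 IH))) (s0_f6259 IH)
theorem s0_f16514 : s0_v499 = sq290 :=
  edge_fun (edge_congr (s0_f7402 IH) ((s0_f15878 IH).trans (s0_f16143 IH))) (s0_f5140 IH)
theorem s0_f16517 : s0_v1268 = sq525 :=
  edge_fun (edge_congr (s0_f12355 IH) (s0_f16149 IH)) (s0_f6553 IH)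
theorem s0_f16522 : s0_v971 = sq464 :=
  edge_fun (edge_congr (s0_f10206 IH) (s0_f16153 IH)) (s0_f4439 IH)
theorem s0_f16523 : s0_v1010 = sq539 :=
  edge_fun (edge_congr (s0_f10519 IH) (s0_f16154 IH)) (s0_f2799 IH)
theorem s0_f16526 : s0_v1426 = s0_v973 :=
  edge_fun (edge_congr (s0_f13194 IH) (s0_f16154 IH)) (s0_f10214 IH)
theorem s0_f16545 : s0_v975 = sq337 :=
  edge_fun (edge_congr (s0_f10240 IH) (s0_f16164 IH)) (s0_f1490 IH)
theorem s0_f10246r : ed sl_ct s0_v976 = sq369 :=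
  edge_flip (s0_f10246 IH)
theorem s0_f16551 : sq369 = s0_v935 :=
  edge_fun (edge_congr (s0_f10246r IH) (s0_f16173 IH)) (s0_f9860 IH)
theorem s0_f16563 : s0_v969 = sq523 :=
  edge_fun (edge_congr (s0_f10182 IH) (s0_f16199 IH)) (s0_f4723 IH)
theorem s0_f16613 : s0_v437 = sq326 :=
  edge_fun (edge_congr (s0_f6768 IH) (s0_f16263 IH)) (s0_f1341 IH)
theorem s0_f4944r : ed sl_dt s0_v164 = sq160 :=
  edge_flip (s0_f4944 IH)
theorem s0_f16614 : sq160 = s0_v194 :=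
  edge_fun (edge_congr (s0_f4944r IH) (s0_f16263 IH)) (s0_f5298 IH)
theorem s0_f16615 : s0_v438 = sq306 :=
  edge_fun (edge_congr (s0_f6780 IH) (s0_f16263 IH)) (s0_f531 IH)
theorem s0_f16617 : s0_v558 = sq182 :=
  edge_fun (edge_congr (s0_f7788 IH) (s0_f16269 IH).symm) (s0_f3584 IH)
theorem s0_f16619 : s0_v473 = sq377 :=
  edge_fun (edge_congr (s0_f7110 IH) (s0_f16272 IH)) (s0_f2724 IH)
theorem s0_f16624 : s0_v474 = sq382 :=
  edge_fun (edge_congr (s0_f7137 IH) (s0_f16273 IH)) (s0_f3056 IH)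
theorem s0_f16636 : s0_v478 = sq386 :=
  edge_fun (edge_congr (s0_f7182 IH) (s0_f16283 IH)) (s0_f2630 IH)
theorem s0_f16661 : s0_v1049 = sq568 :=
  edge_fun (edge_congr (s0_f10984 IH) ((s0_f16072 IH).symm.trans (s0_f16305 IH).symm)) (s0_f10470 IH)
theorem s0_f16669 : s0_v1077 = sq566 :=
  edge_fun (edge_congr (s0_f11327 IH) (s0_f16308 IH).symm) (s0_f6841 IH)
theorem s0_f7406r : ed sl_gt s0_v500 = sq309 :=
  edge_flip (s0_f7406 IH)
theorem s0_f16672 : sq309 = s0_v999 :=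
  edge_fun (edge_congr (s0_f7406r IH) (s0_f16308 IH).symm) (s0_f10441 IH)
theorem s0_f16692 : s0_v1080 = sq431 :=
  edge_fun (edge_congr (s0_f11358 IH) (s0_f16339 IH)) (s0_f7142 IH)
theorem s0_f16742 : s0_v495 = sq378 :=
  edge_fun (edge_congr (s0_f7986r IH) (s0_f16408 IH)) (s0_f2811 IH)
theorem s0_f16745 : s0_v496 = sq382 :=
  edge_fun (edge_congr (s0_f7363 IH) (s0_f16409 IH)) (s0_f3056 IH)
theorem s0_f16748 : s0_v502 = sq386 :=
  edge_fun (edge_congr (s0_f7422 IH) (s0_f16413 IH)) (s0_f2630 IH)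
theorem s0_f12647r : ed sl_bt s0_v1320 = s0_v497 :=
  edge_flip (s0_f12647 IH)
theorem s0_f16771 : s0_v497 = sq410 :=
  edge_fun (edge_congr (s0_f12647r IH) (s0_f16447 IH)) (s0_f314 IH)
theorem s0_f16772 : s0_v504 = sq413 :=
  edge_fun (edge_congr (s0_f7437 IH) (s0_f16448 IH)) (s0_f6688 IH)
theorem s0_f16790 : s0_v1040 = sq566 :=
  edge_fun (edge_congr (s0_f10903 IH) (((s0_f16483 IH).trans (s0_f16472 IH).symm).trans (s0_f16308 IH).symm)) (s0_f6841 IH)
theorem s0_f16796 : s0_v1075 = sq608 :=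
  edge_fun (edge_congr (s0_f11306 IH) (s0_f16485 IH)) (s0_f6987 IH)
theorem s0_f16844 : s0_v1076 = sq433 :=
  edge_fun (edge_congr (s0_f11318 IH) (s0_f16514 IH)) (s0_f7158 IH)
theorem s0_f16880 : s0_v983 = sq483 :=
  edge_fun (edge_congr (s0_f10316 IH) (s0_f16613 IH)) (s0_f1043 IH)
theorem s0_f16886 : s0_v986 = sq459 :=
  edge_fun (edge_congr (s0_f10371 IH) (s0_f16615 IH)) (s0_f537 IH)
theorem s0_f16887 : s0_v987 = sq283 :=
  edge_fun (edge_congr (s0_f10378 IH) (s0_f16617 IH)) (s0_f4206 IH)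
theorem s0_f16908 : s0_v1043 = sq567 :=
  edge_fun (edge_congr (s0_f10934 IH) (s0_f16624 IH)) (s0_f3543 IH)
theorem s0_f16911 : ed sl_at sq567 = sq833 :=
  real_edge rels S fwd inv o lvl plet idx 16 IH Gen.a sp567 sp833 rfl rfl
theorem s0_f16923 : s0_v1294 = s0_v1000 :=
  edge_fun (edge_congr (s0_f12485 IH) (s0_f16636 IH)) (s0_f10447 IH)
theorem s0_f16936 : ed sl_gt sq495 = sq723 :=
  real_edge rels S fwd inv o lvl plet idx 16 IH Gen.g sp495 sp723 rfl rfl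
theorem s0_f16937 : ed sl_gt sq723 = sq495 :=
  real_edge rels S fwd inv o lvl plet idx 16 IH Gen.g sp723 sp495 rfl rfl
theorem s0_f16954 : s0_v1318 = sq560 :=
  edge_fun (edge_congr (s0_f12633 IH) (s0_f16742 IH)) (s0_f2671 IH)
theorem s0_f16957 : s0_v1079 = sq567 :=
  edge_fun (edge_congr (s0_f11351 IH) (s0_f16745 IH)) (s0_f3543 IH)
theorem s0_f16962 : s0_v1324 = s0_v1000 :=
  edge_fun (edge_congr (s0_f12672 IH) (s0_f16748 IH)) (s0_f10447 IH)
theorem s0_f16980 : s0_v1081 = sq611 :=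
  edge_fun (edge_congr (s0_f11368 IH) (s0_f16771 IH)) (s0_f4848 IH)
theorem s0_f16985 : ed sl_gt sq900 = sq611 :=
  real_edge rels S fwd inv o lvl plet idx 16 IH Gen.g sp900 sp611 rfl rfl
theorem s0_f16986 : s0_v1328 = s0_v1025 :=
  edge_fun (edge_congr (s0_f12696 IH) (s0_f16772 IH)) (s0_f10681 IH)
theorem s0_f16990 : s0_v1044 = sq462 :=
  edge_fun (edge_congr (s0_f10946 IH) ((s0_f16790 IH).trans (s0_f16669 IH).symm)) (s0_f11325r IH)
theorem s0_f17009 : sq373 = s0_v1116 :=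
  edge_fun (edge_congr (s0_f10309r IH) (s0_f16880 IH)) (s0_f11608 IH)
theorem s0_f1681r : ed sl_gf sq678 = sq459 :=
  edge_flip (s0_f1681 IH)
theorem s0_f17077 : ed sl_df sq557 = sq678 :=
  gap_rel s0_rot52 (path_edge (s0_f3089r IH) (path_edge (s0_f10363r IH) (path_eq (s0_f16886 IH).symm (path_edge (s0_f1681r IH) (path_nil sq678)))))
theorem s0_f17079 : ed sl_gt sq815 = sq555 :=
  real_edge rels S fwd inv o lvl plet idx 16 IH Gen.g sp815 sp555 rfl rfl
theorem s0_f17081 : ed sl_gt sq551 = sq810 :=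
  real_edge rels S fwd inv o lvl plet idx 16 IH Gen.g sp551 sp810 rfl rfl
theorem s0_f17082 : ed sl_at sq808 = sq551 :=
  real_edge rels S fwd inv o lvl plet idx 16 IH Gen.a sp808 sp551 rfl rfl
theorem s0_f17077r : ed sl_dt sq678 = sq557 :=
  edge_flip (s0_f17077 IH)
theorem s0_f17088 : ed sl_dt sq557 = sq678 :=
  gap_rel s0_rot28 (path_edge (s0_f17077r IH) (path_nil sq678))
theorem s0_f17092 : ed sl_dt sq818 = sq985 :=
  gap_rel s0_rot29 (path_edge (s0_f3218 IH) (path_edge (s0_f17077r IH) (path_edge (s0_f1677 IH) (path_nil sq985))))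
theorem s0_f1667r : ed sl_gf sq967 = sq985 :=
  edge_flip (s0_f1667 IH)
theorem s0_f17092r : ed sl_df sq985 = sq818 :=
  edge_flip (s0_f17092 IH)
theorem s0_f3239r : ed sl_gf sq818 = sq808 :=
  edge_flip (s0_f3239 IH)
theorem s0_f17106 : ed sl_df sq808 = sq967 :=
  gap_rel s0_rot52 (path_edge (s0_f3239r IH) (path_edge (s0_f17092r IH) (path_edge (s0_f1667r IH) (path_nil sq967))))
theorem s0_f17115 : ed sl_et sq808 = sq1134 :=
  real_edge rels S fwd inv o lvl plet idx 16 IH Gen.e sp808 sp1134 rfl rfl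
theorem s0_f17116 : ed sl_ft sq808 = sq555 :=
  real_edge rels S fwd inv o lvl plet idx 16 IH Gen.f sp808 sp555 rfl rfl
theorem s0_f17106r : ed sl_dt sq967 = sq808 :=
  edge_flip (s0_f17106 IH)
theorem s0_f17117 : ed sl_dt sq555 = sq676 :=
  gap_rel s0_rot29 (path_edge (s0_f17116 IH) (path_edge (s0_f17106r IH) (path_edge (s0_f1666 IH) (path_nil sq676))))
theorem s0_f1690r : ed sl_gf sq984 = sq676 :=
  edge_flip (s0_f1690 IH)
theorem s0_f17117r : ed sl_df sq676 = sq555 :=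
  edge_flip (s0_f17117 IH)
theorem s0_f17079r : ed sl_gf sq555 = sq815 :=
  edge_flip (s0_f17079 IH)
theorem s0_f17130 : ed sl_df sq815 = sq984 :=
  gap_rel s0_rot52 (path_edge (s0_f17079r IH) (path_edge (s0_f17117r IH) (path_edge (s0_f1690r IH) (path_nil sq984))))
theorem s0_f17133 : ed sl_at sq672 = sq978 :=
  real_edge rels S fwd inv o lvl plet idx 16 IH Gen.a sp672 sp978 rfl rfl
theorem s0_f17130r : ed sl_dt sq984 = sq815 :=
  edge_flip (s0_f17130 IH)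
theorem s0_f17145 : ed sl_dt sq810 = sq968 :=
  gap_rel s0_rot29 (path_edge (s0_f3221 IH) (path_edge (s0_f17130r IH) (path_edge (s0_f1680 IH) (path_nil sq968))))
theorem s0_f1676r : ed sl_gf sq664 = sq968 :=
  edge_flip (s0_f1676 IH)
theorem s0_f17145r : ed sl_df sq968 = sq810 :=
  edge_flip (s0_f17145 IH)
theorem s0_f17081r : ed sl_gf sq810 = sq551 :=
  edge_flip (s0_f17081 IH)
theorem s0_f17154 : ed sl_df sq551 = sq664 :=
  gap_rel s0_rot52 (path_edge (s0_f17081r IH) (path_edge (s0_f17145r IH) (path_edge (s0_f1676r IH) (path_nil sq664))))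
theorem s0_f17157 : ed sl_bt sq665 = sq969 :=
  real_edge rels S fwd inv o lvl plet idx 16 IH Gen.b sp665 sp969 rfl rfl
theorem s0_f17162 : ed sl_et sq551 = sq795 :=
  real_edge rels S fwd inv o lvl plet idx 16 IH Gen.e sp551 sp795 rfl rfl
theorem s0_f17163 : ed sl_dt sq795 = sq1132 :=
  real_edge rels S fwd inv o lvl plet idx 16 IH Gen.d sp795 sp1132 rfl rfl
theorem s0_f555r : ed sl_et sq730 = sq664 :=
  edge_flip (s0_f555 IH)
theorem s0_f17154r : ed sl_dt sq664 = sq551 :=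
  edge_flip (s0_f17154 IH)
theorem s0_f17164 : ed sl_et sq1132 = sq1049 :=
  gap_rel s0_rot123 (path_edge (s0_f17163 IH) (path_edge (s0_f17162 IH) (path_edge (s0_f17154r IH) (path_edge (s0_f555r IH) (path_edge (s0_f716 IH) (path_nil sq1049))))))
theorem s0_f17164r : ed sl_ef sq1049 = sq1132 :=
  edge_flip (s0_f17164 IH)
theorem s0_f17173 : ed sl_ef sq1132 = sq1049 :=
  gap_rel s0_rot34 (path_edge (s0_f17164r IH) (path_nil sq1049))
theorem s0_f17175 : ed sl_ft sq798 = sq1132 :=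
  real_edge rels S fwd inv o lvl plet idx 16 IH Gen.f sp798 sp1132 rfl rfl
theorem s0_f17176 : ed sl_ft sq1049 = sq735 :=
  real_edge rels S fwd inv o lvl plet idx 16 IH Gen.f sp1049 sp735 rfl rfl
theorem s0_f17176r : ed sl_ff sq735 = sq1049 :=
  edge_flip (s0_f17176 IH)
theorem s0_f17175r : ed sl_ff sq1132 = sq798 :=
  edge_flip (s0_f17175 IH)
theorem s0_f17177 : ed sl_ef sq798 = sq735 :=
  gap_rel s0_rot32 (path_edge (s0_f17175r IH) (path_edge (s0_f17164r IH) (path_edge (s0_f17176r IH) (path_nil sq735))))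
theorem s0_f17177r : ed sl_et sq735 = sq798 :=
  edge_flip (s0_f17177 IH)
theorem s0_f17188 : ed sl_et sq798 = sq735 :=
  gap_rel s0_rot31 (path_edge (s0_f17177r IH) (path_nil sq735))
theorem s0_f2055r : ed sl_bf sq502 = sq735 :=
  edge_flip (s0_f2055 IH)
theorem s0_f17188r : ed sl_ef sq735 = sq798 :=
  edge_flip (s0_f17188 IH)
theorem s0_f10221r : ed sl_bf sq798 = sq544 :=
  edge_flip (s0_f10221 IH)
theorem s0_f17192 : ed sl_ef sq544 = sq502 :=
  gap_rel s0_rot46 (path_edge (s0_f10221r IH) (path_edge (s0_f17188r IH) (path_edge (s0_f2055r IH) (path_nil sq502))))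
theorem s0_f17231 : ed sl_bt sq1132 = sq793 :=
  real_edge rels S fwd inv o lvl plet idx 16 IH Gen.b sp1132 sp793 rfl rfl
theorem s0_f17173r : ed sl_et sq1049 = sq1132 :=
  edge_flip (s0_f17173 IH)
theorem s0_f17232 : ed sl_et sq793 = sq728 :=
  gap_rel s0_rot35 (path_edge (s0_f17231 IH) (path_edge (s0_f17173r IH) (path_edge (s0_f733 IH) (path_nil sq728))))
theorem s0_f17241 : ed sl_ft sq541 = sq793 :=
  real_edge rels S fwd inv o lvl plet idx 16 IH Gen.f sp541 sp793 rfl rfl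
theorem s0_f9876r : ed sl_ff sq498 = sq728 :=
  edge_flip (s0_f9876 IH)
theorem s0_f17232r : ed sl_ef sq728 = sq793 :=
  edge_flip (s0_f17232 IH)
theorem s0_f17241r : ed sl_ff sq793 = sq541 :=
  edge_flip (s0_f17241 IH)
theorem s0_f17242 : ed sl_ef sq541 = sq498 :=
  gap_rel s0_rot32 (path_edge (s0_f17241r IH) (path_edge (s0_f17232r IH) (path_edge (s0_f9876r IH) (path_nil sq498))))
theorem s0_f17242r : ed sl_et sq498 = sq541 :=
  edge_flip (s0_f17242 IH)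
theorem s0_f17247 : ed sl_et sq792 = sq727 :=
  gap_rel s0_rot33 (path_edge (s0_f2985 IH) (path_edge (s0_f17242r IH) (path_edge (s0_f1465 IH) (path_nil sq727))))
theorem s0_f17251 : ed sl_et sq794 = sq729 :=
  gap_rel s0_rot49 (path_edge (s0_f10218 IH) (path_edge (s0_f17242r IH) (path_edge (s0_f9873 IH) (path_nil sq729))))
theorem s0_f17255 : ed sl_ft sq1133 = sq794 :=
  real_edge rels S fwd inv o lvl plet idx 16 IH Gen.f sp1133 sp794 rfl rfl
theorem s0_f17256 : ed sl_ft sq729 = sq1051 :=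
  real_edge rels S fwd inv o lvl plet idx 16 IH Gen.f sp729 sp1051 rfl rfl
theorem s0_f17256r : ed sl_ff sq1051 = sq729 :=
  edge_flip (s0_f17256 IH)
theorem s0_f17251r : ed sl_ef sq729 = sq794 :=
  edge_flip (s0_f17251 IH)
theorem s0_f17255r : ed sl_ff sq794 = sq1133 :=
  edge_flip (s0_f17255 IH)
theorem s0_f17257 : ed sl_ef sq1133 = sq1051 :=
  gap_rel s0_rot32 (path_edge (s0_f17255r IH) (path_edge (s0_f17251r IH) (path_edge (s0_f17256r IH) (path_nil sq1051))))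
theorem s0_f17265 : ed sl_gt sq1133 = sq1129 :=
  real_edge rels S fwd inv o lvl plet idx 16 IH Gen.g sp1133 sp1129 rfl rfl
theorem s0_f17266 : ed sl_gt sq1047 = sq1051 :=
  real_edge rels S fwd inv o lvl plet idx 16 IH Gen.g sp1047 sp1051 rfl rfl
theorem s0_f17257r : ed sl_et sq1051 = sq1133 :=
  edge_flip (s0_f17257 IH)
theorem s0_f17267 : ed sl_et sq1129 = sq1047 :=
  gap_rel s0_rot49 (path_edge (s0_f17265 IH) (path_edge (s0_f17257r IH) (path_edge (s0_f17266 IH) (path_nil sq1047))))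
theorem s0_f17272 : ed sl_dt sq790 = sq1129 :=
  real_edge rels S fwd inv o lvl plet idx 16 IH Gen.d sp790 sp1129 rfl rfl
theorem s0_f17273 : ed sl_et sq549 = sq790 :=
  real_edge rels S fwd inv o lvl plet idx 16 IH Gen.e sp549 sp790 rfl rfl
theorem s0_f1062r : ed sl_df sq726 = sq1047 :=
  edge_flip (s0_f1062 IH)
theorem s0_f17267r : ed sl_ef sq1047 = sq1129 :=
  edge_flip (s0_f17267 IH)
theorem s0_f17272r : ed sl_df sq1129 = sq790 :=
  edge_flip (s0_f17272 IH)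
theorem s0_f17273r : ed sl_ef sq790 = sq549 :=
  edge_flip (s0_f17273 IH)
theorem s0_f17274 : ed sl_df sq549 = sq700 :=
  gap_rel s0_rot105 (path_edge (s0_f17273r IH) (path_edge (s0_f17272r IH) (path_edge (s0_f17267r IH) (path_edge (s0_f1062r IH) (path_edge (s0_f1052 IH) (path_nil sq700))))))
theorem s0_f17276 : ed sl_ft sq1047 = sq725 :=
  real_edge rels S fwd inv o lvl plet idx 16 IH Gen.f sp1047 sp725 rfl rfl
theorem s0_f17276r : ed sl_ff sq725 = sq1047 :=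
  edge_flip (s0_f17276 IH)
theorem s0_f10255r : ed sl_ff sq1129 = sq789 :=
  edge_flip (s0_f10255 IH)
theorem s0_f17277 : ed sl_ef sq789 = sq725 :=
  gap_rel s0_rot32 (path_edge (s0_f10255r IH) (path_edge (s0_f17267r IH) (path_edge (s0_f17276r IH) (path_nil sq725))))
theorem s0_f17279 : ed sl_ct sq540 = sq755 :=
  real_edge rels S fwd inv o lvl plet idx 16 IH Gen.c sp540 sp755 rfl rfl
theorem s0_f17280 : ed sl_dt sq755 = sq1088 :=
  real_edge rels S fwd inv o lvl plet idx 16 IH Gen.d sp755 sp1088 rfl rfl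
theorem s0_f17281 : ed sl_ct sq1088 = sq1435 :=
  real_edge rels S fwd inv o lvl plet idx 16 IH Gen.c sp1088 sp1435 rfl rfl
theorem s0_f17282 : ed sl_bt sq549 = sq807 :=
  real_edge rels S fwd inv o lvl plet idx 16 IH Gen.b sp549 sp807 rfl rfl
theorem s0_f17274r : ed sl_dt sq700 = sq549 :=
  edge_flip (s0_f17274 IH)
theorem s0_f17285 : ed sl_dt sq549 = sq700 :=
  gap_rel s0_rot28 (path_edge (s0_f17274r IH) (path_nil sq700))
theorem s0_f17288 : ed sl_at sq528 = sq768 :=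
  real_edge rels S fwd inv o lvl plet idx 16 IH Gen.a sp528 sp768 rfl rfl
theorem s0_f17288r : ed sl_af sq768 = sq528 :=
  edge_flip (s0_f17288 IH)
theorem s0_f17289 : ed sl_ct sq770 = sq1047 :=
  gap_rel s0_rot124 (path_edge (s0_f10342 IH) (path_edge (s0_f17288r IH) (path_edge (s0_f4975 IH) (path_edge (s0_f17274r IH) (path_edge (s0_f1011 IH) (path_edge (s0_f1500r IH) (path_edge (s0_f1012 IH) (path_edge (s0_f1062 IH) (path_nil sq1047)))))))))
theorem s0_f17293 : ed sl_ft sq527 = sq770 :=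
  real_edge rels S fwd inv o lvl plet idx 16 IH Gen.f sp527 sp770 rfl rfl
theorem s0_f17289r : ed sl_cf sq1047 = sq770 :=
  edge_flip (s0_f17289 IH)
theorem s0_f17293r : ed sl_ff sq770 = sq527 :=
  edge_flip (s0_f17293 IH)
theorem s0_f17294 : ed sl_cf sq527 = sq725 :=
  gap_rel s0_rot65 (path_edge (s0_f17293r IH) (path_edge (s0_f17289r IH) (path_edge (s0_f17276r IH) (path_nil sq725))))
theorem s0_f17294r : ed sl_ct sq725 = sq527 :=
  edge_flip (s0_f17294 IH)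
theorem s0_f17301 : ed sl_bt sq838 = sq725 :=
  gap_rel s0_rot41 (path_edge (s0_f4220 IH) (path_edge (s0_f138 IH) (path_edge (s0_f137 IH) (path_edge (s0_f4051 IH) (path_edge (s0_f17294r IH) (path_nil sq725))))))
theorem s0_f17303 : ed sl_ct sq527 = sq725 :=
  gap_rel s0_rot59 (path_edge (s0_f17294r IH) (path_nil sq725))
theorem s0_f11610r : ed sl_dt s0_v1116 = sq483 :=
  edge_flip (s0_f11610 IH)
theorem s0_f17305 : ed sl_dt sq727 = sq526 :=
  gap_rel s0_rot125 (path_edge (s0_f1349 IH) (path_edge (s0_f1344 IH) (path_edge (s0_f968 IH) (path_edge (s0_f1482 IH) (path_edge (s0_f273 IH) (path_eq (s0_f16613 IH) (path_edge (s0_f6762 IH) (path_edge (s0_f3785 IH) (path_edge (s0_f3784 IH) (path_edge (s0_f17294r IH) (path_edge (s0_f1049 IH) (path_edge (s0_f880 IH) (path_edge (s0_f1505 IH) (path_edge (s0_f1027 IH) (path_edge (s0_f11610r IH) (path_eq (s0_f17009 IH) (path_edge (s0_f6767 IH) (path_nil sq526))))))))))))))))))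
theorem s0_f17316 : ed sl_dt sq1088 = sq755 :=
  real_edge rels S fwd inv o lvl plet idx 16 IH Gen.d sp1088 sp755 rfl rfl
theorem s0_f17319 : ed sl_et sq526 = sq755 :=
  real_edge rels S fwd inv o lvl plet idx 16 IH Gen.e sp526 sp755 rfl rfl
theorem s0_f17280r : ed sl_df sq1088 = sq755 :=
  edge_flip (s0_f17280 IH)
theorem s0_f17319r : ed sl_ef sq755 = sq526 :=
  edge_flip (s0_f17319 IH)
theorem s0_f17305r : ed sl_df sq526 = sq727 :=
  edge_flip (s0_f17305 IH)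
theorem s0_f17247r : ed sl_ef sq727 = sq792 :=
  edge_flip (s0_f17247 IH)
theorem s0_f2971r : ed sl_df sq792 = sq1131 :=
  edge_flip (s0_f2971 IH)
theorem s0_f17320 : ed sl_ef sq1131 = sq1088 :=
  gap_rel s0_rot30 (path_edge (s0_f2971r IH) (path_edge (s0_f17247r IH) (path_edge (s0_f17305r IH) (path_edge (s0_f17319r IH) (path_edge (s0_f17280r IH) (path_nil sq1088))))))
theorem s0_f17322 : ed sl_ft sq526 = sq768 :=
  real_edge rels S fwd inv o lvl plet idx 16 IH Gen.f sp526 sp768 rfl rfl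
theorem s0_f17331 : ed sl_at sq1088 = sq756 :=
  real_edge rels S fwd inv o lvl plet idx 16 IH Gen.a sp1088 sp756 rfl rfl
theorem s0_f17337 : ed sl_dt sq1479 = sq1435 :=
  real_edge rels S fwd inv o lvl plet idx 16 IH Gen.d sp1479 sp1435 rfl rfl
theorem s0_f17303r : ed sl_cf sq725 = sq527 :=
  edge_flip (s0_f17303 IH)
theorem s0_f3783r : ed sl_bf sq527 = sq360 :=
  edge_flip (s0_f3783 IH)
theorem s0_f3782r : ed sl_cf sq360 = sq390 :=
  edge_flip (s0_f3782 IH)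
theorem s0_f4704r : ed sl_bf sq390 = sq571 :=
  edge_flip (s0_f4704 IH)
theorem s0_f4705r : ed sl_cf sq571 = sq838 :=
  edge_flip (s0_f4705 IH)
theorem s0_f17340 : ed sl_bf sq838 = sq725 :=
  gap_rel s0_rot61 (path_edge (s0_f4705r IH) (path_edge (s0_f4704r IH) (path_edge (s0_f3782r IH) (path_edge (s0_f3783r IH) (path_edge (s0_f17303r IH) (path_nil sq725))))))
theorem s0_f17344 : ed sl_ct sq655 = sq445 :=
  real_edge rels S fwd inv o lvl plet idx 16 IH Gen.c sp655 sp445 rfl rfl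
theorem s0_f17340r : ed sl_bt sq725 = sq838 :=
  edge_flip (s0_f17340 IH)
theorem s0_f17345 : ed sl_dt sq838 = sq724 :=
  gap_rel s0_rot55 (path_edge (s0_f17340r IH) (path_edge (s0_f1049 IH) (path_edge (s0_f1036 IH) (path_nil sq724))))
theorem s0_f882r : ed sl_af sq1045 = sq724 :=
  edge_flip (s0_f882 IH)
theorem s0_f17345r : ed sl_df sq724 = sq838 :=
  edge_flip (s0_f17345 IH)
theorem s0_f10525r : ed sl_af sq838 = sq1197 :=
  edge_flip (s0_f10525 IH)
theorem s0_f17349 : ed sl_df sq1197 = sq1045 :=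
  gap_rel s0_rot51 (path_edge (s0_f10525r IH) (path_edge (s0_f17345r IH) (path_edge (s0_f882r IH) (path_nil sq1045))))
theorem s0_f17351 : ed sl_df sq838 = sq724 :=
  gap_rel s0_rot54 (path_edge (s0_f17345r IH) (path_nil sq724))
theorem s0_f17370 : ed sl_at sq572 = sq836 :=
  real_edge rels S fwd inv o lvl plet idx 16 IH Gen.a sp572 sp836 rfl rfl
theorem s0_f17371 : ed sl_bt sq842 = sq572 :=
  real_edge rels S fwd inv o lvl plet idx 16 IH Gen.b sp842 sp572 rfl rfl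
theorem s0_f17372 : ed sl_ct sq1206 = sq842 :=
  real_edge rels S fwd inv o lvl plet idx 16 IH Gen.c sp1206 sp842 rfl rfl
theorem s0_f17378 : ed sl_dt sq876 = sq1235 :=
  real_edge rels S fwd inv o lvl plet idx 16 IH Gen.d sp876 sp1235 rfl rfl
theorem s0_f17379 : ed sl_ct sq1235 = sq1579 :=
  real_edge rels S fwd inv o lvl plet idx 16 IH Gen.c sp1235 sp1579 rfl rfl
theorem s0_f17380 : ed sl_bt sq834 = sq570 :=
  real_edge rels S fwd inv o lvl plet idx 16 IH Gen.b sp834 sp570 rfl rfl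
theorem s0_f17391 : ed sl_bt sq807 = sq549 :=
  real_edge rels S fwd inv o lvl plet idx 16 IH Gen.b sp807 sp549 rfl rfl
theorem s0_f1056r : ed sl_bf sq1011 = sq700 :=
  edge_flip (s0_f1056 IH)
theorem s0_f17285r : ed sl_df sq700 = sq549 :=
  edge_flip (s0_f17285 IH)
theorem s0_f17391r : ed sl_bf sq549 = sq807 :=
  edge_flip (s0_f17391 IH)
theorem s0_f17392 : ed sl_df sq807 = sq1011 :=
  gap_rel s0_rot8 (path_edge (s0_f17391r IH) (path_edge (s0_f17285r IH) (path_edge (s0_f1056r IH) (path_nil sq1011))))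
theorem s0_f17396 : ed sl_gt sq554 = sq549 :=
  real_edge rels S fwd inv o lvl plet idx 16 IH Gen.g sp554 sp549 rfl rfl
theorem s0_f1063r : ed sl_gf sq708 = sq700 :=
  edge_flip (s0_f1063 IH)
theorem s0_f17396r : ed sl_gf sq549 = sq554 :=
  edge_flip (s0_f17396 IH)
theorem s0_f17397 : ed sl_df sq554 = sq708 :=
  gap_rel s0_rot52 (path_edge (s0_f17396r IH) (path_edge (s0_f17285r IH) (path_edge (s0_f1063r IH) (path_nil sq708))))
theorem s0_f17399 : ed sl_ct sq1154 = sq807 :=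
  real_edge rels S fwd inv o lvl plet idx 16 IH Gen.c sp1154 sp807 rfl rfl
theorem s0_f17401 : ed sl_ct sq807 = sq1154 :=
  real_edge rels S fwd inv o lvl plet idx 16 IH Gen.c sp807 sp1154 rfl rfl
theorem s0_f17397r : ed sl_dt sq708 = sq554 :=
  edge_flip (s0_f17397 IH)
theorem s0_f17405 : ed sl_dt sq812 = sq1021 :=
  gap_rel s0_rot55 (path_edge (s0_f3084 IH) (path_edge (s0_f17397r IH) (path_edge (s0_f1069 IH) (path_nil sq1021))))
theorem s0_f17405r : ed sl_df sq1021 = sq812 :=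
  edge_flip (s0_f17405 IH)
theorem s0_f2920r : ed sl_ff sq812 = sq1157 :=
  edge_flip (s0_f2920 IH)
theorem s0_f17417 : ed sl_ff sq1035 = sq1021 :=
  gap_rel s0_rot100 (path_edge (s0_f3283 IH) (path_edge (s0_f2920r IH) (path_edge (s0_f17405r IH) (path_nil sq1021))))
theorem s0_f17448 : ed sl_at sq807 = sq1153 :=
  real_edge rels S fwd inv o lvl plet idx 16 IH Gen.a sp807 sp1153 rfl rfl
theorem s0_f17453 : ed sl_ft sq807 = sq1152 :=
  real_edge rels S fwd inv o lvl plet idx 16 IH Gen.f sp807 sp1152 rfl rfl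
theorem s0_f17392r : ed sl_dt sq1011 = sq807 :=
  edge_flip (s0_f17392 IH)
theorem s0_f17454 : ed sl_dt sq1152 = sq1361 :=
  gap_rel s0_rot29 (path_edge (s0_f17453 IH) (path_edge (s0_f17392r IH) (path_edge (s0_f1096 IH) (path_nil sq1361))))
theorem s0_f17459 : ed sl_ct sq1644 = sq1360 :=
  real_edge rels S fwd inv o lvl plet idx 16 IH Gen.c sp1644 sp1360 rfl rfl
theorem s0_f17481 : ed sl_at sq1499 = sq1152 :=
  real_edge rels S fwd inv o lvl plet idx 16 IH Gen.a sp1499 sp1152 rfl rfl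
theorem s0_f17485 : ed sl_ct sq1500 = sq1152 :=
  real_edge rels S fwd inv o lvl plet idx 16 IH Gen.c sp1500 sp1152 rfl rfl
theorem s0_f17486 : ed sl_dt sq1716 = sq1500 :=
  real_edge rels S fwd inv o lvl plet idx 16 IH Gen.d sp1716 sp1500 rfl rfl
theorem s0_f17454r : ed sl_df sq1361 = sq1152 :=
  edge_flip (s0_f17454 IH)
theorem s0_f17487 : ed sl_df sq1152 = sq1361 :=
  gap_rel s0_rot54 (path_edge (s0_f17454r IH) (path_nil sq1361))
theorem s0_f17494 : ed sl_bt sq1152 = sq806 :=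
  real_edge rels S fwd inv o lvl plet idx 16 IH Gen.b sp1152 sp806 rfl rfl
theorem s0_f17487r : ed sl_dt sq1361 = sq1152 :=
  edge_flip (s0_f17487 IH)
theorem s0_f17495 : ed sl_dt sq806 = sq1019 :=
  gap_rel s0_rot55 (path_edge (s0_f17494 IH) (path_edge (s0_f17487r IH) (path_edge (s0_f1122 IH) (path_nil sq1019))))
theorem s0_f17497 : ed sl_ct sq1152 = sq1500 :=
  real_edge rels S fwd inv o lvl plet idx 16 IH Gen.c sp1152 sp1500 rfl rfl
theorem s0_f17506 : ed sl_ft sq548 = sq806 :=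
  real_edge rels S fwd inv o lvl plet idx 16 IH Gen.f sp548 sp806 rfl rfl
theorem s0_f1136r : ed sl_ff sq707 = sq1019 :=
  edge_flip (s0_f1136 IH)
theorem s0_f17495r : ed sl_df sq1019 = sq806 :=
  edge_flip (s0_f17495 IH)
theorem s0_f17506r : ed sl_ff sq806 = sq548 :=
  edge_flip (s0_f17506 IH)
theorem s0_f17507 : ed sl_df sq548 = sq707 :=
  gap_rel s0_rot56 (path_edge (s0_f17506r IH) (path_edge (s0_f17495r IH) (path_edge (s0_f1136r IH) (path_nil sq707))))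
theorem s0_f17509 : ed sl_at sq806 = sq1149 :=
  real_edge rels S fwd inv o lvl plet idx 16 IH Gen.a sp806 sp1149 rfl rfl
theorem s0_f17507r : ed sl_dt sq707 = sq548 :=
  edge_flip (s0_f17507 IH)
theorem s0_f17511 : ed sl_dt sq804 = sq1018 :=
  gap_rel s0_rot53 (path_edge (s0_f4961 IH) (path_edge (s0_f17507r IH) (path_edge (s0_f1156 IH) (path_nil sq1018))))
theorem s0_f17513 : ed sl_ct sq548 = sq805 :=
  real_edge rels S fwd inv o lvl plet idx 16 IH Gen.c sp548 sp805 rfl rfl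
theorem s0_f17515 : ed sl_dt sq548 = sq707 :=
  gap_rel s0_rot28 (path_edge (s0_f17507r IH) (path_nil sq707))
theorem s0_f17519 : ed sl_et sq788 = sq548 :=
  real_edge rels S fwd inv o lvl plet idx 16 IH Gen.e sp788 sp548 rfl rfl
theorem s0_f17532 : ed sl_ft sq1149 = sq804 :=
  real_edge rels S fwd inv o lvl plet idx 16 IH Gen.f sp1149 sp804 rfl rfl
theorem s0_f17541 : ed sl_ft sq1499 = sq1153 :=
  real_edge rels S fwd inv o lvl plet idx 16 IH Gen.f sp1499 sp1153 rfl rfl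
theorem s0_f17544 : ed sl_bt sq1153 = sq1502 :=
  real_edge rels S fwd inv o lvl plet idx 16 IH Gen.b sp1153 sp1502 rfl rfl
theorem s0_f17546 : ed sl_ft sq1153 = sq1499 :=
  real_edge rels S fwd inv o lvl plet idx 16 IH Gen.f sp1153 sp1499 rfl rfl
theorem s0_f17555 : ed sl_ct sq542 = sq757 :=
  real_edge rels S fwd inv o lvl plet idx 16 IH Gen.c sp542 sp757 rfl rfl
theorem s0_f17088r : ed sl_df sq678 = sq557 :=
  edge_flip (s0_f17088 IH)
theorem s0_f3354r : ed sl_df sq720 = sq824 :=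
  edge_flip (s0_f3354 IH)
theorem s0_f17624 : ed sl_bf sq824 = sq678 :=
  gap_rel s0_rot103 (path_edge (s0_f3354r IH) (path_edge (s0_f3091 IH) (path_edge (s0_f17088r IH) (path_nil sq678))))
theorem s0_f17631 : ed sl_bt sq679 = sq460 :=
  real_edge rels S fwd inv o lvl plet idx 16 IH Gen.b sp679 sp460 rfl rfl
theorem s0_f17624r : ed sl_bt sq678 = sq824 :=
  edge_flip (s0_f17624 IH)
theorem s0_f17635 : ed sl_et sq824 = sq1063 :=
  gap_rel s0_rot35 (path_edge (s0_f17624r IH) (path_edge (s0_f559r IH) (path_edge (s0_f566 IH) (path_nil sq1063))))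
theorem s0_f17637 : ed sl_ft sq680 = sq460 :=
  real_edge rels S fwd inv o lvl plet idx 16 IH Gen.f sp680 sp460 rfl rfl
theorem s0_f17638 : ed sl_bt sq969 = sq665 :=
  real_edge rels S fwd inv o lvl plet idx 16 IH Gen.b sp969 sp665 rfl rfl
theorem s0_f17635r : ed sl_ef sq1063 = sq824 :=
  edge_flip (s0_f17635 IH)
theorem s0_f17644 : ed sl_ef sq824 = sq1063 :=
  gap_rel s0_rot34 (path_edge (s0_f17635r IH) (path_nil sq1063))
theorem s0_f17644r : ed sl_et sq1063 = sq824 :=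
  edge_flip (s0_f17644 IH)
theorem s0_f17649 : ed sl_et sq1182 = sq1415 :=
  gap_rel s0_rot33 (path_edge (s0_f3460 IH) (path_edge (s0_f17644r IH) (path_edge (s0_f578 IH) (path_nil sq1415))))
theorem s0_f849r : ed sl_ef sq987 = sq1251 :=
  edge_flip (s0_f849 IH)
theorem s0_f17649r : ed sl_ef sq1415 = sq1182 :=
  edge_flip (s0_f17649 IH)
theorem s0_f17653 : ed sl_bf sq1182 = sq987 :=
  gap_rel s0_rot23 (path_edge (s0_f17649r IH) (path_edge (s0_f783 IH) (path_edge (s0_f849r IH) (path_nil sq987))))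
theorem s0_f17655 : ed sl_gt sq823 = sq1182 :=
  real_edge rels S fwd inv o lvl plet idx 16 IH Gen.g sp823 sp1182 rfl rfl
theorem s0_f17655r : ed sl_gf sq1182 = sq823 :=
  edge_flip (s0_f17655 IH)
theorem s0_f17656 : ed sl_ef sq823 = sq1066 :=
  gap_rel s0_rot36 (path_edge (s0_f17655r IH) (path_edge (s0_f17649r IH) (path_edge (s0_f792r IH) (path_nil sq1066))))
theorem s0_f17656r : ed sl_et sq1066 = sq823 :=
  edge_flip (s0_f17656 IH)
theorem s0_f17663 : ed sl_et sq823 = sq1066 :=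
  gap_rel s0_rot31 (path_edge (s0_f17656r IH) (path_nil sq1066))
theorem s0_f17665 : ed sl_ft sq823 = sq1175 :=
  real_edge rels S fwd inv o lvl plet idx 16 IH Gen.f sp823 sp1175 rfl rfl
theorem s0_f17666 : ed sl_et sq1175 = sq1419 :=
  gap_rel s0_rot37 (path_edge (s0_f17665 IH) (path_edge (s0_f17656r IH) (path_edge (s0_f812 IH) (path_nil sq1419))))
theorem s0_f17666r : ed sl_ef sq1419 = sq1175 :=
  edge_flip (s0_f17666 IH)
theorem s0_f17671 : ed sl_ef sq1175 = sq1419 :=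
  gap_rel s0_rot34 (path_edge (s0_f17666r IH) (path_nil sq1419))
theorem s0_f17674 : ed sl_ct sq1067 = sq1419 :=
  real_edge rels S fwd inv o lvl plet idx 16 IH Gen.c sp1067 sp1419 rfl rfl
theorem s0_f17671r : ed sl_et sq1419 = sq1175 :=
  edge_flip (s0_f17671 IH)
theorem s0_f17675 : ed sl_et sq820 = sq1067 :=
  gap_rel s0_rot33 (path_edge (s0_f2882 IH) (path_edge (s0_f17671r IH) (path_edge (s0_f17674 IH) (path_nil sq1067))))
theorem s0_f17675r : ed sl_ef sq1067 = sq820 :=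
  edge_flip (s0_f17675 IH)
theorem s0_f2960r : ed sl_bf sq820 = sq559 :=
  edge_flip (s0_f2960 IH)
theorem s0_f17678 : ed sl_bf sq786 = sq1067 :=
  gap_rel s0_rot23 (path_edge (s0_f2820 IH) (path_edge (s0_f2960r IH) (path_edge (s0_f17675r IH) (path_nil sq1067))))
theorem s0_f17678r : ed sl_bt sq1067 = sq786 :=
  edge_flip (s0_f17678 IH)
theorem s0_f17680 : ed sl_bt sq786 = sq1067 :=
  gap_rel s0_rot68 (path_edge (s0_f17678r IH) (path_nil sq1067))
theorem s0_f17682 : ed sl_bt sq1680 = sq1417 :=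
  real_edge rels S fwd inv o lvl plet idx 16 IH Gen.b sp1680 sp1417 rfl rfl
theorem s0_f17683 : ed sl_at sq1066 = sq1417 :=
  real_edge rels S fwd inv o lvl plet idx 16 IH Gen.a sp1066 sp1417 rfl rfl
theorem s0_f17683r : ed sl_af sq1417 = sq1066 :=
  edge_flip (s0_f17683 IH)
theorem s0_f17663r : ed sl_ef sq1066 = sq823 :=
  edge_flip (s0_f17663 IH)
theorem s0_f3449r : ed sl_af sq823 = sq1179 :=
  edge_flip (s0_f3449 IH)
theorem s0_f17684 : ed sl_ef sq1179 = sq1417 :=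
  gap_rel s0_rot102 (path_edge (s0_f3449r IH) (path_edge (s0_f17663r IH) (path_edge (s0_f17683r IH) (path_nil sq1417))))
theorem s0_f17684r : ed sl_et sq1417 = sq1179 :=
  edge_flip (s0_f17684 IH)
theorem s0_f17687 : ed sl_et sq1531 = sq1680 :=
  gap_rel s0_rot35 (path_edge (s0_f3411 IH) (path_edge (s0_f17684r IH) (path_edge (s0_f17682 IH) (path_nil sq1680))))
theorem s0_f17689 : ed sl_ct sq1065 = sq1417 :=
  real_edge rels S fwd inv o lvl plet idx 16 IH Gen.c sp1065 sp1417 rfl rfl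
theorem s0_f17690 : ed sl_et sq822 = sq1065 :=
  gap_rel s0_rot33 (path_edge (s0_f3372 IH) (path_edge (s0_f17684r IH) (path_edge (s0_f17689 IH) (path_nil sq1065))))
theorem s0_f11785r : ed sl_bf sq1416 = sq1065 :=
  edge_flip (s0_f11785 IH)
theorem s0_f17690r : ed sl_ef sq1065 = sq822 :=
  edge_flip (s0_f17690 IH)
theorem s0_f3368r : ed sl_bf sq822 = sq1178 :=
  edge_flip (s0_f3368 IH)
theorem s0_f17699 : ed sl_ef sq1178 = sq1416 :=
  gap_rel s0_rot46 (path_edge (s0_f3368r IH) (path_edge (s0_f17690r IH) (path_edge (s0_f11785r IH) (path_nil sq1416))))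
theorem s0_f17701 : ed sl_ef sq822 = sq1065 :=
  gap_rel s0_rot34 (path_edge (s0_f17690r IH) (path_nil sq1065))
theorem s0_f17706 : ed sl_ct sq1417 = sq1065 :=
  real_edge rels S fwd inv o lvl plet idx 16 IH Gen.c sp1417 sp1065 rfl rfl
theorem s0_f17687r : ed sl_ef sq1680 = sq1531 :=
  edge_flip (s0_f17687 IH)
theorem s0_f17708 : ed sl_ef sq1531 = sq1680 :=
  gap_rel s0_rot34 (path_edge (s0_f17687r IH) (path_nil sq1680))
theorem s0_f17721 : ed sl_dt sq1336 = sq987 :=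
  real_edge rels S fwd inv o lvl plet idx 16 IH Gen.d sp1336 sp987 rfl rfl
theorem s0_f17653r : ed sl_bt sq987 = sq1182 :=
  edge_flip (s0_f17653 IH)
theorem s0_f17722 : ed sl_bt sq1534 = sq1336 :=
  gap_rel s0_rot69 (path_edge (s0_f3365 IH) (path_edge (s0_f17653r IH) (path_edge (s0_f17721 IH) (path_nil sq1336))))
theorem s0_f17724 : ed sl_ft sq1337 = sq987 :=
  real_edge rels S fwd inv o lvl plet idx 16 IH Gen.f sp1337 sp987 rfl rfl
theorem s0_f17727 : ed sl_ft sq988 = sq679 :=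
  real_edge rels S fwd inv o lvl plet idx 16 IH Gen.f sp988 sp679 rfl rfl
theorem s0_f17729 : ed sl_at sq1336 = sq1628 :=
  real_edge rels S fwd inv o lvl plet idx 16 IH Gen.a sp1336 sp1628 rfl rfl
theorem s0_f17722r : ed sl_bf sq1336 = sq1534 :=
  edge_flip (s0_f17722 IH)
theorem s0_f17730 : ed sl_bf sq1534 = sq1336 :=
  gap_rel s0_rot44 (path_edge (s0_f17722r IH) (path_nil sq1336))
theorem s0_f17733 : ed sl_at sq1628 = sq1336 :=
  real_edge rels S fwd inv o lvl plet idx 16 IH Gen.a sp1628 sp1336 rfl rfl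
theorem s0_f17734 : ed sl_gt sq1534 = sq1181 :=
  real_edge rels S fwd inv o lvl plet idx 16 IH Gen.g sp1534 sp1181 rfl rfl
theorem s0_f17746 : ed sl_ft sq562 = sq783 :=
  real_edge rels S fwd inv o lvl plet idx 16 IH Gen.f sp562 sp783 rfl rfl
theorem s0_f4890r : ed sl_df sq544 = sq370 :=
  edge_flip (s0_f4890 IH)
theorem s0_f2345r : ed sl_df sq488 = sq712 :=
  edge_flip (s0_f2345 IH)
theorem s0_f17755 : ed sl_gf sq712 = sq544 :=
  gap_rel s0_rot45 (path_edge (s0_f2345r IH) (path_eq (s0_f16174 IH) (path_edge (s0_f9814 IH) (path_edge (s0_f4890r IH) (path_nil sq544)))))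
theorem s0_f17755r : ed sl_gt sq544 = sq712 :=
  edge_flip (s0_f17755 IH)
theorem s0_f17764 : ed sl_af sq502 = sq544 :=
  gap_rel s0_rot81 (path_edge (s0_f9866 IH) (path_eq (s0_f16545 IH) (path_edge (s0_f10249r IH) (path_eq (s0_f16173 IH).symm (path_edge (s0_f9861 IH) (path_edge (s0_f17755r IH) (path_nil sq544)))))))
theorem s0_f5190r : ed sl_cf sq504 = sq339 :=
  edge_flip (s0_f5190 IH)
theorem s0_f3888r : ed sl_df sq339 = sq218 :=
  edge_flip (s0_f3888 IH)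
theorem s0_f4881r : ed sl_cf s0_v158 = sq158 :=
  edge_flip (s0_f4881 IH)
theorem s0_f2101r : ed sl_df sq158 = sq244 :=
  edge_flip (s0_f2101 IH)
theorem s0_f1887r : ed sl_cf sq244 = sq370 :=
  edge_flip (s0_f1887 IH)
theorem s0_f1888r : ed sl_df sq370 = sq544 :=
  edge_flip (s0_f1888 IH)
theorem s0_f17764r : ed sl_at sq544 = sq502 :=
  edge_flip (s0_f17764 IH)
theorem s0_f1707r : ed sl_cf sq502 = sq734 :=
  edge_flip (s0_f1707 IH)
theorem s0_f17770 : ed sl_df sq734 = sq504 :=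
  gap_rel s0_rot87 (path_edge (s0_f1707r IH) (path_edge (s0_f17764r IH) (path_edge (s0_f1888r IH) (path_edge (s0_f1887r IH) (path_edge (s0_f2101r IH) (path_edge (s0_f4881r IH) (path_eq (s0_f15790 IH) (path_eq (s0_f15132 IH) (path_eq (s0_f16009 IH).symm (path_edge (s0_f3888r IH) (path_edge (s0_f5190r IH) (path_nil sq504))))))))))))
theorem s0_f17770r : ed sl_dt sq504 = sq734 :=
  edge_flip (s0_f17770 IH)
theorem s0_f17772 : ed sl_dt sq1057 = sq738 :=
  gap_rel s0_rot55 (path_edge (s0_f402 IH) (path_edge (s0_f17770r IH) (path_edge (s0_f7353 IH) (path_nil sq738))))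
theorem s0_f17778 : ed sl_gt sq734 = sq502 :=
  gap_rel s0_rot20 (path_edge (s0_f17770r IH) (path_edge (s0_f533 IH) (path_edge (s0_f542 IH) (path_nil sq502))))
theorem s0_f17778r : ed sl_gf sq502 = sq734 :=
  edge_flip (s0_f17778 IH)
theorem s0_f17780 : ed sl_ef sq734 = sq712 :=
  gap_rel s0_rot36 (path_edge (s0_f17778r IH) (path_edge (s0_f17192 IH) (path_edge (s0_f17755 IH) (path_nil sq712))))
theorem s0_f17780r : ed sl_et sq712 = sq734 :=
  edge_flip (s0_f17780 IH)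
theorem s0_f17783 : ed sl_et sq1057 = sq1026 :=
  gap_rel s0_rot35 (path_edge (s0_f402 IH) (path_edge (s0_f17780r IH) (path_edge (s0_f2359 IH) (path_nil sq1026))))
theorem s0_f17787 : ed sl_at sq1026 = sq1375 :=
  real_edge rels S fwd inv o lvl plet idx 16 IH Gen.a sp1026 sp1375 rfl rfl
theorem s0_f17788 : ed sl_et sq1496 = sq1148 :=
  real_edge rels S fwd inv o lvl plet idx 16 IH Gen.e sp1496 sp1148 rfl rfl
theorem s0_f17789 : ed sl_at sq1408 = sq1057 :=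
  real_edge rels S fwd inv o lvl plet idx 16 IH Gen.a sp1408 sp1057 rfl rfl
theorem s0_f17787r : ed sl_af sq1375 = sq1026 :=
  edge_flip (s0_f17787 IH)
theorem s0_f17783r : ed sl_ef sq1026 = sq1057 :=
  edge_flip (s0_f17783 IH)
theorem s0_f17789r : ed sl_af sq1057 = sq1408 :=
  edge_flip (s0_f17789 IH)
theorem s0_f17790 : ed sl_ef sq1408 = sq1375 :=
  gap_rel s0_rot102 (path_edge (s0_f17789r IH) (path_edge (s0_f17783r IH) (path_edge (s0_f17787r IH) (path_nil sq1375))))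
theorem s0_f17792 : ed sl_ef sq1057 = sq1026 :=
  gap_rel s0_rot34 (path_edge (s0_f17783r IH) (path_nil sq1026))
theorem s0_f17792r : ed sl_et sq1026 = sq1057 :=
  edge_flip (s0_f17792 IH)
theorem s0_f17797 : ed sl_et sq493 = sq713 :=
  gap_rel s0_rot123 (path_edge (s0_f3047 IH) (path_eq (s0_f16954 IH) (path_edge (s0_f12636 IH) (path_edge (s0_f17772 IH) (path_edge (s0_f17792r IH) (path_edge (s0_f1735 IH) (path_nil sq713)))))))
theorem s0_f17799 : ed sl_ft sq1057 = sq1407 :=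
  real_edge rels S fwd inv o lvl plet idx 16 IH Gen.f sp1057 sp1407 rfl rfl
theorem s0_f9770r : ed sl_gf sq1029 = sq713 :=
  edge_flip (s0_f9770 IH)
theorem s0_f17797r : ed sl_ef sq713 = sq493 :=
  edge_flip (s0_f17797 IH)
theorem s0_f3075r : ed sl_gf sq493 = sq720 :=
  edge_flip (s0_f3075 IH)
theorem s0_f17809 : ed sl_ef sq720 = sq1029 :=
  gap_rel s0_rot36 (path_edge (s0_f3075r IH) (path_edge (s0_f17797r IH) (path_edge (s0_f9770r IH) (path_nil sq1029))))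
theorem s0_f17819 : ed sl_ft sq1381 = sq1029 :=
  real_edge rels S fwd inv o lvl plet idx 16 IH Gen.f sp1381 sp1029 rfl rfl
theorem s0_f17809r : ed sl_et sq1029 = sq720 :=
  edge_flip (s0_f17809 IH)
theorem s0_f17820 : ed sl_et sq1041 = sq1381 :=
  gap_rel s0_rot37 (path_edge (s0_f3236 IH) (path_edge (s0_f17809r IH) (path_edge (s0_f17819 IH) (path_nil sq1381))))
theorem s0_f17829 : ed sl_gt sq1381 = sq1372 :=
  real_edge rels S fwd inv o lvl plet idx 16 IH Gen.g sp1381 sp1372 rfl rfl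
theorem s0_f17829r : ed sl_gf sq1372 = sq1381 :=
  edge_flip (s0_f17829 IH)
theorem s0_f17820r : ed sl_ef sq1381 = sq1041 :=
  edge_flip (s0_f17820 IH)
theorem s0_f3226r : ed sl_gf sq1041 = sq1032 :=
  edge_flip (s0_f3226 IH)
theorem s0_f17830 : ed sl_ef sq1032 = sq1372 :=
  gap_rel s0_rot36 (path_edge (s0_f3226r IH) (path_edge (s0_f17820r IH) (path_edge (s0_f17829r IH) (path_nil sq1372))))
theorem s0_f17830r : ed sl_et sq1372 = sq1032 :=
  edge_flip (s0_f17830 IH)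
theorem s0_f17840 : ed sl_et sq718 = sq1027 :=
  gap_rel s0_rot37 (path_edge (s0_f3406 IH) (path_edge (s0_f17830r IH) (path_edge (s0_f6146 IH) (path_nil sq1027))))
theorem s0_f17849 : ed sl_dt sq1027 = sq1375 :=
  real_edge rels S fwd inv o lvl plet idx 16 IH Gen.d sp1027 sp1375 rfl rfl
theorem s0_f17849r : ed sl_df sq1375 = sq1027 :=
  edge_flip (s0_f17849 IH)
theorem s0_f17840r : ed sl_ef sq1027 = sq718 :=
  edge_flip (s0_f17840 IH)
theorem s0_f17850 : ed sl_df sq1065 = sq1408 :=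
  gap_rel s0_rot105 (path_edge (s0_f17701 IH) (path_edge (s0_f3362r IH) (path_edge (s0_f17840r IH) (path_edge (s0_f17849r IH) (path_edge (s0_f17790 IH) (path_nil sq1408))))))
theorem s0_f17850r : ed sl_dt sq1408 = sq1065 :=
  edge_flip (s0_f17850 IH)
theorem s0_f17860 : ed sl_dt sq738 = sq1057 :=
  gap_rel s0_rot53 (path_edge (s0_f11780 IH) (path_edge (s0_f17850r IH) (path_edge (s0_f9867 IH) (path_nil sq1057))))
theorem s0_f17799r : ed sl_ff sq1407 = sq1057 :=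
  edge_flip (s0_f17799 IH)
theorem s0_f17860r : ed sl_df sq1057 = sq738 :=
  edge_flip (s0_f17860 IH)
theorem s0_f11765r : ed sl_ff sq738 = sq1067 :=
  edge_flip (s0_f11765 IH)
theorem s0_f17866 : ed sl_df sq1067 = sq1407 :=
  gap_rel s0_rot56 (path_edge (s0_f11765r IH) (path_edge (s0_f17860r IH) (path_edge (s0_f17799r IH) (path_nil sq1407))))
theorem s0_f17866r : ed sl_dt sq1407 = sq1067 :=
  edge_flip (s0_f17866 IH)
theorem s0_f17872 : ed sl_dt sq1067 = sq1407 :=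
  gap_rel s0_rot28 (path_edge (s0_f17866r IH) (path_nil sq1407))
theorem s0_f17874 : ed sl_bt sq1407 = sq1056 :=
  real_edge rels S fwd inv o lvl plet idx 16 IH Gen.b sp1407 sp1056 rfl rfl
theorem s0_f17874r : ed sl_bf sq1056 = sq1407 :=
  edge_flip (s0_f17874 IH)
theorem s0_f17872r : ed sl_df sq1407 = sq1067 :=
  edge_flip (s0_f17872 IH)
theorem s0_f17680r : ed sl_bf sq1067 = sq786 :=
  edge_flip (s0_f17680 IH)
theorem s0_f17875 : ed sl_df sq786 = sq1056 :=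
  gap_rel s0_rot8 (path_edge (s0_f17680r IH) (path_edge (s0_f17872r IH) (path_edge (s0_f17874r IH) (path_nil sq1056))))
theorem s0_f17877 : ed sl_ft sq733 = sq1056 :=
  real_edge rels S fwd inv o lvl plet idx 16 IH Gen.f sp733 sp1056 rfl rfl
theorem s0_f17875r : ed sl_dt sq1056 = sq786 :=
  edge_flip (s0_f17875 IH)
theorem s0_f17878 : ed sl_dt sq539 = sq733 :=
  gap_rel s0_rot29 (path_edge (s0_f2880 IH) (path_edge (s0_f17875r IH) (path_edge (s0_f17877 IH) (path_nil sq733))))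
theorem s0_f17878r : ed sl_df sq733 = sq539 :=
  edge_flip (s0_f17878 IH)
theorem s0_f17880 : ed sl_df sq539 = sq733 :=
  gap_rel s0_rot54 (path_edge (s0_f17878r IH) (path_nil sq733))
theorem s0_f17938 : ed sl_ft sq1389 = sq1671 :=
  real_edge rels S fwd inv o lvl plet idx 16 IH Gen.f sp1389 sp1671 rfl rfl
theorem s0_f17962 : ed sl_bt sq546 = sq800 :=
  real_edge rels S fwd inv o lvl plet idx 16 IH Gen.b sp546 sp800 rfl rfl
theorem s0_f17984 : ed sl_bt sq757 = sq1093 :=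
  real_edge rels S fwd inv o lvl plet idx 16 IH Gen.b sp757 sp1093 rfl rfl
theorem s0_f17985 : ed sl_at sq1093 = sq1438 :=
  real_edge rels S fwd inv o lvl plet idx 16 IH Gen.a sp1093 sp1438 rfl rfl
theorem s0_f17986 : ed sl_ft sq1438 = sq1099 :=
  real_edge rels S fwd inv o lvl plet idx 16 IH Gen.f sp1438 sp1099 rfl rfl
theorem s0_f17987 : ed sl_ct sq1099 = sq1448 :=
  real_edge rels S fwd inv o lvl plet idx 16 IH Gen.c sp1099 sp1448 rfl rfl
theorem s0_f17993 : ed sl_at sq751 = sq514 :=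
  real_edge rels S fwd inv o lvl plet idx 16 IH Gen.a sp751 sp514 rfl rfl
theorem s0_f3204r : ed sl_ff sq565 = sq381 :=
  edge_flip (s0_f3204 IH)
theorem s0_f3103r : ed sl_gf sq381 = sq250 :=
  edge_flip (s0_f3103 IH)
theorem s0_f1894r : ed sl_bf sq250 = sq161 :=
  edge_flip (s0_f1894 IH)
theorem s0_f3488r : ed sl_ff sq161 = sq103 :=
  edge_flip (s0_f3488 IH)
theorem s0_f4185r : ed sl_ff sq119 = sq183 :=
  edge_flip (s0_f4185 IH)
theorem s0_f4191r : ed sl_gf sq183 = sq195 :=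
  edge_flip (s0_f4191 IH)
theorem s0_f4192r : ed sl_bf sq195 = sq308 :=
  edge_flip (s0_f4192 IH)
theorem s0_f4194r : ed sl_gf sq308 = sq466 :=
  edge_flip (s0_f4194 IH)
theorem s0_f4195r : ed sl_bf sq466 = sq433 :=
  edge_flip (s0_f4195 IH)
theorem s0_f18015 : ed sl_bf s0_v1077 = sq565 :=
  gap_rel s0_rot119 (path_edge (s0_f11325 IH) (path_edge (s0_f11313r IH) (path_eq (s0_f16844 IH).symm (path_edge (s0_f4195r IH) (path_edge (s0_f4194r IH) (path_edge (s0_f4193r IH) (path_edge (s0_f4192r IH) (path_edge (s0_f4191r IH) (path_edge (s0_f4185r IH) (path_edge (s0_f4181r IH) (path_eq (s0_f15912 IH).symm (path_edge (s0_f2786r IH) (path_edge (s0_f3488r IH) (path_edge (s0_f1894r IH) (path_edge (s0_f3103r IH) (path_edge (s0_f3204r IH) (path_nil sq565)))))))))))))))))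

end

end

end Cfsg.Agent.Helper28.S1680
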