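import Cfsg.Agent.Lib.Helper28.S1680.Levels

set_option autoImplicit false
set_option maxRecDepth 100000
set_option linter.all false

namespace Cfsg.Agent.Helper28.S1680

open Cfsg.Agent.Helper28
open Cfsg.Spor.Suz (Gen)

noncomputable section

abbrev sl_at : Gen × Bool := (Gen.a, true)
abbrev sl_af : Gen × Bool := (Gen.a, false)
abbrev sl_bt : Gen × Bool := (Gen.b, true)
abbrev sl_bf : Gen × Bool := (Gen.b, false)
abbrev sl_ct : Gen × Bool := (Gen.c, true)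
abbrev sl_cf : Gen × Bool := (Gen.c, false)
abbrev sl_dt : Gen × Bool := (Gen.d, true)
abbrev sl_df : Gen × Bool := (Gen.d, false)
abbrev sl_et : Gen × Bool := (Gen.e, true)
abbrev sl_ef : Gen × Bool := (Gen.e, false)
abbrev sl_ft : Gen × Bool := (Gen.f, true)
abbrev sl_ff : Gen × Bool := (Gen.f, false)
abbrev sl_gt : Gen × Bool := (Gen.g, true)
abbrev sl_gf : Gen × Bool := (Gen.g, false)
theorem relone_inv (rels : Set (FreeGroup Gen)) (w : Word Gen) (h : wG rels w = 1) :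
    wG rels (FreeGroup.invRev w) = 1 := by
  rw [wG_invRev, h, inv_one]

abbrev ed (l : Gen × Bool) (c : Qt rels S) : Qt rels S := edge rels S l c
abbrev sp0 : Pt := (Pt.mk D1.c0 D2.c0 D3.c0)
abbrev sq0 : Qt rels S := P sp0
abbrev sp1 : Pt := (Pt.mk D1.c0 D2.c0 D3.c1)
abbrev sq1 : Qt rels S := P sp1
abbrev sp2 : Pt := (Pt.mk D1.c0 D2.c0 D3.c2)
abbrev sq2 : Qt rels S := P sp2
abbrev sp3 : Pt := (Pt.mk D1.c0 D2.c0 D3.c3)
abbrev sq3 : Qt rels S := P sp3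
abbrev sp4 : Pt := (Pt.mk D1.c0 D2.c0 D3.c4)
abbrev sq4 : Qt rels S := P sp4
abbrev sp5 : Pt := (Pt.mk D1.c0 D2.c0 D3.c5)
abbrev sq5 : Qt rels S := P sp5
abbrev sp6 : Pt := (Pt.mk D1.c0 D2.c0 D3.c6)
abbrev sq6 : Qt rels S := P sp6
abbrev sp7 : Pt := (Pt.mk D1.c0 D2.c0 D3.c7)
abbrev sq7 : Qt rels S := P sp7
abbrev sp8 : Pt := (Pt.mk D1.c0 D2.c0 D3.c8)
abbrev sq8 : Qt rels S := P sp8
abbrev sp9 : Pt := (Pt.mk D1.c0 D2.c0 D3.c9)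
abbrev sq9 : Qt rels S := P sp9
abbrev sp10 : Pt := (Pt.mk D1.c0 D2.c0 D3.c10)
abbrev sq10 : Qt rels S := P sp10
abbrev sp11 : Pt := (Pt.mk D1.c0 D2.c0 D3.c11)
abbrev sq11 : Qt rels S := P sp11
abbrev sp12 : Pt := (Pt.mk D1.c0 D2.c0 D3.c12)
abbrev sq12 : Qt rels S := P sp12
abbrev sp13 : Pt := (Pt.mk D1.c0 D2.c0 D3.c13)
abbrev sq13 : Qt rels S := P sp13
abbrev sp14 : Pt := (Pt.mk D1.c0 D2.c0 D3.c14)
abbrev sq14 : Qt rels S := P sp14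
abbrev sp15 : Pt := (Pt.mk D1.c0 D2.c0 D3.c15)
abbrev sq15 : Qt rels S := P sp15
abbrev sp16 : Pt := (Pt.mk D1.c0 D2.c0 D3.c16)
abbrev sq16 : Qt rels S := P sp16
abbrev sp17 : Pt := (Pt.mk D1.c0 D2.c0 D3.c17)
abbrev sq17 : Qt rels S := P sp17
abbrev sp18 : Pt := (Pt.mk D1.c0 D2.c1 D3.c0)
abbrev sq18 : Qt rels S := P sp18
abbrev sp19 : Pt := (Pt.mk D1.c0 D2.c1 D3.c1)
abbrev sq19 : Qt rels S := P sp19
abbrev sp20 : Pt := (Pt.mk D1.c0 D2.c1 D3.c2)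
abbrev sq20 : Qt rels S := P sp20
abbrev sp21 : Pt := (Pt.mk D1.c0 D2.c1 D3.c3)
abbrev sq21 : Qt rels S := P sp21
abbrev sp22 : Pt := (Pt.mk D1.c0 D2.c1 D3.c4)
abbrev sq22 : Qt rels S := P sp22
abbrev sp23 : Pt := (Pt.mk D1.c0 D2.c1 D3.c5)
abbrev sq23 : Qt rels S := P sp23
abbrev sp24 : Pt := (Pt.mk D1.c0 D2.c1 D3.c6)
abbrev sq24 : Qt rels S := P sp24
abbrev sp25 : Pt := (Pt.mk D1.c0 D2.c1 D3.c7)
abbrev sq25 : Qt rels S := P sp25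
abbrev sp26 : Pt := (Pt.mk D1.c0 D2.c1 D3.c8)
abbrev sq26 : Qt rels S := P sp26
abbrev sp27 : Pt := (Pt.mk D1.c0 D2.c1 D3.c9)
abbrev sq27 : Qt rels S := P sp27
abbrev sp28 : Pt := (Pt.mk D1.c0 D2.c1 D3.c10)
abbrev sq28 : Qt rels S := P sp28
abbrev sp29 : Pt := (Pt.mk D1.c0 D2.c1 D3.c11)
abbrev sq29 : Qt rels S := P sp29
abbrev sp30 : Pt := (Pt.mk D1.c0 D2.c1 D3.c12)
abbrev sq30 : Qt rels S := P sp30
abbrev sp31 : Pt := (Pt.mk D1.c0 D2.c1 D3.c13)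
abbrev sq31 : Qt rels S := P sp31
abbrev sp32 : Pt := (Pt.mk D1.c0 D2.c1 D3.c14)
abbrev sq32 : Qt rels S := P sp32
abbrev sp33 : Pt := (Pt.mk D1.c0 D2.c1 D3.c15)
abbrev sq33 : Qt rels S := P sp33
abbrev sp34 : Pt := (Pt.mk D1.c0 D2.c1 D3.c16)
abbrev sq34 : Qt rels S := P sp34
abbrev sp35 : Pt := (Pt.mk D1.c0 D2.c1 D3.c17)
abbrev sq35 : Qt rels S := P sp35
abbrev sp36 : Pt := (Pt.mk D1.c0 D2.c2 D3.c0)
abbrev sq36 : Qt rels S := P sp36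
abbrev sp37 : Pt := (Pt.mk D1.c0 D2.c2 D3.c1)
abbrev sq37 : Qt rels S := P sp37
abbrev sp38 : Pt := (Pt.mk D1.c0 D2.c2 D3.c2)
abbrev sq38 : Qt rels S := P sp38
abbrev sp39 : Pt := (Pt.mk D1.c0 D2.c2 D3.c3)
abbrev sq39 : Qt rels S := P sp39
abbrev sp40 : Pt := (Pt.mk D1.c0 D2.c2 D3.c4)
abbrev sq40 : Qt rels S := P sp40
abbrev sp41 : Pt := (Pt.mk D1.c0 D2.c2 D3.c5)
abbrev sq41 : Qt rels S := P sp41
abbrev sp42 : Pt := (Pt.mk D1.c0 D2.c2 D3.c6)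
abbrev sq42 : Qt rels S := P sp42
abbrev sp43 : Pt := (Pt.mk D1.c0 D2.c2 D3.c7)
abbrev sq43 : Qt rels S := P sp43
abbrev sp44 : Pt := (Pt.mk D1.c0 D2.c2 D3.c8)
abbrev sq44 : Qt rels S := P sp44
abbrev sp45 : Pt := (Pt.mk D1.c0 D2.c2 D3.c9)
abbrev sq45 : Qt rels S := P sp45
abbrev sp46 : Pt := (Pt.mk D1.c0 D2.c2 D3.c10)
abbrev sq46 : Qt rels S := P sp46
abbrev sp47 : Pt := (Pt.mk D1.c0 D2.c2 D3.c11)
abbrev sq47 : Qt rels S := P sp47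
abbrev sp48 : Pt := (Pt.mk D1.c0 D2.c2 D3.c12)
abbrev sq48 : Qt rels S := P sp48
abbrev sp49 : Pt := (Pt.mk D1.c0 D2.c2 D3.c13)
abbrev sq49 : Qt rels S := P sp49
abbrev sp50 : Pt := (Pt.mk D1.c0 D2.c2 D3.c14)
abbrev sq50 : Qt rels S := P sp50
abbrev sp52 : Pt := (Pt.mk D1.c0 D2.c2 D3.c16)
abbrev sq52 : Qt rels S := P sp52
abbrev sp53 : Pt := (Pt.mk D1.c0 D2.c2 D3.c17)
abbrev sq53 : Qt rels S := P sp53
abbrev sp54 : Pt := (Pt.mk D1.c0 D2.c3 D3.c0)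
abbrev sq54 : Qt rels S := P sp54
abbrev sp55 : Pt := (Pt.mk D1.c0 D2.c3 D3.c1)
abbrev sq55 : Qt rels S := P sp55
abbrev sp56 : Pt := (Pt.mk D1.c0 D2.c3 D3.c2)
abbrev sq56 : Qt rels S := P sp56
abbrev sp57 : Pt := (Pt.mk D1.c0 D2.c3 D3.c3)
abbrev sq57 : Qt rels S := P sp57
abbrev sp58 : Pt := (Pt.mk D1.c0 D2.c3 D3.c4)
abbrev sq58 : Qt rels S := P sp58
abbrev sp59 : Pt := (Pt.mk D1.c0 D2.c3 D3.c5)
abbrev sq59 : Qt rels S := P sp59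
abbrev sp60 : Pt := (Pt.mk D1.c0 D2.c3 D3.c6)
abbrev sq60 : Qt rels S := P sp60
abbrev sp61 : Pt := (Pt.mk D1.c0 D2.c3 D3.c7)
abbrev sq61 : Qt rels S := P sp61
abbrev sp62 : Pt := (Pt.mk D1.c0 D2.c3 D3.c8)
abbrev sq62 : Qt rels S := P sp62
abbrev sp63 : Pt := (Pt.mk D1.c0 D2.c3 D3.c9)
abbrev sq63 : Qt rels S := P sp63
abbrev sp64 : Pt := (Pt.mk D1.c0 D2.c3 D3.c10)
abbrev sq64 : Qt rels S := P sp64
abbrev sp65 : Pt := (Pt.mk D1.c0 D2.c3 D3.c11)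
abbrev sq65 : Qt rels S := P sp65
abbrev sp66 : Pt := (Pt.mk D1.c0 D2.c3 D3.c12)
abbrev sq66 : Qt rels S := P sp66
abbrev sp67 : Pt := (Pt.mk D1.c0 D2.c3 D3.c13)
abbrev sq67 : Qt rels S := P sp67
abbrev sp68 : Pt := (Pt.mk D1.c0 D2.c3 D3.c14)
abbrev sq68 : Qt rels S := P sp68
abbrev sp69 : Pt := (Pt.mk D1.c0 D2.c3 D3.c15)
abbrev sq69 : Qt rels S := P sp69
abbrev sp70 : Pt := (Pt.mk D1.c0 D2.c3 D3.c16)
abbrev sq70 : Qt rels S := P sp70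
abbrev sp71 : Pt := (Pt.mk D1.c0 D2.c3 D3.c17)
abbrev sq71 : Qt rels S := P sp71
abbrev sp72 : Pt := (Pt.mk D1.c0 D2.c4 D3.c0)
abbrev sq72 : Qt rels S := P sp72
abbrev sp73 : Pt := (Pt.mk D1.c0 D2.c4 D3.c1)
abbrev sq73 : Qt rels S := P sp73
abbrev sp74 : Pt := (Pt.mk D1.c0 D2.c4 D3.c2)
abbrev sq74 : Qt rels S := P sp74
abbrev sp75 : Pt := (Pt.mk D1.c0 D2.c4 D3.c3)
abbrev sq75 : Qt rels S := P sp75
abbrev sp76 : Pt := (Pt.mk D1.c0 D2.c4 D3.c4)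
abbrev sq76 : Qt rels S := P sp76
abbrev sp77 : Pt := (Pt.mk D1.c0 D2.c4 D3.c5)
abbrev sq77 : Qt rels S := P sp77
abbrev sp78 : Pt := (Pt.mk D1.c0 D2.c4 D3.c6)
abbrev sq78 : Qt rels S := P sp78
abbrev sp80 : Pt := (Pt.mk D1.c0 D2.c4 D3.c8)
abbrev sq80 : Qt rels S := P sp80
abbrev sp81 : Pt := (Pt.mk D1.c0 D2.c4 D3.c9)
abbrev sq81 : Qt rels S := P sp81
abbrev sp82 : Pt := (Pt.mk D1.c0 D2.c4 D3.c10)
abbrev sq82 : Qt rels S := P sp82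
abbrev sp83 : Pt := (Pt.mk D1.c0 D2.c4 D3.c11)
abbrev sq83 : Qt rels S := P sp83
abbrev sp84 : Pt := (Pt.mk D1.c0 D2.c4 D3.c12)
abbrev sq84 : Qt rels S := P sp84
abbrev sp85 : Pt := (Pt.mk D1.c0 D2.c4 D3.c13)
abbrev sq85 : Qt rels S := P sp85
abbrev sp87 : Pt := (Pt.mk D1.c0 D2.c4 D3.c15)
abbrev sq87 : Qt rels S := P sp87
abbrev sp88 : Pt := (Pt.mk D1.c0 D2.c4 D3.c16)
abbrev sq88 : Qt rels S := P sp88
abbrev sp89 : Pt := (Pt.mk D1.c0 D2.c4 D3.c17)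
abbrev sq89 : Qt rels S := P sp89
abbrev sp90 : Pt := (Pt.mk D1.c0 D2.c5 D3.c0)
abbrev sq90 : Qt rels S := P sp90
abbrev sp91 : Pt := (Pt.mk D1.c0 D2.c5 D3.c1)
abbrev sq91 : Qt rels S := P sp91
abbrev sp92 : Pt := (Pt.mk D1.c0 D2.c5 D3.c2)
abbrev sq92 : Qt rels S := P sp92
abbrev sp93 : Pt := (Pt.mk D1.c0 D2.c5 D3.c3)
abbrev sq93 : Qt rels S := P sp93
abbrev sp94 : Pt := (Pt.mk D1.c0 D2.c5 D3.c4)
abbrev sq94 : Qt rels S := P sp94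
abbrev sp95 : Pt := (Pt.mk D1.c0 D2.c5 D3.c5)
abbrev sq95 : Qt rels S := P sp95
abbrev sp96 : Pt := (Pt.mk D1.c0 D2.c5 D3.c6)
abbrev sq96 : Qt rels S := P sp96
abbrev sp97 : Pt := (Pt.mk D1.c0 D2.c5 D3.c7)
abbrev sq97 : Qt rels S := P sp97
abbrev sp98 : Pt := (Pt.mk D1.c0 D2.c5 D3.c8)
abbrev sq98 : Qt rels S := P sp98
abbrev sp99 : Pt := (Pt.mk D1.c0 D2.c5 D3.c9)
abbrev sq99 : Qt rels S := P sp99
abbrev sp100 : Pt := (Pt.mk D1.c0 D2.c5 D3.c10)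
abbrev sq100 : Qt rels S := P sp100
abbrev sp101 : Pt := (Pt.mk D1.c0 D2.c5 D3.c11)
abbrev sq101 : Qt rels S := P sp101
abbrev sp102 : Pt := (Pt.mk D1.c0 D2.c5 D3.c12)
abbrev sq102 : Qt rels S := P sp102
abbrev sp103 : Pt := (Pt.mk D1.c0 D2.c5 D3.c13)
abbrev sq103 : Qt rels S := P sp103
abbrev sp104 : Pt := (Pt.mk D1.c0 D2.c5 D3.c14)
abbrev sq104 : Qt rels S := P sp104
abbrev sp105 : Pt := (Pt.mk D1.c0 D2.c5 D3.c15)
abbrev sq105 : Qt rels S := P sp105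
abbrev sp106 : Pt := (Pt.mk D1.c0 D2.c5 D3.c16)
abbrev sq106 : Qt rels S := P sp106
abbrev sp107 : Pt := (Pt.mk D1.c0 D2.c5 D3.c17)
abbrev sq107 : Qt rels S := P sp107
abbrev sp108 : Pt := (Pt.mk D1.c0 D2.c6 D3.c0)
abbrev sq108 : Qt rels S := P sp108
abbrev sp109 : Pt := (Pt.mk D1.c0 D2.c6 D3.c1)
abbrev sq109 : Qt rels S := P sp109
abbrev sp110 : Pt := (Pt.mk D1.c0 D2.c6 D3.c2)
abbrev sq110 : Qt rels S := P sp110
abbrev sp111 : Pt := (Pt.mk D1.c0 D2.c6 D3.c3)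
abbrev sq111 : Qt rels S := P sp111
abbrev sp112 : Pt := (Pt.mk D1.c0 D2.c6 D3.c4)
abbrev sq112 : Qt rels S := P sp112
abbrev sp113 : Pt := (Pt.mk D1.c0 D2.c6 D3.c5)
abbrev sq113 : Qt rels S := P sp113
abbrev sp114 : Pt := (Pt.mk D1.c0 D2.c6 D3.c6)
abbrev sq114 : Qt rels S := P sp114
abbrev sp115 : Pt := (Pt.mk D1.c0 D2.c6 D3.c7)
abbrev sq115 : Qt rels S := P sp115
abbrev sp116 : Pt := (Pt.mk D1.c0 D2.c6 D3.c8)
abbrev sq116 : Qt rels S := P sp116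
abbrev sp117 : Pt := (Pt.mk D1.c0 D2.c6 D3.c9)
abbrev sq117 : Qt rels S := P sp117
abbrev sp118 : Pt := (Pt.mk D1.c0 D2.c6 D3.c10)
abbrev sq118 : Qt rels S := P sp118
abbrev sp119 : Pt := (Pt.mk D1.c0 D2.c6 D3.c11)
abbrev sq119 : Qt rels S := P sp119
abbrev sp120 : Pt := (Pt.mk D1.c0 D2.c6 D3.c12)
abbrev sq120 : Qt rels S := P sp120
abbrev sp121 : Pt := (Pt.mk D1.c0 D2.c6 D3.c13)
abbrev sq121 : Qt rels S := P sp121
abbrev sp122 : Pt := (Pt.mk D1.c0 D2.c6 D3.c14)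
abbrev sq122 : Qt rels S := P sp122
abbrev sp123 : Pt := (Pt.mk D1.c0 D2.c6 D3.c15)
abbrev sq123 : Qt rels S := P sp123
abbrev sp124 : Pt := (Pt.mk D1.c0 D2.c6 D3.c16)
abbrev sq124 : Qt rels S := P sp124
abbrev sp126 : Pt := (Pt.mk D1.c0 D2.c7 D3.c0)
abbrev sq126 : Qt rels S := P sp126
abbrev sp127 : Pt := (Pt.mk D1.c0 D2.c7 D3.c1)
abbrev sq127 : Qt rels S := P sp127
abbrev sp129 : Pt := (Pt.mk D1.c0 D2.c7 D3.c3)
abbrev sq129 : Qt rels S := P sp129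
abbrev sp130 : Pt := (Pt.mk D1.c0 D2.c7 D3.c4)
abbrev sq130 : Qt rels S := P sp130
abbrev sp131 : Pt := (Pt.mk D1.c0 D2.c7 D3.c5)
abbrev sq131 : Qt rels S := P sp131
abbrev sp132 : Pt := (Pt.mk D1.c0 D2.c7 D3.c6)
abbrev sq132 : Qt rels S := P sp132
abbrev sp133 : Pt := (Pt.mk D1.c0 D2.c7 D3.c7)
abbrev sq133 : Qt rels S := P sp133
abbrev sp134 : Pt := (Pt.mk D1.c0 D2.c7 D3.c8)
abbrev sq134 : Qt rels S := P sp134
abbrev sp135 : Pt := (Pt.mk D1.c0 D2.c7 D3.c9)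
abbrev sq135 : Qt rels S := P sp135
abbrev sp136 : Pt := (Pt.mk D1.c0 D2.c7 D3.c10)
abbrev sq136 : Qt rels S := P sp136
abbrev sp137 : Pt := (Pt.mk D1.c0 D2.c7 D3.c11)
abbrev sq137 : Qt rels S := P sp137
abbrev sp138 : Pt := (Pt.mk D1.c0 D2.c7 D3.c12)
abbrev sq138 : Qt rels S := P sp138
abbrev sp139 : Pt := (Pt.mk D1.c0 D2.c7 D3.c13)
abbrev sq139 : Qt rels S := P sp139
abbrev sp140 : Pt := (Pt.mk D1.c0 D2.c7 D3.c14)
abbrev sq140 : Qt rels S := P sp140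
abbrev sp141 : Pt := (Pt.mk D1.c0 D2.c7 D3.c15)
abbrev sq141 : Qt rels S := P sp141
abbrev sp142 : Pt := (Pt.mk D1.c0 D2.c7 D3.c16)
abbrev sq142 : Qt rels S := P sp142
abbrev sp143 : Pt := (Pt.mk D1.c0 D2.c7 D3.c17)
abbrev sq143 : Qt rels S := P sp143
abbrev sp144 : Pt := (Pt.mk D1.c0 D2.c8 D3.c0)
abbrev sq144 : Qt rels S := P sp144
abbrev sp145 : Pt := (Pt.mk D1.c0 D2.c8 D3.c1)
abbrev sq145 : Qt rels S := P sp145
abbrev sp146 : Pt := (Pt.mk D1.c0 D2.c8 D3.c2)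
abbrev sq146 : Qt rels S := P sp146
abbrev sp147 : Pt := (Pt.mk D1.c0 D2.c8 D3.c3)
abbrev sq147 : Qt rels S := P sp147
abbrev sp148 : Pt := (Pt.mk D1.c0 D2.c8 D3.c4)
abbrev sq148 : Qt rels S := P sp148
abbrev sp149 : Pt := (Pt.mk D1.c0 D2.c8 D3.c5)
abbrev sq149 : Qt rels S := P sp149
abbrev sp150 : Pt := (Pt.mk D1.c0 D2.c8 D3.c6)
abbrev sq150 : Qt rels S := P sp150
abbrev sp151 : Pt := (Pt.mk D1.c0 D2.c8 D3.c7)
abbrev sq151 : Qt rels S := P sp151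
abbrev sp152 : Pt := (Pt.mk D1.c0 D2.c8 D3.c8)
abbrev sq152 : Qt rels S := P sp152
abbrev sp153 : Pt := (Pt.mk D1.c0 D2.c8 D3.c9)
abbrev sq153 : Qt rels S := P sp153
abbrev sp154 : Pt := (Pt.mk D1.c0 D2.c8 D3.c10)
abbrev sq154 : Qt rels S := P sp154
abbrev sp155 : Pt := (Pt.mk D1.c0 D2.c8 D3.c11)
abbrev sq155 : Qt rels S := P sp155
abbrev sp156 : Pt := (Pt.mk D1.c0 D2.c8 D3.c12)
abbrev sq156 : Qt rels S := P sp156
abbrev sp157 : Pt := (Pt.mk D1.c0 D2.c8 D3.c13)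
abbrev sq157 : Qt rels S := P sp157
abbrev sp158 : Pt := (Pt.mk D1.c0 D2.c8 D3.c14)
abbrev sq158 : Qt rels S := P sp158
abbrev sp159 : Pt := (Pt.mk D1.c0 D2.c8 D3.c15)
abbrev sq159 : Qt rels S := P sp159
abbrev sp160 : Pt := (Pt.mk D1.c0 D2.c8 D3.c16)
abbrev sq160 : Qt rels S := P sp160
abbrev sp161 : Pt := (Pt.mk D1.c0 D2.c8 D3.c17)
abbrev sq161 : Qt rels S := P sp161
abbrev sp162 : Pt := (Pt.mk D1.c0 D2.c9 D3.c0)
abbrev sq162 : Qt rels S := P sp162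
abbrev sp163 : Pt := (Pt.mk D1.c0 D2.c9 D3.c1)
abbrev sq163 : Qt rels S := P sp163
abbrev sp164 : Pt := (Pt.mk D1.c0 D2.c9 D3.c2)
abbrev sq164 : Qt rels S := P sp164
abbrev sp165 : Pt := (Pt.mk D1.c0 D2.c9 D3.c3)
abbrev sq165 : Qt rels S := P sp165
abbrev sp166 : Pt := (Pt.mk D1.c0 D2.c9 D3.c4)
abbrev sq166 : Qt rels S := P sp166
abbrev sp167 : Pt := (Pt.mk D1.c0 D2.c9 D3.c5)
abbrev sq167 : Qt rels S := P sp167
abbrev sp168 : Pt := (Pt.mk D1.c0 D2.c9 D3.c6)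
abbrev sq168 : Qt rels S := P sp168
abbrev sp169 : Pt := (Pt.mk D1.c0 D2.c9 D3.c7)
abbrev sq169 : Qt rels S := P sp169
abbrev sp170 : Pt := (Pt.mk D1.c0 D2.c9 D3.c8)
abbrev sq170 : Qt rels S := P sp170
abbrev sp171 : Pt := (Pt.mk D1.c0 D2.c9 D3.c9)
abbrev sq171 : Qt rels S := P sp171
abbrev sp172 : Pt := (Pt.mk D1.c0 D2.c9 D3.c10)
abbrev sq172 : Qt rels S := P sp172
abbrev sp173 : Pt := (Pt.mk D1.c0 D2.c9 D3.c11)
abbrev sq173 : Qt rels S := P sp173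
abbrev sp174 : Pt := (Pt.mk D1.c0 D2.c9 D3.c12)
abbrev sq174 : Qt rels S := P sp174
abbrev sp175 : Pt := (Pt.mk D1.c0 D2.c9 D3.c13)
abbrev sq175 : Qt rels S := P sp175
abbrev sp176 : Pt := (Pt.mk D1.c0 D2.c9 D3.c14)
abbrev sq176 : Qt rels S := P sp176
abbrev sp177 : Pt := (Pt.mk D1.c0 D2.c9 D3.c15)
abbrev sq177 : Qt rels S := P sp177
abbrev sp178 : Pt := (Pt.mk D1.c0 D2.c9 D3.c16)
abbrev sq178 : Qt rels S := P sp178
abbrev sp179 : Pt := (Pt.mk D1.c0 D2.c9 D3.c17)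
abbrev sq179 : Qt rels S := P sp179
abbrev sp180 : Pt := (Pt.mk D1.c0 D2.c10 D3.c0)
abbrev sq180 : Qt rels S := P sp180
abbrev sp181 : Pt := (Pt.mk D1.c0 D2.c10 D3.c1)
abbrev sq181 : Qt rels S := P sp181
abbrev sp182 : Pt := (Pt.mk D1.c0 D2.c10 D3.c2)
abbrev sq182 : Qt rels S := P sp182
abbrev sp183 : Pt := (Pt.mk D1.c0 D2.c10 D3.c3)
abbrev sq183 : Qt rels S := P sp183
abbrev sp184 : Pt := (Pt.mk D1.c0 D2.c10 D3.c4)
abbrev sq184 : Qt rels S := P sp184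
abbrev sp185 : Pt := (Pt.mk D1.c0 D2.c10 D3.c5)
abbrev sq185 : Qt rels S := P sp185
abbrev sp186 : Pt := (Pt.mk D1.c0 D2.c10 D3.c6)
abbrev sq186 : Qt rels S := P sp186
abbrev sp187 : Pt := (Pt.mk D1.c0 D2.c10 D3.c7)
abbrev sq187 : Qt rels S := P sp187
abbrev sp188 : Pt := (Pt.mk D1.c0 D2.c10 D3.c8)
abbrev sq188 : Qt rels S := P sp188
abbrev sp189 : Pt := (Pt.mk D1.c0 D2.c10 D3.c9)
abbrev sq189 : Qt rels S := P sp189
abbrev sp190 : Pt := (Pt.mk D1.c0 D2.c10 D3.c10)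
abbrev sq190 : Qt rels S := P sp190
abbrev sp191 : Pt := (Pt.mk D1.c0 D2.c10 D3.c11)
abbrev sq191 : Qt rels S := P sp191
abbrev sp193 : Pt := (Pt.mk D1.c0 D2.c10 D3.c13)
abbrev sq193 : Qt rels S := P sp193
abbrev sp194 : Pt := (Pt.mk D1.c0 D2.c10 D3.c14)
abbrev sq194 : Qt rels S := P sp194
abbrev sp195 : Pt := (Pt.mk D1.c0 D2.c10 D3.c15)
abbrev sq195 : Qt rels S := P sp195
abbrev sp196 : Pt := (Pt.mk D1.c0 D2.c10 D3.c16)
abbrev sq196 : Qt rels S := P sp196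
abbrev sp197 : Pt := (Pt.mk D1.c0 D2.c10 D3.c17)
abbrev sq197 : Qt rels S := P sp197
abbrev sp198 : Pt := (Pt.mk D1.c1 D2.c0 D3.c0)
abbrev sq198 : Qt rels S := P sp198
abbrev sp199 : Pt := (Pt.mk D1.c1 D2.c0 D3.c1)
abbrev sq199 : Qt rels S := P sp199
abbrev sp200 : Pt := (Pt.mk D1.c1 D2.c0 D3.c2)
abbrev sq200 : Qt rels S := P sp200
abbrev sp202 : Pt := (Pt.mk D1.c1 D2.c0 D3.c4)
abbrev sq202 : Qt rels S := P sp202
abbrev sp203 : Pt := (Pt.mk D1.c1 D2.c0 D3.c5)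
abbrev sq203 : Qt rels S := P sp203
abbrev sp204 : Pt := (Pt.mk D1.c1 D2.c0 D3.c6)
abbrev sq204 : Qt rels S := P sp204
abbrev sp205 : Pt := (Pt.mk D1.c1 D2.c0 D3.c7)
abbrev sq205 : Qt rels S := P sp205
abbrev sp206 : Pt := (Pt.mk D1.c1 D2.c0 D3.c8)
abbrev sq206 : Qt rels S := P sp206
abbrev sp207 : Pt := (Pt.mk D1.c1 D2.c0 D3.c9)
abbrev sq207 : Qt rels S := P sp207
abbrev sp208 : Pt := (Pt.mk D1.c1 D2.c0 D3.c10)
abbrev sq208 : Qt rels S := P sp208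
abbrev sp209 : Pt := (Pt.mk D1.c1 D2.c0 D3.c11)
abbrev sq209 : Qt rels S := P sp209
abbrev sp210 : Pt := (Pt.mk D1.c1 D2.c0 D3.c12)
abbrev sq210 : Qt rels S := P sp210
abbrev sp211 : Pt := (Pt.mk D1.c1 D2.c0 D3.c13)
abbrev sq211 : Qt rels S := P sp211
abbrev sp212 : Pt := (Pt.mk D1.c1 D2.c0 D3.c14)
abbrev sq212 : Qt rels S := P sp212
abbrev sp213 : Pt := (Pt.mk D1.c1 D2.c0 D3.c15)
abbrev sq213 : Qt rels S := P sp213
abbrev sp215 : Pt := (Pt.mk D1.c1 D2.c0 D3.c17)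
abbrev sq215 : Qt rels S := P sp215
abbrev sp216 : Pt := (Pt.mk D1.c1 D2.c1 D3.c0)
abbrev sq216 : Qt rels S := P sp216
abbrev sp217 : Pt := (Pt.mk D1.c1 D2.c1 D3.c1)
abbrev sq217 : Qt rels S := P sp217
abbrev sp218 : Pt := (Pt.mk D1.c1 D2.c1 D3.c2)
abbrev sq218 : Qt rels S := P sp218
abbrev sp219 : Pt := (Pt.mk D1.c1 D2.c1 D3.c3)
abbrev sq219 : Qt rels S := P sp219
abbrev sp220 : Pt := (Pt.mk D1.c1 D2.c1 D3.c4)
abbrev sq220 : Qt rels S := P sp220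
abbrev sp221 : Pt := (Pt.mk D1.c1 D2.c1 D3.c5)
abbrev sq221 : Qt rels S := P sp221
abbrev sp222 : Pt := (Pt.mk D1.c1 D2.c1 D3.c6)
abbrev sq222 : Qt rels S := P sp222
abbrev sp223 : Pt := (Pt.mk D1.c1 D2.c1 D3.c7)
abbrev sq223 : Qt rels S := P sp223
abbrev sp224 : Pt := (Pt.mk D1.c1 D2.c1 D3.c8)
abbrev sq224 : Qt rels S := P sp224
abbrev sp225 : Pt := (Pt.mk D1.c1 D2.c1 D3.c9)
abbrev sq225 : Qt rels S := P sp225
abbrev sp226 : Pt := (Pt.mk D1.c1 D2.c1 D3.c10)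
abbrev sq226 : Qt rels S := P sp226
abbrev sp227 : Pt := (Pt.mk D1.c1 D2.c1 D3.c11)
abbrev sq227 : Qt rels S := P sp227
abbrev sp228 : Pt := (Pt.mk D1.c1 D2.c1 D3.c12)
abbrev sq228 : Qt rels S := P sp228
abbrev sp229 : Pt := (Pt.mk D1.c1 D2.c1 D3.c13)
abbrev sq229 : Qt rels S := P sp229
abbrev sp230 : Pt := (Pt.mk D1.c1 D2.c1 D3.c14)
abbrev sq230 : Qt rels S := P sp230
abbrev sp231 : Pt := (Pt.mk D1.c1 D2.c1 D3.c15)
abbrev sq231 : Qt rels S := P sp231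
abbrev sp232 : Pt := (Pt.mk D1.c1 D2.c1 D3.c16)
abbrev sq232 : Qt rels S := P sp232
abbrev sp233 : Pt := (Pt.mk D1.c1 D2.c1 D3.c17)
abbrev sq233 : Qt rels S := P sp233
abbrev sp234 : Pt := (Pt.mk D1.c1 D2.c2 D3.c0)
abbrev sq234 : Qt rels S := P sp234
abbrev sp235 : Pt := (Pt.mk D1.c1 D2.c2 D3.c1)
abbrev sq235 : Qt rels S := P sp235
abbrev sp236 : Pt := (Pt.mk D1.c1 D2.c2 D3.c2)
abbrev sq236 : Qt rels S := P sp236
abbrev sp237 : Pt := (Pt.mk D1.c1 D2.c2 D3.c3)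
abbrev sq237 : Qt rels S := P sp237
abbrev sp238 : Pt := (Pt.mk D1.c1 D2.c2 D3.c4)
abbrev sq238 : Qt rels S := P sp238
abbrev sp239 : Pt := (Pt.mk D1.c1 D2.c2 D3.c5)
abbrev sq239 : Qt rels S := P sp239
abbrev sp240 : Pt := (Pt.mk D1.c1 D2.c2 D3.c6)
abbrev sq240 : Qt rels S := P sp240
abbrev sp241 : Pt := (Pt.mk D1.c1 D2.c2 D3.c7)
abbrev sq241 : Qt rels S := P sp241
abbrev sp242 : Pt := (Pt.mk D1.c1 D2.c2 D3.c8)
abbrev sq242 : Qt rels S := P sp242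
abbrev sp243 : Pt := (Pt.mk D1.c1 D2.c2 D3.c9)
abbrev sq243 : Qt rels S := P sp243
abbrev sp244 : Pt := (Pt.mk D1.c1 D2.c2 D3.c10)
abbrev sq244 : Qt rels S := P sp244
abbrev sp245 : Pt := (Pt.mk D1.c1 D2.c2 D3.c11)
abbrev sq245 : Qt rels S := P sp245
abbrev sp246 : Pt := (Pt.mk D1.c1 D2.c2 D3.c12)
abbrev sq246 : Qt rels S := P sp246
abbrev sp247 : Pt := (Pt.mk D1.c1 D2.c2 D3.c13)
abbrev sq247 : Qt rels S := P sp247
abbrev sp248 : Pt := (Pt.mk D1.c1 D2.c2 D3.c14)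
abbrev sq248 : Qt rels S := P sp248
abbrev sp249 : Pt := (Pt.mk D1.c1 D2.c2 D3.c15)
abbrev sq249 : Qt rels S := P sp249
abbrev sp250 : Pt := (Pt.mk D1.c1 D2.c2 D3.c16)
abbrev sq250 : Qt rels S := P sp250
abbrev sp251 : Pt := (Pt.mk D1.c1 D2.c2 D3.c17)
abbrev sq251 : Qt rels S := P sp251
abbrev sp252 : Pt := (Pt.mk D1.c1 D2.c3 D3.c0)
abbrev sq252 : Qt rels S := P sp252
abbrev sp253 : Pt := (Pt.mk D1.c1 D2.c3 D3.c1)
abbrev sq253 : Qt rels S := P sp253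
abbrev sp254 : Pt := (Pt.mk D1.c1 D2.c3 D3.c2)
abbrev sq254 : Qt rels S := P sp254
abbrev sp255 : Pt := (Pt.mk D1.c1 D2.c3 D3.c3)
abbrev sq255 : Qt rels S := P sp255
abbrev sp256 : Pt := (Pt.mk D1.c1 D2.c3 D3.c4)
abbrev sq256 : Qt rels S := P sp256
abbrev sp257 : Pt := (Pt.mk D1.c1 D2.c3 D3.c5)
abbrev sq257 : Qt rels S := P sp257
abbrev sp258 : Pt := (Pt.mk D1.c1 D2.c3 D3.c6)
abbrev sq258 : Qt rels S := P sp258
abbrev sp259 : Pt := (Pt.mk D1.c1 D2.c3 D3.c7)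
abbrev sq259 : Qt rels S := P sp259
abbrev sp261 : Pt := (Pt.mk D1.c1 D2.c3 D3.c9)
abbrev sq261 : Qt rels S := P sp261
abbrev sp263 : Pt := (Pt.mk D1.c1 D2.c3 D3.c11)
abbrev sq263 : Qt rels S := P sp263
abbrev sp264 : Pt := (Pt.mk D1.c1 D2.c3 D3.c12)
abbrev sq264 : Qt rels S := P sp264
abbrev sp265 : Pt := (Pt.mk D1.c1 D2.c3 D3.c13)
abbrev sq265 : Qt rels S := P sp265
abbrev sp266 : Pt := (Pt.mk D1.c1 D2.c3 D3.c14)
abbrev sq266 : Qt rels S := P sp266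
abbrev sp267 : Pt := (Pt.mk D1.c1 D2.c3 D3.c15)
abbrev sq267 : Qt rels S := P sp267
abbrev sp268 : Pt := (Pt.mk D1.c1 D2.c3 D3.c16)
abbrev sq268 : Qt rels S := P sp268
abbrev sp269 : Pt := (Pt.mk D1.c1 D2.c3 D3.c17)
abbrev sq269 : Qt rels S := P sp269
abbrev sp271 : Pt := (Pt.mk D1.c1 D2.c4 D3.c1)
abbrev sq271 : Qt rels S := P sp271
abbrev sp272 : Pt := (Pt.mk D1.c1 D2.c4 D3.c2)
abbrev sq272 : Qt rels S := P sp272
abbrev sp273 : Pt := (Pt.mk D1.c1 D2.c4 D3.c3)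
abbrev sq273 : Qt rels S := P sp273
abbrev sp274 : Pt := (Pt.mk D1.c1 D2.c4 D3.c4)
abbrev sq274 : Qt rels S := P sp274
abbrev sp275 : Pt := (Pt.mk D1.c1 D2.c4 D3.c5)
abbrev sq275 : Qt rels S := P sp275
abbrev sp276 : Pt := (Pt.mk D1.c1 D2.c4 D3.c6)
abbrev sq276 : Qt rels S := P sp276
abbrev sp277 : Pt := (Pt.mk D1.c1 D2.c4 D3.c7)
abbrev sq277 : Qt rels S := P sp277
abbrev sp278 : Pt := (Pt.mk D1.c1 D2.c4 D3.c8)
abbrev sq278 : Qt rels S := P sp278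
abbrev sp279 : Pt := (Pt.mk D1.c1 D2.c4 D3.c9)
abbrev sq279 : Qt rels S := P sp279
abbrev sp280 : Pt := (Pt.mk D1.c1 D2.c4 D3.c10)
abbrev sq280 : Qt rels S := P sp280
abbrev sp281 : Pt := (Pt.mk D1.c1 D2.c4 D3.c11)
abbrev sq281 : Qt rels S := P sp281
abbrev sp282 : Pt := (Pt.mk D1.c1 D2.c4 D3.c12)
abbrev sq282 : Qt rels S := P sp282
abbrev sp283 : Pt := (Pt.mk D1.c1 D2.c4 D3.c13)
abbrev sq283 : Qt rels S := P sp283
abbrev sp284 : Pt := (Pt.mk D1.c1 D2.c4 D3.c14)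
abbrev sq284 : Qt rels S := P sp284
abbrev sp285 : Pt := (Pt.mk D1.c1 D2.c4 D3.c15)
abbrev sq285 : Qt rels S := P sp285
abbrev sp286 : Pt := (Pt.mk D1.c1 D2.c4 D3.c16)
abbrev sq286 : Qt rels S := P sp286
abbrev sp287 : Pt := (Pt.mk D1.c1 D2.c4 D3.c17)
abbrev sq287 : Qt rels S := P sp287
abbrev sp288 : Pt := (Pt.mk D1.c1 D2.c5 D3.c0)
abbrev sq288 : Qt rels S := P sp288
abbrev sp289 : Pt := (Pt.mk D1.c1 D2.c5 D3.c1)
abbrev sq289 : Qt rels S := P sp289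
abbrev sp290 : Pt := (Pt.mk D1.c1 D2.c5 D3.c2)
abbrev sq290 : Qt rels S := P sp290
abbrev sp291 : Pt := (Pt.mk D1.c1 D2.c5 D3.c3)
abbrev sq291 : Qt rels S := P sp291
abbrev sp292 : Pt := (Pt.mk D1.c1 D2.c5 D3.c4)
abbrev sq292 : Qt rels S := P sp292
abbrev sp295 : Pt := (Pt.mk D1.c1 D2.c5 D3.c7)
abbrev sq295 : Qt rels S := P sp295
abbrev sp296 : Pt := (Pt.mk D1.c1 D2.c5 D3.c8)
abbrev sq296 : Qt rels S := P sp296
abbrev sp297 : Pt := (Pt.mk D1.c1 D2.c5 D3.c9)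
abbrev sq297 : Qt rels S := P sp297
abbrev sp299 : Pt := (Pt.mk D1.c1 D2.c5 D3.c11)
abbrev sq299 : Qt rels S := P sp299
abbrev sp302 : Pt := (Pt.mk D1.c1 D2.c5 D3.c14)
abbrev sq302 : Qt rels S := P sp302
abbrev sp303 : Pt := (Pt.mk D1.c1 D2.c5 D3.c15)
abbrev sq303 : Qt rels S := P sp303
abbrev sp305 : Pt := (Pt.mk D1.c1 D2.c5 D3.c17)
abbrev sq305 : Qt rels S := P sp305
abbrev sp306 : Pt := (Pt.mk D1.c1 D2.c6 D3.c0)
abbrev sq306 : Qt rels S := P sp306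
abbrev sp307 : Pt := (Pt.mk D1.c1 D2.c6 D3.c1)
abbrev sq307 : Qt rels S := P sp307
abbrev sp308 : Pt := (Pt.mk D1.c1 D2.c6 D3.c2)
abbrev sq308 : Qt rels S := P sp308
abbrev sp309 : Pt := (Pt.mk D1.c1 D2.c6 D3.c3)
abbrev sq309 : Qt rels S := P sp309
abbrev sp310 : Pt := (Pt.mk D1.c1 D2.c6 D3.c4)
abbrev sq310 : Qt rels S := P sp310
abbrev sp311 : Pt := (Pt.mk D1.c1 D2.c6 D3.c5)
abbrev sq311 : Qt rels S := P sp311
abbrev sp312 : Pt := (Pt.mk D1.c1 D2.c6 D3.c6)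
abbrev sq312 : Qt rels S := P sp312
abbrev sp314 : Pt := (Pt.mk D1.c1 D2.c6 D3.c8)
abbrev sq314 : Qt rels S := P sp314
abbrev sp316 : Pt := (Pt.mk D1.c1 D2.c6 D3.c10)
abbrev sq316 : Qt rels S := P sp316
abbrev sp319 : Pt := (Pt.mk D1.c1 D2.c6 D3.c13)
abbrev sq319 : Qt rels S := P sp319
abbrev sp320 : Pt := (Pt.mk D1.c1 D2.c6 D3.c14)
abbrev sq320 : Qt rels S := P sp320
abbrev sp322 : Pt := (Pt.mk D1.c1 D2.c6 D3.c16)
abbrev sq322 : Qt rels S := P sp322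
abbrev sp323 : Pt := (Pt.mk D1.c1 D2.c6 D3.c17)
abbrev sq323 : Qt rels S := P sp323
abbrev sp324 : Pt := (Pt.mk D1.c1 D2.c7 D3.c0)
abbrev sq324 : Qt rels S := P sp324
abbrev sp325 : Pt := (Pt.mk D1.c1 D2.c7 D3.c1)
abbrev sq325 : Qt rels S := P sp325
abbrev sp326 : Pt := (Pt.mk D1.c1 D2.c7 D3.c2)
abbrev sq326 : Qt rels S := P sp326
abbrev sp327 : Pt := (Pt.mk D1.c1 D2.c7 D3.c3)
abbrev sq327 : Qt rels S := P sp327
abbrev sp328 : Pt := (Pt.mk D1.c1 D2.c7 D3.c4)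
abbrev sq328 : Qt rels S := P sp328
abbrev sp329 : Pt := (Pt.mk D1.c1 D2.c7 D3.c5)
abbrev sq329 : Qt rels S := P sp329
abbrev sp330 : Pt := (Pt.mk D1.c1 D2.c7 D3.c6)
abbrev sq330 : Qt rels S := P sp330
abbrev sp331 : Pt := (Pt.mk D1.c1 D2.c7 D3.c7)
abbrev sq331 : Qt rels S := P sp331
abbrev sp332 : Pt := (Pt.mk D1.c1 D2.c7 D3.c8)
abbrev sq332 : Qt rels S := P sp332
abbrev sp333 : Pt := (Pt.mk D1.c1 D2.c7 D3.c9)
abbrev sq333 : Qt rels S := P sp333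
abbrev sp334 : Pt := (Pt.mk D1.c1 D2.c7 D3.c10)
abbrev sq334 : Qt rels S := P sp334
abbrev sp335 : Pt := (Pt.mk D1.c1 D2.c7 D3.c11)
abbrev sq335 : Qt rels S := P sp335
abbrev sp336 : Pt := (Pt.mk D1.c1 D2.c7 D3.c12)
abbrev sq336 : Qt rels S := P sp336
abbrev sp337 : Pt := (Pt.mk D1.c1 D2.c7 D3.c13)
abbrev sq337 : Qt rels S := P sp337
abbrev sp338 : Pt := (Pt.mk D1.c1 D2.c7 D3.c14)
abbrev sq338 : Qt rels S := P sp338
abbrev sp339 : Pt := (Pt.mk D1.c1 D2.c7 D3.c15)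
abbrev sq339 : Qt rels S := P sp339
abbrev sp340 : Pt := (Pt.mk D1.c1 D2.c7 D3.c16)
abbrev sq340 : Qt rels S := P sp340
abbrev sp341 : Pt := (Pt.mk D1.c1 D2.c7 D3.c17)
abbrev sq341 : Qt rels S := P sp341
abbrev sp342 : Pt := (Pt.mk D1.c1 D2.c8 D3.c0)
abbrev sq342 : Qt rels S := P sp342
abbrev sp343 : Pt := (Pt.mk D1.c1 D2.c8 D3.c1)
abbrev sq343 : Qt rels S := P sp343
abbrev sp344 : Pt := (Pt.mk D1.c1 D2.c8 D3.c2)
abbrev sq344 : Qt rels S := P sp344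
abbrev sp345 : Pt := (Pt.mk D1.c1 D2.c8 D3.c3)
abbrev sq345 : Qt rels S := P sp345
abbrev sp347 : Pt := (Pt.mk D1.c1 D2.c8 D3.c5)
abbrev sq347 : Qt rels S := P sp347
abbrev sp348 : Pt := (Pt.mk D1.c1 D2.c8 D3.c6)
abbrev sq348 : Qt rels S := P sp348
abbrev sp349 : Pt := (Pt.mk D1.c1 D2.c8 D3.c7)
abbrev sq349 : Qt rels S := P sp349
abbrev sp350 : Pt := (Pt.mk D1.c1 D2.c8 D3.c8)
abbrev sq350 : Qt rels S := P sp350
abbrev sp351 : Pt := (Pt.mk D1.c1 D2.c8 D3.c9)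
abbrev sq351 : Qt rels S := P sp351
abbrev sp353 : Pt := (Pt.mk D1.c1 D2.c8 D3.c11)
abbrev sq353 : Qt rels S := P sp353
abbrev sp355 : Pt := (Pt.mk D1.c1 D2.c8 D3.c13)
abbrev sq355 : Qt rels S := P sp355
abbrev sp356 : Pt := (Pt.mk D1.c1 D2.c8 D3.c14)
abbrev sq356 : Qt rels S := P sp356
abbrev sp357 : Pt := (Pt.mk D1.c1 D2.c8 D3.c15)
abbrev sq357 : Qt rels S := P sp357
abbrev sp358 : Pt := (Pt.mk D1.c1 D2.c8 D3.c16)
abbrev sq358 : Qt rels S := P sp358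
abbrev sp359 : Pt := (Pt.mk D1.c1 D2.c8 D3.c17)
abbrev sq359 : Qt rels S := P sp359
abbrev sp360 : Pt := (Pt.mk D1.c1 D2.c9 D3.c0)
abbrev sq360 : Qt rels S := P sp360
abbrev sp361 : Pt := (Pt.mk D1.c1 D2.c9 D3.c1)
abbrev sq361 : Qt rels S := P sp361
abbrev sp362 : Pt := (Pt.mk D1.c1 D2.c9 D3.c2)
abbrev sq362 : Qt rels S := P sp362
abbrev sp363 : Pt := (Pt.mk D1.c1 D2.c9 D3.c3)
abbrev sq363 : Qt rels S := P sp363
abbrev sp365 : Pt := (Pt.mk D1.c1 D2.c9 D3.c5)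
abbrev sq365 : Qt rels S := P sp365
abbrev sp366 : Pt := (Pt.mk D1.c1 D2.c9 D3.c6)
abbrev sq366 : Qt rels S := P sp366
abbrev sp367 : Pt := (Pt.mk D1.c1 D2.c9 D3.c7)
abbrev sq367 : Qt rels S := P sp367
abbrev sp368 : Pt := (Pt.mk D1.c1 D2.c9 D3.c8)
abbrev sq368 : Qt rels S := P sp368
abbrev sp369 : Pt := (Pt.mk D1.c1 D2.c9 D3.c9)
abbrev sq369 : Qt rels S := P sp369
abbrev sp370 : Pt := (Pt.mk D1.c1 D2.c9 D3.c10)
abbrev sq370 : Qt rels S := P sp370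
abbrev sp371 : Pt := (Pt.mk D1.c1 D2.c9 D3.c11)
abbrev sq371 : Qt rels S := P sp371
abbrev sp372 : Pt := (Pt.mk D1.c1 D2.c9 D3.c12)
abbrev sq372 : Qt rels S := P sp372
abbrev sp373 : Pt := (Pt.mk D1.c1 D2.c9 D3.c13)
abbrev sq373 : Qt rels S := P sp373
abbrev sp374 : Pt := (Pt.mk D1.c1 D2.c9 D3.c14)
abbrev sq374 : Qt rels S := P sp374
abbrev sp376 : Pt := (Pt.mk D1.c1 D2.c9 D3.c16)
abbrev sq376 : Qt rels S := P sp376
abbrev sp377 : Pt := (Pt.mk D1.c1 D2.c9 D3.c17)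
abbrev sq377 : Qt rels S := P sp377
abbrev sp378 : Pt := (Pt.mk D1.c1 D2.c10 D3.c0)
abbrev sq378 : Qt rels S := P sp378
abbrev sp379 : Pt := (Pt.mk D1.c1 D2.c10 D3.c1)
abbrev sq379 : Qt rels S := P sp379
abbrev sp380 : Pt := (Pt.mk D1.c1 D2.c10 D3.c2)
abbrev sq380 : Qt rels S := P sp380
abbrev sp381 : Pt := (Pt.mk D1.c1 D2.c10 D3.c3)
abbrev sq381 : Qt rels S := P sp381
abbrev sp382 : Pt := (Pt.mk D1.c1 D2.c10 D3.c4)
abbrev sq382 : Qt rels S := P sp382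
abbrev sp383 : Pt := (Pt.mk D1.c1 D2.c10 D3.c5)
abbrev sq383 : Qt rels S := P sp383
abbrev sp384 : Pt := (Pt.mk D1.c1 D2.c10 D3.c6)
abbrev sq384 : Qt rels S := P sp384
abbrev sp385 : Pt := (Pt.mk D1.c1 D2.c10 D3.c7)
abbrev sq385 : Qt rels S := P sp385
abbrev sp386 : Pt := (Pt.mk D1.c1 D2.c10 D3.c8)
abbrev sq386 : Qt rels S := P sp386
abbrev sp387 : Pt := (Pt.mk D1.c1 D2.c10 D3.c9)
abbrev sq387 : Qt rels S := P sp387
abbrev sp389 : Pt := (Pt.mk D1.c1 D2.c10 D3.c11)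
abbrev sq389 : Qt rels S := P sp389
abbrev sp390 : Pt := (Pt.mk D1.c1 D2.c10 D3.c12)
abbrev sq390 : Qt rels S := P sp390
abbrev sp391 : Pt := (Pt.mk D1.c1 D2.c10 D3.c13)
abbrev sq391 : Qt rels S := P sp391
abbrev sp392 : Pt := (Pt.mk D1.c1 D2.c10 D3.c14)
abbrev sq392 : Qt rels S := P sp392
abbrev sp393 : Pt := (Pt.mk D1.c1 D2.c10 D3.c15)
abbrev sq393 : Qt rels S := P sp393
abbrev sp394 : Pt := (Pt.mk D1.c1 D2.c10 D3.c16)
abbrev sq394 : Qt rels S := P sp394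
abbrev sp395 : Pt := (Pt.mk D1.c1 D2.c10 D3.c17)
abbrev sq395 : Qt rels S := P sp395
abbrev sp396 : Pt := (Pt.mk D1.c2 D2.c0 D3.c0)
abbrev sq396 : Qt rels S := P sp396
abbrev sp397 : Pt := (Pt.mk D1.c2 D2.c0 D3.c1)
abbrev sq397 : Qt rels S := P sp397
abbrev sp398 : Pt := (Pt.mk D1.c2 D2.c0 D3.c2)
abbrev sq398 : Qt rels S := P sp398
abbrev sp399 : Pt := (Pt.mk D1.c2 D2.c0 D3.c3)
abbrev sq399 : Qt rels S := P sp399
abbrev sp401 : Pt := (Pt.mk D1.c2 D2.c0 D3.c5)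
abbrev sq401 : Qt rels S := P sp401
abbrev sp402 : Pt := (Pt.mk D1.c2 D2.c0 D3.c6)
abbrev sq402 : Qt rels S := P sp402
abbrev sp403 : Pt := (Pt.mk D1.c2 D2.c0 D3.c7)
abbrev sq403 : Qt rels S := P sp403
abbrev sp404 : Pt := (Pt.mk D1.c2 D2.c0 D3.c8)
abbrev sq404 : Qt rels S := P sp404
abbrev sp405 : Pt := (Pt.mk D1.c2 D2.c0 D3.c9)
abbrev sq405 : Qt rels S := P sp405
abbrev sp407 : Pt := (Pt.mk D1.c2 D2.c0 D3.c11)
abbrev sq407 : Qt rels S := P sp407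
abbrev sp408 : Pt := (Pt.mk D1.c2 D2.c0 D3.c12)
abbrev sq408 : Qt rels S := P sp408
abbrev sp409 : Pt := (Pt.mk D1.c2 D2.c0 D3.c13)
abbrev sq409 : Qt rels S := P sp409
abbrev sp410 : Pt := (Pt.mk D1.c2 D2.c0 D3.c14)
abbrev sq410 : Qt rels S := P sp410
abbrev sp411 : Pt := (Pt.mk D1.c2 D2.c0 D3.c15)
abbrev sq411 : Qt rels S := P sp411
abbrev sp412 : Pt := (Pt.mk D1.c2 D2.c0 D3.c16)
abbrev sq412 : Qt rels S := P sp412
abbrev sp413 : Pt := (Pt.mk D1.c2 D2.c0 D3.c17)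
abbrev sq413 : Qt rels S := P sp413
abbrev sp414 : Pt := (Pt.mk D1.c2 D2.c1 D3.c0)
abbrev sq414 : Qt rels S := P sp414
abbrev sp416 : Pt := (Pt.mk D1.c2 D2.c1 D3.c2)
abbrev sq416 : Qt rels S := P sp416
abbrev sp417 : Pt := (Pt.mk D1.c2 D2.c1 D3.c3)
abbrev sq417 : Qt rels S := P sp417
abbrev sp418 : Pt := (Pt.mk D1.c2 D2.c1 D3.c4)
abbrev sq418 : Qt rels S := P sp418
abbrev sp420 : Pt := (Pt.mk D1.c2 D2.c1 D3.c6)
abbrev sq420 : Qt rels S := P sp420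
abbrev sp421 : Pt := (Pt.mk D1.c2 D2.c1 D3.c7)
abbrev sq421 : Qt rels S := P sp421
abbrev sp422 : Pt := (Pt.mk D1.c2 D2.c1 D3.c8)
abbrev sq422 : Qt rels S := P sp422
abbrev sp423 : Pt := (Pt.mk D1.c2 D2.c1 D3.c9)
abbrev sq423 : Qt rels S := P sp423
abbrev sp425 : Pt := (Pt.mk D1.c2 D2.c1 D3.c11)
abbrev sq425 : Qt rels S := P sp425
abbrev sp429 : Pt := (Pt.mk D1.c2 D2.c1 D3.c15)
abbrev sq429 : Qt rels S := P sp429
abbrev sp430 : Pt := (Pt.mk D1.c2 D2.c1 D3.c16)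
abbrev sq430 : Qt rels S := P sp430
abbrev sp431 : Pt := (Pt.mk D1.c2 D2.c1 D3.c17)
abbrev sq431 : Qt rels S := P sp431
abbrev sp432 : Pt := (Pt.mk D1.c2 D2.c2 D3.c0)
abbrev sq432 : Qt rels S := P sp432
abbrev sp433 : Pt := (Pt.mk D1.c2 D2.c2 D3.c1)
abbrev sq433 : Qt rels S := P sp433
abbrev sp434 : Pt := (Pt.mk D1.c2 D2.c2 D3.c2)
abbrev sq434 : Qt rels S := P sp434
abbrev sp435 : Pt := (Pt.mk D1.c2 D2.c2 D3.c3)
abbrev sq435 : Qt rels S := P sp435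
abbrev sp436 : Pt := (Pt.mk D1.c2 D2.c2 D3.c4)
abbrev sq436 : Qt rels S := P sp436
abbrev sp440 : Pt := (Pt.mk D1.c2 D2.c2 D3.c8)
abbrev sq440 : Qt rels S := P sp440
abbrev sp441 : Pt := (Pt.mk D1.c2 D2.c2 D3.c9)
abbrev sq441 : Qt rels S := P sp441
abbrev sp443 : Pt := (Pt.mk D1.c2 D2.c2 D3.c11)
abbrev sq443 : Qt rels S := P sp443
abbrev sp444 : Pt := (Pt.mk D1.c2 D2.c2 D3.c12)
abbrev sq444 : Qt rels S := P sp444
abbrev sp445 : Pt := (Pt.mk D1.c2 D2.c2 D3.c13)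
abbrev sq445 : Qt rels S := P sp445
abbrev sp448 : Pt := (Pt.mk D1.c2 D2.c2 D3.c16)
abbrev sq448 : Qt rels S := P sp448
abbrev sp449 : Pt := (Pt.mk D1.c2 D2.c2 D3.c17)
abbrev sq449 : Qt rels S := P sp449
abbrev sp455 : Pt := (Pt.mk D1.c2 D2.c3 D3.c5)
abbrev sq455 : Qt rels S := P sp455
abbrev sp457 : Pt := (Pt.mk D1.c2 D2.c3 D3.c7)
abbrev sq457 : Qt rels S := P sp457
abbrev sp458 : Pt := (Pt.mk D1.c2 D2.c3 D3.c8)
abbrev sq458 : Qt rels S := P sp458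
abbrev sp459 : Pt := (Pt.mk D1.c2 D2.c3 D3.c9)
abbrev sq459 : Qt rels S := P sp459
abbrev sp460 : Pt := (Pt.mk D1.c2 D2.c3 D3.c10)
abbrev sq460 : Qt rels S := P sp460
abbrev sp461 : Pt := (Pt.mk D1.c2 D2.c3 D3.c11)
abbrev sq461 : Qt rels S := P sp461
abbrev sp462 : Pt := (Pt.mk D1.c2 D2.c3 D3.c12)
abbrev sq462 : Qt rels S := P sp462
abbrev sp463 : Pt := (Pt.mk D1.c2 D2.c3 D3.c13)
abbrev sq463 : Qt rels S := P sp463
abbrev sp464 : Pt := (Pt.mk D1.c2 D2.c3 D3.c14)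
abbrev sq464 : Qt rels S := P sp464
abbrev sp465 : Pt := (Pt.mk D1.c2 D2.c3 D3.c15)
abbrev sq465 : Qt rels S := P sp465
abbrev sp466 : Pt := (Pt.mk D1.c2 D2.c3 D3.c16)
abbrev sq466 : Qt rels S := P sp466
abbrev sp467 : Pt := (Pt.mk D1.c2 D2.c3 D3.c17)
abbrev sq467 : Qt rels S := P sp467
abbrev sp468 : Pt := (Pt.mk D1.c2 D2.c4 D3.c0)
abbrev sq468 : Qt rels S := P sp468
abbrev sp475 : Pt := (Pt.mk D1.c2 D2.c4 D3.c7)
abbrev sq475 : Qt rels S := P sp475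
abbrev sp476 : Pt := (Pt.mk D1.c2 D2.c4 D3.c8)
abbrev sq476 : Qt rels S := P sp476
abbrev sp477 : Pt := (Pt.mk D1.c2 D2.c4 D3.c9)
abbrev sq477 : Qt rels S := P sp477
abbrev sp479 : Pt := (Pt.mk D1.c2 D2.c4 D3.c11)
abbrev sq479 : Qt rels S := P sp479
abbrev sp481 : Pt := (Pt.mk D1.c2 D2.c4 D3.c13)
abbrev sq481 : Qt rels S := P sp481
abbrev sp482 : Pt := (Pt.mk D1.c2 D2.c4 D3.c14)
abbrev sq482 : Qt rels S := P sp482
abbrev sp483 : Pt := (Pt.mk D1.c2 D2.c4 D3.c15)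
abbrev sq483 : Qt rels S := P sp483
abbrev sp485 : Pt := (Pt.mk D1.c2 D2.c4 D3.c17)
abbrev sq485 : Qt rels S := P sp485
abbrev sp486 : Pt := (Pt.mk D1.c2 D2.c5 D3.c0)
abbrev sq486 : Qt rels S := P sp486
abbrev sp487 : Pt := (Pt.mk D1.c2 D2.c5 D3.c1)
abbrev sq487 : Qt rels S := P sp487
abbrev sp488 : Pt := (Pt.mk D1.c2 D2.c5 D3.c2)
abbrev sq488 : Qt rels S := P sp488
abbrev sp489 : Pt := (Pt.mk D1.c2 D2.c5 D3.c3)
abbrev sq489 : Qt rels S := P sp489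
abbrev sp490 : Pt := (Pt.mk D1.c2 D2.c5 D3.c4)
abbrev sq490 : Qt rels S := P sp490
abbrev sp491 : Pt := (Pt.mk D1.c2 D2.c5 D3.c5)
abbrev sq491 : Qt rels S := P sp491
abbrev sp492 : Pt := (Pt.mk D1.c2 D2.c5 D3.c6)
abbrev sq492 : Qt rels S := P sp492
abbrev sp493 : Pt := (Pt.mk D1.c2 D2.c5 D3.c7)
abbrev sq493 : Qt rels S := P sp493
abbrev sp494 : Pt := (Pt.mk D1.c2 D2.c5 D3.c8)
abbrev sq494 : Qt rels S := P sp494
abbrev sp495 : Pt := (Pt.mk D1.c2 D2.c5 D3.c9)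
abbrev sq495 : Qt rels S := P sp495
abbrev sp496 : Pt := (Pt.mk D1.c2 D2.c5 D3.c10)
abbrev sq496 : Qt rels S := P sp496
abbrev sp497 : Pt := (Pt.mk D1.c2 D2.c5 D3.c11)
abbrev sq497 : Qt rels S := P sp497
abbrev sp498 : Pt := (Pt.mk D1.c2 D2.c5 D3.c12)
abbrev sq498 : Qt rels S := P sp498
abbrev sp499 : Pt := (Pt.mk D1.c2 D2.c5 D3.c13)
abbrev sq499 : Qt rels S := P sp499
abbrev sp501 : Pt := (Pt.mk D1.c2 D2.c5 D3.c15)
abbrev sq501 : Qt rels S := P sp501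
abbrev sp502 : Pt := (Pt.mk D1.c2 D2.c5 D3.c16)
abbrev sq502 : Qt rels S := P sp502
abbrev sp503 : Pt := (Pt.mk D1.c2 D2.c5 D3.c17)
abbrev sq503 : Qt rels S := P sp503
abbrev sp504 : Pt := (Pt.mk D1.c2 D2.c6 D3.c0)
abbrev sq504 : Qt rels S := P sp504
abbrev sp506 : Pt := (Pt.mk D1.c2 D2.c6 D3.c2)
abbrev sq506 : Qt rels S := P sp506
abbrev sp507 : Pt := (Pt.mk D1.c2 D2.c6 D3.c3)
abbrev sq507 : Qt rels S := P sp507
abbrev sp508 : Pt := (Pt.mk D1.c2 D2.c6 D3.c4)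
abbrev sq508 : Qt rels S := P sp508
abbrev sp509 : Pt := (Pt.mk D1.c2 D2.c6 D3.c5)
abbrev sq509 : Qt rels S := P sp509
abbrev sp510 : Pt := (Pt.mk D1.c2 D2.c6 D3.c6)
abbrev sq510 : Qt rels S := P sp510
abbrev sp511 : Pt := (Pt.mk D1.c2 D2.c6 D3.c7)
abbrev sq511 : Qt rels S := P sp511
abbrev sp514 : Pt := (Pt.mk D1.c2 D2.c6 D3.c10)
abbrev sq514 : Qt rels S := P sp514
abbrev sp515 : Pt := (Pt.mk D1.c2 D2.c6 D3.c11)
abbrev sq515 : Qt rels S := P sp515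
abbrev sp516 : Pt := (Pt.mk D1.c2 D2.c6 D3.c12)
abbrev sq516 : Qt rels S := P sp516
abbrev sp517 : Pt := (Pt.mk D1.c2 D2.c6 D3.c13)
abbrev sq517 : Qt rels S := P sp517
abbrev sp519 : Pt := (Pt.mk D1.c2 D2.c6 D3.c15)
abbrev sq519 : Qt rels S := P sp519
abbrev sp520 : Pt := (Pt.mk D1.c2 D2.c6 D3.c16)
abbrev sq520 : Qt rels S := P sp520
abbrev sp522 : Pt := (Pt.mk D1.c2 D2.c7 D3.c0)
abbrev sq522 : Qt rels S := P sp522
abbrev sp523 : Pt := (Pt.mk D1.c2 D2.c7 D3.c1)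
abbrev sq523 : Qt rels S := P sp523
abbrev sp525 : Pt := (Pt.mk D1.c2 D2.c7 D3.c3)
abbrev sq525 : Qt rels S := P sp525
abbrev sp526 : Pt := (Pt.mk D1.c2 D2.c7 D3.c4)
abbrev sq526 : Qt rels S := P sp526
abbrev sp527 : Pt := (Pt.mk D1.c2 D2.c7 D3.c5)
abbrev sq527 : Qt rels S := P sp527
abbrev sp528 : Pt := (Pt.mk D1.c2 D2.c7 D3.c6)
abbrev sq528 : Qt rels S := P sp528
abbrev sp533 : Pt := (Pt.mk D1.c2 D2.c7 D3.c11)
abbrev sq533 : Qt rels S := P sp533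
abbrev sp536 : Pt := (Pt.mk D1.c2 D2.c7 D3.c14)
abbrev sq536 : Qt rels S := P sp536
abbrev sp537 : Pt := (Pt.mk D1.c2 D2.c7 D3.c15)
abbrev sq537 : Qt rels S := P sp537
abbrev sp538 : Pt := (Pt.mk D1.c2 D2.c7 D3.c16)
abbrev sq538 : Qt rels S := P sp538
abbrev sp539 : Pt := (Pt.mk D1.c2 D2.c7 D3.c17)
abbrev sq539 : Qt rels S := P sp539
abbrev sp540 : Pt := (Pt.mk D1.c2 D2.c8 D3.c0)
abbrev sq540 : Qt rels S := P sp540
abbrev sp541 : Pt := (Pt.mk D1.c2 D2.c8 D3.c1)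
abbrev sq541 : Qt rels S := P sp541
abbrev sp542 : Pt := (Pt.mk D1.c2 D2.c8 D3.c2)
abbrev sq542 : Qt rels S := P sp542
abbrev sp544 : Pt := (Pt.mk D1.c2 D2.c8 D3.c4)
abbrev sq544 : Qt rels S := P sp544
abbrev sp546 : Pt := (Pt.mk D1.c2 D2.c8 D3.c6)
abbrev sq546 : Qt rels S := P sp546
abbrev sp547 : Pt := (Pt.mk D1.c2 D2.c8 D3.c7)
abbrev sq547 : Qt rels S := P sp547
abbrev sp548 : Pt := (Pt.mk D1.c2 D2.c8 D3.c8)
abbrev sq548 : Qt rels S := P sp548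
abbrev sp549 : Pt := (Pt.mk D1.c2 D2.c8 D3.c9)
abbrev sq549 : Qt rels S := P sp549
abbrev sp551 : Pt := (Pt.mk D1.c2 D2.c8 D3.c11)
abbrev sq551 : Qt rels S := P sp551
abbrev sp553 : Pt := (Pt.mk D1.c2 D2.c8 D3.c13)
abbrev sq553 : Qt rels S := P sp553
abbrev sp554 : Pt := (Pt.mk D1.c2 D2.c8 D3.c14)
abbrev sq554 : Qt rels S := P sp554
abbrev sp555 : Pt := (Pt.mk D1.c2 D2.c8 D3.c15)
abbrev sq555 : Qt rels S := P sp555
abbrev sp557 : Pt := (Pt.mk D1.c2 D2.c8 D3.c17)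
abbrev sq557 : Qt rels S := P sp557
abbrev sp559 : Pt := (Pt.mk D1.c2 D2.c9 D3.c1)
abbrev sq559 : Qt rels S := P sp559
abbrev sp560 : Pt := (Pt.mk D1.c2 D2.c9 D3.c2)
abbrev sq560 : Qt rels S := P sp560
abbrev sp561 : Pt := (Pt.mk D1.c2 D2.c9 D3.c3)
abbrev sq561 : Qt rels S := P sp561
abbrev sp562 : Pt := (Pt.mk D1.c2 D2.c9 D3.c4)
abbrev sq562 : Qt rels S := P sp562
abbrev sp563 : Pt := (Pt.mk D1.c2 D2.c9 D3.c5)
abbrev sq563 : Qt rels S := P sp563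
abbrev sp564 : Pt := (Pt.mk D1.c2 D2.c9 D3.c6)
abbrev sq564 : Qt rels S := P sp564
abbrev sp565 : Pt := (Pt.mk D1.c2 D2.c9 D3.c7)
abbrev sq565 : Qt rels S := P sp565
abbrev sp566 : Pt := (Pt.mk D1.c2 D2.c9 D3.c8)
abbrev sq566 : Qt rels S := P sp566
abbrev sp567 : Pt := (Pt.mk D1.c2 D2.c9 D3.c9)
abbrev sq567 : Qt rels S := P sp567
abbrev sp568 : Pt := (Pt.mk D1.c2 D2.c9 D3.c10)
abbrev sq568 : Qt rels S := P sp568
abbrev sp570 : Pt := (Pt.mk D1.c2 D2.c9 D3.c12)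
abbrev sq570 : Qt rels S := P sp570
abbrev sp571 : Pt := (Pt.mk D1.c2 D2.c9 D3.c13)
abbrev sq571 : Qt rels S := P sp571
abbrev sp572 : Pt := (Pt.mk D1.c2 D2.c9 D3.c14)
abbrev sq572 : Qt rels S := P sp572
abbrev sp573 : Pt := (Pt.mk D1.c2 D2.c9 D3.c15)
abbrev sq573 : Qt rels S := P sp573
abbrev sp576 : Pt := (Pt.mk D1.c2 D2.c10 D3.c0)
abbrev sq576 : Qt rels S := P sp576
abbrev sp577 : Pt := (Pt.mk D1.c2 D2.c10 D3.c1)
abbrev sq577 : Qt rels S := P sp577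
abbrev sp578 : Pt := (Pt.mk D1.c2 D2.c10 D3.c2)
abbrev sq578 : Qt rels S := P sp578
abbrev sp579 : Pt := (Pt.mk D1.c2 D2.c10 D3.c3)
abbrev sq579 : Qt rels S := P sp579
abbrev sp580 : Pt := (Pt.mk D1.c2 D2.c10 D3.c4)
abbrev sq580 : Qt rels S := P sp580
abbrev sp581 : Pt := (Pt.mk D1.c2 D2.c10 D3.c5)
abbrev sq581 : Qt rels S := P sp581
abbrev sp582 : Pt := (Pt.mk D1.c2 D2.c10 D3.c6)
abbrev sq582 : Qt rels S := P sp582
abbrev sp583 : Pt := (Pt.mk D1.c2 D2.c10 D3.c7)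
abbrev sq583 : Qt rels S := P sp583
abbrev sp584 : Pt := (Pt.mk D1.c2 D2.c10 D3.c8)
abbrev sq584 : Qt rels S := P sp584
abbrev sp587 : Pt := (Pt.mk D1.c2 D2.c10 D3.c11)
abbrev sq587 : Qt rels S := P sp587
abbrev sp588 : Pt := (Pt.mk D1.c2 D2.c10 D3.c12)
abbrev sq588 : Qt rels S := P sp588
abbrev sp591 : Pt := (Pt.mk D1.c2 D2.c10 D3.c15)
abbrev sq591 : Qt rels S := P sp591
abbrev sp595 : Pt := (Pt.mk D1.c3 D2.c0 D3.c1)
abbrev sq595 : Qt rels S := P sp595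
abbrev sp596 : Pt := (Pt.mk D1.c3 D2.c0 D3.c2)
abbrev sq596 : Qt rels S := P sp596
abbrev sp597 : Pt := (Pt.mk D1.c3 D2.c0 D3.c3)
abbrev sq597 : Qt rels S := P sp597
abbrev sp598 : Pt := (Pt.mk D1.c3 D2.c0 D3.c4)
abbrev sq598 : Qt rels S := P sp598
abbrev sp601 : Pt := (Pt.mk D1.c3 D2.c0 D3.c7)
abbrev sq601 : Qt rels S := P sp601
abbrev sp602 : Pt := (Pt.mk D1.c3 D2.c0 D3.c8)
abbrev sq602 : Qt rels S := P sp602
abbrev sp603 : Pt := (Pt.mk D1.c3 D2.c0 D3.c9)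
abbrev sq603 : Qt rels S := P sp603
abbrev sp604 : Pt := (Pt.mk D1.c3 D2.c0 D3.c10)
abbrev sq604 : Qt rels S := P sp604
abbrev sp605 : Pt := (Pt.mk D1.c3 D2.c0 D3.c11)
abbrev sq605 : Qt rels S := P sp605
abbrev sp606 : Pt := (Pt.mk D1.c3 D2.c0 D3.c12)
abbrev sq606 : Qt rels S := P sp606
abbrev sp608 : Pt := (Pt.mk D1.c3 D2.c0 D3.c14)
abbrev sq608 : Qt rels S := P sp608
abbrev sp609 : Pt := (Pt.mk D1.c3 D2.c0 D3.c15)
abbrev sq609 : Qt rels S := P sp609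
abbrev sp610 : Pt := (Pt.mk D1.c3 D2.c0 D3.c16)
abbrev sq610 : Qt rels S := P sp610
abbrev sp611 : Pt := (Pt.mk D1.c3 D2.c0 D3.c17)
abbrev sq611 : Qt rels S := P sp611
abbrev sp612 : Pt := (Pt.mk D1.c3 D2.c1 D3.c0)
abbrev sq612 : Qt rels S := P sp612
abbrev sp613 : Pt := (Pt.mk D1.c3 D2.c1 D3.c1)
abbrev sq613 : Qt rels S := P sp613
abbrev sp616 : Pt := (Pt.mk D1.c3 D2.c1 D3.c4)
abbrev sq616 : Qt rels S := P sp616
abbrev sp617 : Pt := (Pt.mk D1.c3 D2.c1 D3.c5)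
abbrev sq617 : Qt rels S := P sp617
abbrev sp619 : Pt := (Pt.mk D1.c3 D2.c1 D3.c7)
abbrev sq619 : Qt rels S := P sp619
abbrev sp620 : Pt := (Pt.mk D1.c3 D2.c1 D3.c8)
abbrev sq620 : Qt rels S := P sp620
abbrev sp621 : Pt := (Pt.mk D1.c3 D2.c1 D3.c9)
abbrev sq621 : Qt rels S := P sp621
abbrev sp622 : Pt := (Pt.mk D1.c3 D2.c1 D3.c10)
abbrev sq622 : Qt rels S := P sp622
abbrev sp624 : Pt := (Pt.mk D1.c3 D2.c1 D3.c12)
abbrev sq624 : Qt rels S := P sp624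
abbrev sp627 : Pt := (Pt.mk D1.c3 D2.c1 D3.c15)
abbrev sq627 : Qt rels S := P sp627
abbrev sp629 : Pt := (Pt.mk D1.c3 D2.c1 D3.c17)
abbrev sq629 : Qt rels S := P sp629
abbrev sp630 : Pt := (Pt.mk D1.c3 D2.c2 D3.c0)
abbrev sq630 : Qt rels S := P sp630
abbrev sp635 : Pt := (Pt.mk D1.c3 D2.c2 D3.c5)
abbrev sq635 : Qt rels S := P sp635
abbrev sp636 : Pt := (Pt.mk D1.c3 D2.c2 D3.c6)
abbrev sq636 : Qt rels S := P sp636
abbrev sp640 : Pt := (Pt.mk D1.c3 D2.c2 D3.c10)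
abbrev sq640 : Qt rels S := P sp640
abbrev sp641 : Pt := (Pt.mk D1.c3 D2.c2 D3.c11)
abbrev sq641 : Qt rels S := P sp641
abbrev sp642 : Pt := (Pt.mk D1.c3 D2.c2 D3.c12)
abbrev sq642 : Qt rels S := P sp642
abbrev sp645 : Pt := (Pt.mk D1.c3 D2.c2 D3.c15)
abbrev sq645 : Qt rels S := P sp645
abbrev sp646 : Pt := (Pt.mk D1.c3 D2.c2 D3.c16)
abbrev sq646 : Qt rels S := P sp646
abbrev sp649 : Pt := (Pt.mk D1.c3 D2.c3 D3.c1)
abbrev sq649 : Qt rels S := P sp649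
abbrev sp650 : Pt := (Pt.mk D1.c3 D2.c3 D3.c2)
abbrev sq650 : Qt rels S := P sp650
abbrev sp651 : Pt := (Pt.mk D1.c3 D2.c3 D3.c3)
abbrev sq651 : Qt rels S := P sp651
abbrev sp654 : Pt := (Pt.mk D1.c3 D2.c3 D3.c6)
abbrev sq654 : Qt rels S := P sp654
abbrev sp655 : Pt := (Pt.mk D1.c3 D2.c3 D3.c7)
abbrev sq655 : Qt rels S := P sp655
abbrev sp663 : Pt := (Pt.mk D1.c3 D2.c3 D3.c15)
abbrev sq663 : Qt rels S := P sp663
abbrev sp664 : Pt := (Pt.mk D1.c3 D2.c3 D3.c16)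
abbrev sq664 : Qt rels S := P sp664
abbrev sp665 : Pt := (Pt.mk D1.c3 D2.c3 D3.c17)
abbrev sq665 : Qt rels S := P sp665
abbrev sp666 : Pt := (Pt.mk D1.c3 D2.c4 D3.c0)
abbrev sq666 : Qt rels S := P sp666
abbrev sp667 : Pt := (Pt.mk D1.c3 D2.c4 D3.c1)
abbrev sq667 : Qt rels S := P sp667
abbrev sp671 : Pt := (Pt.mk D1.c3 D2.c4 D3.c5)
abbrev sq671 : Qt rels S := P sp671
abbrev sp672 : Pt := (Pt.mk D1.c3 D2.c4 D3.c6)
abbrev sq672 : Qt rels S := P sp672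
abbrev sp674 : Pt := (Pt.mk D1.c3 D2.c4 D3.c8)
abbrev sq674 : Qt rels S := P sp674
abbrev sp676 : Pt := (Pt.mk D1.c3 D2.c4 D3.c10)
abbrev sq676 : Qt rels S := P sp676
abbrev sp677 : Pt := (Pt.mk D1.c3 D2.c4 D3.c11)
abbrev sq677 : Qt rels S := P sp677
abbrev sp678 : Pt := (Pt.mk D1.c3 D2.c4 D3.c12)
abbrev sq678 : Qt rels S := P sp678
abbrev sp679 : Pt := (Pt.mk D1.c3 D2.c4 D3.c13)
abbrev sq679 : Qt rels S := P sp679
abbrev sp680 : Pt := (Pt.mk D1.c3 D2.c4 D3.c14)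
abbrev sq680 : Qt rels S := P sp680
abbrev sp681 : Pt := (Pt.mk D1.c3 D2.c4 D3.c15)
abbrev sq681 : Qt rels S := P sp681
abbrev sp682 : Pt := (Pt.mk D1.c3 D2.c4 D3.c16)
abbrev sq682 : Qt rels S := P sp682
abbrev sp684 : Pt := (Pt.mk D1.c3 D2.c5 D3.c0)
abbrev sq684 : Qt rels S := P sp684
abbrev sp685 : Pt := (Pt.mk D1.c3 D2.c5 D3.c1)
abbrev sq685 : Qt rels S := P sp685
abbrev sp686 : Pt := (Pt.mk D1.c3 D2.c5 D3.c2)
abbrev sq686 : Qt rels S := P sp686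
abbrev sp691 : Pt := (Pt.mk D1.c3 D2.c5 D3.c7)
abbrev sq691 : Qt rels S := P sp691
abbrev sp692 : Pt := (Pt.mk D1.c3 D2.c5 D3.c8)
abbrev sq692 : Qt rels S := P sp692
abbrev sp693 : Pt := (Pt.mk D1.c3 D2.c5 D3.c9)
abbrev sq693 : Qt rels S := P sp693
abbrev sp695 : Pt := (Pt.mk D1.c3 D2.c5 D3.c11)
abbrev sq695 : Qt rels S := P sp695
abbrev sp699 : Pt := (Pt.mk D1.c3 D2.c5 D3.c15)
abbrev sq699 : Qt rels S := P sp699
abbrev sp700 : Pt := (Pt.mk D1.c3 D2.c5 D3.c16)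
abbrev sq700 : Qt rels S := P sp700
abbrev sp701 : Pt := (Pt.mk D1.c3 D2.c5 D3.c17)
abbrev sq701 : Qt rels S := P sp701
abbrev sp703 : Pt := (Pt.mk D1.c3 D2.c6 D3.c1)
abbrev sq703 : Qt rels S := P sp703
abbrev sp704 : Pt := (Pt.mk D1.c3 D2.c6 D3.c2)
abbrev sq704 : Qt rels S := P sp704
abbrev sp705 : Pt := (Pt.mk D1.c3 D2.c6 D3.c3)
abbrev sq705 : Qt rels S := P sp705
abbrev sp706 : Pt := (Pt.mk D1.c3 D2.c6 D3.c4)
abbrev sq706 : Qt rels S := P sp706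
abbrev sp707 : Pt := (Pt.mk D1.c3 D2.c6 D3.c5)
abbrev sq707 : Qt rels S := P sp707
abbrev sp708 : Pt := (Pt.mk D1.c3 D2.c6 D3.c6)
abbrev sq708 : Qt rels S := P sp708
abbrev sp709 : Pt := (Pt.mk D1.c3 D2.c6 D3.c7)
abbrev sq709 : Qt rels S := P sp709
abbrev sp710 : Pt := (Pt.mk D1.c3 D2.c6 D3.c8)
abbrev sq710 : Qt rels S := P sp710
abbrev sp711 : Pt := (Pt.mk D1.c3 D2.c6 D3.c9)
abbrev sq711 : Qt rels S := P sp711
abbrev sp712 : Pt := (Pt.mk D1.c3 D2.c6 D3.c10)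
abbrev sq712 : Qt rels S := P sp712
abbrev sp713 : Pt := (Pt.mk D1.c3 D2.c6 D3.c11)
abbrev sq713 : Qt rels S := P sp713
abbrev sp714 : Pt := (Pt.mk D1.c3 D2.c6 D3.c12)
abbrev sq714 : Qt rels S := P sp714
abbrev sp715 : Pt := (Pt.mk D1.c3 D2.c6 D3.c13)
abbrev sq715 : Qt rels S := P sp715
abbrev sp716 : Pt := (Pt.mk D1.c3 D2.c6 D3.c14)
abbrev sq716 : Qt rels S := P sp716
abbrev sp717 : Pt := (Pt.mk D1.c3 D2.c6 D3.c15)
abbrev sq717 : Qt rels S := P sp717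
abbrev sp718 : Pt := (Pt.mk D1.c3 D2.c6 D3.c16)
abbrev sq718 : Qt rels S := P sp718
abbrev sp719 : Pt := (Pt.mk D1.c3 D2.c6 D3.c17)
abbrev sq719 : Qt rels S := P sp719
abbrev sp720 : Pt := (Pt.mk D1.c3 D2.c7 D3.c0)
abbrev sq720 : Qt rels S := P sp720
abbrev sp721 : Pt := (Pt.mk D1.c3 D2.c7 D3.c1)
abbrev sq721 : Qt rels S := P sp721
abbrev sp722 : Pt := (Pt.mk D1.c3 D2.c7 D3.c2)
abbrev sq722 : Qt rels S := P sp722
abbrev sp723 : Pt := (Pt.mk D1.c3 D2.c7 D3.c3)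
abbrev sq723 : Qt rels S := P sp723
abbrev sp724 : Pt := (Pt.mk D1.c3 D2.c7 D3.c4)
abbrev sq724 : Qt rels S := P sp724
abbrev sp725 : Pt := (Pt.mk D1.c3 D2.c7 D3.c5)
abbrev sq725 : Qt rels S := P sp725
abbrev sp726 : Pt := (Pt.mk D1.c3 D2.c7 D3.c6)
abbrev sq726 : Qt rels S := P sp726
abbrev sp727 : Pt := (Pt.mk D1.c3 D2.c7 D3.c7)
abbrev sq727 : Qt rels S := P sp727
abbrev sp728 : Pt := (Pt.mk D1.c3 D2.c7 D3.c8)
abbrev sq728 : Qt rels S := P sp728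
abbrev sp729 : Pt := (Pt.mk D1.c3 D2.c7 D3.c9)
abbrev sq729 : Qt rels S := P sp729
abbrev sp730 : Pt := (Pt.mk D1.c3 D2.c7 D3.c10)
abbrev sq730 : Qt rels S := P sp730
abbrev sp732 : Pt := (Pt.mk D1.c3 D2.c7 D3.c12)
abbrev sq732 : Qt rels S := P sp732
abbrev sp733 : Pt := (Pt.mk D1.c3 D2.c7 D3.c13)
abbrev sq733 : Qt rels S := P sp733
abbrev sp734 : Pt := (Pt.mk D1.c3 D2.c7 D3.c14)
abbrev sq734 : Qt rels S := P sp734
abbrev sp735 : Pt := (Pt.mk D1.c3 D2.c7 D3.c15)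
abbrev sq735 : Qt rels S := P sp735
abbrev sp736 : Pt := (Pt.mk D1.c3 D2.c7 D3.c16)
abbrev sq736 : Qt rels S := P sp736
abbrev sp737 : Pt := (Pt.mk D1.c3 D2.c7 D3.c17)
abbrev sq737 : Qt rels S := P sp737
abbrev sp738 : Pt := (Pt.mk D1.c3 D2.c8 D3.c0)
abbrev sq738 : Qt rels S := P sp738
abbrev sp739 : Pt := (Pt.mk D1.c3 D2.c8 D3.c1)
abbrev sq739 : Qt rels S := P sp739
abbrev sp740 : Pt := (Pt.mk D1.c3 D2.c8 D3.c2)
abbrev sq740 : Qt rels S := P sp740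
abbrev sp741 : Pt := (Pt.mk D1.c3 D2.c8 D3.c3)
abbrev sq741 : Qt rels S := P sp741
abbrev sp742 : Pt := (Pt.mk D1.c3 D2.c8 D3.c4)
abbrev sq742 : Qt rels S := P sp742
abbrev sp743 : Pt := (Pt.mk D1.c3 D2.c8 D3.c5)
abbrev sq743 : Qt rels S := P sp743
abbrev sp744 : Pt := (Pt.mk D1.c3 D2.c8 D3.c6)
abbrev sq744 : Qt rels S := P sp744
abbrev sp746 : Pt := (Pt.mk D1.c3 D2.c8 D3.c8)
abbrev sq746 : Qt rels S := P sp746
abbrev sp747 : Pt := (Pt.mk D1.c3 D2.c8 D3.c9)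
abbrev sq747 : Qt rels S := P sp747
abbrev sp748 : Pt := (Pt.mk D1.c3 D2.c8 D3.c10)
abbrev sq748 : Qt rels S := P sp748
abbrev sp749 : Pt := (Pt.mk D1.c3 D2.c8 D3.c11)
abbrev sq749 : Qt rels S := P sp749
abbrev sp751 : Pt := (Pt.mk D1.c3 D2.c8 D3.c13)
abbrev sq751 : Qt rels S := P sp751
abbrev sp752 : Pt := (Pt.mk D1.c3 D2.c8 D3.c14)
abbrev sq752 : Qt rels S := P sp752
abbrev sp753 : Pt := (Pt.mk D1.c3 D2.c8 D3.c15)
abbrev sq753 : Qt rels S := P sp753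
abbrev sp754 : Pt := (Pt.mk D1.c3 D2.c8 D3.c16)
abbrev sq754 : Qt rels S := P sp754
abbrev sp755 : Pt := (Pt.mk D1.c3 D2.c8 D3.c17)
abbrev sq755 : Qt rels S := P sp755
abbrev sp756 : Pt := (Pt.mk D1.c3 D2.c9 D3.c0)
abbrev sq756 : Qt rels S := P sp756
abbrev sp757 : Pt := (Pt.mk D1.c3 D2.c9 D3.c1)
abbrev sq757 : Qt rels S := P sp757
abbrev sp759 : Pt := (Pt.mk D1.c3 D2.c9 D3.c3)
abbrev sq759 : Qt rels S := P sp759
abbrev sp765 : Pt := (Pt.mk D1.c3 D2.c9 D3.c9)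
abbrev sq765 : Qt rels S := P sp765
abbrev sp766 : Pt := (Pt.mk D1.c3 D2.c9 D3.c10)
abbrev sq766 : Qt rels S := P sp766
abbrev sp768 : Pt := (Pt.mk D1.c3 D2.c9 D3.c12)
abbrev sq768 : Qt rels S := P sp768
abbrev sp770 : Pt := (Pt.mk D1.c3 D2.c9 D3.c14)
abbrev sq770 : Qt rels S := P sp770
abbrev sp776 : Pt := (Pt.mk D1.c3 D2.c10 D3.c2)
abbrev sq776 : Qt rels S := P sp776
abbrev sp777 : Pt := (Pt.mk D1.c3 D2.c10 D3.c3)
abbrev sq777 : Qt rels S := P sp777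
abbrev sp782 : Pt := (Pt.mk D1.c3 D2.c10 D3.c8)
abbrev sq782 : Qt rels S := P sp782
abbrev sp783 : Pt := (Pt.mk D1.c3 D2.c10 D3.c9)
abbrev sq783 : Qt rels S := P sp783
abbrev sp784 : Pt := (Pt.mk D1.c3 D2.c10 D3.c10)
abbrev sq784 : Qt rels S := P sp784
abbrev sp785 : Pt := (Pt.mk D1.c3 D2.c10 D3.c11)
abbrev sq785 : Qt rels S := P sp785
abbrev sp786 : Pt := (Pt.mk D1.c3 D2.c10 D3.c12)
abbrev sq786 : Qt rels S := P sp786
abbrev sp788 : Pt := (Pt.mk D1.c3 D2.c10 D3.c14)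
abbrev sq788 : Qt rels S := P sp788
abbrev sp789 : Pt := (Pt.mk D1.c3 D2.c10 D3.c15)
abbrev sq789 : Qt rels S := P sp789
abbrev sp790 : Pt := (Pt.mk D1.c3 D2.c10 D3.c16)
abbrev sq790 : Qt rels S := P sp790
abbrev sp792 : Pt := (Pt.mk D1.c4 D2.c0 D3.c0)
abbrev sq792 : Qt rels S := P sp792
abbrev sp793 : Pt := (Pt.mk D1.c4 D2.c0 D3.c1)
abbrev sq793 : Qt rels S := P sp793
abbrev sp794 : Pt := (Pt.mk D1.c4 D2.c0 D3.c2)
abbrev sq794 : Qt rels S := P sp794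
abbrev sp795 : Pt := (Pt.mk D1.c4 D2.c0 D3.c3)
abbrev sq795 : Qt rels S := P sp795
abbrev sp798 : Pt := (Pt.mk D1.c4 D2.c0 D3.c6)
abbrev sq798 : Qt rels S := P sp798
abbrev sp800 : Pt := (Pt.mk D1.c4 D2.c0 D3.c8)
abbrev sq800 : Qt rels S := P sp800
abbrev sp802 : Pt := (Pt.mk D1.c4 D2.c0 D3.c10)
abbrev sq802 : Qt rels S := P sp802
abbrev sp803 : Pt := (Pt.mk D1.c4 D2.c0 D3.c11)
abbrev sq803 : Qt rels S := P sp803
abbrev sp804 : Pt := (Pt.mk D1.c4 D2.c0 D3.c12)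
abbrev sq804 : Qt rels S := P sp804
abbrev sp805 : Pt := (Pt.mk D1.c4 D2.c0 D3.c13)
abbrev sq805 : Qt rels S := P sp805
abbrev sp806 : Pt := (Pt.mk D1.c4 D2.c0 D3.c14)
abbrev sq806 : Qt rels S := P sp806
abbrev sp807 : Pt := (Pt.mk D1.c4 D2.c0 D3.c15)
abbrev sq807 : Qt rels S := P sp807
abbrev sp808 : Pt := (Pt.mk D1.c4 D2.c0 D3.c16)
abbrev sq808 : Qt rels S := P sp808
abbrev sp810 : Pt := (Pt.mk D1.c4 D2.c1 D3.c0)
abbrev sq810 : Qt rels S := P sp810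
abbrev sp811 : Pt := (Pt.mk D1.c4 D2.c1 D3.c1)
abbrev sq811 : Qt rels S := P sp811
abbrev sp812 : Pt := (Pt.mk D1.c4 D2.c1 D3.c2)
abbrev sq812 : Qt rels S := P sp812
abbrev sp814 : Pt := (Pt.mk D1.c4 D2.c1 D3.c4)
abbrev sq814 : Qt rels S := P sp814
abbrev sp815 : Pt := (Pt.mk D1.c4 D2.c1 D3.c5)
abbrev sq815 : Qt rels S := P sp815
abbrev sp816 : Pt := (Pt.mk D1.c4 D2.c1 D3.c6)
abbrev sq816 : Qt rels S := P sp816
abbrev sp818 : Pt := (Pt.mk D1.c4 D2.c1 D3.c8)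
abbrev sq818 : Qt rels S := P sp818
abbrev sp819 : Pt := (Pt.mk D1.c4 D2.c1 D3.c9)
abbrev sq819 : Qt rels S := P sp819
abbrev sp820 : Pt := (Pt.mk D1.c4 D2.c1 D3.c10)
abbrev sq820 : Qt rels S := P sp820
abbrev sp822 : Pt := (Pt.mk D1.c4 D2.c1 D3.c12)
abbrev sq822 : Qt rels S := P sp822
abbrev sp823 : Pt := (Pt.mk D1.c4 D2.c1 D3.c13)
abbrev sq823 : Qt rels S := P sp823
abbrev sp824 : Pt := (Pt.mk D1.c4 D2.c1 D3.c14)
abbrev sq824 : Qt rels S := P sp824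
abbrev sp825 : Pt := (Pt.mk D1.c4 D2.c1 D3.c15)
abbrev sq825 : Qt rels S := P sp825
abbrev sp826 : Pt := (Pt.mk D1.c4 D2.c1 D3.c16)
abbrev sq826 : Qt rels S := P sp826
abbrev sp827 : Pt := (Pt.mk D1.c4 D2.c1 D3.c17)
abbrev sq827 : Qt rels S := P sp827
abbrev sp828 : Pt := (Pt.mk D1.c4 D2.c2 D3.c0)
abbrev sq828 : Qt rels S := P sp828
abbrev sp829 : Pt := (Pt.mk D1.c4 D2.c2 D3.c1)
abbrev sq829 : Qt rels S := P sp829
abbrev sp830 : Pt := (Pt.mk D1.c4 D2.c2 D3.c2)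
abbrev sq830 : Qt rels S := P sp830
abbrev sp831 : Pt := (Pt.mk D1.c4 D2.c2 D3.c3)
abbrev sq831 : Qt rels S := P sp831
abbrev sp832 : Pt := (Pt.mk D1.c4 D2.c2 D3.c4)
abbrev sq832 : Qt rels S := P sp832
abbrev sp833 : Pt := (Pt.mk D1.c4 D2.c2 D3.c5)
abbrev sq833 : Qt rels S := P sp833
abbrev sp834 : Pt := (Pt.mk D1.c4 D2.c2 D3.c6)
abbrev sq834 : Qt rels S := P sp834
abbrev sp835 : Pt := (Pt.mk D1.c4 D2.c2 D3.c7)
abbrev sq835 : Qt rels S := P sp835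
abbrev sp836 : Pt := (Pt.mk D1.c4 D2.c2 D3.c8)
abbrev sq836 : Qt rels S := P sp836
abbrev sp838 : Pt := (Pt.mk D1.c4 D2.c2 D3.c10)
abbrev sq838 : Qt rels S := P sp838
abbrev sp842 : Pt := (Pt.mk D1.c4 D2.c2 D3.c14)
abbrev sq842 : Qt rels S := P sp842
abbrev sp844 : Pt := (Pt.mk D1.c4 D2.c2 D3.c16)
abbrev sq844 : Qt rels S := P sp844
abbrev sp845 : Pt := (Pt.mk D1.c4 D2.c2 D3.c17)
abbrev sq845 : Qt rels S := P sp845
abbrev sp850 : Pt := (Pt.mk D1.c4 D2.c3 D3.c4)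
abbrev sq850 : Qt rels S := P sp850
abbrev sp851 : Pt := (Pt.mk D1.c4 D2.c3 D3.c5)
abbrev sq851 : Qt rels S := P sp851
abbrev sp853 : Pt := (Pt.mk D1.c4 D2.c3 D3.c7)
abbrev sq853 : Qt rels S := P sp853
abbrev sp855 : Pt := (Pt.mk D1.c4 D2.c3 D3.c9)
abbrev sq855 : Qt rels S := P sp855
abbrev sp856 : Pt := (Pt.mk D1.c4 D2.c3 D3.c10)
abbrev sq856 : Qt rels S := P sp856
abbrev sp857 : Pt := (Pt.mk D1.c4 D2.c3 D3.c11)
abbrev sq857 : Qt rels S := P sp857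
abbrev sp858 : Pt := (Pt.mk D1.c4 D2.c3 D3.c12)
abbrev sq858 : Qt rels S := P sp858
abbrev sp859 : Pt := (Pt.mk D1.c4 D2.c3 D3.c13)
abbrev sq859 : Qt rels S := P sp859
abbrev sp860 : Pt := (Pt.mk D1.c4 D2.c3 D3.c14)
abbrev sq860 : Qt rels S := P sp860
abbrev sp862 : Pt := (Pt.mk D1.c4 D2.c3 D3.c16)
abbrev sq862 : Qt rels S := P sp862
abbrev sp864 : Pt := (Pt.mk D1.c4 D2.c4 D3.c0)
abbrev sq864 : Qt rels S := P sp864
abbrev sp865 : Pt := (Pt.mk D1.c4 D2.c4 D3.c1)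
abbrev sq865 : Qt rels S := P sp865
abbrev sp872 : Pt := (Pt.mk D1.c4 D2.c4 D3.c8)
abbrev sq872 : Qt rels S := P sp872
abbrev sp873 : Pt := (Pt.mk D1.c4 D2.c4 D3.c9)
abbrev sq873 : Qt rels S := P sp873
abbrev sp875 : Pt := (Pt.mk D1.c4 D2.c4 D3.c11)
abbrev sq875 : Qt rels S := P sp875
abbrev sp876 : Pt := (Pt.mk D1.c4 D2.c4 D3.c12)
abbrev sq876 : Qt rels S := P sp876
abbrev sp878 : Pt := (Pt.mk D1.c4 D2.c4 D3.c14)
abbrev sq878 : Qt rels S := P sp878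
abbrev sp879 : Pt := (Pt.mk D1.c4 D2.c4 D3.c15)
abbrev sq879 : Qt rels S := P sp879
abbrev sp880 : Pt := (Pt.mk D1.c4 D2.c4 D3.c16)
abbrev sq880 : Qt rels S := P sp880
abbrev sp881 : Pt := (Pt.mk D1.c4 D2.c4 D3.c17)
abbrev sq881 : Qt rels S := P sp881
abbrev sp882 : Pt := (Pt.mk D1.c4 D2.c5 D3.c0)
abbrev sq882 : Qt rels S := P sp882
abbrev sp887 : Pt := (Pt.mk D1.c4 D2.c5 D3.c5)
abbrev sq887 : Qt rels S := P sp887
abbrev sp890 : Pt := (Pt.mk D1.c4 D2.c5 D3.c8)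
abbrev sq890 : Qt rels S := P sp890
abbrev sp891 : Pt := (Pt.mk D1.c4 D2.c5 D3.c9)
abbrev sq891 : Qt rels S := P sp891
abbrev sp892 : Pt := (Pt.mk D1.c4 D2.c5 D3.c10)
abbrev sq892 : Qt rels S := P sp892
abbrev sp895 : Pt := (Pt.mk D1.c4 D2.c5 D3.c13)
abbrev sq895 : Qt rels S := P sp895
abbrev sp897 : Pt := (Pt.mk D1.c4 D2.c5 D3.c15)
abbrev sq897 : Qt rels S := P sp897
abbrev sp898 : Pt := (Pt.mk D1.c4 D2.c5 D3.c16)
abbrev sq898 : Qt rels S := P sp898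
abbrev sp899 : Pt := (Pt.mk D1.c4 D2.c5 D3.c17)
abbrev sq899 : Qt rels S := P sp899
abbrev sp900 : Pt := (Pt.mk D1.c4 D2.c6 D3.c0)
abbrev sq900 : Qt rels S := P sp900
abbrev sp902 : Pt := (Pt.mk D1.c4 D2.c6 D3.c2)
abbrev sq902 : Qt rels S := P sp902
abbrev sp904 : Pt := (Pt.mk D1.c4 D2.c6 D3.c4)
abbrev sq904 : Qt rels S := P sp904
abbrev sp907 : Pt := (Pt.mk D1.c4 D2.c6 D3.c7)
abbrev sq907 : Qt rels S := P sp907
abbrev sp910 : Pt := (Pt.mk D1.c4 D2.c6 D3.c10)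
abbrev sq910 : Qt rels S := P sp910
abbrev sp911 : Pt := (Pt.mk D1.c4 D2.c6 D3.c11)
abbrev sq911 : Qt rels S := P sp911
abbrev sp912 : Pt := (Pt.mk D1.c4 D2.c6 D3.c12)
abbrev sq912 : Qt rels S := P sp912
abbrev sp913 : Pt := (Pt.mk D1.c4 D2.c6 D3.c13)
abbrev sq913 : Qt rels S := P sp913
abbrev sp915 : Pt := (Pt.mk D1.c4 D2.c6 D3.c15)
abbrev sq915 : Qt rels S := P sp915
abbrev sp920 : Pt := (Pt.mk D1.c4 D2.c7 D3.c2)
abbrev sq920 : Qt rels S := P sp920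
abbrev sp923 : Pt := (Pt.mk D1.c4 D2.c7 D3.c5)
abbrev sq923 : Qt rels S := P sp923
abbrev sp924 : Pt := (Pt.mk D1.c4 D2.c7 D3.c6)
abbrev sq924 : Qt rels S := P sp924
abbrev sp939 : Pt := (Pt.mk D1.c4 D2.c8 D3.c3)
abbrev sq939 : Qt rels S := P sp939
abbrev sp940 : Pt := (Pt.mk D1.c4 D2.c8 D3.c4)
abbrev sq940 : Qt rels S := P sp940
abbrev sp948 : Pt := (Pt.mk D1.c4 D2.c8 D3.c12)
abbrev sq948 : Qt rels S := P sp948
abbrev sp949 : Pt := (Pt.mk D1.c4 D2.c8 D3.c13)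
abbrev sq949 : Qt rels S := P sp949
abbrev sp950 : Pt := (Pt.mk D1.c4 D2.c8 D3.c14)
abbrev sq950 : Qt rels S := P sp950
abbrev sp955 : Pt := (Pt.mk D1.c4 D2.c9 D3.c1)
abbrev sq955 : Qt rels S := P sp955
abbrev sp956 : Pt := (Pt.mk D1.c4 D2.c9 D3.c2)
abbrev sq956 : Qt rels S := P sp956
abbrev sp967 : Pt := (Pt.mk D1.c4 D2.c9 D3.c13)
abbrev sq967 : Qt rels S := P sp967
abbrev sp968 : Pt := (Pt.mk D1.c4 D2.c9 D3.c14)
abbrev sq968 : Qt rels S := P sp968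
abbrev sp969 : Pt := (Pt.mk D1.c4 D2.c9 D3.c15)
abbrev sq969 : Qt rels S := P sp969
abbrev sp970 : Pt := (Pt.mk D1.c4 D2.c9 D3.c16)
abbrev sq970 : Qt rels S := P sp970
abbrev sp972 : Pt := (Pt.mk D1.c4 D2.c10 D3.c0)
abbrev sq972 : Qt rels S := P sp972
abbrev sp973 : Pt := (Pt.mk D1.c4 D2.c10 D3.c1)
abbrev sq973 : Qt rels S := P sp973
abbrev sp974 : Pt := (Pt.mk D1.c4 D2.c10 D3.c2)
abbrev sq974 : Qt rels S := P sp974
abbrev sp978 : Pt := (Pt.mk D1.c4 D2.c10 D3.c6)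
abbrev sq978 : Qt rels S := P sp978
abbrev sp981 : Pt := (Pt.mk D1.c4 D2.c10 D3.c9)
abbrev sq981 : Qt rels S := P sp981
abbrev sp982 : Pt := (Pt.mk D1.c4 D2.c10 D3.c10)
abbrev sq982 : Qt rels S := P sp982
abbrev sp984 : Pt := (Pt.mk D1.c4 D2.c10 D3.c12)
abbrev sq984 : Qt rels S := P sp984
abbrev sp985 : Pt := (Pt.mk D1.c4 D2.c10 D3.c13)
abbrev sq985 : Qt rels S := P sp985
abbrev sp987 : Pt := (Pt.mk D1.c4 D2.c10 D3.c15)
abbrev sq987 : Qt rels S := P sp987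
abbrev sp988 : Pt := (Pt.mk D1.c4 D2.c10 D3.c16)
abbrev sq988 : Qt rels S := P sp988
abbrev sp989 : Pt := (Pt.mk D1.c4 D2.c10 D3.c17)
abbrev sq989 : Qt rels S := P sp989
abbrev sp990 : Pt := (Pt.mk D1.c5 D2.c0 D3.c0)
abbrev sq990 : Qt rels S := P sp990
abbrev sp991 : Pt := (Pt.mk D1.c5 D2.c0 D3.c1)
abbrev sq991 : Qt rels S := P sp991
abbrev sp992 : Pt := (Pt.mk D1.c5 D2.c0 D3.c2)
abbrev sq992 : Qt rels S := P sp992
abbrev sp994 : Pt := (Pt.mk D1.c5 D2.c0 D3.c4)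
abbrev sq994 : Qt rels S := P sp994
abbrev sp996 : Pt := (Pt.mk D1.c5 D2.c0 D3.c6)
abbrev sq996 : Qt rels S := P sp996
abbrev sp997 : Pt := (Pt.mk D1.c5 D2.c0 D3.c7)
abbrev sq997 : Qt rels S := P sp997
abbrev sp999 : Pt := (Pt.mk D1.c5 D2.c0 D3.c9)
abbrev sq999 : Qt rels S := P sp999
abbrev sp1007 : Pt := (Pt.mk D1.c5 D2.c0 D3.c17)
abbrev sq1007 : Qt rels S := P sp1007
abbrev sp1008 : Pt := (Pt.mk D1.c5 D2.c1 D3.c0)
abbrev sq1008 : Qt rels S := P sp1008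
abbrev sp1009 : Pt := (Pt.mk D1.c5 D2.c1 D3.c1)
abbrev sq1009 : Qt rels S := P sp1009
abbrev sp1010 : Pt := (Pt.mk D1.c5 D2.c1 D3.c2)
abbrev sq1010 : Qt rels S := P sp1010
abbrev sp1011 : Pt := (Pt.mk D1.c5 D2.c1 D3.c3)
abbrev sq1011 : Qt rels S := P sp1011
abbrev sp1015 : Pt := (Pt.mk D1.c5 D2.c1 D3.c7)
abbrev sq1015 : Qt rels S := P sp1015
abbrev sp1016 : Pt := (Pt.mk D1.c5 D2.c1 D3.c8)
abbrev sq1016 : Qt rels S := P sp1016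
abbrev sp1017 : Pt := (Pt.mk D1.c5 D2.c1 D3.c9)
abbrev sq1017 : Qt rels S := P sp1017
abbrev sp1018 : Pt := (Pt.mk D1.c5 D2.c1 D3.c10)
abbrev sq1018 : Qt rels S := P sp1018
abbrev sp1019 : Pt := (Pt.mk D1.c5 D2.c1 D3.c11)
abbrev sq1019 : Qt rels S := P sp1019
abbrev sp1021 : Pt := (Pt.mk D1.c5 D2.c1 D3.c13)
abbrev sq1021 : Qt rels S := P sp1021
abbrev sp1024 : Pt := (Pt.mk D1.c5 D2.c1 D3.c16)
abbrev sq1024 : Qt rels S := P sp1024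
abbrev sp1026 : Pt := (Pt.mk D1.c5 D2.c2 D3.c0)
abbrev sq1026 : Qt rels S := P sp1026
abbrev sp1027 : Pt := (Pt.mk D1.c5 D2.c2 D3.c1)
abbrev sq1027 : Qt rels S := P sp1027
abbrev sp1029 : Pt := (Pt.mk D1.c5 D2.c2 D3.c3)
abbrev sq1029 : Qt rels S := P sp1029
abbrev sp1030 : Pt := (Pt.mk D1.c5 D2.c2 D3.c4)
abbrev sq1030 : Qt rels S := P sp1030
abbrev sp1032 : Pt := (Pt.mk D1.c5 D2.c2 D3.c6)
abbrev sq1032 : Qt rels S := P sp1032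
abbrev sp1034 : Pt := (Pt.mk D1.c5 D2.c2 D3.c8)
abbrev sq1034 : Qt rels S := P sp1034
abbrev sp1035 : Pt := (Pt.mk D1.c5 D2.c2 D3.c9)
abbrev sq1035 : Qt rels S := P sp1035
abbrev sp1036 : Pt := (Pt.mk D1.c5 D2.c2 D3.c10)
abbrev sq1036 : Qt rels S := P sp1036
abbrev sp1038 : Pt := (Pt.mk D1.c5 D2.c2 D3.c12)
abbrev sq1038 : Qt rels S := P sp1038
abbrev sp1041 : Pt := (Pt.mk D1.c5 D2.c2 D3.c15)
abbrev sq1041 : Qt rels S := P sp1041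
abbrev sp1042 : Pt := (Pt.mk D1.c5 D2.c2 D3.c16)
abbrev sq1042 : Qt rels S := P sp1042
abbrev sp1043 : Pt := (Pt.mk D1.c5 D2.c2 D3.c17)
abbrev sq1043 : Qt rels S := P sp1043
abbrev sp1044 : Pt := (Pt.mk D1.c5 D2.c3 D3.c0)
abbrev sq1044 : Qt rels S := P sp1044
abbrev sp1045 : Pt := (Pt.mk D1.c5 D2.c3 D3.c1)
abbrev sq1045 : Qt rels S := P sp1045
abbrev sp1046 : Pt := (Pt.mk D1.c5 D2.c3 D3.c2)
abbrev sq1046 : Qt rels S := P sp1046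
abbrev sp1047 : Pt := (Pt.mk D1.c5 D2.c3 D3.c3)
abbrev sq1047 : Qt rels S := P sp1047
abbrev sp1048 : Pt := (Pt.mk D1.c5 D2.c3 D3.c4)
abbrev sq1048 : Qt rels S := P sp1048
abbrev sp1049 : Pt := (Pt.mk D1.c5 D2.c3 D3.c5)
abbrev sq1049 : Qt rels S := P sp1049
abbrev sp1051 : Pt := (Pt.mk D1.c5 D2.c3 D3.c7)
abbrev sq1051 : Qt rels S := P sp1051
abbrev sp1052 : Pt := (Pt.mk D1.c5 D2.c3 D3.c8)
abbrev sq1052 : Qt rels S := P sp1052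
abbrev sp1053 : Pt := (Pt.mk D1.c5 D2.c3 D3.c9)
abbrev sq1053 : Qt rels S := P sp1053
abbrev sp1055 : Pt := (Pt.mk D1.c5 D2.c3 D3.c11)
abbrev sq1055 : Qt rels S := P sp1055
abbrev sp1056 : Pt := (Pt.mk D1.c5 D2.c3 D3.c12)
abbrev sq1056 : Qt rels S := P sp1056
abbrev sp1057 : Pt := (Pt.mk D1.c5 D2.c3 D3.c13)
abbrev sq1057 : Qt rels S := P sp1057
abbrev sp1062 : Pt := (Pt.mk D1.c5 D2.c4 D3.c0)
abbrev sq1062 : Qt rels S := P sp1062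
abbrev sp1063 : Pt := (Pt.mk D1.c5 D2.c4 D3.c1)
abbrev sq1063 : Qt rels S := P sp1063
abbrev sp1064 : Pt := (Pt.mk D1.c5 D2.c4 D3.c2)
abbrev sq1064 : Qt rels S := P sp1064
abbrev sp1065 : Pt := (Pt.mk D1.c5 D2.c4 D3.c3)
abbrev sq1065 : Qt rels S := P sp1065
abbrev sp1066 : Pt := (Pt.mk D1.c5 D2.c4 D3.c4)
abbrev sq1066 : Qt rels S := P sp1066
abbrev sp1067 : Pt := (Pt.mk D1.c5 D2.c4 D3.c5)
abbrev sq1067 : Qt rels S := P sp1067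
abbrev sp1068 : Pt := (Pt.mk D1.c5 D2.c4 D3.c6)
abbrev sq1068 : Qt rels S := P sp1068
abbrev sp1069 : Pt := (Pt.mk D1.c5 D2.c4 D3.c7)
abbrev sq1069 : Qt rels S := P sp1069
abbrev sp1070 : Pt := (Pt.mk D1.c5 D2.c4 D3.c8)
abbrev sq1070 : Qt rels S := P sp1070
abbrev sp1072 : Pt := (Pt.mk D1.c5 D2.c4 D3.c10)
abbrev sq1072 : Qt rels S := P sp1072
abbrev sp1074 : Pt := (Pt.mk D1.c5 D2.c4 D3.c12)
abbrev sq1074 : Qt rels S := P sp1074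
abbrev sp1075 : Pt := (Pt.mk D1.c5 D2.c4 D3.c13)
abbrev sq1075 : Qt rels S := P sp1075
abbrev sp1080 : Pt := (Pt.mk D1.c5 D2.c5 D3.c0)
abbrev sq1080 : Qt rels S := P sp1080
abbrev sp1081 : Pt := (Pt.mk D1.c5 D2.c5 D3.c1)
abbrev sq1081 : Qt rels S := P sp1081
abbrev sp1082 : Pt := (Pt.mk D1.c5 D2.c5 D3.c2)
abbrev sq1082 : Qt rels S := P sp1082
abbrev sp1084 : Pt := (Pt.mk D1.c5 D2.c5 D3.c4)
abbrev sq1084 : Qt rels S := P sp1084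
abbrev sp1085 : Pt := (Pt.mk D1.c5 D2.c5 D3.c5)
abbrev sq1085 : Qt rels S := P sp1085
abbrev sp1087 : Pt := (Pt.mk D1.c5 D2.c5 D3.c7)
abbrev sq1087 : Qt rels S := P sp1087
abbrev sp1088 : Pt := (Pt.mk D1.c5 D2.c5 D3.c8)
abbrev sq1088 : Qt rels S := P sp1088
abbrev sp1093 : Pt := (Pt.mk D1.c5 D2.c5 D3.c13)
abbrev sq1093 : Qt rels S := P sp1093
abbrev sp1099 : Pt := (Pt.mk D1.c5 D2.c6 D3.c1)
abbrev sq1099 : Qt rels S := P sp1099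
abbrev sp1105 : Pt := (Pt.mk D1.c5 D2.c6 D3.c7)
abbrev sq1105 : Qt rels S := P sp1105
abbrev sp1116 : Pt := (Pt.mk D1.c5 D2.c7 D3.c0)
abbrev sq1116 : Qt rels S := P sp1116
abbrev sp1117 : Pt := (Pt.mk D1.c5 D2.c7 D3.c1)
abbrev sq1117 : Qt rels S := P sp1117
abbrev sp1124 : Pt := (Pt.mk D1.c5 D2.c7 D3.c8)
abbrev sq1124 : Qt rels S := P sp1124
abbrev sp1126 : Pt := (Pt.mk D1.c5 D2.c7 D3.c10)
abbrev sq1126 : Qt rels S := P sp1126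
abbrev sp1129 : Pt := (Pt.mk D1.c5 D2.c7 D3.c13)
abbrev sq1129 : Qt rels S := P sp1129
abbrev sp1131 : Pt := (Pt.mk D1.c5 D2.c7 D3.c15)
abbrev sq1131 : Qt rels S := P sp1131
abbrev sp1132 : Pt := (Pt.mk D1.c5 D2.c7 D3.c16)
abbrev sq1132 : Qt rels S := P sp1132
abbrev sp1133 : Pt := (Pt.mk D1.c5 D2.c7 D3.c17)
abbrev sq1133 : Qt rels S := P sp1133
abbrev sp1134 : Pt := (Pt.mk D1.c5 D2.c8 D3.c0)
abbrev sq1134 : Qt rels S := P sp1134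
abbrev sp1142 : Pt := (Pt.mk D1.c5 D2.c8 D3.c8)
abbrev sq1142 : Qt rels S := P sp1142
abbrev sp1147 : Pt := (Pt.mk D1.c5 D2.c8 D3.c13)
abbrev sq1147 : Qt rels S := P sp1147
abbrev sp1148 : Pt := (Pt.mk D1.c5 D2.c8 D3.c14)
abbrev sq1148 : Qt rels S := P sp1148
abbrev sp1149 : Pt := (Pt.mk D1.c5 D2.c8 D3.c15)
abbrev sq1149 : Qt rels S := P sp1149
abbrev sp1150 : Pt := (Pt.mk D1.c5 D2.c8 D3.c16)
abbrev sq1150 : Qt rels S := P sp1150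
abbrev sp1152 : Pt := (Pt.mk D1.c5 D2.c9 D3.c0)
abbrev sq1152 : Qt rels S := P sp1152
abbrev sp1153 : Pt := (Pt.mk D1.c5 D2.c9 D3.c1)
abbrev sq1153 : Qt rels S := P sp1153
abbrev sp1154 : Pt := (Pt.mk D1.c5 D2.c9 D3.c2)
abbrev sq1154 : Qt rels S := P sp1154
abbrev sp1157 : Pt := (Pt.mk D1.c5 D2.c9 D3.c5)
abbrev sq1157 : Qt rels S := P sp1157
abbrev sp1165 : Pt := (Pt.mk D1.c5 D2.c9 D3.c13)
abbrev sq1165 : Qt rels S := P sp1165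
abbrev sp1168 : Pt := (Pt.mk D1.c5 D2.c9 D3.c16)
abbrev sq1168 : Qt rels S := P sp1168
abbrev sp1174 : Pt := (Pt.mk D1.c5 D2.c10 D3.c4)
abbrev sq1174 : Qt rels S := P sp1174
abbrev sp1175 : Pt := (Pt.mk D1.c5 D2.c10 D3.c5)
abbrev sq1175 : Qt rels S := P sp1175
abbrev sp1176 : Pt := (Pt.mk D1.c5 D2.c10 D3.c6)
abbrev sq1176 : Qt rels S := P sp1176
abbrev sp1178 : Pt := (Pt.mk D1.c5 D2.c10 D3.c8)
abbrev sq1178 : Qt rels S := P sp1178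
abbrev sp1179 : Pt := (Pt.mk D1.c5 D2.c10 D3.c9)
abbrev sq1179 : Qt rels S := P sp1179
abbrev sp1180 : Pt := (Pt.mk D1.c5 D2.c10 D3.c10)
abbrev sq1180 : Qt rels S := P sp1180
abbrev sp1181 : Pt := (Pt.mk D1.c5 D2.c10 D3.c11)
abbrev sq1181 : Qt rels S := P sp1181
abbrev sp1182 : Pt := (Pt.mk D1.c5 D2.c10 D3.c12)
abbrev sq1182 : Qt rels S := P sp1182
abbrev sp1183 : Pt := (Pt.mk D1.c5 D2.c10 D3.c13)
abbrev sq1183 : Qt rels S := P sp1183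
abbrev sp1184 : Pt := (Pt.mk D1.c5 D2.c10 D3.c14)
abbrev sq1184 : Qt rels S := P sp1184
abbrev sp1186 : Pt := (Pt.mk D1.c5 D2.c10 D3.c16)
abbrev sq1186 : Qt rels S := P sp1186
abbrev sp1189 : Pt := (Pt.mk D1.c6 D2.c0 D3.c1)
abbrev sq1189 : Qt rels S := P sp1189
abbrev sp1190 : Pt := (Pt.mk D1.c6 D2.c0 D3.c2)
abbrev sq1190 : Qt rels S := P sp1190
abbrev sp1191 : Pt := (Pt.mk D1.c6 D2.c0 D3.c3)
abbrev sq1191 : Qt rels S := P sp1191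
abbrev sp1192 : Pt := (Pt.mk D1.c6 D2.c0 D3.c4)
abbrev sq1192 : Qt rels S := P sp1192
abbrev sp1193 : Pt := (Pt.mk D1.c6 D2.c0 D3.c5)
abbrev sq1193 : Qt rels S := P sp1193
abbrev sp1196 : Pt := (Pt.mk D1.c6 D2.c0 D3.c8)
abbrev sq1196 : Qt rels S := P sp1196
abbrev sp1197 : Pt := (Pt.mk D1.c6 D2.c0 D3.c9)
abbrev sq1197 : Qt rels S := P sp1197
abbrev sp1198 : Pt := (Pt.mk D1.c6 D2.c0 D3.c10)
abbrev sq1198 : Qt rels S := P sp1198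
abbrev sp1200 : Pt := (Pt.mk D1.c6 D2.c0 D3.c12)
abbrev sq1200 : Qt rels S := P sp1200
abbrev sp1205 : Pt := (Pt.mk D1.c6 D2.c0 D3.c17)
abbrev sq1205 : Qt rels S := P sp1205
abbrev sp1206 : Pt := (Pt.mk D1.c6 D2.c1 D3.c0)
abbrev sq1206 : Qt rels S := P sp1206
abbrev sp1208 : Pt := (Pt.mk D1.c6 D2.c1 D3.c2)
abbrev sq1208 : Qt rels S := P sp1208
abbrev sp1209 : Pt := (Pt.mk D1.c6 D2.c1 D3.c3)
abbrev sq1209 : Qt rels S := P sp1209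
abbrev sp1222 : Pt := (Pt.mk D1.c6 D2.c1 D3.c16)
abbrev sq1222 : Qt rels S := P sp1222
abbrev sp1224 : Pt := (Pt.mk D1.c6 D2.c2 D3.c0)
abbrev sq1224 : Qt rels S := P sp1224
abbrev sp1225 : Pt := (Pt.mk D1.c6 D2.c2 D3.c1)
abbrev sq1225 : Qt rels S := P sp1225
abbrev sp1226 : Pt := (Pt.mk D1.c6 D2.c2 D3.c2)
abbrev sq1226 : Qt rels S := P sp1226
abbrev sp1228 : Pt := (Pt.mk D1.c6 D2.c2 D3.c4)
abbrev sq1228 : Qt rels S := P sp1228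
abbrev sp1235 : Pt := (Pt.mk D1.c6 D2.c2 D3.c11)
abbrev sq1235 : Qt rels S := P sp1235
abbrev sp1237 : Pt := (Pt.mk D1.c6 D2.c2 D3.c13)
abbrev sq1237 : Qt rels S := P sp1237
abbrev sp1238 : Pt := (Pt.mk D1.c6 D2.c2 D3.c14)
abbrev sq1238 : Qt rels S := P sp1238
abbrev sp1239 : Pt := (Pt.mk D1.c6 D2.c2 D3.c15)
abbrev sq1239 : Qt rels S := P sp1239
abbrev sp1248 : Pt := (Pt.mk D1.c6 D2.c3 D3.c6)
abbrev sq1248 : Qt rels S := P sp1248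
abbrev sp1251 : Pt := (Pt.mk D1.c6 D2.c3 D3.c9)
abbrev sq1251 : Qt rels S := P sp1251
abbrev sp1256 : Pt := (Pt.mk D1.c6 D2.c3 D3.c14)
abbrev sq1256 : Qt rels S := P sp1256
abbrev sp1258 : Pt := (Pt.mk D1.c6 D2.c3 D3.c16)
abbrev sq1258 : Qt rels S := P sp1258
abbrev sp1259 : Pt := (Pt.mk D1.c6 D2.c3 D3.c17)
abbrev sq1259 : Qt rels S := P sp1259
abbrev sp1260 : Pt := (Pt.mk D1.c6 D2.c4 D3.c0)
abbrev sq1260 : Qt rels S := P sp1260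
abbrev sp1261 : Pt := (Pt.mk D1.c6 D2.c4 D3.c1)
abbrev sq1261 : Qt rels S := P sp1261
abbrev sp1269 : Pt := (Pt.mk D1.c6 D2.c4 D3.c9)
abbrev sq1269 : Qt rels S := P sp1269
abbrev sp1271 : Pt := (Pt.mk D1.c6 D2.c4 D3.c11)
abbrev sq1271 : Qt rels S := P sp1271
abbrev sp1291 : Pt := (Pt.mk D1.c6 D2.c5 D3.c13)
abbrev sq1291 : Qt rels S := P sp1291
abbrev sp1295 : Pt := (Pt.mk D1.c6 D2.c5 D3.c17)
abbrev sq1295 : Qt rels S := P sp1295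
abbrev sp1301 : Pt := (Pt.mk D1.c6 D2.c6 D3.c5)
abbrev sq1301 : Qt rels S := P sp1301
abbrev sp1304 : Pt := (Pt.mk D1.c6 D2.c6 D3.c8)
abbrev sq1304 : Qt rels S := P sp1304
abbrev sp1309 : Pt := (Pt.mk D1.c6 D2.c6 D3.c13)
abbrev sq1309 : Qt rels S := P sp1309
abbrev sp1323 : Pt := (Pt.mk D1.c6 D2.c7 D3.c9)
abbrev sq1323 : Qt rels S := P sp1323
abbrev sp1325 : Pt := (Pt.mk D1.c6 D2.c7 D3.c11)
abbrev sq1325 : Qt rels S := P sp1325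
abbrev sp1331 : Pt := (Pt.mk D1.c6 D2.c7 D3.c17)
abbrev sq1331 : Qt rels S := P sp1331
abbrev sp1336 : Pt := (Pt.mk D1.c6 D2.c8 D3.c4)
abbrev sq1336 : Qt rels S := P sp1336
abbrev sp1337 : Pt := (Pt.mk D1.c6 D2.c8 D3.c5)
abbrev sq1337 : Qt rels S := P sp1337
abbrev sp1340 : Pt := (Pt.mk D1.c6 D2.c8 D3.c8)
abbrev sq1340 : Qt rels S := P sp1340
abbrev sp1341 : Pt := (Pt.mk D1.c6 D2.c8 D3.c9)
abbrev sq1341 : Qt rels S := P sp1341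
abbrev sp1342 : Pt := (Pt.mk D1.c6 D2.c8 D3.c10)
abbrev sq1342 : Qt rels S := P sp1342
abbrev sp1345 : Pt := (Pt.mk D1.c6 D2.c8 D3.c13)
abbrev sq1345 : Qt rels S := P sp1345
abbrev sp1347 : Pt := (Pt.mk D1.c6 D2.c8 D3.c15)
abbrev sq1347 : Qt rels S := P sp1347
abbrev sp1354 : Pt := (Pt.mk D1.c6 D2.c9 D3.c4)
abbrev sq1354 : Qt rels S := P sp1354
abbrev sp1355 : Pt := (Pt.mk D1.c6 D2.c9 D3.c5)
abbrev sq1355 : Qt rels S := P sp1355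
abbrev sp1356 : Pt := (Pt.mk D1.c6 D2.c9 D3.c6)
abbrev sq1356 : Qt rels S := P sp1356
abbrev sp1357 : Pt := (Pt.mk D1.c6 D2.c9 D3.c7)
abbrev sq1357 : Qt rels S := P sp1357
abbrev sp1358 : Pt := (Pt.mk D1.c6 D2.c9 D3.c8)
abbrev sq1358 : Qt rels S := P sp1358
abbrev sp1360 : Pt := (Pt.mk D1.c6 D2.c9 D3.c10)
abbrev sq1360 : Qt rels S := P sp1360
abbrev sp1361 : Pt := (Pt.mk D1.c6 D2.c9 D3.c11)
abbrev sq1361 : Qt rels S := P sp1361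
abbrev sp1364 : Pt := (Pt.mk D1.c6 D2.c9 D3.c14)
abbrev sq1364 : Qt rels S := P sp1364
abbrev sp1365 : Pt := (Pt.mk D1.c6 D2.c9 D3.c15)
abbrev sq1365 : Qt rels S := P sp1365
abbrev sp1366 : Pt := (Pt.mk D1.c6 D2.c9 D3.c16)
abbrev sq1366 : Qt rels S := P sp1366
abbrev sp1372 : Pt := (Pt.mk D1.c6 D2.c10 D3.c4)
abbrev sq1372 : Qt rels S := P sp1372
abbrev sp1375 : Pt := (Pt.mk D1.c6 D2.c10 D3.c7)
abbrev sq1375 : Qt rels S := P sp1375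
abbrev sp1381 : Pt := (Pt.mk D1.c6 D2.c10 D3.c13)
abbrev sq1381 : Qt rels S := P sp1381
abbrev sp1382 : Pt := (Pt.mk D1.c6 D2.c10 D3.c14)
abbrev sq1382 : Qt rels S := P sp1382
abbrev sp1384 : Pt := (Pt.mk D1.c6 D2.c10 D3.c16)
abbrev sq1384 : Qt rels S := P sp1384
abbrev sp1388 : Pt := (Pt.mk D1.c7 D2.c0 D3.c2)
abbrev sq1388 : Qt rels S := P sp1388
abbrev sp1389 : Pt := (Pt.mk D1.c7 D2.c0 D3.c3)
abbrev sq1389 : Qt rels S := P sp1389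
abbrev sp1390 : Pt := (Pt.mk D1.c7 D2.c0 D3.c4)
abbrev sq1390 : Qt rels S := P sp1390
abbrev sp1395 : Pt := (Pt.mk D1.c7 D2.c0 D3.c9)
abbrev sq1395 : Qt rels S := P sp1395
abbrev sp1398 : Pt := (Pt.mk D1.c7 D2.c0 D3.c12)
abbrev sq1398 : Qt rels S := P sp1398
abbrev sp1399 : Pt := (Pt.mk D1.c7 D2.c0 D3.c13)
abbrev sq1399 : Qt rels S := P sp1399
abbrev sp1401 : Pt := (Pt.mk D1.c7 D2.c0 D3.c15)
abbrev sq1401 : Qt rels S := P sp1401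
abbrev sp1402 : Pt := (Pt.mk D1.c7 D2.c0 D3.c16)
abbrev sq1402 : Qt rels S := P sp1402
abbrev sp1407 : Pt := (Pt.mk D1.c7 D2.c1 D3.c3)
abbrev sq1407 : Qt rels S := P sp1407
abbrev sp1408 : Pt := (Pt.mk D1.c7 D2.c1 D3.c4)
abbrev sq1408 : Qt rels S := P sp1408
abbrev sp1415 : Pt := (Pt.mk D1.c7 D2.c1 D3.c11)
abbrev sq1415 : Qt rels S := P sp1415
abbrev sp1416 : Pt := (Pt.mk D1.c7 D2.c1 D3.c12)
abbrev sq1416 : Qt rels S := P sp1416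
abbrev sp1417 : Pt := (Pt.mk D1.c7 D2.c1 D3.c13)
abbrev sq1417 : Qt rels S := P sp1417
abbrev sp1419 : Pt := (Pt.mk D1.c7 D2.c1 D3.c15)
abbrev sq1419 : Qt rels S := P sp1419
abbrev sp1423 : Pt := (Pt.mk D1.c7 D2.c2 D3.c1)
abbrev sq1423 : Qt rels S := P sp1423
abbrev sp1424 : Pt := (Pt.mk D1.c7 D2.c2 D3.c2)
abbrev sq1424 : Qt rels S := P sp1424
abbrev sp1431 : Pt := (Pt.mk D1.c7 D2.c2 D3.c9)
abbrev sq1431 : Qt rels S := P sp1431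
abbrev sp1435 : Pt := (Pt.mk D1.c7 D2.c2 D3.c13)
abbrev sq1435 : Qt rels S := P sp1435
abbrev sp1438 : Pt := (Pt.mk D1.c7 D2.c2 D3.c16)
abbrev sq1438 : Qt rels S := P sp1438
abbrev sp1447 : Pt := (Pt.mk D1.c7 D2.c3 D3.c7)
abbrev sq1447 : Qt rels S := P sp1447
abbrev sp1448 : Pt := (Pt.mk D1.c7 D2.c3 D3.c8)
abbrev sq1448 : Qt rels S := P sp1448
abbrev sp1462 : Pt := (Pt.mk D1.c7 D2.c4 D3.c4)
abbrev sq1462 : Qt rels S := P sp1462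
abbrev sp1463 : Pt := (Pt.mk D1.c7 D2.c4 D3.c5)
abbrev sq1463 : Qt rels S := P sp1463
abbrev sp1471 : Pt := (Pt.mk D1.c7 D2.c4 D3.c13)
abbrev sq1471 : Qt rels S := P sp1471
abbrev sp1479 : Pt := (Pt.mk D1.c7 D2.c5 D3.c3)
abbrev sq1479 : Qt rels S := P sp1479
abbrev sp1481 : Pt := (Pt.mk D1.c7 D2.c5 D3.c5)
abbrev sq1481 : Qt rels S := P sp1481
abbrev sp1496 : Pt := (Pt.mk D1.c7 D2.c6 D3.c2)
abbrev sq1496 : Qt rels S := P sp1496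
abbrev sp1499 : Pt := (Pt.mk D1.c7 D2.c6 D3.c5)
abbrev sq1499 : Qt rels S := P sp1499
abbrev sp1500 : Pt := (Pt.mk D1.c7 D2.c6 D3.c6)
abbrev sq1500 : Qt rels S := P sp1500
abbrev sp1502 : Pt := (Pt.mk D1.c7 D2.c6 D3.c8)
abbrev sq1502 : Qt rels S := P sp1502
abbrev sp1503 : Pt := (Pt.mk D1.c7 D2.c6 D3.c9)
abbrev sq1503 : Qt rels S := P sp1503
abbrev sp1524 : Pt := (Pt.mk D1.c7 D2.c7 D3.c12)
abbrev sq1524 : Qt rels S := P sp1524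
abbrev sp1527 : Pt := (Pt.mk D1.c7 D2.c7 D3.c15)
abbrev sq1527 : Qt rels S := P sp1527
abbrev sp1528 : Pt := (Pt.mk D1.c7 D2.c7 D3.c16)
abbrev sq1528 : Qt rels S := P sp1528
abbrev sp1529 : Pt := (Pt.mk D1.c7 D2.c7 D3.c17)
abbrev sq1529 : Qt rels S := P sp1529
abbrev sp1531 : Pt := (Pt.mk D1.c7 D2.c8 D3.c1)
abbrev sq1531 : Qt rels S := P sp1531
abbrev sp1532 : Pt := (Pt.mk D1.c7 D2.c8 D3.c2)
abbrev sq1532 : Qt rels S := P sp1532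
abbrev sp1534 : Pt := (Pt.mk D1.c7 D2.c8 D3.c4)
abbrev sq1534 : Qt rels S := P sp1534
abbrev sp1540 : Pt := (Pt.mk D1.c7 D2.c8 D3.c10)
abbrev sq1540 : Qt rels S := P sp1540
abbrev sp1545 : Pt := (Pt.mk D1.c7 D2.c8 D3.c15)
abbrev sq1545 : Qt rels S := P sp1545
abbrev sp1573 : Pt := (Pt.mk D1.c7 D2.c10 D3.c7)
abbrev sq1573 : Qt rels S := P sp1573
abbrev sp1579 : Pt := (Pt.mk D1.c7 D2.c10 D3.c13)
abbrev sq1579 : Qt rels S := P sp1579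
abbrev sp1580 : Pt := (Pt.mk D1.c7 D2.c10 D3.c14)
abbrev sq1580 : Qt rels S := P sp1580
abbrev sp1584 : Pt := (Pt.mk D1.c8 D2.c0 D3.c0)
abbrev sq1584 : Qt rels S := P sp1584
abbrev sp1594 : Pt := (Pt.mk D1.c8 D2.c0 D3.c10)
abbrev sq1594 : Qt rels S := P sp1594
abbrev sp1595 : Pt := (Pt.mk D1.c8 D2.c0 D3.c11)
abbrev sq1595 : Qt rels S := P sp1595
abbrev sp1598 : Pt := (Pt.mk D1.c8 D2.c0 D3.c14)
abbrev sq1598 : Qt rels S := P sp1598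
abbrev sp1611 : Pt := (Pt.mk D1.c8 D2.c1 D3.c9)
abbrev sq1611 : Qt rels S := P sp1611
abbrev sp1614 : Pt := (Pt.mk D1.c8 D2.c1 D3.c12)
abbrev sq1614 : Qt rels S := P sp1614
abbrev sp1618 : Pt := (Pt.mk D1.c8 D2.c1 D3.c16)
abbrev sq1618 : Qt rels S := P sp1618
abbrev sp1628 : Pt := (Pt.mk D1.c8 D2.c2 D3.c8)
abbrev sq1628 : Qt rels S := P sp1628
abbrev sp1631 : Pt := (Pt.mk D1.c8 D2.c2 D3.c11)
abbrev sq1631 : Qt rels S := P sp1631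
abbrev sp1641 : Pt := (Pt.mk D1.c8 D2.c3 D3.c3)
abbrev sq1641 : Qt rels S := P sp1641
abbrev sp1642 : Pt := (Pt.mk D1.c8 D2.c3 D3.c4)
abbrev sq1642 : Qt rels S := P sp1642
abbrev sp1643 : Pt := (Pt.mk D1.c8 D2.c3 D3.c5)
abbrev sq1643 : Qt rels S := P sp1643
abbrev sp1644 : Pt := (Pt.mk D1.c8 D2.c3 D3.c6)
abbrev sq1644 : Qt rels S := P sp1644
abbrev sp1645 : Pt := (Pt.mk D1.c8 D2.c3 D3.c7)
abbrev sq1645 : Qt rels S := P sp1645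
abbrev sp1647 : Pt := (Pt.mk D1.c8 D2.c3 D3.c9)
abbrev sq1647 : Qt rels S := P sp1647
abbrev sp1651 : Pt := (Pt.mk D1.c8 D2.c3 D3.c13)
abbrev sq1651 : Qt rels S := P sp1651
abbrev sp1669 : Pt := (Pt.mk D1.c8 D2.c4 D3.c13)
abbrev sq1669 : Qt rels S := P sp1669
abbrev sp1671 : Pt := (Pt.mk D1.c8 D2.c4 D3.c15)
abbrev sq1671 : Qt rels S := P sp1671
abbrev sp1675 : Pt := (Pt.mk D1.c8 D2.c5 D3.c1)
abbrev sq1675 : Qt rels S := P sp1675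
abbrev sp1676 : Pt := (Pt.mk D1.c8 D2.c5 D3.c2)
abbrev sq1676 : Qt rels S := P sp1676
abbrev sp1680 : Pt := (Pt.mk D1.c8 D2.c5 D3.c6)
abbrev sq1680 : Qt rels S := P sp1680
abbrev sp1685 : Pt := (Pt.mk D1.c8 D2.c5 D3.c11)
abbrev sq1685 : Qt rels S := P sp1685
abbrev sp1716 : Pt := (Pt.mk D1.c8 D2.c7 D3.c6)
abbrev sq1716 : Qt rels S := P sp1716
abbrev sp1747 : Pt := (Pt.mk D1.c8 D2.c9 D3.c1)
abbrev sq1747 : Qt rels S := P sp1747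
abbrev sp1765 : Pt := (Pt.mk D1.c8 D2.c10 D3.c1)
abbrev sq1765 : Qt rels S := P sp1765
abbrev sp1768 : Pt := (Pt.mk D1.c8 D2.c10 D3.c4)
abbrev sq1768 : Qt rels S := P sp1768
abbrev sp1769 : Pt := (Pt.mk D1.c8 D2.c10 D3.c5)
abbrev sq1769 : Qt rels S := P sp1769
abbrev sp1771 : Pt := (Pt.mk D1.c8 D2.c10 D3.c7)
abbrev sq1771 : Qt rels S := P sp1771
def s0_v0 : Qt rels S := ed sl_ft sq3
def s0_v1 : Qt rels S := ed sl_at sq17
def s0_v2 : Qt rels S := ed sl_gt sq17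
def s0_v3 : Qt rels S := ed sl_gt sq29
def s0_v4 : Qt rels S := ed sl_ct sq35
def s0_v5 : Qt rels S := ed sl_bt sq44
def s0_v6 : Qt rels S := ed sl_at sq50
def s0_v7 : Qt rels S := ed sl_ct sq50
def s0_v8 : Qt rels S := ed sl_gt sq50
def s0_v10 : Qt rels S := ed sl_dt sq52
def s0_v11 : Qt rels S := ed sl_gt sq52
def s0_v12 : Qt rels S := ed sl_dt sq53
def s0_v13 : Qt rels S := ed sl_at sq56
def s0_v14 : Qt rels S := ed sl_gt sq56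
def s0_v15 : Qt rels S := ed sl_ct sq58
def s0_v16 : Qt rels S := ed sl_ct sq59
def s0_v17 : Qt rels S := ed sl_at sq61
def s0_v18 : Qt rels S := ed sl_bt sq64
def s0_v19 : Qt rels S := ed sl_bt sq69
def s0_v20 : Qt rels S := ed sl_bt sq74
def s0_v21 : Qt rels S := ed sl_bt sq76
def s0_v22 : Qt rels S := ed sl_at sq80
def s0_v23 : Qt rels S := ed sl_ct sq80
def s0_v24 : Qt rels S := ed sl_gt sq80
def s0_v25 : Qt rels S := ed sl_at sq85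
def s0_v30 : Qt rels S := ed sl_bt s0_v4
def s0_v31 : Qt rels S := ed sl_at s0_v5
def s0_v32 : Qt rels S := ed sl_ct s0_v5
def s0_v33 : Qt rels S := ed sl_ft s0_v5
def s0_v34 : Qt rels S := ed sl_gt s0_v5
def s0_v35 : Qt rels S := ed sl_bt s0_v6
def s0_v36 : Qt rels S := ed sl_ct s0_v6
def s0_v37 : Qt rels S := ed sl_gt s0_v6
def s0_v38 : Qt rels S := ed sl_dt s0_v7
def s0_v40 : Qt rels S := ed sl_ft s0_v8
def s0_v43 : Qt rels S := ed sl_bt s0_v11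
def s0_v44 : Qt rels S := ed sl_at sq87
def s0_v45 : Qt rels S := ed sl_dt sq87
def s0_v46 : Qt rels S := ed sl_gt sq87
def s0_v47 : Qt rels S := ed sl_dt sq89
def s0_v48 : Qt rels S := ed sl_at sq91
def s0_v49 : Qt rels S := ed sl_gt sq91
def s0_v50 : Qt rels S := ed sl_at sq92
def s0_v52 : Qt rels S := ed sl_dt sq95
def s0_v53 : Qt rels S := ed sl_bt sq99
def s0_v54 : Qt rels S := ed sl_bt sq100
def s0_v56 : Qt rels S := ed sl_at sq101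
def s0_v58 : Qt rels S := ed sl_at sq103
def s0_v59 : Qt rels S := ed sl_bt sq105
def s0_v60 : Qt rels S := ed sl_bt sq110
def s0_v61 : Qt rels S := ed sl_bt sq112
def s0_v62 : Qt rels S := ed sl_bt sq119
def s0_v63 : Qt rels S := ed sl_bt sq121
def s0_v64 : Qt rels S := ed sl_ft sq122
def s0_v65 : Qt rels S := ed sl_at sq126
def s0_v67 : Qt rels S := ed sl_gt sq126
def s0_v68 : Qt rels S := ed sl_gt sq129
def s0_v69 : Qt rels S := ed sl_at sq130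
def s0_v70 : Qt rels S := ed sl_at sq133
def s0_v72 : Qt rels S := ed sl_et s0_v12
def s0_v73 : Qt rels S := ed sl_bt s0_v13
def s0_v74 : Qt rels S := ed sl_gt s0_v13
def s0_v75 : Qt rels S := ed sl_ft s0_v14
def s0_v76 : Qt rels S := ed sl_bt s0_v15
def s0_v77 : Qt rels S := ed sl_bt s0_v16
def s0_v78 : Qt rels S := ed sl_bt s0_v17
def s0_v79 : Qt rels S := ed sl_at s0_v18
def s0_v81 : Qt rels S := ed sl_at s0_v19
def s0_v82 : Qt rels S := ed sl_ct s0_v19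
def s0_v83 : Qt rels S := ed sl_ft s0_v19
def s0_v84 : Qt rels S := ed sl_gt s0_v19
def s0_v85 : Qt rels S := ed sl_at s0_v20
def s0_v87 : Qt rels S := ed sl_ft s0_v20
def s0_v88 : Qt rels S := ed sl_gt s0_v20
def s0_v89 : Qt rels S := ed sl_at s0_v21
def s0_v90 : Qt rels S := ed sl_ct s0_v21
def s0_v91 : Qt rels S := ed sl_ft s0_v21
def s0_v92 : Qt rels S := ed sl_gt s0_v21
def s0_v93 : Qt rels S := ed sl_bt s0_v22
def s0_v96 : Qt rels S := ed sl_gt s0_v23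
def s0_v97 : Qt rels S := ed sl_bt s0_v25
def s0_v99 : Qt rels S := ed sl_gt s0_v25
def s0_v107 : Qt rels S := ed sl_at s0_v30
def s0_v108 : Qt rels S := ed sl_ft s0_v30
def s0_v109 : Qt rels S := ed sl_gt s0_v30
def s0_v110 : Qt rels S := ed sl_ct s0_v31
def s0_v111 : Qt rels S := ed sl_ft s0_v31
def s0_v112 : Qt rels S := ed sl_gt s0_v31
def s0_v114 : Qt rels S := ed sl_ft s0_v32
def s0_v115 : Qt rels S := ed sl_gt s0_v32
def s0_v116 : Qt rels S := ed sl_gt s0_v33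
def s0_v117 : Qt rels S := ed sl_ft s0_v34
def s0_v118 : Qt rels S := ed sl_at s0_v35
def s0_v119 : Qt rels S := ed sl_ct s0_v35
def s0_v120 : Qt rels S := ed sl_ft s0_v35
def s0_v121 : Qt rels S := ed sl_gt s0_v35
def s0_v123 : Qt rels S := ed sl_dt s0_v36
def s0_v124 : Qt rels S := ed sl_gt s0_v36
def s0_v125 : Qt rels S := ed sl_bt s0_v37
def s0_v126 : Qt rels S := ed sl_ct s0_v38
def s0_v131 : Qt rels S := ed sl_bt s0_v40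
def s0_v134 : Qt rels S := ed sl_at s0_v43
def s0_v135 : Qt rels S := ed sl_ft s0_v43
def s0_v136 : Qt rels S := ed sl_at sq134
def s0_v137 : Qt rels S := ed sl_gt sq134
def s0_v138 : Qt rels S := ed sl_at sq135
def s0_v139 : Qt rels S := ed sl_dt sq135
def s0_v140 : Qt rels S := ed sl_gt sq135
def s0_v141 : Qt rels S := ed sl_et sq136
def s0_v142 : Qt rels S := ed sl_dt sq138
def s0_v143 : Qt rels S := ed sl_at sq139
def s0_v144 : Qt rels S := ed sl_gt sq139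
def s0_v146 : Qt rels S := ed sl_at sq143
def s0_v147 : Qt rels S := ed sl_ct sq143
def s0_v148 : Qt rels S := ed sl_dt sq143
def s0_v150 : Qt rels S := ed sl_dt sq146
def s0_v151 : Qt rels S := ed sl_at sq147
def s0_v152 : Qt rels S := ed sl_bt sq149
def s0_v153 : Qt rels S := ed sl_bt sq152
def s0_v154 : Qt rels S := ed sl_gt sq153
def s0_v155 : Qt rels S := ed sl_bt sq154
def s0_v156 : Qt rels S := ed sl_bt sq155
def s0_v157 : Qt rels S := ed sl_bt sq156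
def s0_v158 : Qt rels S := ed sl_ft sq156
def s0_v159 : Qt rels S := ed sl_at sq157
def s0_v160 : Qt rels S := ed sl_at sq158
def s0_v161 : Qt rels S := ed sl_gt sq158
def s0_v164 : Qt rels S := ed sl_at sq160
def s0_v166 : Qt rels S := ed sl_bt sq162
def s0_v167 : Qt rels S := ed sl_gt sq165
def s0_v171 : Qt rels S := ed sl_bt sq170
def s0_v172 : Qt rels S := ed sl_bt sq172
def s0_v173 : Qt rels S := ed sl_ft sq173
def s0_v174 : Qt rels S := ed sl_ft sq179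
def s0_v175 : Qt rels S := ed sl_at sq180
def s0_v176 : Qt rels S := ed sl_bt sq184
def s0_v177 : Qt rels S := ed sl_ft sq185
def s0_v178 : Qt rels S := ed sl_ft sq186
def s0_v179 : Qt rels S := ed sl_gt sq186
def s0_v180 : Qt rels S := ed sl_ft sq187
def s0_v181 : Qt rels S := ed sl_ft sq188
def s0_v183 : Qt rels S := ed sl_gt sq193
def s0_v184 : Qt rels S := ed sl_gt sq196
def s0_v185 : Qt rels S := ed sl_at sq197
def s0_v186 : Qt rels S := ed sl_bt sq198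
def s0_v187 : Qt rels S := ed sl_ft sq198
def s0_v188 : Qt rels S := ed sl_gt sq198
def s0_v190 : Qt rels S := ed sl_gt sq200
def s0_v192 : Qt rels S := ed sl_at sq202
def s0_v193 : Qt rels S := ed sl_at sq207
def s0_v194 : Qt rels S := ed sl_dt sq207
def s0_v196 : Qt rels S := ed sl_bt s0_v44
def s0_v197 : Qt rels S := ed sl_dt s0_v44
def s0_v198 : Qt rels S := ed sl_gt s0_v44
def s0_v199 : Qt rels S := ed sl_ct s0_v45
def s0_v200 : Qt rels S := ed sl_et s0_v45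
def s0_v201 : Qt rels S := ed sl_gt s0_v45
def s0_v203 : Qt rels S := ed sl_bt s0_v48
def s0_v204 : Qt rels S := ed sl_gt s0_v48
def s0_v206 : Qt rels S := ed sl_bt s0_v50
def s0_v208 : Qt rels S := ed sl_at s0_v53
def s0_v210 : Qt rels S := ed sl_at s0_v54
def s0_v212 : Qt rels S := ed sl_bt s0_v56
def s0_v217 : Qt rels S := ed sl_at s0_v60
def s0_v218 : Qt rels S := ed sl_ct s0_v60
def s0_v219 : Qt rels S := ed sl_ft s0_v60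
def s0_v220 : Qt rels S := ed sl_gt s0_v60
def s0_v221 : Qt rels S := ed sl_at s0_v61
def s0_v222 : Qt rels S := ed sl_ct s0_v61
def s0_v223 : Qt rels S := ed sl_ft s0_v61
def s0_v224 : Qt rels S := ed sl_gt s0_v61
def s0_v225 : Qt rels S := ed sl_at s0_v62
def s0_v226 : Qt rels S := ed sl_ct s0_v62
def s0_v227 : Qt rels S := ed sl_ft s0_v62
def s0_v229 : Qt rels S := ed sl_at s0_v63
def s0_v230 : Qt rels S := ed sl_ct s0_v63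
def s0_v231 : Qt rels S := ed sl_ft s0_v63
def s0_v233 : Qt rels S := ed sl_gt s0_v64
def s0_v234 : Qt rels S := ed sl_bt s0_v65
def s0_v238 : Qt rels S := ed sl_ft s0_v68
def s0_v239 : Qt rels S := ed sl_bt s0_v69
def s0_v240 : Qt rels S := ed sl_bt s0_v70
def s0_v241 : Qt rels S := ed sl_gt s0_v70
def s0_v243 : Qt rels S := ed sl_at s0_v73
def s0_v244 : Qt rels S := ed sl_ct s0_v73
def s0_v245 : Qt rels S := ed sl_ft s0_v73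
def s0_v246 : Qt rels S := ed sl_gt s0_v73
def s0_v247 : Qt rels S := ed sl_bt s0_v74
def s0_v248 : Qt rels S := ed sl_bt s0_v75
def s0_v251 : Qt rels S := ed sl_gt s0_v76
def s0_v252 : Qt rels S := ed sl_at s0_v77
def s0_v253 : Qt rels S := ed sl_ft s0_v77
def s0_v258 : Qt rels S := ed sl_gt s0_v78
def s0_v259 : Qt rels S := ed sl_bt s0_v79
def s0_v262 : Qt rels S := ed sl_ct s0_v81
def s0_v263 : Qt rels S := ed sl_ft s0_v81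
def s0_v264 : Qt rels S := ed sl_gt s0_v81
def s0_v266 : Qt rels S := ed sl_ft s0_v82
def s0_v267 : Qt rels S := ed sl_gt s0_v82
def s0_v268 : Qt rels S := ed sl_gt s0_v83
def s0_v269 : Qt rels S := ed sl_ft s0_v84
def s0_v271 : Qt rels S := ed sl_ft s0_v85
def s0_v272 : Qt rels S := ed sl_gt s0_v85
def s0_v276 : Qt rels S := ed sl_gt s0_v87
def s0_v277 : Qt rels S := ed sl_ft s0_v88
def s0_v278 : Qt rels S := ed sl_bt s0_v89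
def s0_v279 : Qt rels S := ed sl_ct s0_v89
def s0_v280 : Qt rels S := ed sl_ft s0_v89
def s0_v281 : Qt rels S := ed sl_gt s0_v89
def s0_v282 : Qt rels S := ed sl_dt s0_v90
def s0_v283 : Qt rels S := ed sl_ft s0_v90
def s0_v284 : Qt rels S := ed sl_gt s0_v90
def s0_v285 : Qt rels S := ed sl_gt s0_v91
def s0_v286 : Qt rels S := ed sl_ft s0_v92
def s0_v287 : Qt rels S := ed sl_at s0_v93
def s0_v288 : Qt rels S := ed sl_ct s0_v93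
def s0_v289 : Qt rels S := ed sl_ft s0_v93
def s0_v290 : Qt rels S := ed sl_gt s0_v93
def s0_v297 : Qt rels S := ed sl_at s0_v97
def s0_v299 : Qt rels S := ed sl_ft s0_v97
def s0_v300 : Qt rels S := ed sl_gt s0_v97
def s0_v304 : Qt rels S := ed sl_bt s0_v99
def s0_v319 : Qt rels S := ed sl_gt s0_v107
def s0_v323 : Qt rels S := ed sl_ft s0_v110
def s0_v324 : Qt rels S := ed sl_gt s0_v110
def s0_v325 : Qt rels S := ed sl_bt s0_v111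
def s0_v326 : Qt rels S := ed sl_bt s0_v112
def s0_v331 : Qt rels S := ed sl_bt s0_v114
def s0_v332 : Qt rels S := ed sl_gt s0_v114
def s0_v333 : Qt rels S := ed sl_bt s0_v115
def s0_v334 : Qt rels S := ed sl_ft s0_v115
def s0_v335 : Qt rels S := ed sl_bt s0_v116
def s0_v336 : Qt rels S := ed sl_bt s0_v117
def s0_v337 : Qt rels S := ed sl_ct s0_v118
def s0_v338 : Qt rels S := ed sl_ft s0_v118
def s0_v339 : Qt rels S := ed sl_gt s0_v118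
def s0_v340 : Qt rels S := ed sl_bt s0_v119
def s0_v341 : Qt rels S := ed sl_dt s0_v119
def s0_v342 : Qt rels S := ed sl_ft s0_v119
def s0_v343 : Qt rels S := ed sl_gt s0_v119
def s0_v344 : Qt rels S := ed sl_gt s0_v120
def s0_v345 : Qt rels S := ed sl_bt s0_v121
def s0_v346 : Qt rels S := ed sl_ft s0_v121
def s0_v351 : Qt rels S := ed sl_ct s0_v123
def s0_v354 : Qt rels S := ed sl_bt s0_v124
def s0_v355 : Qt rels S := ed sl_at s0_v125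
def s0_v356 : Qt rels S := ed sl_ct s0_v125
def s0_v357 : Qt rels S := ed sl_ft s0_v125
def s0_v358 : Qt rels S := ed sl_dt s0_v126
def s0_v367 : Qt rels S := ed sl_at s0_v131
def s0_v369 : Qt rels S := ed sl_gt s0_v131
def s0_v376 : Qt rels S := ed sl_at sq208
def s0_v378 : Qt rels S := ed sl_gt sq208
def s0_v379 : Qt rels S := ed sl_at sq209
def s0_v380 : Qt rels S := ed sl_gt sq209
def s0_v382 : Qt rels S := ed sl_dt sq210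
def s0_v383 : Qt rels S := ed sl_gt sq210
def s0_v384 : Qt rels S := ed sl_et sq211
def s0_v385 : Qt rels S := ed sl_et sq212
def s0_v393 : Qt rels S := ed sl_at sq217
def s0_v394 : Qt rels S := ed sl_at sq219
def s0_v395 : Qt rels S := ed sl_ct sq219
def s0_v396 : Qt rels S := ed sl_ft sq219
def s0_v397 : Qt rels S := ed sl_at sq221
def s0_v398 : Qt rels S := ed sl_at sq222
def s0_v399 : Qt rels S := ed sl_bt sq222
def s0_v400 : Qt rels S := ed sl_dt sq222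
def s0_v401 : Qt rels S := ed sl_gt sq222
def s0_v402 : Qt rels S := ed sl_at sq223
def s0_v403 : Qt rels S := ed sl_dt sq223
def s0_v404 : Qt rels S := ed sl_ft sq223
def s0_v405 : Qt rels S := ed sl_et sq224
def s0_v406 : Qt rels S := ed sl_at sq227
def s0_v407 : Qt rels S := ed sl_ct sq227
def s0_v411 : Qt rels S := ed sl_ct sq228
def s0_v412 : Qt rels S := ed sl_dt sq228
def s0_v413 : Qt rels S := ed sl_ft sq228
def s0_v415 : Qt rels S := ed sl_at sq231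
def s0_v416 : Qt rels S := ed sl_bt sq231
def s0_v418 : Qt rels S := ed sl_ct sq232
def s0_v421 : Qt rels S := ed sl_bt sq234
def s0_v422 : Qt rels S := ed sl_bt sq237
def s0_v423 : Qt rels S := ed sl_gt sq238
def s0_v424 : Qt rels S := ed sl_bt sq239
def s0_v425 : Qt rels S := ed sl_bt sq240
def s0_v429 : Qt rels S := ed sl_at sq243
def s0_v437 : Qt rels S := ed sl_dt sq247
def s0_v438 : Qt rels S := ed sl_at sq248
def s0_v442 : Qt rels S := ed sl_at sq255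
def s0_v445 : Qt rels S := ed sl_ft sq255
def s0_v446 : Qt rels S := ed sl_gt sq255
def s0_v451 : Qt rels S := ed sl_ft sq257
def s0_v453 : Qt rels S := ed sl_ft sq258
def s0_v455 : Qt rels S := ed sl_dt sq259
def s0_v457 : Qt rels S := ed sl_bt sq263
def s0_v458 : Qt rels S := ed sl_ft sq264
def s0_v459 : Qt rels S := ed sl_bt sq265
def s0_v460 : Qt rels S := ed sl_gt sq265
def s0_v461 : Qt rels S := ed sl_gt sq266
def s0_v462 : Qt rels S := ed sl_ft sq274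
def s0_v464 : Qt rels S := ed sl_bt sq276
def s0_v465 : Qt rels S := ed sl_ct sq276
def s0_v466 : Qt rels S := ed sl_ft sq276
def s0_v467 : Qt rels S := ed sl_bt sq277
def s0_v468 : Qt rels S := ed sl_dt sq277
def s0_v469 : Qt rels S := ed sl_ft sq277
def s0_v471 : Qt rels S := ed sl_bt sq278
def s0_v472 : Qt rels S := ed sl_at sq279
def s0_v473 : Qt rels S := ed sl_ct sq283
def s0_v474 : Qt rels S := ed sl_ft sq287
def s0_v475 : Qt rels S := ed sl_ft sq288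
def s0_v476 : Qt rels S := ed sl_gt sq288
def s0_v477 : Qt rels S := ed sl_dt sq289
def s0_v478 : Qt rels S := ed sl_ft sq289
def s0_v479 : Qt rels S := ed sl_ft sq290
def s0_v480 : Qt rels S := ed sl_at sq291
def s0_v481 : Qt rels S := ed sl_ct sq291
def s0_v482 : Qt rels S := ed sl_ft sq291
def s0_v483 : Qt rels S := ed sl_gt sq291
def s0_v484 : Qt rels S := ed sl_bt sq292
def s0_v485 : Qt rels S := ed sl_ft sq292
def s0_v486 : Qt rels S := ed sl_gt sq292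
def s0_v492 : Qt rels S := ed sl_bt sq305
def s0_v495 : Qt rels S := ed sl_gt sq306
def s0_v496 : Qt rels S := ed sl_gt sq307
def s0_v497 : Qt rels S := ed sl_at sq308
def s0_v498 : Qt rels S := ed sl_bt sq309
def s0_v499 : Qt rels S := ed sl_ft sq309
def s0_v500 : Qt rels S := ed sl_gt sq309
def s0_v501 : Qt rels S := ed sl_dt sq310
def s0_v502 : Qt rels S := ed sl_gt sq310
def s0_v503 : Qt rels S := ed sl_gt sq311
def s0_v504 : Qt rels S := ed sl_at sq312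
def s0_v507 : Qt rels S := ed sl_ft sq314
def s0_v508 : Qt rels S := ed sl_gt sq314
def s0_v513 : Qt rels S := ed sl_gt sq316
def s0_v517 : Qt rels S := ed sl_at sq319
def s0_v518 : Qt rels S := ed sl_gt sq319
def s0_v520 : Qt rels S := ed sl_bt sq324
def s0_v523 : Qt rels S := ed sl_bt s0_v136
def s0_v524 : Qt rels S := ed sl_gt s0_v136
def s0_v525 : Qt rels S := ed sl_ft s0_v137
def s0_v526 : Qt rels S := ed sl_bt s0_v138
def s0_v529 : Qt rels S := ed sl_et s0_v139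
def s0_v530 : Qt rels S := ed sl_gt s0_v139
def s0_v531 : Qt rels S := ed sl_bt s0_v140
def s0_v533 : Qt rels S := ed sl_et s0_v142
def s0_v534 : Qt rels S := ed sl_bt s0_v143
def s0_v540 : Qt rels S := ed sl_at s0_v152
def s0_v544 : Qt rels S := ed sl_bt s0_v154
def s0_v545 : Qt rels S := ed sl_at s0_v155
def s0_v546 : Qt rels S := ed sl_ft s0_v155
def s0_v550 : Qt rels S := ed sl_at s0_v157
def s0_v558 : Qt rels S := ed sl_ct s0_v166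
def s0_v560 : Qt rels S := ed sl_bt s0_v167
def s0_v565 : Qt rels S := ed sl_at s0_v171
def s0_v566 : Qt rels S := ed sl_ct s0_v171
def s0_v568 : Qt rels S := ed sl_gt s0_v171
def s0_v569 : Qt rels S := ed sl_at s0_v172
def s0_v571 : Qt rels S := ed sl_ft s0_v172
def s0_v572 : Qt rels S := ed sl_gt s0_v172
def s0_v573 : Qt rels S := ed sl_gt s0_v173
def s0_v574 : Qt rels S := ed sl_gt s0_v174
def s0_v575 : Qt rels S := ed sl_bt s0_v175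
def s0_v581 : Qt rels S := ed sl_bt s0_v178
def s0_v582 : Qt rels S := ed sl_bt s0_v179
def s0_v583 : Qt rels S := ed sl_bt s0_v180
def s0_v587 : Qt rels S := ed sl_bt s0_v185
def s0_v588 : Qt rels S := ed sl_bt s0_v188
def s0_v591 : Qt rels S := ed sl_bt s0_v190
def s0_v595 : Qt rels S := ed sl_gt s0_v193
def s0_v601 : Qt rels S := ed sl_dt s0_v196
def s0_v602 : Qt rels S := ed sl_ft s0_v196
def s0_v603 : Qt rels S := ed sl_gt s0_v196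
def s0_v604 : Qt rels S := ed sl_et s0_v197
def s0_v605 : Qt rels S := ed sl_gt s0_v197
def s0_v606 : Qt rels S := ed sl_bt s0_v198
def s0_v612 : Qt rels S := ed sl_at s0_v203
def s0_v614 : Qt rels S := ed sl_gt s0_v203
def s0_v615 : Qt rels S := ed sl_bt s0_v204
def s0_v617 : Qt rels S := ed sl_at s0_v206
def s0_v618 : Qt rels S := ed sl_ct s0_v206
def s0_v619 : Qt rels S := ed sl_ft s0_v206
def s0_v625 : Qt rels S := ed sl_bt s0_v210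
def s0_v631 : Qt rels S := ed sl_gt s0_v212
def s0_v644 : Qt rels S := ed sl_ft s0_v217
def s0_v645 : Qt rels S := ed sl_gt s0_v217
def s0_v648 : Qt rels S := ed sl_gt s0_v218
def s0_v649 : Qt rels S := ed sl_gt s0_v219
def s0_v650 : Qt rels S := ed sl_ft s0_v220
def s0_v651 : Qt rels S := ed sl_bt s0_v221
def s0_v652 : Qt rels S := ed sl_ct s0_v221
def s0_v653 : Qt rels S := ed sl_ft s0_v221
def s0_v654 : Qt rels S := ed sl_gt s0_v221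
def s0_v655 : Qt rels S := ed sl_dt s0_v222
def s0_v656 : Qt rels S := ed sl_ft s0_v222
def s0_v658 : Qt rels S := ed sl_gt s0_v223
def s0_v659 : Qt rels S := ed sl_ft s0_v224
def s0_v669 : Qt rels S := ed sl_ct s0_v229
def s0_v671 : Qt rels S := ed sl_gt s0_v229
def s0_v672 : Qt rels S := ed sl_dt s0_v230
def s0_v673 : Qt rels S := ed sl_ft s0_v230
def s0_v674 : Qt rels S := ed sl_gt s0_v230
def s0_v677 : Qt rels S := ed sl_bt s0_v233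
def s0_v678 : Qt rels S := ed sl_at s0_v234
def s0_v679 : Qt rels S := ed sl_ct s0_v234
def s0_v680 : Qt rels S := ed sl_ft s0_v234
def s0_v688 : Qt rels S := ed sl_at s0_v239
def s0_v689 : Qt rels S := ed sl_ct s0_v239
def s0_v690 : Qt rels S := ed sl_ft s0_v239
def s0_v691 : Qt rels S := ed sl_gt s0_v239
def s0_v692 : Qt rels S := ed sl_at s0_v240
def s0_v695 : Qt rels S := ed sl_gt s0_v240
def s0_v696 : Qt rels S := ed sl_bt s0_v241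
def s0_v698 : Qt rels S := ed sl_ft s0_v243
def s0_v699 : Qt rels S := ed sl_gt s0_v243
def s0_v700 : Qt rels S := ed sl_gt s0_v245
def s0_v701 : Qt rels S := ed sl_bt s0_v246
def s0_v702 : Qt rels S := ed sl_ft s0_v246
def s0_v703 : Qt rels S := ed sl_at s0_v248
def s0_v705 : Qt rels S := ed sl_gt s0_v248
def s0_v710 : Qt rels S := ed sl_bt s0_v252
def s0_v711 : Qt rels S := ed sl_ft s0_v252
def s0_v728 : Qt rels S := ed sl_ft s0_v262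
def s0_v729 : Qt rels S := ed sl_gt s0_v262
def s0_v730 : Qt rels S := ed sl_bt s0_v263
def s0_v731 : Qt rels S := ed sl_bt s0_v264
def s0_v736 : Qt rels S := ed sl_bt s0_v266
def s0_v737 : Qt rels S := ed sl_gt s0_v266
def s0_v740 : Qt rels S := ed sl_bt s0_v268
def s0_v741 : Qt rels S := ed sl_bt s0_v269
def s0_v745 : Qt rels S := ed sl_bt s0_v271
def s0_v746 : Qt rels S := ed sl_bt s0_v272
def s0_v757 : Qt rels S := ed sl_ct s0_v278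
def s0_v758 : Qt rels S := ed sl_ct s0_v282
def s0_v760 : Qt rels S := ed sl_bt s0_v284
def s0_v780 : Qt rels S := ed sl_ft s0_v297
def s0_v781 : Qt rels S := ed sl_gt s0_v297
def s0_v786 : Qt rels S := ed sl_gt s0_v299
def s0_v787 : Qt rels S := ed sl_bt s0_v300
def s0_v788 : Qt rels S := ed sl_ft s0_v300
def s0_v827 : Qt rels S := ed sl_bt s0_v319
def s0_v838 : Qt rels S := ed sl_ct s0_v326
def s0_v839 : Qt rels S := ed sl_ft s0_v326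
def s0_v853 : Qt rels S := ed sl_at s0_v333
def s0_v854 : Qt rels S := ed sl_ft s0_v333
def s0_v855 : Qt rels S := ed sl_bt s0_v334
def s0_v856 : Qt rels S := ed sl_ct s0_v335
def s0_v858 : Qt rels S := ed sl_bt s0_v339
def s0_v859 : Qt rels S := ed sl_dt s0_v340
def s0_v864 : Qt rels S := ed sl_gt s0_v341
def s0_v866 : Qt rels S := ed sl_gt s0_v342
def s0_v869 : Qt rels S := ed sl_ct s0_v345
def s0_v884 : Qt rels S := ed sl_at s0_v354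
def s0_v885 : Qt rels S := ed sl_ct s0_v354
def s0_v886 : Qt rels S := ed sl_ft s0_v354
def s0_v887 : Qt rels S := ed sl_ct s0_v355
def s0_v908 : Qt rels S := ed sl_gt s0_v367
def s0_v921 : Qt rels S := ed sl_at sq328
def s0_v926 : Qt rels S := ed sl_gt sq329
def s0_v927 : Qt rels S := ed sl_at sq330
def s0_v928 : Qt rels S := ed sl_gt sq330
def s0_v929 : Qt rels S := ed sl_et sq331
def s0_v930 : Qt rels S := ed sl_et sq332
def s0_v931 : Qt rels S := ed sl_et sq333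
def s0_v933 : Qt rels S := ed sl_gt sq334
def s0_v934 : Qt rels S := ed sl_ft sq335
def s0_v935 : Qt rels S := ed sl_at sq337
def s0_v946 : Qt rels S := ed sl_bt sq345
def s0_v952 : Qt rels S := ed sl_dt sq347
def s0_v954 : Qt rels S := ed sl_et sq348
def s0_v957 : Qt rels S := ed sl_at sq351
def s0_v958 : Qt rels S := ed sl_ct sq351
def s0_v959 : Qt rels S := ed sl_gt sq351
def s0_v965 : Qt rels S := ed sl_ct sq356
def s0_v969 : Qt rels S := ed sl_gt sq363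
def s0_v971 : Qt rels S := ed sl_bt sq365
def s0_v973 : Qt rels S := ed sl_dt sq367
def s0_v975 : Qt rels S := ed sl_at sq369
def s0_v976 : Qt rels S := ed sl_ct sq369
def s0_v983 : Qt rels S := ed sl_dt sq373
def s0_v986 : Qt rels S := ed sl_dt sq376
def s0_v987 : Qt rels S := ed sl_ct sq377
def s0_v996 : Qt rels S := ed sl_bt sq384
def s0_v998 : Qt rels S := ed sl_ft sq385
def s0_v999 : Qt rels S := ed sl_gt sq385
def s0_v1000 : Qt rels S := ed sl_dt sq386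
def s0_v1004 : Qt rels S := ed sl_ft sq387
def s0_v1010 : Qt rels S := ed sl_ct sq389
def s0_v1011 : Qt rels S := ed sl_ft sq393
def s0_v1014 : Qt rels S := ed sl_at sq407
def s0_v1016 : Qt rels S := ed sl_bt sq408
def s0_v1018 : Qt rels S := ed sl_ct sq411
def s0_v1021 : Qt rels S := ed sl_dt sq412
def s0_v1025 : Qt rels S := ed sl_dt sq413
def s0_v1031 : Qt rels S := ed sl_at sq417
def s0_v1032 : Qt rels S := ed sl_ft sq417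
def s0_v1033 : Qt rels S := ed sl_gt sq417
def s0_v1034 : Qt rels S := ed sl_bt sq421
def s0_v1040 : Qt rels S := ed sl_ft sq431
def s0_v1042 : Qt rels S := ed sl_dt sq432
def s0_v1043 : Qt rels S := ed sl_ft sq432
def s0_v1044 : Qt rels S := ed sl_ft sq433
def s0_v1045 : Qt rels S := ed sl_at sq434
def s0_v1046 : Qt rels S := ed sl_ct sq434
def s0_v1047 : Qt rels S := ed sl_ft sq434
def s0_v1048 : Qt rels S := ed sl_gt sq434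
def s0_v1049 : Qt rels S := ed sl_bt sq435
def s0_v1050 : Qt rels S := ed sl_dt sq435
def s0_v1053 : Qt rels S := ed sl_dt sq436
def s0_v1065 : Qt rels S := ed sl_dt sq444
def s0_v1073 : Qt rels S := ed sl_bt sq457
def s0_v1075 : Qt rels S := ed sl_bt sq462
def s0_v1076 : Qt rels S := ed sl_ft sq462
def s0_v1077 : Qt rels S := ed sl_gt sq462
def s0_v1078 : Qt rels S := ed sl_dt sq463
def s0_v1079 : Qt rels S := ed sl_gt sq463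
def s0_v1080 : Qt rels S := ed sl_gt sq464
def s0_v1081 : Qt rels S := ed sl_at sq465
def s0_v1082 : Qt rels S := ed sl_bt sq465
def s0_v1083 : Qt rels S := ed sl_dt sq465
def s0_v1085 : Qt rels S := ed sl_dt sq467
def s0_v1087 : Qt rels S := ed sl_gt sq467
def s0_v1088 : Qt rels S := ed sl_dt sq468
def s0_v1106 : Qt rels S := ed sl_at sq475
def s0_v1107 : Qt rels S := ed sl_dt sq475
def s0_v1109 : Qt rels S := ed sl_at sq476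
def s0_v1110 : Qt rels S := ed sl_gt sq476
def s0_v1116 : Qt rels S := ed sl_dt sq483
def s0_v1122 : Qt rels S := ed sl_gt s0_v376
def s0_v1130 : Qt rels S := ed sl_et s0_v382
def s0_v1132 : Qt rels S := ed sl_bt s0_v383
def s0_v1154 : Qt rels S := ed sl_dt s0_v395
def s0_v1156 : Qt rels S := ed sl_bt s0_v398
def s0_v1161 : Qt rels S := ed sl_gt s0_v400
def s0_v1164 : Qt rels S := ed sl_dt s0_v402
def s0_v1178 : Qt rels S := ed sl_dt s0_v411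
def s0_v1183 : Qt rels S := ed sl_at s0_v416
def s0_v1193 : Qt rels S := ed sl_at s0_v421
def s0_v1200 : Qt rels S := ed sl_bt s0_v423
def s0_v1234 : Qt rels S := ed sl_bt s0_v442
def s0_v1237 : Qt rels S := ed sl_ft s0_v442
def s0_v1238 : Qt rels S := ed sl_gt s0_v442
def s0_v1245 : Qt rels S := ed sl_gt s0_v445
def s0_v1246 : Qt rels S := ed sl_bt s0_v446
def s0_v1247 : Qt rels S := ed sl_ft s0_v446
def s0_v1260 : Qt rels S := ed sl_bt s0_v451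
def s0_v1268 : Qt rels S := ed sl_ft s0_v457
def s0_v1274 : Qt rels S := ed sl_dt s0_v465
def s0_v1275 : Qt rels S := ed sl_ft s0_v465
def s0_v1283 : Qt rels S := ed sl_bt s0_v469
def s0_v1288 : Qt rels S := ed sl_gt s0_v471
def s0_v1291 : Qt rels S := ed sl_bt s0_v475
def s0_v1294 : Qt rels S := ed sl_ft s0_v477
def s0_v1297 : Qt rels S := ed sl_bt s0_v481
def s0_v1299 : Qt rels S := ed sl_ft s0_v481
def s0_v1300 : Qt rels S := ed sl_gt s0_v481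
def s0_v1318 : Qt rels S := ed sl_bt s0_v495
def s0_v1320 : Qt rels S := ed sl_bt s0_v497
def s0_v1321 : Qt rels S := ed sl_bt s0_v500
def s0_v1324 : Qt rels S := ed sl_gt s0_v501
def s0_v1328 : Qt rels S := ed sl_dt s0_v504
def s0_v1342 : Qt rels S := ed sl_gt s0_v517
def s0_v1343 : Qt rels S := ed sl_ft s0_v518
def s0_v1344 : Qt rels S := ed sl_at s0_v520
def s0_v1346 : Qt rels S := ed sl_gt s0_v520
def s0_v1351 : Qt rels S := ed sl_gt s0_v523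
def s0_v1352 : Qt rels S := ed sl_bt s0_v524
def s0_v1354 : Qt rels S := ed sl_at s0_v526
def s0_v1355 : Qt rels S := ed sl_ct s0_v526
def s0_v1357 : Qt rels S := ed sl_ft s0_v526
def s0_v1358 : Qt rels S := ed sl_gt s0_v526
def s0_v1363 : Qt rels S := ed sl_gt s0_v529
def s0_v1369 : Qt rels S := ed sl_at s0_v534
def s0_v1382 : Qt rels S := ed sl_at s0_v544
def s0_v1383 : Qt rels S := ed sl_ft s0_v544
def s0_v1384 : Qt rels S := ed sl_bt s0_v545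
def s0_v1385 : Qt rels S := ed sl_ft s0_v545
def s0_v1386 : Qt rels S := ed sl_gt s0_v546
def s0_v1418 : Qt rels S := ed sl_ft s0_v560
def s0_v1425 : Qt rels S := ed sl_gt s0_v565
def s0_v1426 : Qt rels S := ed sl_dt s0_v566
def s0_v1430 : Qt rels S := ed sl_ft s0_v568
def s0_v1432 : Qt rels S := ed sl_ct s0_v569
def s0_v1433 : Qt rels S := ed sl_ft s0_v569
def s0_v1434 : Qt rels S := ed sl_gt s0_v569
def s0_v1438 : Qt rels S := ed sl_gt s0_v571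
def s0_v1439 : Qt rels S := ed sl_ft s0_v572
def s0_v1482 : Qt rels S := ed sl_gt s0_v601
def s0_v1483 : Qt rels S := ed sl_gt s0_v604
def s0_v1484 : Qt rels S := ed sl_bt s0_v605
def s0_v1496 : Qt rels S := ed sl_gt s0_v612
def s0_v1502 : Qt rels S := ed sl_ct s0_v617
def s0_v1504 : Qt rels S := ed sl_ft s0_v618
def s0_v1505 : Qt rels S := ed sl_gt s0_v618
def s0_v1553 : Qt rels S := ed sl_bt s0_v644
def s0_v1554 : Qt rels S := ed sl_bt s0_v645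
def s0_v1565 : Qt rels S := ed sl_dt s0_v652
def s0_v1566 : Qt rels S := ed sl_ft s0_v652
def s0_v1567 : Qt rels S := ed sl_ct s0_v655
def s0_v1571 : Qt rels S := ed sl_bt s0_v656
def s0_v1601 : Qt rels S := ed sl_gt s0_v680
def s0_v1618 : Qt rels S := ed sl_gt s0_v692
def s0_v1623 : Qt rels S := ed sl_bt s0_v695
def s0_v1673 : Qt rels S := ed sl_bt s0_v729
def s0_v1684 : Qt rels S := ed sl_gt s0_v736
def s0_v1685 : Qt rels S := ed sl_bt s0_v737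
def s0_v1717 : Qt rels S := ed sl_bt s0_v758
def s0_v1718 : Qt rels S := ed sl_dt s0_v758
def s0_v1719 : Qt rels S := ed sl_at sq486
def s0_v1720 : Qt rels S := ed sl_gt sq486
def s0_v1721 : Qt rels S := ed sl_bt sq490
def s0_v1741 : Qt rels S := ed sl_dt sq567
def s0_v1742 : Qt rels S := ed sl_dt sq568
def s0_v1756 : Qt rels S := ed sl_at sq603
def s0_v1757 : Qt rels S := ed sl_ct sq603
def s0_v1758 : Qt rels S := ed sl_ft sq603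
def s0_v1759 : Qt rels S := ed sl_bt sq604
def s0_v1762 : Qt rels S := ed sl_dt sq613
def s0_v1765 : Qt rels S := ed sl_at sq616
def s0_v1766 : Qt rels S := ed sl_dt sq616
def s0_v1767 : Qt rels S := ed sl_ft sq616
def s0_v1772 : Qt rels S := ed sl_ct sq620
def s0_v1773 : Qt rels S := ed sl_ft sq620
def s0_v1776 : Qt rels S := ed sl_bt sq622
def s0_v1778 : Qt rels S := ed sl_dt sq624
def s0_v1789 : Qt rels S := ed sl_dt sq641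
def s0_v1790 : Qt rels S := ed sl_dt sq642
def s0_v1793 : Qt rels S := ed sl_ct sq645
def s0_v1799 : Qt rels S := ed sl_bt sq649
def s0_v1802 : Qt rels S := ed sl_at sq654
def s0_v1804 : Qt rels S := ed sl_dt sq655
def s0_v1812 : Qt rels S := ed sl_bt sq663
def s0_v1817 : Qt rels S := ed sl_dt sq672
def s0_v1825 : Qt rels S := ed sl_bt sq677
def s0_v1826 : Qt rels S := ed sl_bt sq680
def s0_v1828 : Qt rels S := ed sl_bt sq684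
def s0_v1830 : Qt rels S := ed sl_dt sq685
def s0_v1831 : Qt rels S := ed sl_bt sq686
def s0_v1832 : Qt rels S := ed sl_dt sq686
def s0_v1839 : Qt rels S := ed sl_gt sq691
def s0_v1840 : Qt rels S := ed sl_gt sq692
def s0_v1841 : Qt rels S := ed sl_gt sq693
def s0_v1844 : Qt rels S := ed sl_ft sq695
def s0_v1848 : Qt rels S := ed sl_bt sq701
def s0_v1849 : Qt rels S := ed sl_ft sq701
def s0_v1850 : Qt rels S := ed sl_gt sq701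
def s0_v1852 : Qt rels S := ed sl_gt sq703
def s0_v1861 : Qt rels S := ed sl_bt s0_v1014
def s0_v1865 : Qt rels S := ed sl_at s0_v1016
def s0_v1867 : Qt rels S := ed sl_ct s0_v1025
def s0_v1869 : Qt rels S := ed sl_ft s0_v1031
def s0_v1870 : Qt rels S := ed sl_gt s0_v1031
def s0_v1871 : Qt rels S := ed sl_gt s0_v1032
def s0_v1872 : Qt rels S := ed sl_ft s0_v1033
def s0_v1875 : Qt rels S := ed sl_gt s0_v1034
def s0_v1878 : Qt rels S := ed sl_ct s0_v1050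
def s0_v1884 : Qt rels S := ed sl_et s0_v1065
def s0_v1900 : Qt rels S := ed sl_ct s0_v1073
def s0_v1903 : Qt rels S := ed sl_et s0_v1078
def s0_v1904 : Qt rels S := ed sl_at s0_v1082
def s0_v1905 : Qt rels S := ed sl_dt s0_v1082
def s0_v1908 : Qt rels S := ed sl_ct s0_v1083
def s0_v1910 : Qt rels S := ed sl_ct s0_v1085
def s0_v1912 : Qt rels S := ed sl_ct s0_v1088
def s0_v1917 : Qt rels S := ed sl_bt s0_v1106
def s0_v1919 : Qt rels S := ed sl_gt s0_v1106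
def s0_v1920 : Qt rels S := ed sl_ct s0_v1107
def s0_v1956 : Qt rels S := ed sl_bt s0_v1343
def s0_v1959 : Qt rels S := ed sl_gt s0_v1344
def s0_v1969 : Qt rels S := ed sl_at sq711
def s0_v1971 : Qt rels S := ed sl_ct sq717
def s0_v1972 : Qt rels S := ed sl_bt sq721
def s0_v1973 : Qt rels S := ed sl_ct sq724
def s0_v1983 : Qt rels S := ed sl_at sq743
def s0_v1985 : Qt rels S := ed sl_ft sq744
def s0_v1992 : Qt rels S := ed sl_at sq753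
def s0_v2035 : Qt rels S := ed sl_bt sq808
def s0_v2040 : Qt rels S := ed sl_ct sq816
def s0_v2042 : Qt rels S := ed sl_bt sq828
def s0_v2043 : Qt rels S := ed sl_bt sq833
def s0_v2058 : Qt rels S := ed sl_bt sq853
def s0_v2060 : Qt rels S := ed sl_et sq856
def s0_v2085 : Qt rels S := ed sl_bt sq872
def s0_v2096 : Qt rels S := ed sl_bt sq879
def s0_v2098 : Qt rels S := ed sl_at sq881
def s0_v2099 : Qt rels S := ed sl_ct sq881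
def s0_v2109 : Qt rels S := ed sl_ft sq890
def s0_v2110 : Qt rels S := ed sl_gt sq890
def s0_v2111 : Qt rels S := ed sl_bt sq891
def s0_v2114 : Qt rels S := ed sl_et sq898
def s0_v2118 : Qt rels S := ed sl_ft sq902
def s0_v2123 : Qt rels S := ed sl_ft sq904
def s0_v2129 : Qt rels S := ed sl_bt sq907
def s0_v2130 : Qt rels S := ed sl_ft sq907
def s0_v2147 : Qt rels S := ed sl_bt sq920
def s0_v2148 : Qt rels S := ed sl_ct sq920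
def s0_v2152 : Qt rels S := ed sl_bt sq923
def s0_v2155 : Qt rels S := ed sl_at sq924
def s0_v2157 : Qt rels S := ed sl_gt sq924
def s0_v2194 : Qt rels S := ed sl_bt sq948
def s0_v2205 : Qt rels S := ed sl_at sq955
def s0_v2208 : Qt rels S := ed sl_gt sq955
def s0_v2222 : Qt rels S := ed sl_at sq969
def s0_v2223 : Qt rels S := ed sl_ft sq969
def s0_v2224 : Qt rels S := ed sl_ft sq970
def s0_v2238 : Qt rels S := ed sl_ft sq981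
def s0_v2239 : Qt rels S := ed sl_dt sq982
def s0_v2245 : Qt rels S := ed sl_bt sq988
def s0_v2246 : Qt rels S := ed sl_at sq989
def s0_v2247 : Qt rels S := ed sl_ft sq989
def s0_v2248 : Qt rels S := ed sl_gt sq989
def s0_v2249 : Qt rels S := ed sl_bt sq991
def s0_v2250 : Qt rels S := ed sl_ct sq992
def s0_v2253 : Qt rels S := ed sl_dt sq994
def s0_v2259 : Qt rels S := ed sl_et sq996
def s0_v2260 : Qt rels S := ed sl_gt sq996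
def s0_v2264 : Qt rels S := ed sl_ft sq999
def s0_v2279 : Qt rels S := ed sl_gt sq1007
def s0_v2280 : Qt rels S := ed sl_gt sq1009
def s0_v2281 : Qt rels S := ed sl_ft sq1010
def s0_v2302 : Qt rels S := ed sl_ft sq1024
def s0_v2304 : Qt rels S := ed sl_ft s0_v1721
def s0_v2305 : Qt rels S := ed sl_gt s0_v1721
def s0_v2336 : Qt rels S := ed sl_ct s0_v1741
def s0_v2337 : Qt rels S := ed sl_et s0_v1741
def s0_v2338 : Qt rels S := ed sl_ct s0_v1742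
def s0_v2359 : Qt rels S := ed sl_ct s0_v1756
def s0_v2360 : Qt rels S := ed sl_ft s0_v1756
def s0_v2361 : Qt rels S := ed sl_dt s0_v1757
def s0_v2363 : Qt rels S := ed sl_bt s0_v1758
def s0_v2365 : Qt rels S := ed sl_at s0_v1759
def s0_v2366 : Qt rels S := ed sl_ct s0_v1759
def s0_v2373 : Qt rels S := ed sl_ct s0_v1762
def s0_v2376 : Qt rels S := ed sl_gt s0_v1767
def s0_v2386 : Qt rels S := ed sl_bt s0_v1773
def s0_v2391 : Qt rels S := ed sl_at s0_v1776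
def s0_v2393 : Qt rels S := ed sl_gt s0_v1776
def s0_v2432 : Qt rels S := ed sl_at s0_v1799
def s0_v2434 : Qt rels S := ed sl_ft s0_v1799
def s0_v2454 : Qt rels S := ed sl_at s0_v1812
def s0_v2456 : Qt rels S := ed sl_ft s0_v1812
def s0_v2457 : Qt rels S := ed sl_gt s0_v1812
def s0_v2468 : Qt rels S := ed sl_et s0_v1817
def s0_v2485 : Qt rels S := ed sl_ft s0_v1825
def s0_v2488 : Qt rels S := ed sl_gt s0_v1826
def s0_v2498 : Qt rels S := ed sl_dt s0_v1831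
def s0_v2501 : Qt rels S := ed sl_ct s0_v1832
def s0_v2511 : Qt rels S := ed sl_bt s0_v1839
def s0_v2535 : Qt rels S := ed sl_at s0_v1861
def s0_v2537 : Qt rels S := ed sl_ft s0_v1861
def s0_v2546 : Qt rels S := ed sl_bt s0_v1867
def s0_v2600 : Qt rels S := ed sl_dt s0_v1900
def s0_v2606 : Qt rels S := ed sl_dt s0_v1904
def s0_v2609 : Qt rels S := ed sl_ct s0_v1905
def s0_v2615 : Qt rels S := ed sl_bt s0_v1908
def s0_v2617 : Qt rels S := ed sl_bt s0_v1910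
def s0_v2619 : Qt rels S := ed sl_bt s0_v1912
def s0_v2719 : Qt rels S := ed sl_et sq1035
def s0_v2732 : Qt rels S := ed sl_at sq1048
def s0_v2741 : Qt rels S := ed sl_gt sq1055
def s0_v2757 : Qt rels S := ed sl_et sq1068
def s0_v2759 : Qt rels S := ed sl_at sq1074
def s0_v2765 : Qt rels S := ed sl_bt sq1082
def s0_v2768 : Qt rels S := ed sl_at sq1085
def s0_v2812 : Qt rels S := ed sl_at sq1116
def s0_v2816 : Qt rels S := ed sl_at sq1117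
def s0_v2837 : Qt rels S := ed sl_bt sq1134
def s0_v2853 : Qt rels S := ed sl_ct sq1153
def s0_v2869 : Qt rels S := ed sl_et sq1165
def s0_v2873 : Qt rels S := ed sl_ct sq1168
def s0_v2908 : Qt rels S := ed sl_at sq1200
def s0_v2910 : Qt rels S := ed sl_ft sq1200
def s0_v2911 : Qt rels S := ed sl_gt sq1200
def s0_v2923 : Qt rels S := ed sl_bt sq1208
def s0_v2926 : Qt rels S := ed sl_at sq1209
def s0_v2927 : Qt rels S := ed sl_gt sq1209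
def s0_v2952 : Qt rels S := ed sl_et sq1225
def s0_v2975 : Qt rels S := ed sl_bt sq1239
def s0_v2976 : Qt rels S := ed sl_dt sq1239
def s0_v3004 : Qt rels S := ed sl_et sq1256
def s0_v3008 : Qt rels S := ed sl_dt sq1258
def s0_v3151 : Qt rels S := ed sl_dt sq1323
def s0_v3154 : Qt rels S := ed sl_ct sq1325
def s0_v3155 : Qt rels S := ed sl_et sq1325
def s0_v3172 : Qt rels S := ed sl_dt sq1331
def s0_v3173 : Qt rels S := ed sl_ft sq1331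
def s0_v3185 : Qt rels S := ed sl_ct sq1336
def s0_v3187 : Qt rels S := ed sl_ft sq1336
def s0_v3197 : Qt rels S := ed sl_ct sq1340
def s0_v3199 : Qt rels S := ed sl_ft sq1340
def s0_v3202 : Qt rels S := ed sl_ct sq1342
def s0_v3211 : Qt rels S := ed sl_ft sq1347
def s0_v3230 : Qt rels S := ed sl_ft sq1356
def s0_v3233 : Qt rels S := ed sl_bt sq1360
def s0_v3237 : Qt rels S := ed sl_bt sq1364
def s0_v3239 : Qt rels S := ed sl_at sq1365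
def s0_v3256 : Qt rels S := ed sl_at s0_v1972
def s0_v3279 : Qt rels S := ed sl_bt s0_v1992
def s0_v3338 : Qt rels S := ed sl_at s0_v2035
def s0_v3341 : Qt rels S := ed sl_gt s0_v2035
def s0_v3349 : Qt rels S := ed sl_bt s0_v2040
def s0_v3351 : Qt rels S := ed sl_at s0_v2042
def s0_v3354 : Qt rels S := ed sl_at s0_v2043
def s0_v3356 : Qt rels S := ed sl_ft s0_v2043
def s0_v3378 : Qt rels S := ed sl_at s0_v2058
def s0_v3380 : Qt rels S := ed sl_ft s0_v2058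
def s0_v3381 : Qt rels S := ed sl_gt s0_v2058
def s0_v3423 : Qt rels S := ed sl_at s0_v2085
def s0_v3425 : Qt rels S := ed sl_ft s0_v2085
def s0_v3442 : Qt rels S := ed sl_at s0_v2096
def s0_v3447 : Qt rels S := ed sl_bt s0_v2098
def s0_v3476 : Qt rels S := ed sl_bt s0_v2110
def s0_v3478 : Qt rels S := ed sl_at s0_v2111
def s0_v3480 : Qt rels S := ed sl_ft s0_v2111
def s0_v3526 : Qt rels S := ed sl_ct s0_v2147
def s0_v3529 : Qt rels S := ed sl_bt s0_v2148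
def s0_v3540 : Qt rels S := ed sl_gt s0_v2152
def s0_v3544 : Qt rels S := ed sl_bt s0_v2155
def s0_v3546 : Qt rels S := ed sl_gt s0_v2155
def s0_v3629 : Qt rels S := ed sl_ft s0_v2194
def s0_v3651 : Qt rels S := ed sl_bt s0_v2205
def s0_v3711 : Qt rels S := ed sl_ct s0_v2239
def s0_v3730 : Qt rels S := ed sl_gt s0_v2246
def s0_v3731 : Qt rels S := ed sl_bt s0_v2247
def s0_v3732 : Qt rels S := ed sl_ft s0_v2248
def s0_v3735 : Qt rels S := ed sl_dt s0_v2250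
def s0_v3738 : Qt rels S := ed sl_ct s0_v2253
def s0_v3752 : Qt rels S := ed sl_gt s0_v2259
def s0_v3753 : Qt rels S := ed sl_bt s0_v2260
def s0_v3754 : Qt rels S := ed sl_ft s0_v2260
def s0_v3920 : Qt rels S := ed sl_bt s0_v2359
def s0_v3921 : Qt rels S := ed sl_dt s0_v2359
def s0_v3929 : Qt rels S := ed sl_ct s0_v2363
def s0_v3933 : Qt rels S := ed sl_ct s0_v2365
def s0_v3948 : Qt rels S := ed sl_bt s0_v2373
def s0_v3951 : Qt rels S := ed sl_bt s0_v2376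
def s0_v3965 : Qt rels S := ed sl_at s0_v2386
def s0_v3967 : Qt rels S := ed sl_gt s0_v2386
def s0_v3976 : Qt rels S := ed sl_bt s0_v2391
def s0_v3978 : Qt rels S := ed sl_gt s0_v2391
def s0_v4098 : Qt rels S := ed sl_bt s0_v2454
def s0_v4100 : Qt rels S := ed sl_ft s0_v2454
def s0_v4101 : Qt rels S := ed sl_gt s0_v2454
def s0_v4105 : Qt rels S := ed sl_gt s0_v2456
def s0_v4106 : Qt rels S := ed sl_ft s0_v2457
def s0_v4189 : Qt rels S := ed sl_ct s0_v2498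
def s0_v4195 : Qt rels S := ed sl_bt s0_v2501
def s0_v4208 : Qt rels S := ed sl_at s0_v2511
def s0_v4251 : Qt rels S := ed sl_ft s0_v2535
def s0_v4252 : Qt rels S := ed sl_gt s0_v2535
def s0_v4257 : Qt rels S := ed sl_gt s0_v2537
def s0_v4382 : Qt rels S := ed sl_ct s0_v2600
def s0_v4398 : Qt rels S := ed sl_ct s0_v2606
def s0_v4404 : Qt rels S := ed sl_bt s0_v2609
def s0_v4654 : Qt rels S := ed sl_at sq1399
def s0_v4659 : Qt rels S := ed sl_at sq1402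
def s0_v4661 : Qt rels S := ed sl_ft sq1402
def s0_v4703 : Qt rels S := ed sl_at sq1424
def s0_v4788 : Qt rels S := ed sl_at sq1462
def s0_v4790 : Qt rels S := ed sl_et sq1462
def s0_v4871 : Qt rels S := ed sl_ct sq1502
def s0_v4872 : Qt rels S := ed sl_ft sq1502
def s0_v4873 : Qt rels S := ed sl_at sq1503
def s0_v4935 : Qt rels S := ed sl_ft sq1528
def s0_v4941 : Qt rels S := ed sl_dt sq1531
def s0_v5024 : Qt rels S := ed sl_et sq1573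
def s0_v5025 : Qt rels S := ed sl_ft sq1573
def s0_v5038 : Qt rels S := ed sl_dt sq1580
def s0_v5072 : Qt rels S := ed sl_at sq1594
def s0_v5122 : Qt rels S := ed sl_dt sq1614
def s0_v5135 : Qt rels S := ed sl_ct sq1618
def s0_v5173 : Qt rels S := ed sl_ct sq1628
def s0_v5183 : Qt rels S := ed sl_bt sq1631
def s0_v5222 : Qt rels S := ed sl_et sq1641
def s0_v5226 : Qt rels S := ed sl_ft sq1644
def s0_v5228 : Qt rels S := ed sl_ct sq1645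
def s0_v5241 : Qt rels S := ed sl_at sq1651
def s0_v5242 : Qt rels S := ed sl_ft sq1651
def s0_v5351 : Qt rels S := ed sl_at s0_v2765
def s0_v5430 : Qt rels S := ed sl_ft s0_v2812
def s0_v5436 : Qt rels S := ed sl_bt s0_v2816
def s0_v5573 : Qt rels S := ed sl_bt s0_v2908
def s0_v5575 : Qt rels S := ed sl_ft s0_v2908
def s0_v5576 : Qt rels S := ed sl_gt s0_v2908
def s0_v5580 : Qt rels S := ed sl_gt s0_v2910
def s0_v5581 : Qt rels S := ed sl_ft s0_v2911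
def s0_v5602 : Qt rels S := ed sl_bt s0_v2926
def s0_v5708 : Qt rels S := ed sl_at s0_v2975
def s0_v5709 : Qt rels S := ed sl_dt s0_v2975
def s0_v5712 : Qt rels S := ed sl_ct s0_v2976
def s0_v5777 : Qt rels S := ed sl_ft s0_v3004
def s0_v5785 : Qt rels S := ed sl_ft s0_v3008
def s0_v6039 : Qt rels S := ed sl_ct s0_v3151
def s0_v6046 : Qt rels S := ed sl_dt s0_v3154
def s0_v6047 : Qt rels S := ed sl_et s0_v3154
def s0_v6089 : Qt rels S := ed sl_ft s0_v3172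
def s0_v6111 : Qt rels S := ed sl_ft s0_v3185
def s0_v6142 : Qt rels S := ed sl_ft s0_v3197
def s0_v6153 : Qt rels S := ed sl_dt s0_v3202
def s0_v6165 : Qt rels S := ed sl_bt s0_v3211
def s0_v6216 : Qt rels S := ed sl_bt s0_v3239
def s0_v6240 : Qt rels S := ed sl_bt s0_v3256
def s0_v6417 : Qt rels S := ed sl_bt s0_v3354
def s0_v6461 : Qt rels S := ed sl_ft s0_v3378
def s0_v6462 : Qt rels S := ed sl_gt s0_v3378
def s0_v6466 : Qt rels S := ed sl_gt s0_v3380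
def s0_v6467 : Qt rels S := ed sl_ft s0_v3381
def s0_v6546 : Qt rels S := ed sl_bt s0_v3423
def s0_v6548 : Qt rels S := ed sl_ft s0_v3423
def s0_v6549 : Qt rels S := ed sl_gt s0_v3423
def s0_v6553 : Qt rels S := ed sl_gt s0_v3425
def s0_v6581 : Qt rels S := ed sl_bt s0_v3442
def s0_v6590 : Qt rels S := ed sl_at s0_v3447
def s0_v6650 : Qt rels S := ed sl_at s0_v3476
def s0_v6652 : Qt rels S := ed sl_ft s0_v3476
def s0_v6656 : Qt rels S := ed sl_ft s0_v3478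
def s0_v7090 : Qt rels S := ed sl_ft s0_v3711
def s0_v7130 : Qt rels S := ed sl_dt s0_v3738
def s0_v7451 : Qt rels S := ed sl_at s0_v3920
def s0_v7887 : Qt rels S := ed sl_bt s0_v4189
def s0_v7888 : Qt rels S := ed sl_dt s0_v4189
def s0_v8584 : Qt rels S := ed sl_ft sq1669
def s0_v8814 : Qt rels S := ed sl_bt sq1747
def s0_v8891 : Qt rels S := ed sl_ct sq1768
def s0_v8892 : Qt rels S := ed sl_dt sq1768
def s0_v8901 : Qt rels S := ed sl_at sq1771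
def s0_v9061 : Qt rels S := ed sl_bt s0_v4703
def s0_v9235 : Qt rels S := ed sl_dt s0_v4788
def s0_v9236 : Qt rels S := ed sl_et s0_v4788
def s0_v9237 : Qt rels S := ed sl_ft s0_v4788
def s0_v9365 : Qt rels S := ed sl_ct s0_v4873
def relWi_0_s0 : Word Gen := [sl_af, sl_af]
theorem relone_inv_0_s0 : wG rels relWi_0_s0 = 1 :=
  relone_inv rels relW_0 relone_0
def relWi_1_s0 : Word Gen := [sl_bf, sl_af, sl_bf, sl_af, sl_bf, sl_af, sl_bf, sl_af, sl_bf, sl_af]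
theorem relone_inv_1_s0 : wG rels relWi_1_s0 = 1 :=
  relone_inv rels relW_1 relone_1
def relWi_2_s0 : Word Gen := [sl_cf, sl_af, sl_cf, sl_af]
theorem relone_inv_2_s0 : wG rels relWi_2_s0 = 1 :=
  relone_inv rels relW_2 relone_2
def relWi_3_s0 : Word Gen := [sl_df, sl_af, sl_df, sl_af]
theorem relone_inv_3_s0 : wG rels relWi_3_s0 = 1 :=
  relone_inv rels relW_3 relone_3
def relWi_4_s0 : Word Gen := [sl_ef, sl_af, sl_ef, sl_af]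
theorem relone_inv_4_s0 : wG rels relWi_4_s0 = 1 :=
  relone_inv rels relW_4 relone_4
def relWi_5_s0 : Word Gen := [sl_ff, sl_af, sl_ff, sl_af]
theorem relone_inv_5_s0 : wG rels relWi_5_s0 = 1 :=
  relone_inv rels relW_5 relone_5
def relWi_6_s0 : Word Gen := [sl_gf, sl_af, sl_gf, sl_af]
theorem relone_inv_6_s0 : wG rels relWi_6_s0 = 1 :=
  relone_inv rels relW_6 relone_6
def relWi_7_s0 : Word Gen := [sl_bf, sl_bf]
theorem relone_inv_7_s0 : wG rels relWi_7_s0 = 1 :=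
  relone_inv rels relW_7 relone_7
def relWi_8_s0 : Word Gen := [sl_cf, sl_bf, sl_cf, sl_bf, sl_cf, sl_bf]
theorem relone_inv_8_s0 : wG rels relWi_8_s0 = 1 :=
  relone_inv rels relW_8 relone_8
def relWi_9_s0 : Word Gen := [sl_df, sl_bf, sl_df, sl_bf]
theorem relone_inv_9_s0 : wG rels relWi_9_s0 = 1 :=
  relone_inv rels relW_9 relone_9
def relWi_10_s0 : Word Gen := [sl_ef, sl_bf, sl_ef, sl_bf]
theorem relone_inv_10_s0 : wG rels relWi_10_s0 = 1 :=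
  relone_inv rels relW_10 relone_10
def relWi_11_s0 : Word Gen := [sl_ff, sl_bf, sl_ff, sl_bf, sl_ff, sl_bf]
theorem relone_inv_11_s0 : wG rels relWi_11_s0 = 1 :=
  relone_inv rels relW_11 relone_11
def relWi_12_s0 : Word Gen := [sl_gf, sl_bf, sl_gf, sl_bf, sl_gf, sl_bf]
theorem relone_inv_12_s0 : wG rels relWi_12_s0 = 1 :=
  relone_inv rels relW_12 relone_12
def relWi_13_s0 : Word Gen := [sl_cf, sl_cf]
theorem relone_inv_13_s0 : wG rels relWi_13_s0 = 1 :=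
  relone_inv rels relW_13 relone_13
def relWi_14_s0 : Word Gen := [sl_df, sl_cf, sl_df, sl_cf, sl_df, sl_cf, sl_df, sl_cf, sl_df, sl_cf, sl_df, sl_cf, sl_df, sl_cf, sl_df, sl_cf]
theorem relone_inv_14_s0 : wG rels relWi_14_s0 = 1 :=
  relone_inv rels relW_14 relone_14
def relWi_15_s0 : Word Gen := [sl_ef, sl_cf, sl_ef, sl_cf]
theorem relone_inv_15_s0 : wG rels relWi_15_s0 = 1 :=
  relone_inv rels relW_15 relone_15
def relWi_16_s0 : Word Gen := [sl_ff, sl_cf, sl_ff, sl_cf]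
theorem relone_inv_16_s0 : wG rels relWi_16_s0 = 1 :=
  relone_inv rels relW_16 relone_16
def relWi_17_s0 : Word Gen := [sl_gf, sl_cf, sl_gf, sl_cf]
theorem relone_inv_17_s0 : wG rels relWi_17_s0 = 1 :=
  relone_inv rels relW_17 relone_17
def relWi_18_s0 : Word Gen := [sl_df, sl_df]
theorem relone_inv_18_s0 : wG rels relWi_18_s0 = 1 :=
  relone_inv rels relW_18 relone_18
def relWi_19_s0 : Word Gen := [sl_ef, sl_df, sl_ef, sl_df, sl_ef, sl_df]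
theorem relone_inv_19_s0 : wG rels relWi_19_s0 = 1 :=
  relone_inv rels relW_19 relone_19
def relWi_20_s0 : Word Gen := [sl_ff, sl_df, sl_ff, sl_df]
theorem relone_inv_20_s0 : wG rels relWi_20_s0 = 1 :=
  relone_inv rels relW_20 relone_20
def relWi_21_s0 : Word Gen := [sl_gf, sl_df, sl_gf, sl_df]
theorem relone_inv_21_s0 : wG rels relWi_21_s0 = 1 :=
  relone_inv rels relW_21 relone_21
def relWi_22_s0 : Word Gen := [sl_ef, sl_ef]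
theorem relone_inv_22_s0 : wG rels relWi_22_s0 = 1 :=
  relone_inv rels relW_22 relone_22
def relWi_23_s0 : Word Gen := [sl_ff, sl_ef, sl_ff, sl_ef]
theorem relone_inv_23_s0 : wG rels relWi_23_s0 = 1 :=
  relone_inv rels relW_23 relone_23
def relWi_24_s0 : Word Gen := [sl_gf, sl_ef, sl_gf, sl_ef]
theorem relone_inv_24_s0 : wG rels relWi_24_s0 = 1 :=
  relone_inv rels relW_24 relone_24
def relWi_25_s0 : Word Gen := [sl_ff, sl_ff]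
theorem relone_inv_25_s0 : wG rels relWi_25_s0 = 1 :=
  relone_inv rels relW_25 relone_25
def relWi_26_s0 : Word Gen := [sl_gf, sl_ff, sl_gf, sl_ff, sl_gf, sl_ff, sl_gf, sl_ff]
theorem relone_inv_26_s0 : wG rels relWi_26_s0 = 1 :=
  relone_inv rels relW_26 relone_26
def relWi_27_s0 : Word Gen := [sl_gf, sl_gf]
theorem relone_inv_27_s0 : wG rels relWi_27_s0 = 1 :=
  relone_inv rels relW_27 relone_27
def relWi_28_s0 : Word Gen := [sl_ct, sl_dt, sl_ct, sl_dt, sl_ct, sl_dt, sl_ct, sl_dt, sl_af]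
theorem relone_inv_28_s0 : wG rels relWi_28_s0 = 1 :=
  relone_inv rels relW_28 relone_28
def relWi_29_s0 : Word Gen := [sl_ft, sl_gt, sl_ft, sl_gt, sl_af]
theorem relone_inv_29_s0 : wG rels relWi_29_s0 = 1 :=
  relone_inv rels relW_29 relone_29
def relWi_30_s0 : Word Gen := [sl_ff, sl_cf, sl_bf, sl_af, sl_ff, sl_cf, sl_bf, sl_af, sl_ff, sl_cf, sl_bf, sl_af, sl_ff, sl_cf, sl_bf, sl_af, sl_ff, sl_cf, sl_bf, sl_af]
theorem relone_inv_30_s0 : wG rels relWi_30_s0 = 1 :=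
  relone_inv rels relW_30 relone_30
def relWi_31_s0 : Word Gen := [sl_gf, sl_ff, sl_bf, sl_gf, sl_ff, sl_bf, sl_gf, sl_ff, sl_bf, sl_gf, sl_ff, sl_bf, sl_gf, sl_ff, sl_bf]
theorem relone_inv_31_s0 : wG rels relWi_31_s0 = 1 :=
  relone_inv rels relW_31 relone_31
def relWi_32_s0 : Word Gen := [sl_ef, sl_df, sl_cf, sl_df, sl_cf, sl_bf, sl_df, sl_cf, sl_df, sl_cf, sl_bf, sl_df, sl_cf, sl_df, sl_cf, sl_bf, sl_df, sl_cf, sl_df, sl_cf, sl_bf, sl_df, sl_cf, sl_df, sl_cf, sl_bf, sl_ef, sl_df, sl_cf, sl_df, sl_cf, sl_bf, sl_df, sl_cf, sl_df, sl_cf, sl_bf, sl_df, sl_cf, sl_df, sl_cf, sl_bf, sl_df, sl_cf, sl_df, sl_cf, sl_bf, sl_df, sl_cf, sl_df, sl_cf, sl_bf, sl_ef, sl_df, sl_cf, sl_df, sl_cf, sl_bf, sl_df, sl_cf, sl_df, sl_cf, sl_bf, sl_df, sl_cf, sl_df, sl_cf, sl_bf, sl_df, sl_cf, sl_df, sl_cf, sl_bf, sl_df, sl_cf, sl_df, sl_cf, sl_bf]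
theorem relone_inv_32_s0 : wG rels relWi_32_s0 = 1 :=
  relone_inv rels relW_32 relone_32
theorem s0_rot0 : wG rels [sl_af, sl_ff, sl_af, sl_ff] = 1 :=
  wG_of_rotate rels relWi_5_s0 [sl_af, sl_ff, sl_af, sl_ff] 1 (by decide +kernel) relone_inv_5_s0
theorem s0_rot1 : wG rels [sl_ff, sl_ff] = 1 :=
  wG_of_rotate rels relWi_25_s0 [sl_ff, sl_ff] 0 (by decide +kernel) relone_inv_25_s0
theorem s0_rot2 : wG rels [sl_gf, sl_ff, sl_at, sl_gf, sl_ff] = 1 :=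
  wG_of_rotate rels relW_29 [sl_gf, sl_ff, sl_at, sl_gf, sl_ff] 3 (by decide +kernel) relone_29
theorem s0_rot3 : wG rels [sl_gt, sl_ft, sl_gt, sl_ft, sl_gt, sl_ft, sl_gt, sl_ft] = 1 :=
  wG_of_rotate rels relW_26 [sl_gt, sl_ft, sl_gt, sl_ft, sl_gt, sl_ft, sl_gt, sl_ft] 1 (by decide +kernel) relone_26
theorem s0_rot4 : wG rels [sl_bt, sl_ft, sl_gt, sl_bt, sl_ft, sl_gt, sl_bt, sl_ft, sl_gt, sl_bt, sl_ft, sl_gt, sl_bt, sl_ft, sl_gt] = 1 :=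
  wG_of_rotate rels relW_31 [sl_bt, sl_ft, sl_gt, sl_bt, sl_ft, sl_gt, sl_bt, sl_ft, sl_gt, sl_bt, sl_ft, sl_gt, sl_bt, sl_ft, sl_gt] 0 (by decide +kernel) relone_31
theorem s0_rot5 : wG rels [sl_gf, sl_cf, sl_gf, sl_cf] = 1 :=
  wG_of_rotate rels relWi_17_s0 [sl_gf, sl_cf, sl_gf, sl_cf] 0 (by decide +kernel) relone_inv_17_s0
theorem s0_rot6 : wG rels [sl_at, sl_gf, sl_ff, sl_gf, sl_ff] = 1 :=
  wG_of_rotate rels relW_29 [sl_at, sl_gf, sl_ff, sl_gf, sl_ff] 0 (by decide +kernel) relone_29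
theorem s0_rot7 : wG rels [sl_dt, sl_ct, sl_dt, sl_ct, sl_dt, sl_af, sl_ct, sl_dt, sl_ct] = 1 :=
  wG_of_rotate rels relWi_28_s0 [sl_dt, sl_ct, sl_dt, sl_ct, sl_dt, sl_af, sl_ct, sl_dt, sl_ct] 3 (by decide +kernel) relone_inv_28_s0
theorem s0_rot8 : wG rels [sl_df, sl_bf, sl_df, sl_bf] = 1 :=
  wG_of_rotate rels relWi_9_s0 [sl_df, sl_bf, sl_df, sl_bf] 0 (by decide +kernel) relone_inv_9_s0
theorem s0_rot9 : wG rels [sl_at, sl_df, sl_cf, sl_df, sl_cf, sl_df, sl_cf, sl_df, sl_cf] = 1 :=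
  wG_of_rotate rels relW_28 [sl_at, sl_df, sl_cf, sl_df, sl_cf, sl_df, sl_cf, sl_df, sl_cf] 0 (by decide +kernel) relone_28
theorem s0_rot10 : wG rels [sl_af, sl_cf, sl_af, sl_cf] = 1 :=
  wG_of_rotate rels relWi_2_s0 [sl_af, sl_cf, sl_af, sl_cf] 1 (by decide +kernel) relone_inv_2_s0
theorem s0_rot11 : wG rels [sl_ff, sl_af, sl_ff, sl_af] = 1 :=
  wG_of_rotate rels relWi_5_s0 [sl_ff, sl_af, sl_ff, sl_af] 0 (by decide +kernel) relone_inv_5_s0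
theorem s0_rot12 : wG rels [sl_bt, sl_ft, sl_bt, sl_ft, sl_bt, sl_ft] = 1 :=
  wG_of_rotate rels relW_11 [sl_bt, sl_ft, sl_bt, sl_ft, sl_bt, sl_ft] 0 (by decide +kernel) relone_11
theorem s0_rot13 : wG rels [sl_ft, sl_ct, sl_ft, sl_ct] = 1 :=
  wG_of_rotate rels relW_16 [sl_ft, sl_ct, sl_ft, sl_ct] 1 (by decide +kernel) relone_16
theorem s0_rot14 : wG rels [sl_ft, sl_dt, sl_ft, sl_dt] = 1 :=
  wG_of_rotate rels relW_20 [sl_ft, sl_dt, sl_ft, sl_dt] 1 (by decide +kernel) relone_20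
theorem s0_rot15 : wG rels [sl_ft, sl_et, sl_ft, sl_et] = 1 :=
  wG_of_rotate rels relW_23 [sl_ft, sl_et, sl_ft, sl_et] 1 (by decide +kernel) relone_23
theorem s0_rot16 : wG rels [sl_ft, sl_ft] = 1 :=
  wG_of_rotate rels relW_25 [sl_ft, sl_ft] 0 (by decide +kernel) relone_25
theorem s0_rot17 : wG rels [sl_gt, sl_ft, sl_gt, sl_af, sl_ft] = 1 :=
  wG_of_rotate rels relWi_29_s0 [sl_gt, sl_ft, sl_gt, sl_af, sl_ft] 1 (by decide +kernel) relone_inv_29_s0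
theorem s0_rot18 : wG rels [sl_gf, sl_ef, sl_gf, sl_ef] = 1 :=
  wG_of_rotate rels relWi_24_s0 [sl_gf, sl_ef, sl_gf, sl_ef] 0 (by decide +kernel) relone_inv_24_s0
theorem s0_rot19 : wG rels [sl_gf, sl_ff, sl_gf, sl_ff, sl_gf, sl_ff, sl_gf, sl_ff] = 1 :=
  wG_of_rotate rels relWi_26_s0 [sl_gf, sl_ff, sl_gf, sl_ff, sl_gf, sl_ff, sl_gf, sl_ff] 0 (by decide +kernel) relone_inv_26_s0
theorem s0_rot20 : wG rels [sl_gt, sl_dt, sl_gt, sl_dt] = 1 :=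
  wG_of_rotate rels relW_21 [sl_gt, sl_dt, sl_gt, sl_dt] 1 (by decide +kernel) relone_21
theorem s0_rot21 : wG rels [sl_gt, sl_et, sl_gt, sl_et] = 1 :=
  wG_of_rotate rels relW_24 [sl_gt, sl_et, sl_gt, sl_et] 1 (by decide +kernel) relone_24
theorem s0_rot22 : wG rels [sl_ff, sl_gf, sl_ff, sl_gf, sl_ff, sl_gf, sl_ff, sl_gf] = 1 :=
  wG_of_rotate rels relWi_26_s0 [sl_ff, sl_gf, sl_ff, sl_gf, sl_ff, sl_gf, sl_ff, sl_gf] 1 (by decide +kernel) relone_inv_26_s0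
theorem s0_rot23 : wG rels [sl_bf, sl_ef, sl_bf, sl_ef] = 1 :=
  wG_of_rotate rels relWi_10_s0 [sl_bf, sl_ef, sl_bf, sl_ef] 1 (by decide +kernel) relone_inv_10_s0
theorem s0_rot24 : wG rels [sl_gf, sl_bf, sl_gf, sl_bf, sl_gf, sl_bf] = 1 :=
  wG_of_rotate rels relWi_12_s0 [sl_gf, sl_bf, sl_gf, sl_bf, sl_gf, sl_bf] 0 (by decide +kernel) relone_inv_12_s0
theorem s0_rot25 : wG rels [sl_gt, sl_gt] = 1 :=
  wG_of_rotate rels relW_27 [sl_gt, sl_gt] 0 (by decide +kernel) relone_27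
theorem s0_rot26 : wG rels [sl_bt, sl_gt, sl_bt, sl_gt, sl_bt, sl_gt] = 1 :=
  wG_of_rotate rels relW_12 [sl_bt, sl_gt, sl_bt, sl_gt, sl_bt, sl_gt] 0 (by decide +kernel) relone_12
theorem s0_rot27 : wG rels [sl_cf, sl_bf, sl_cf, sl_bf, sl_cf, sl_bf] = 1 :=
  wG_of_rotate rels relWi_8_s0 [sl_cf, sl_bf, sl_cf, sl_bf, sl_cf, sl_bf] 0 (by decide +kernel) relone_inv_8_s0
theorem s0_rot28 : wG rels [sl_dt, sl_dt] = 1 :=
  wG_of_rotate rels relW_18 [sl_dt, sl_dt] 0 (by decide +kernel) relone_18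
theorem s0_rot29 : wG rels [sl_dt, sl_ft, sl_dt, sl_ft] = 1 :=
  wG_of_rotate rels relW_20 [sl_dt, sl_ft, sl_dt, sl_ft] 0 (by decide +kernel) relone_20
theorem s0_rot30 : wG rels [sl_ef, sl_df, sl_ef, sl_df, sl_ef, sl_df] = 1 :=
  wG_of_rotate rels relWi_19_s0 [sl_ef, sl_df, sl_ef, sl_df, sl_ef, sl_df] 0 (by decide +kernel) relone_inv_19_s0
theorem s0_rot31 : wG rels [sl_et, sl_et] = 1 :=
  wG_of_rotate rels relW_22 [sl_et, sl_et] 0 (by decide +kernel) relone_22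
theorem s0_rot32 : wG rels [sl_ef, sl_ff, sl_ef, sl_ff] = 1 :=
  wG_of_rotate rels relWi_23_s0 [sl_ef, sl_ff, sl_ef, sl_ff] 1 (by decide +kernel) relone_inv_23_s0
theorem s0_rot33 : wG rels [sl_et, sl_ct, sl_et, sl_ct] = 1 :=
  wG_of_rotate rels relW_15 [sl_et, sl_ct, sl_et, sl_ct] 1 (by decide +kernel) relone_15
theorem s0_rot34 : wG rels [sl_ef, sl_ef] = 1 :=
  wG_of_rotate rels relWi_22_s0 [sl_ef, sl_ef] 0 (by decide +kernel) relone_inv_22_s0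
theorem s0_rot35 : wG rels [sl_et, sl_bt, sl_et, sl_bt] = 1 :=
  wG_of_rotate rels relW_10 [sl_et, sl_bt, sl_et, sl_bt] 1 (by decide +kernel) relone_10
theorem s0_rot36 : wG rels [sl_ef, sl_gf, sl_ef, sl_gf] = 1 :=
  wG_of_rotate rels relWi_24_s0 [sl_ef, sl_gf, sl_ef, sl_gf] 1 (by decide +kernel) relone_inv_24_s0
theorem s0_rot37 : wG rels [sl_et, sl_ft, sl_et, sl_ft] = 1 :=
  wG_of_rotate rels relW_23 [sl_et, sl_ft, sl_et, sl_ft] 0 (by decide +kernel) relone_23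
theorem s0_rot38 : wG rels [sl_cf, sl_ef, sl_cf, sl_ef] = 1 :=
  wG_of_rotate rels relWi_15_s0 [sl_cf, sl_ef, sl_cf, sl_ef] 1 (by decide +kernel) relone_inv_15_s0
theorem s0_rot39 : wG rels [sl_ct, sl_gt, sl_ct, sl_gt] = 1 :=
  wG_of_rotate rels relW_17 [sl_ct, sl_gt, sl_ct, sl_gt] 0 (by decide +kernel) relone_17
theorem s0_rot40 : wG rels [sl_cf, sl_cf] = 1 :=
  wG_of_rotate rels relWi_13_s0 [sl_cf, sl_cf] 0 (by decide +kernel) relone_inv_13_s0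
theorem s0_rot41 : wG rels [sl_bt, sl_ct, sl_bt, sl_ct, sl_bt, sl_ct] = 1 :=
  wG_of_rotate rels relW_8 [sl_bt, sl_ct, sl_bt, sl_ct, sl_bt, sl_ct] 0 (by decide +kernel) relone_8
theorem s0_rot42 : wG rels [sl_ct, sl_ft, sl_ct, sl_ft] = 1 :=
  wG_of_rotate rels relW_16 [sl_ct, sl_ft, sl_ct, sl_ft] 0 (by decide +kernel) relone_16
theorem s0_rot43 : wG rels [sl_cf, sl_gf, sl_cf, sl_gf] = 1 :=
  wG_of_rotate rels relWi_17_s0 [sl_cf, sl_gf, sl_cf, sl_gf] 1 (by decide +kernel) relone_inv_17_s0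
theorem s0_rot44 : wG rels [sl_bf, sl_bf] = 1 :=
  wG_of_rotate rels relWi_7_s0 [sl_bf, sl_bf] 0 (by decide +kernel) relone_inv_7_s0
theorem s0_rot45 : wG rels [sl_gf, sl_df, sl_gf, sl_df] = 1 :=
  wG_of_rotate rels relWi_21_s0 [sl_gf, sl_df, sl_gf, sl_df] 0 (by decide +kernel) relone_inv_21_s0
theorem s0_rot46 : wG rels [sl_ef, sl_bf, sl_ef, sl_bf] = 1 :=
  wG_of_rotate rels relWi_10_s0 [sl_ef, sl_bf, sl_ef, sl_bf] 0 (by decide +kernel) relone_inv_10_s0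
theorem s0_rot47 : wG rels [sl_gf, sl_af, sl_gf, sl_af] = 1 :=
  wG_of_rotate rels relWi_6_s0 [sl_gf, sl_af, sl_gf, sl_af] 0 (by decide +kernel) relone_inv_6_s0
theorem s0_rot48 : wG rels [sl_ef, sl_cf, sl_ef, sl_cf] = 1 :=
  wG_of_rotate rels relWi_15_s0 [sl_ef, sl_cf, sl_ef, sl_cf] 0 (by decide +kernel) relone_inv_15_s0
theorem s0_rot49 : wG rels [sl_et, sl_gt, sl_et, sl_gt] = 1 :=
  wG_of_rotate rels relW_24 [sl_et, sl_gt, sl_et, sl_gt] 0 (by decide +kernel) relone_24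
theorem s0_rot50 : wG rels [sl_et, sl_at, sl_et, sl_at] = 1 :=
  wG_of_rotate rels relW_4 [sl_et, sl_at, sl_et, sl_at] 1 (by decide +kernel) relone_4
theorem s0_rot51 : wG rels [sl_df, sl_af, sl_df, sl_af] = 1 :=
  wG_of_rotate rels relWi_3_s0 [sl_df, sl_af, sl_df, sl_af] 0 (by decide +kernel) relone_inv_3_s0
theorem s0_rot52 : wG rels [sl_df, sl_gf, sl_df, sl_gf] = 1 :=
  wG_of_rotate rels relWi_21_s0 [sl_df, sl_gf, sl_df, sl_gf] 1 (by decide +kernel) relone_inv_21_s0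
theorem s0_rot53 : wG rels [sl_dt, sl_at, sl_dt, sl_at] = 1 :=
  wG_of_rotate rels relW_3 [sl_dt, sl_at, sl_dt, sl_at] 1 (by decide +kernel) relone_3
theorem s0_rot54 : wG rels [sl_df, sl_df] = 1 :=
  wG_of_rotate rels relWi_18_s0 [sl_df, sl_df] 0 (by decide +kernel) relone_inv_18_s0
theorem s0_rot55 : wG rels [sl_dt, sl_bt, sl_dt, sl_bt] = 1 :=
  wG_of_rotate rels relW_9 [sl_dt, sl_bt, sl_dt, sl_bt] 1 (by decide +kernel) relone_9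
theorem s0_rot56 : wG rels [sl_df, sl_ff, sl_df, sl_ff] = 1 :=
  wG_of_rotate rels relWi_20_s0 [sl_df, sl_ff, sl_df, sl_ff] 1 (by decide +kernel) relone_inv_20_s0
theorem s0_rot57 : wG rels [sl_dt, sl_ct, sl_dt, sl_af, sl_ct, sl_dt, sl_ct, sl_dt, sl_ct] = 1 :=
  wG_of_rotate rels relWi_28_s0 [sl_dt, sl_ct, sl_dt, sl_af, sl_ct, sl_dt, sl_ct, sl_dt, sl_ct] 5 (by decide +kernel) relone_inv_28_s0
theorem s0_rot58 : wG rels [sl_at, sl_dt, sl_at, sl_dt] = 1 :=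
  wG_of_rotate rels relW_3 [sl_at, sl_dt, sl_at, sl_dt] 0 (by decide +kernel) relone_3
theorem s0_rot59 : wG rels [sl_ct, sl_ct] = 1 :=
  wG_of_rotate rels relW_13 [sl_ct, sl_ct] 0 (by decide +kernel) relone_13
theorem s0_rot60 : wG rels [sl_ct, sl_et, sl_ct, sl_et] = 1 :=
  wG_of_rotate rels relW_15 [sl_ct, sl_et, sl_ct, sl_et] 0 (by decide +kernel) relone_15
theorem s0_rot61 : wG rels [sl_bf, sl_cf, sl_bf, sl_cf, sl_bf, sl_cf] = 1 :=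
  wG_of_rotate rels relWi_8_s0 [sl_bf, sl_cf, sl_bf, sl_cf, sl_bf, sl_cf] 1 (by decide +kernel) relone_inv_8_s0
theorem s0_rot62 : wG rels [sl_df, sl_cf, sl_df, sl_cf, sl_df, sl_cf, sl_at, sl_df, sl_cf] = 1 :=
  wG_of_rotate rels relW_28 [sl_df, sl_cf, sl_df, sl_cf, sl_df, sl_cf, sl_at, sl_df, sl_cf] 3 (by decide +kernel) relone_28
theorem s0_rot63 : wG rels [sl_cf, sl_df, sl_cf, sl_at, sl_df, sl_cf, sl_df, sl_cf, sl_df] = 1 :=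
  wG_of_rotate rels relW_28 [sl_cf, sl_df, sl_cf, sl_at, sl_df, sl_cf, sl_df, sl_cf, sl_df] 6 (by decide +kernel) relone_28
theorem s0_rot64 : wG rels [sl_at, sl_ct, sl_at, sl_ct] = 1 :=
  wG_of_rotate rels relW_2 [sl_at, sl_ct, sl_at, sl_ct] 0 (by decide +kernel) relone_2
theorem s0_rot65 : wG rels [sl_cf, sl_ff, sl_cf, sl_ff] = 1 :=
  wG_of_rotate rels relWi_16_s0 [sl_cf, sl_ff, sl_cf, sl_ff] 1 (by decide +kernel) relone_inv_16_s0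
theorem s0_rot66 : wG rels [sl_af, sl_af] = 1 :=
  wG_of_rotate rels relWi_0_s0 [sl_af, sl_af] 0 (by decide +kernel) relone_inv_0_s0
theorem s0_rot67 : wG rels [sl_af, sl_ef, sl_af, sl_ef] = 1 :=
  wG_of_rotate rels relWi_4_s0 [sl_af, sl_ef, sl_af, sl_ef] 1 (by decide +kernel) relone_inv_4_s0
theorem s0_rot68 : wG rels [sl_bt, sl_bt] = 1 :=
  wG_of_rotate rels relW_7 [sl_bt, sl_bt] 0 (by decide +kernel) relone_7
theorem s0_rot69 : wG rels [sl_bt, sl_dt, sl_bt, sl_dt] = 1 :=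
  wG_of_rotate rels relW_9 [sl_bt, sl_dt, sl_bt, sl_dt] 0 (by decide +kernel) relone_9
theorem s0_rot70 : wG rels [sl_ff, sl_bf, sl_ff, sl_bf, sl_ff, sl_bf] = 1 :=
  wG_of_rotate rels relWi_11_s0 [sl_ff, sl_bf, sl_ff, sl_bf, sl_ff, sl_bf] 0 (by decide +kernel) relone_inv_11_s0
theorem s0_rot71 : wG rels [sl_at, sl_bt, sl_ct, sl_ft, sl_at, sl_bt, sl_ct, sl_ft, sl_at, sl_bt, sl_ct, sl_ft, sl_at, sl_bt, sl_ct, sl_ft, sl_at, sl_bt, sl_ct, sl_ft] = 1 :=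
  wG_of_rotate rels relW_30 [sl_at, sl_bt, sl_ct, sl_ft, sl_at, sl_bt, sl_ct, sl_ft, sl_at, sl_bt, sl_ct, sl_ft, sl_at, sl_bt, sl_ct, sl_ft, sl_at, sl_bt, sl_ct, sl_ft] 0 (by decide +kernel) relone_30
theorem s0_rot72 : wG rels [sl_af, sl_df, sl_af, sl_df] = 1 :=
  wG_of_rotate rels relWi_3_s0 [sl_af, sl_df, sl_af, sl_df] 1 (by decide +kernel) relone_inv_3_s0
theorem s0_rot73 : wG rels [sl_ft, sl_gt, sl_af, sl_ft, sl_gt] = 1 :=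
  wG_of_rotate rels relWi_29_s0 [sl_ft, sl_gt, sl_af, sl_ft, sl_gt] 2 (by decide +kernel) relone_inv_29_s0
theorem s0_rot74 : wG rels [sl_cf, sl_af, sl_cf, sl_af] = 1 :=
  wG_of_rotate rels relWi_2_s0 [sl_cf, sl_af, sl_cf, sl_af] 0 (by decide +kernel) relone_inv_2_s0
theorem s0_rot75 : wG rels [sl_bf, sl_gf, sl_bf, sl_gf, sl_bf, sl_gf] = 1 :=
  wG_of_rotate rels relWi_12_s0 [sl_bf, sl_gf, sl_bf, sl_gf, sl_bf, sl_gf] 1 (by decide +kernel) relone_inv_12_s0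
theorem s0_rot76 : wG rels [sl_gf, sl_gf] = 1 :=
  wG_of_rotate rels relWi_27_s0 [sl_gf, sl_gf] 0 (by decide +kernel) relone_inv_27_s0
theorem s0_rot77 : wG rels [sl_gt, sl_bt, sl_ft, sl_gt, sl_bt, sl_ft, sl_gt, sl_bt, sl_ft, sl_gt, sl_bt, sl_ft, sl_gt, sl_bt, sl_ft] = 1 :=
  wG_of_rotate rels relW_31 [sl_gt, sl_bt, sl_ft, sl_gt, sl_bt, sl_ft, sl_gt, sl_bt, sl_ft, sl_gt, sl_bt, sl_ft, sl_gt, sl_bt, sl_ft] 2 (by decide +kernel) relone_31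
theorem s0_rot78 : wG rels [sl_af, sl_gf, sl_af, sl_gf] = 1 :=
  wG_of_rotate rels relWi_6_s0 [sl_af, sl_gf, sl_af, sl_gf] 1 (by decide +kernel) relone_inv_6_s0
theorem s0_rot79 : wG rels [sl_gf, sl_ff, sl_gf, sl_ff, sl_at] = 1 :=
  wG_of_rotate rels relW_29 [sl_gf, sl_ff, sl_gf, sl_ff, sl_at] 1 (by decide +kernel) relone_29
theorem s0_rot80 : wG rels [sl_gf, sl_ff, sl_bf, sl_gf, sl_ff, sl_bf, sl_gf, sl_ff, sl_bf, sl_gf, sl_ff, sl_bf, sl_gf, sl_ff, sl_bf] = 1 :=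
  wG_of_rotate rels relWi_31_s0 [sl_gf, sl_ff, sl_bf, sl_gf, sl_ff, sl_bf, sl_gf, sl_ff, sl_bf, sl_gf, sl_ff, sl_bf, sl_gf, sl_ff, sl_bf] 0 (by decide +kernel) relone_inv_31_s0
theorem s0_rot81 : wG rels [sl_af, sl_ft, sl_gt, sl_ft, sl_gt] = 1 :=
  wG_of_rotate rels relWi_29_s0 [sl_af, sl_ft, sl_gt, sl_ft, sl_gt] 4 (by decide +kernel) relone_inv_29_s0
theorem s0_rot82 : wG rels [sl_at, sl_bt, sl_at, sl_bt, sl_at, sl_bt, sl_at, sl_bt, sl_at, sl_bt] = 1 :=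
  wG_of_rotate rels relW_1 [sl_at, sl_bt, sl_at, sl_bt, sl_at, sl_bt, sl_at, sl_bt, sl_at, sl_bt] 0 (by decide +kernel) relone_1
theorem s0_rot83 : wG rels [sl_at, sl_at] = 1 :=
  wG_of_rotate rels relW_0 [sl_at, sl_at] 0 (by decide +kernel) relone_0
theorem s0_rot84 : wG rels [sl_bt, sl_at, sl_bt, sl_at, sl_bt, sl_at, sl_bt, sl_at, sl_bt, sl_at] = 1 :=
  wG_of_rotate rels relW_1 [sl_bt, sl_at, sl_bt, sl_at, sl_bt, sl_at, sl_bt, sl_at, sl_bt, sl_at] 1 (by decide +kernel) relone_1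
theorem s0_rot85 : wG rels [sl_gt, sl_at, sl_gt, sl_at] = 1 :=
  wG_of_rotate rels relW_6 [sl_gt, sl_at, sl_gt, sl_at] 1 (by decide +kernel) relone_6
theorem s0_rot86 : wG rels [sl_at, sl_et, sl_at, sl_et] = 1 :=
  wG_of_rotate rels relW_4 [sl_at, sl_et, sl_at, sl_et] 0 (by decide +kernel) relone_4
theorem s0_rot87 : wG rels [sl_df, sl_cf, sl_at, sl_df, sl_cf, sl_df, sl_cf, sl_df, sl_cf] = 1 :=
  wG_of_rotate rels relW_28 [sl_df, sl_cf, sl_at, sl_df, sl_cf, sl_df, sl_cf, sl_df, sl_cf] 7 (by decide +kernel) relone_28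
theorem s0_rot88 : wG rels [sl_gt, sl_ct, sl_gt, sl_ct] = 1 :=
  wG_of_rotate rels relW_17 [sl_gt, sl_ct, sl_gt, sl_ct] 1 (by decide +kernel) relone_17
theorem s0_rot89 : wG rels [sl_af, sl_ct, sl_dt, sl_ct, sl_dt, sl_ct, sl_dt, sl_ct, sl_dt] = 1 :=
  wG_of_rotate rels relWi_28_s0 [sl_af, sl_ct, sl_dt, sl_ct, sl_dt, sl_ct, sl_dt, sl_ct, sl_dt] 8 (by decide +kernel) relone_inv_28_s0
theorem s0_rot90 : wG rels [sl_at, sl_ft, sl_at, sl_ft] = 1 :=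
  wG_of_rotate rels relW_5 [sl_at, sl_ft, sl_at, sl_ft] 0 (by decide +kernel) relone_5
theorem s0_rot91 : wG rels [sl_dt, sl_gt, sl_dt, sl_gt] = 1 :=
  wG_of_rotate rels relW_21 [sl_dt, sl_gt, sl_dt, sl_gt] 0 (by decide +kernel) relone_21
theorem s0_rot92 : wG rels [sl_ff, sl_gf, sl_ff, sl_at, sl_gf] = 1 :=
  wG_of_rotate rels relW_29 [sl_ff, sl_gf, sl_ff, sl_at, sl_gf] 2 (by decide +kernel) relone_29
theorem s0_rot93 : wG rels [sl_bf, sl_af, sl_bf, sl_af, sl_bf, sl_af, sl_bf, sl_af, sl_bf, sl_af] = 1 :=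
  wG_of_rotate rels relWi_1_s0 [sl_bf, sl_af, sl_bf, sl_af, sl_bf, sl_af, sl_bf, sl_af, sl_bf, sl_af] 0 (by decide +kernel) relone_inv_1_s0
theorem s0_rot94 : wG rels [sl_cf, sl_df, sl_cf, sl_df, sl_cf, sl_df, sl_cf, sl_at, sl_df] = 1 :=
  wG_of_rotate rels relW_28 [sl_cf, sl_df, sl_cf, sl_df, sl_cf, sl_df, sl_cf, sl_at, sl_df] 2 (by decide +kernel) relone_28
theorem s0_rot95 : wG rels [sl_ff, sl_cf, sl_ff, sl_cf] = 1 :=
  wG_of_rotate rels relWi_16_s0 [sl_ff, sl_cf, sl_ff, sl_cf] 0 (by decide +kernel) relone_inv_16_s0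
theorem s0_rot96 : wG rels [sl_at, sl_gt, sl_at, sl_gt] = 1 :=
  wG_of_rotate rels relW_6 [sl_at, sl_gt, sl_at, sl_gt] 0 (by decide +kernel) relone_6
theorem s0_rot97 : wG rels [sl_ft, sl_gt, sl_ft, sl_gt, sl_ft, sl_gt, sl_ft, sl_gt] = 1 :=
  wG_of_rotate rels relW_26 [sl_ft, sl_gt, sl_ft, sl_gt, sl_ft, sl_gt, sl_ft, sl_gt] 0 (by decide +kernel) relone_26
theorem s0_rot98 : wG rels [sl_ff, sl_cf, sl_bf, sl_af, sl_ff, sl_cf, sl_bf, sl_af, sl_ff, sl_cf, sl_bf, sl_af, sl_ff, sl_cf, sl_bf, sl_af, sl_ff, sl_cf, sl_bf, sl_af] = 1 :=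
  wG_of_rotate rels relWi_30_s0 [sl_ff, sl_cf, sl_bf, sl_af, sl_ff, sl_cf, sl_bf, sl_af, sl_ff, sl_cf, sl_bf, sl_af, sl_ff, sl_cf, sl_bf, sl_af, sl_ff, sl_cf, sl_bf, sl_af] 0 (by decide +kernel) relone_inv_30_s0
theorem s0_rot99 : wG rels [sl_ff, sl_ef, sl_ff, sl_ef] = 1 :=
  wG_of_rotate rels relWi_23_s0 [sl_ff, sl_ef, sl_ff, sl_ef] 0 (by decide +kernel) relone_inv_23_s0
theorem s0_rot100 : wG rels [sl_ff, sl_df, sl_ff, sl_df] = 1 :=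
  wG_of_rotate rels relWi_20_s0 [sl_ff, sl_df, sl_ff, sl_df] 0 (by decide +kernel) relone_inv_20_s0
theorem s0_rot101 : wG rels [sl_ct, sl_dt, sl_ct, sl_dt, sl_ct, sl_dt, sl_ct, sl_dt, sl_af] = 1 :=
  wG_of_rotate rels relWi_28_s0 [sl_ct, sl_dt, sl_ct, sl_dt, sl_ct, sl_dt, sl_ct, sl_dt, sl_af] 0 (by decide +kernel) relone_inv_28_s0
theorem s0_rot102 : wG rels [sl_ef, sl_af, sl_ef, sl_af] = 1 :=
  wG_of_rotate rels relWi_4_s0 [sl_ef, sl_af, sl_ef, sl_af] 0 (by decide +kernel) relone_inv_4_s0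
theorem s0_rot103 : wG rels [sl_bf, sl_df, sl_bf, sl_df] = 1 :=
  wG_of_rotate rels relWi_9_s0 [sl_bf, sl_df, sl_bf, sl_df] 1 (by decide +kernel) relone_inv_9_s0
theorem s0_rot104 : wG rels [sl_bf, sl_ff, sl_bf, sl_ff, sl_bf, sl_ff] = 1 :=
  wG_of_rotate rels relWi_11_s0 [sl_bf, sl_ff, sl_bf, sl_ff, sl_bf, sl_ff] 1 (by decide +kernel) relone_inv_11_s0
theorem s0_rot105 : wG rels [sl_df, sl_ef, sl_df, sl_ef, sl_df, sl_ef] = 1 :=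
  wG_of_rotate rels relWi_19_s0 [sl_df, sl_ef, sl_df, sl_ef, sl_df, sl_ef] 1 (by decide +kernel) relone_inv_19_s0
theorem s0_rot106 : wG rels [sl_dt, sl_et, sl_dt, sl_et, sl_dt, sl_et] = 1 :=
  wG_of_rotate rels relW_19 [sl_dt, sl_et, sl_dt, sl_et, sl_dt, sl_et] 0 (by decide +kernel) relone_19
theorem s0_rot107 : wG rels [sl_ft, sl_gt, sl_ft, sl_gt, sl_af] = 1 :=
  wG_of_rotate rels relWi_29_s0 [sl_ft, sl_gt, sl_ft, sl_gt, sl_af] 0 (by decide +kernel) relone_inv_29_s0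
theorem s0_rot108 : wG rels [sl_bt, sl_et, sl_bt, sl_et] = 1 :=
  wG_of_rotate rels relW_10 [sl_bt, sl_et, sl_bt, sl_et] 0 (by decide +kernel) relone_10
theorem s0_rot109 : wG rels [sl_cf, sl_df, sl_cf, sl_df, sl_cf, sl_df, sl_cf, sl_df, sl_cf, sl_df, sl_cf, sl_df, sl_cf, sl_df, sl_cf, sl_df] = 1 :=
  wG_of_rotate rels relWi_14_s0 [sl_cf, sl_df, sl_cf, sl_df, sl_cf, sl_df, sl_cf, sl_df, sl_cf, sl_df, sl_cf, sl_df, sl_cf, sl_df, sl_cf, sl_df] 1 (by decide +kernel) relone_inv_14_s0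
theorem s0_rot110 : wG rels [sl_ct, sl_dt, sl_ct, sl_dt, sl_ct, sl_dt, sl_ct, sl_dt, sl_ct, sl_dt, sl_ct, sl_dt, sl_ct, sl_dt, sl_ct, sl_dt] = 1 :=
  wG_of_rotate rels relW_14 [sl_ct, sl_dt, sl_ct, sl_dt, sl_ct, sl_dt, sl_ct, sl_dt, sl_ct, sl_dt, sl_ct, sl_dt, sl_ct, sl_dt, sl_ct, sl_dt] 0 (by decide +kernel) relone_14
theorem s0_rot111 : wG rels [sl_cf, sl_df, sl_cf, sl_df, sl_cf, sl_at, sl_df, sl_cf, sl_df] = 1 :=
  wG_of_rotate rels relW_28 [sl_cf, sl_df, sl_cf, sl_df, sl_cf, sl_at, sl_df, sl_cf, sl_df] 4 (by decide +kernel) relone_28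
theorem s0_rot112 : wG rels [sl_gt, sl_af, sl_ft, sl_gt, sl_ft] = 1 :=
  wG_of_rotate rels relWi_29_s0 [sl_gt, sl_af, sl_ft, sl_gt, sl_ft] 3 (by decide +kernel) relone_inv_29_s0
theorem s0_rot113 : wG rels [sl_bf, sl_af, sl_ff, sl_cf, sl_bf, sl_af, sl_ff, sl_cf, sl_bf, sl_af, sl_ff, sl_cf, sl_bf, sl_af, sl_ff, sl_cf, sl_bf, sl_af, sl_ff, sl_cf] = 1 :=
  wG_of_rotate rels relWi_30_s0 [sl_bf, sl_af, sl_ff, sl_cf, sl_bf, sl_af, sl_ff, sl_cf, sl_bf, sl_af, sl_ff, sl_cf, sl_bf, sl_af, sl_ff, sl_cf, sl_bf, sl_af, sl_ff, sl_cf] 2 (by decide +kernel) relone_inv_30_s0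
theorem s0_rot114 : wG rels [sl_af, sl_bf, sl_af, sl_bf, sl_af, sl_bf, sl_af, sl_bf, sl_af, sl_bf] = 1 :=
  wG_of_rotate rels relWi_1_s0 [sl_af, sl_bf, sl_af, sl_bf, sl_af, sl_bf, sl_af, sl_bf, sl_af, sl_bf] 1 (by decide +kernel) relone_inv_1_s0
theorem s0_rot115 : wG rels [sl_ct, sl_at, sl_ct, sl_at] = 1 :=
  wG_of_rotate rels relW_2 [sl_ct, sl_at, sl_ct, sl_at] 1 (by decide +kernel) relone_2
theorem s0_rot116 : wG rels [sl_ft, sl_bt, sl_ft, sl_bt, sl_ft, sl_bt] = 1 :=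
  wG_of_rotate rels relW_11 [sl_ft, sl_bt, sl_ft, sl_bt, sl_ft, sl_bt] 1 (by decide +kernel) relone_11
theorem s0_rot117 : wG rels [sl_gt, sl_bt, sl_gt, sl_bt, sl_gt, sl_bt] = 1 :=
  wG_of_rotate rels relW_12 [sl_gt, sl_bt, sl_gt, sl_bt, sl_gt, sl_bt] 1 (by decide +kernel) relone_12
theorem s0_rot118 : wG rels [sl_ft, sl_at, sl_ft, sl_at] = 1 :=
  wG_of_rotate rels relW_5 [sl_ft, sl_at, sl_ft, sl_at] 1 (by decide +kernel) relone_5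
theorem s0_rot119 : wG rels [sl_bf, sl_gf, sl_ff, sl_bf, sl_gf, sl_ff, sl_bf, sl_gf, sl_ff, sl_bf, sl_gf, sl_ff, sl_bf, sl_gf, sl_ff] = 1 :=
  wG_of_rotate rels relWi_31_s0 [sl_bf, sl_gf, sl_ff, sl_bf, sl_gf, sl_ff, sl_bf, sl_gf, sl_ff, sl_bf, sl_gf, sl_ff, sl_bf, sl_gf, sl_ff] 2 (by decide +kernel) relone_inv_31_s0
theorem s0_rot120 : wG rels [sl_af, sl_ff, sl_cf, sl_bf, sl_af, sl_ff, sl_cf, sl_bf, sl_af, sl_ff, sl_cf, sl_bf, sl_af, sl_ff, sl_cf, sl_bf, sl_af, sl_ff, sl_cf, sl_bf] = 1 :=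
  wG_of_rotate rels relWi_30_s0 [sl_af, sl_ff, sl_cf, sl_bf, sl_af, sl_ff, sl_cf, sl_bf, sl_af, sl_ff, sl_cf, sl_bf, sl_af, sl_ff, sl_cf, sl_bf, sl_af, sl_ff, sl_cf, sl_bf] 3 (by decide +kernel) relone_inv_30_s0
theorem s0_rot121 : wG rels [sl_ct, sl_dt, sl_ct, sl_dt, sl_af, sl_ct, sl_dt, sl_ct, sl_dt] = 1 :=
  wG_of_rotate rels relWi_28_s0 [sl_ct, sl_dt, sl_ct, sl_dt, sl_af, sl_ct, sl_dt, sl_ct, sl_dt] 4 (by decide +kernel) relone_inv_28_s0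
theorem s0_rot122 : wG rels [sl_ft, sl_at, sl_bt, sl_ct, sl_ft, sl_at, sl_bt, sl_ct, sl_ft, sl_at, sl_bt, sl_ct, sl_ft, sl_at, sl_bt, sl_ct, sl_ft, sl_at, sl_bt, sl_ct] = 1 :=
  wG_of_rotate rels relW_30 [sl_ft, sl_at, sl_bt, sl_ct, sl_ft, sl_at, sl_bt, sl_ct, sl_ft, sl_at, sl_bt, sl_ct, sl_ft, sl_at, sl_bt, sl_ct, sl_ft, sl_at, sl_bt, sl_ct] 3 (by decide +kernel) relone_30
theorem s0_rot123 : wG rels [sl_et, sl_dt, sl_et, sl_dt, sl_et, sl_dt] = 1 :=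
  wG_of_rotate rels relW_19 [sl_et, sl_dt, sl_et, sl_dt, sl_et, sl_dt] 1 (by decide +kernel) relone_19
theorem s0_rot124 : wG rels [sl_ct, sl_dt, sl_af, sl_ct, sl_dt, sl_ct, sl_dt, sl_ct, sl_dt] = 1 :=
  wG_of_rotate rels relWi_28_s0 [sl_ct, sl_dt, sl_af, sl_ct, sl_dt, sl_ct, sl_dt, sl_ct, sl_dt] 6 (by decide +kernel) relone_inv_28_s0
theorem s0_rot125 : wG rels [sl_dt, sl_ct, sl_dt, sl_ct, sl_dt, sl_ct, sl_dt, sl_ct, sl_dt, sl_ct, sl_dt, sl_ct, sl_dt, sl_ct, sl_dt, sl_ct] = 1 :=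
  wG_of_rotate rels relW_14 [sl_dt, sl_ct, sl_dt, sl_ct, sl_dt, sl_ct, sl_dt, sl_ct, sl_dt, sl_ct, sl_dt, sl_ct, sl_dt, sl_ct, sl_dt, sl_ct] 1 (by decide +kernel) relone_14
theorem s0_rot126 : wG rels [sl_ff, sl_at, sl_gf, sl_ff, sl_gf] = 1 :=
  wG_of_rotate rels relW_29 [sl_ff, sl_at, sl_gf, sl_ff, sl_gf] 4 (by decide +kernel) relone_29
theorem s0_rot127 : wG rels [sl_ct, sl_bt, sl_ct, sl_bt, sl_ct, sl_bt] = 1 :=
  wG_of_rotate rels relW_8 [sl_ct, sl_bt, sl_ct, sl_bt, sl_ct, sl_bt] 1 (by decide +kernel) relone_8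
theorem s0_rot128 : wG rels [sl_ft, sl_gt, sl_bt, sl_ft, sl_gt, sl_bt, sl_ft, sl_gt, sl_bt, sl_ft, sl_gt, sl_bt, sl_ft, sl_gt, sl_bt] = 1 :=
  wG_of_rotate rels relW_31 [sl_ft, sl_gt, sl_bt, sl_ft, sl_gt, sl_bt, sl_ft, sl_gt, sl_bt, sl_ft, sl_gt, sl_bt, sl_ft, sl_gt, sl_bt] 1 (by decide +kernel) relone_31
theorem s0_rot129 : wG rels [sl_cf, sl_bf, sl_af, sl_ff, sl_cf, sl_bf, sl_af, sl_ff, sl_cf, sl_bf, sl_af, sl_ff, sl_cf, sl_bf, sl_af, sl_ff, sl_cf, sl_bf, sl_af, sl_ff] = 1 :=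
  wG_of_rotate rels relWi_30_s0 [sl_cf, sl_bf, sl_af, sl_ff, sl_cf, sl_bf, sl_af, sl_ff, sl_cf, sl_bf, sl_af, sl_ff, sl_cf, sl_bf, sl_af, sl_ff, sl_cf, sl_bf, sl_af, sl_ff] 1 (by decide +kernel) relone_inv_30_s0
theorem s0_rot130 : wG rels [sl_dt, sl_ct, sl_dt, sl_bt, sl_ct, sl_dt, sl_ct, sl_dt, sl_bt, sl_ct, sl_dt, sl_ct, sl_dt, sl_bt, sl_ct, sl_dt, sl_ct, sl_dt, sl_bt, sl_ct, sl_dt, sl_ct, sl_dt, sl_et, sl_bt, sl_ct, sl_dt, sl_ct, sl_dt, sl_bt, sl_ct, sl_dt, sl_ct, sl_dt, sl_bt, sl_ct, sl_dt, sl_ct, sl_dt, sl_bt, sl_ct, sl_dt, sl_ct, sl_dt, sl_bt, sl_ct, sl_dt, sl_ct, sl_dt, sl_et, sl_bt, sl_ct, sl_dt, sl_ct, sl_dt, sl_bt, sl_ct, sl_dt, sl_ct, sl_dt, sl_bt, sl_ct, sl_dt, sl_ct, sl_dt, sl_bt, sl_ct, sl_dt, sl_ct, sl_dt, sl_bt, sl_ct, sl_dt, sl_ct, sl_dt, sl_et, sl_bt, sl_ct] = 1 :=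
  wG_of_rotate rels relW_32 [sl_dt, sl_ct, sl_dt, sl_bt, sl_ct, sl_dt, sl_ct, sl_dt, sl_bt, sl_ct, sl_dt, sl_ct, sl_dt, sl_bt, sl_ct, sl_dt, sl_ct, sl_dt, sl_bt, sl_ct, sl_dt, sl_ct, sl_dt, sl_et, sl_bt, sl_ct, sl_dt, sl_ct, sl_dt, sl_bt, sl_ct, sl_dt, sl_ct, sl_dt, sl_bt, sl_ct, sl_dt, sl_ct, sl_dt, sl_bt, sl_ct, sl_dt, sl_ct, sl_dt, sl_bt, sl_ct, sl_dt, sl_ct, sl_dt, sl_et, sl_bt, sl_ct, sl_dt, sl_ct, sl_dt, sl_bt, sl_ct, sl_dt, sl_ct, sl_dt, sl_bt, sl_ct, sl_dt, sl_ct, sl_dt, sl_bt, sl_ct, sl_dt, sl_ct, sl_dt, sl_bt, sl_ct, sl_dt, sl_ct, sl_dt, sl_et, sl_bt, sl_ct] 2 (by decide +kernel) relone_32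
theorem s0_rot131 : wG rels [sl_cf, sl_at, sl_df, sl_cf, sl_df, sl_cf, sl_df, sl_cf, sl_df] = 1 :=
  wG_of_rotate rels relW_28 [sl_cf, sl_at, sl_df, sl_cf, sl_df, sl_cf, sl_df, sl_cf, sl_df] 8 (by decide +kernel) relone_28
theorem s0_rot132 : wG rels [sl_df, sl_cf, sl_df, sl_cf, sl_bf, sl_df, sl_cf, sl_df, sl_cf, sl_bf, sl_df, sl_cf, sl_df, sl_cf, sl_bf, sl_ef, sl_df, sl_cf, sl_df, sl_cf, sl_bf, sl_df, sl_cf, sl_df, sl_cf, sl_bf, sl_df, sl_cf, sl_df, sl_cf, sl_bf, sl_df, sl_cf, sl_df, sl_cf, sl_bf, sl_df, sl_cf, sl_df, sl_cf, sl_bf, sl_ef, sl_df, sl_cf, sl_df, sl_cf, sl_bf, sl_df, sl_cf, sl_df, sl_cf, sl_bf, sl_df, sl_cf, sl_df, sl_cf, sl_bf, sl_df, sl_cf, sl_df, sl_cf, sl_bf, sl_df, sl_cf, sl_df, sl_cf, sl_bf, sl_ef, sl_df, sl_cf, sl_df, sl_cf, sl_bf, sl_df, sl_cf, sl_df, sl_cf, sl_bf] = 1 :=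
  wG_of_rotate rels relWi_32_s0 [sl_df, sl_cf, sl_df, sl_cf, sl_bf, sl_df, sl_cf, sl_df, sl_cf, sl_bf, sl_df, sl_cf, sl_df, sl_cf, sl_bf, sl_ef, sl_df, sl_cf, sl_df, sl_cf, sl_bf, sl_df, sl_cf, sl_df, sl_cf, sl_bf, sl_df, sl_cf, sl_df, sl_cf, sl_bf, sl_df, sl_cf, sl_df, sl_cf, sl_bf, sl_df, sl_cf, sl_df, sl_cf, sl_bf, sl_ef, sl_df, sl_cf, sl_df, sl_cf, sl_bf, sl_df, sl_cf, sl_df, sl_cf, sl_bf, sl_df, sl_cf, sl_df, sl_cf, sl_bf, sl_df, sl_cf, sl_df, sl_cf, sl_bf, sl_df, sl_cf, sl_df, sl_cf, sl_bf, sl_ef, sl_df, sl_cf, sl_df, sl_cf, sl_bf, sl_df, sl_cf, sl_df, sl_cf, sl_bf] 11 (by decide +kernel) relone_inv_32_s0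
theorem s0_rot133 : wG rels [sl_dt, sl_ct, sl_dt, sl_ct, sl_dt, sl_ct, sl_dt, sl_af, sl_ct] = 1 :=
  wG_of_rotate rels relWi_28_s0 [sl_dt, sl_ct, sl_dt, sl_ct, sl_dt, sl_ct, sl_dt, sl_af, sl_ct] 1 (by decide +kernel) relone_inv_28_s0
theorem s0_rot134 : wG rels [sl_bt, sl_ct, sl_dt, sl_ct, sl_dt, sl_bt, sl_ct, sl_dt, sl_ct, sl_dt, sl_bt, sl_ct, sl_dt, sl_ct, sl_dt, sl_et, sl_bt, sl_ct, sl_dt, sl_ct, sl_dt, sl_bt, sl_ct, sl_dt, sl_ct, sl_dt, sl_bt, sl_ct, sl_dt, sl_ct, sl_dt, sl_bt, sl_ct, sl_dt, sl_ct, sl_dt, sl_bt, sl_ct, sl_dt, sl_ct, sl_dt, sl_et, sl_bt, sl_ct, sl_dt, sl_ct, sl_dt, sl_bt, sl_ct, sl_dt, sl_ct, sl_dt, sl_bt, sl_ct, sl_dt, sl_ct, sl_dt, sl_bt, sl_ct, sl_dt, sl_ct, sl_dt, sl_bt, sl_ct, sl_dt, sl_ct, sl_dt, sl_et, sl_bt, sl_ct, sl_dt, sl_ct, sl_dt, sl_bt, sl_ct, sl_dt, sl_ct, sl_dt] = 1 :=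
  wG_of_rotate rels relW_32 [sl_bt, sl_ct, sl_dt, sl_ct, sl_dt, sl_bt, sl_ct, sl_dt, sl_ct, sl_dt, sl_bt, sl_ct, sl_dt, sl_ct, sl_dt, sl_et, sl_bt, sl_ct, sl_dt, sl_ct, sl_dt, sl_bt, sl_ct, sl_dt, sl_ct, sl_dt, sl_bt, sl_ct, sl_dt, sl_ct, sl_dt, sl_bt, sl_ct, sl_dt, sl_ct, sl_dt, sl_bt, sl_ct, sl_dt, sl_ct, sl_dt, sl_et, sl_bt, sl_ct, sl_dt, sl_ct, sl_dt, sl_bt, sl_ct, sl_dt, sl_ct, sl_dt, sl_bt, sl_ct, sl_dt, sl_ct, sl_dt, sl_bt, sl_ct, sl_dt, sl_ct, sl_dt, sl_bt, sl_ct, sl_dt, sl_ct, sl_dt, sl_et, sl_bt, sl_ct, sl_dt, sl_ct, sl_dt, sl_bt, sl_ct, sl_dt, sl_ct, sl_dt] 10 (by decide +kernel) relone_32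
theorem s0_rot135 : wG rels [sl_df, sl_cf, sl_df, sl_cf, sl_df, sl_cf, sl_df, sl_cf, sl_df, sl_cf, sl_df, sl_cf, sl_df, sl_cf, sl_df, sl_cf] = 1 :=
  wG_of_rotate rels relWi_14_s0 [sl_df, sl_cf, sl_df, sl_cf, sl_df, sl_cf, sl_df, sl_cf, sl_df, sl_cf, sl_df, sl_cf, sl_df, sl_cf, sl_df, sl_cf] 0 (by decide +kernel) relone_inv_14_s0
theorem s0_rot136 : wG rels [sl_cf, sl_bf, sl_df, sl_cf, sl_df, sl_cf, sl_bf, sl_df, sl_cf, sl_df, sl_cf, sl_bf, sl_ef, sl_df, sl_cf, sl_df, sl_cf, sl_bf, sl_df, sl_cf, sl_df, sl_cf, sl_bf, sl_df, sl_cf, sl_df, sl_cf, sl_bf, sl_df, sl_cf, sl_df, sl_cf, sl_bf, sl_df, sl_cf, sl_df, sl_cf, sl_bf, sl_ef, sl_df, sl_cf, sl_df, sl_cf, sl_bf, sl_df, sl_cf, sl_df, sl_cf, sl_bf, sl_df, sl_cf, sl_df, sl_cf, sl_bf, sl_df, sl_cf, sl_df, sl_cf, sl_bf, sl_df, sl_cf, sl_df, sl_cf, sl_bf, sl_ef, sl_df, sl_cf, sl_df, sl_cf, sl_bf, sl_df,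 sl_cf, sl_df, sl_cf, sl_bf, sl_df, sl_cf, sl_df] = 1 :=
  wG_of_rotate rels relWi_32_s0 [sl_cf, sl_bf, sl_df, sl_cf, sl_df, sl_cf, sl_bf, sl_df, sl_cf, sl_df, sl_cf, sl_bf, sl_ef, sl_df, sl_cf, sl_df, sl_cf, sl_bf, sl_df, sl_cf, sl_df, sl_cf, sl_bf, sl_df, sl_cf, sl_df, sl_cf, sl_bf, sl_df, sl_cf, sl_df, sl_cf, sl_bf, sl_df, sl_cf, sl_df, sl_cf, sl_bf, sl_ef, sl_df, sl_cf, sl_df, sl_cf, sl_bf, sl_df, sl_cf, sl_df, sl_cf, sl_bf, sl_df, sl_cf, sl_df, sl_cf, sl_bf, sl_df, sl_cf, sl_df, sl_cf, sl_bf, sl_df, sl_cf, sl_df, sl_cf, sl_bf, sl_ef, sl_df, sl_cf, sl_df, sl_cf, sl_bf, sl_df, sl_cf, sl_df, sl_cf, sl_bf, sl_df, sl_cf, sl_df] 14 (by decide +kernel) relone_inv_32_s0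
theorem s0_rot137 : wG rels [sl_df, sl_cf, sl_df, sl_cf, sl_df, sl_cf, sl_df, sl_cf, sl_at] = 1 :=
  wG_of_rotate rels relW_28 [sl_df, sl_cf, sl_df, sl_cf, sl_df, sl_cf, sl_df, sl_cf, sl_at] 1 (by decide +kernel) relone_28
theorem s0_rot138 : wG rels [sl_bt, sl_ct, sl_dt, sl_ct, sl_dt, sl_bt, sl_ct, sl_dt, sl_ct, sl_dt, sl_et, sl_bt, sl_ct, sl_dt, sl_ct, sl_dt, sl_bt, sl_ct, sl_dt, sl_ct, sl_dt, sl_bt, sl_ct, sl_dt, sl_ct, sl_dt, sl_bt, sl_ct, sl_dt, sl_ct, sl_dt, sl_bt, sl_ct, sl_dt, sl_ct, sl_dt, sl_et, sl_bt, sl_ct, sl_dt, sl_ct, sl_dt, sl_bt, sl_ct, sl_dt, sl_ct, sl_dt, sl_bt, sl_ct, sl_dt, sl_ct, sl_dt, sl_bt, sl_ct, sl_dt, sl_ct, sl_dt, sl_bt, sl_ct, sl_dt, sl_ct, sl_dt, sl_et, sl_bt, sl_ct, sl_dt, sl_ct, sl_dt, sl_bt, sl_ct, sl_dt, sl_ct, sl_dt, sl_bt, sl_ct, sl_dt, sl_ct, sl_dt] = 1 :=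
  wG_of_rotate rels relW_32 [sl_bt, sl_ct, sl_dt, sl_ct, sl_dt, sl_bt, sl_ct, sl_dt, sl_ct, sl_dt, sl_et, sl_bt, sl_ct, sl_dt, sl_ct, sl_dt, sl_bt, sl_ct, sl_dt, sl_ct, sl_dt, sl_bt, sl_ct, sl_dt, sl_ct, sl_dt, sl_bt, sl_ct, sl_dt, sl_ct, sl_dt, sl_bt, sl_ct, sl_dt, sl_ct, sl_dt, sl_et, sl_bt, sl_ct, sl_dt, sl_ct, sl_dt, sl_bt, sl_ct, sl_dt, sl_ct, sl_dt, sl_bt, sl_ct, sl_dt, sl_ct, sl_dt, sl_bt, sl_ct, sl_dt, sl_ct, sl_dt, sl_bt, sl_ct, sl_dt, sl_ct, sl_dt, sl_et, sl_bt, sl_ct, sl_dt, sl_ct, sl_dt, sl_bt, sl_ct, sl_dt, sl_ct, sl_dt, sl_bt, sl_ct, sl_dt, sl_ct, sl_dt] 15 (by decide +kernel) relone_32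
theorem s0_rot139 : wG rels [sl_ff, sl_bf, sl_gf, sl_ff, sl_bf, sl_gf, sl_ff, sl_bf, sl_gf, sl_ff, sl_bf, sl_gf, sl_ff, sl_bf, sl_gf] = 1 :=
  wG_of_rotate rels relWi_31_s0 [sl_ff, sl_bf, sl_gf, sl_ff, sl_bf, sl_gf, sl_ff, sl_bf, sl_gf, sl_ff, sl_bf, sl_gf, sl_ff, sl_bf, sl_gf] 1 (by decide +kernel) relone_inv_31_s0
theorem s0_rot140 : wG rels [sl_ct, sl_ft, sl_at, sl_bt, sl_ct, sl_ft, sl_at, sl_bt, sl_ct, sl_ft, sl_at, sl_bt, sl_ct, sl_ft, sl_at, sl_bt, sl_ct, sl_ft, sl_at, sl_bt] = 1 :=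
  wG_of_rotate rels relW_30 [sl_ct, sl_ft, sl_at, sl_bt, sl_ct, sl_ft, sl_at, sl_bt, sl_ct, sl_ft, sl_at, sl_bt, sl_ct, sl_ft, sl_at, sl_bt, sl_ct, sl_ft, sl_at, sl_bt] 2 (by decide +kernel) relone_30
theorem s0_rot141 : wG rels [sl_bt, sl_ct, sl_ft, sl_at, sl_bt, sl_ct, sl_ft, sl_at, sl_bt, sl_ct, sl_ft, sl_at, sl_bt, sl_ct, sl_ft, sl_at, sl_bt, sl_ct, sl_ft, sl_at] = 1 :=
  wG_of_rotate rels relW_30 [sl_bt, sl_ct, sl_ft, sl_at, sl_bt, sl_ct, sl_ft, sl_at, sl_bt, sl_ct, sl_ft, sl_at, sl_bt, sl_ct, sl_ft, sl_at, sl_bt, sl_ct, sl_ft, sl_at] 1 (by decide +kernel) relone_30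

end

end Cfsg.Agent.Helper28.S1680
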